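import Cfsg.Agent.Spor.ES5M
import Cfsg.Agent.Spor.ModelJ2

set_option autoImplicit false
set_option Elab.async false
set_option maxRecDepth 4096

namespace Cfsg.Agent.Spor.InvJ2

open Cfsg.Agent.Comp

noncomputable def ns_3 : Net :=
 (Net.cons (nat_lit 64) (nat_lit 0xdc82418a549b8408)
 (Net.cons (nat_lit 32) (nat_lit 0x1623294800000000c95793c0)
 (Net.cons (nat_lit 16) (nat_lit 0x4524000060100000face00004f70)
 (Net.cons (nat_lit 8) (nat_lit 0xd0008200d400be00a1004e007c0098)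
 (Net.cons (nat_lit 4) (nat_lit 0x2060e0a09080e080a0a00020a06000d)
 (Net.cons (nat_lit 2) (nat_lit 0x22310000002222000030230300200013)
 (Net.cons (nat_lit 1) (nat_lit 0x1500041001001051004001550151500)
 (Net.cons (nat_lit 2) (nat_lit 0x2000000002002000000000000200000)
 (Net.cons (nat_lit 4) (nat_lit 0x206000a00080a08020a00020a060008)
 (Net.cons (nat_lit 8) (nat_lit 0xd000820090008e0080000e00300098)
 (Net.cons (nat_lit 16) (nat_lit 0x4524000060100000fac400004f50)
 (Net.cons (nat_lit 32) (nat_lit 0x1623294800000000c95793c0)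
 (Net.cons (nat_lit 64) (nat_lit 0xdc82418a549b8408)
 Net.nil)))))))))))))

noncomputable def ns_4 : Net :=
 (Net.cons (nat_lit 64) (nat_lit 0xb047fd3c66b600f0)
 (Net.cons (nat_lit 32) (nat_lit 0xee70352b000000000e533bf8)
 (Net.cons (nat_lit 16) (nat_lit 0x575b0000cbe10000178c0000dec0)
 (Net.cons (nat_lit 8) (nat_lit 0x2b0004006300e800d7001e0014005e)
 (Net.cons (nat_lit 4) (nat_lit 0x401060109000907060909060700000f)
 (Net.cons (nat_lit 2) (nat_lit 0x10212220311002230202331000023)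
 (Net.cons (nat_lit 1) (nat_lit 0x1040404010440414140114111440441)
 (Net.cons (nat_lit 2) (nat_lit 0x2000002000000200200202220000022)
 (Net.cons (nat_lit 4) (nat_lit 0xa000c06020200060a0a0a0c02000806)
 (Net.cons (nat_lit 8) (nat_lit 0x320006008a006800dc0034001400d4)
 (Net.cons (nat_lit 16) (nat_lit 0xd36e00006ba4000016de00001ac0)
 (Net.cons (nat_lit 32) (nat_lit 0xfe349426000000000bc33b76)
 (Net.cons (nat_lit 64) (nat_lit 0xb047fd37b61da7de)
 Net.nil)))))))))))))

noncomputable def ns_5 : Net :=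
 (Net.cons (nat_lit 64) (nat_lit 0x67aea535c333ed96)
 (Net.cons (nat_lit 32) (nat_lit 0xfd84053a0000000045be6e9a)
 (Net.cons (nat_lit 16) (nat_lit 0x92800004ac100009d160000e090)
 (Net.cons (nat_lit 8) (nat_lit 0xa8002d008b003f000400ae00800030)
 (Net.cons (nat_lit 4) (nat_lit 0x40804080e0c08060c070909000c0006)
 (Net.cons (nat_lit 2) (nat_lit 0x32000000013013032001312010012012)
 (Net.cons (nat_lit 1) (nat_lit 0x50044010041041041011111440041104)
 (Net.cons (nat_lit 2) (nat_lit 0x22020000020022020220000002000)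
 (Net.cons (nat_lit 4) (nat_lit 0x408040a0c08060208000002000c0806)
 (Net.cons (nat_lit 8) (nat_lit 0xac002400c4001e0008006000800032)
 (Net.cons (nat_lit 16) (nat_lit 0x880c00000e9c0000d5400000e090)
 (Net.cons (nat_lit 32) (nat_lit 0xbf0c01280000000045be6e9a)
 (Net.cons (nat_lit 64) (nat_lit 0x67aea535c33bf5a6)
 Net.nil)))))))))))))

noncomputable def ns_6 : Net :=
 (Net.cons (nat_lit 64) (nat_lit 0x6030224a49ebfa32)
 (Net.cons (nat_lit 32) (nat_lit 0xfaac007e0000000032f68b02)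
 (Net.cons (nat_lit 16) (nat_lit 0xa0000b1400000b4d00000b57e)
 (Net.cons (nat_lit 8) (nat_lit 0xd000420030004b0083005b0054000c)
 (Net.cons (nat_lit 4) (nat_lit 0x806000c05000e0a010c090708040c0c)
 (Net.cons (nat_lit 2) (nat_lit 0x22302010111001222010120230300200)
 (Net.cons (nat_lit 1) (nat_lit 0x10444041501141411051115405144104)
 (Net.cons (nat_lit 2) (nat_lit 0x20022020000000022000200200000202)
 (Net.cons (nat_lit 4) (nat_lit 0x806000c00000c06000c080e04080c08)
 (Net.cons (nat_lit 8) (nat_lit 0x5000420060000000840058005a0084)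
 (Net.cons (nat_lit 16) (nat_lit 0x20160000b0400000344c0000b0b0)
 (Net.cons (nat_lit 32) (nat_lit 0xba9c027000000000b1fe5a84)
 (Net.cons (nat_lit 64) (nat_lit 0x6030224d031e4512)
 Net.nil)))))))))))))

noncomputable def ns_7 : Net :=
 (Net.cons (nat_lit 64) (nat_lit 0x5dfc5df10070d7c8)
 (Net.cons (nat_lit 32) (nat_lit 0xca013bcd00000000ba25668c)
 (Net.cons (nat_lit 16) (nat_lit 0x276b000090aa000054a100007004)
 (Net.cons (nat_lit 8) (nat_lit 0x9500c8007c0051004a009e002300e8)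
 (Net.cons (nat_lit 4) (nat_lit 0xd080608020208050a080c00000d040c)
 (Net.cons (nat_lit 2) (nat_lit 0x33320120231220200203202000200120)
 (Net.cons (nat_lit 1) (nat_lit 0x1445450101010510441401000440114)
 (Net.cons (nat_lit 2) (nat_lit 0x200020000002000000220202)
 (Net.cons (nat_lit 4) (nat_lit 0x2080a0c0206080008040c0200080404)
 (Net.cons (nat_lit 8) (nat_lit 0xf800d00090001800ce009c00b40082)
 (Net.cons (nat_lit 16) (nat_lit 0x2cda00009480000074a00000d04c)
 (Net.cons (nat_lit 32) (nat_lit 0xcac972bc000000001a27e484)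
 (Net.cons (nat_lit 64) (nat_lit 0x5dfc5df004b1f1e0)
 Net.nil)))))))))))))

noncomputable def ns_8 : Net :=
 (Net.cons (nat_lit 64) (nat_lit 0xefed9ac948021142)
 (Net.cons (nat_lit 32) (nat_lit 0xc3bfe62200000000e2430128)
 (Net.cons (nat_lit 16) (nat_lit 0xa5be000082d60000563100006506)
 (Net.cons (nat_lit 8) (nat_lit 0xc0009f003c008000220006005800a4)
 (Net.cons (nat_lit 4) (nat_lit 0x8020a07090808040804060a0c020f02)
 (Net.cons (nat_lit 2) (nat_lit 0x20211010202120010201332020120230)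
 (Net.cons (nat_lit 1) (nat_lit 0x44440450411410400400441050405010)
 (Net.cons (nat_lit 2) (nat_lit 0x2220000022220000000220000200000)
 (Net.cons (nat_lit 4) (nat_lit 0x40204060004080c0c04000a0c020c06)
 (Net.cons (nat_lit 8) (nat_lit 0x2e00b4004800080002000600700038)
 (Net.cons (nat_lit 16) (nat_lit 0x23700000895a0000362000007034)
 (Net.cons (nat_lit 32) (nat_lit 0x80d77c6c00000000e2430438)
 (Net.cons (nat_lit 64) (nat_lit 0xefed9ac083a10468)
 Net.nil)))))))))))))

noncomputable def ns_9 : Net :=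
 (Net.cons (nat_lit 64) (nat_lit 0x9ef75e01bf87ba02)
 (Net.cons (nat_lit 32) (nat_lit 0x4974f1ac00000000f2167102)
 (Net.cons (nat_lit 16) (nat_lit 0xfec000005275000013060000e3a0)
 (Net.cons (nat_lit 8) (nat_lit 0x1200dc0052006a009200e1006600b2)
 (Net.cons (nat_lit 4) (nat_lit 0xf0b0c0a080300040508030f08020d00)
 (Net.cons (nat_lit 2) (nat_lit 0x13020123323110100100203102211220)
 (Net.cons (nat_lit 1) (nat_lit 0x14104551041404001104100541041144)
 (Net.cons (nat_lit 2) (nat_lit 0x22000002020002000000200022002020)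
 (Net.cons (nat_lit 4) (nat_lit 0xa0808040a0602040400000408020a00)
 (Net.cons (nat_lit 8) (nat_lit 0x240050005600640092000200e600f6)
 (Net.cons (nat_lit 16) (nat_lit 0x30c4000040620000021a0000cae8)
 (Net.cons (nat_lit 32) (nat_lit 0x4b11efa800000000931e50b4)
 (Net.cons (nat_lit 64) (nat_lit 0x9ef75e0cd800912e)
 Net.nil)))))))))))))

noncomputable def ns_10 : Net :=
 (Net.cons (nat_lit 64) (nat_lit 0x6a6d8ea3aec9394)
 (Net.cons (nat_lit 32) (nat_lit 0x511d55010000000010f0f41e)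
 (Net.cons (nat_lit 16) (nat_lit 0x18b00000fca60000418a00001d90)
 (Net.cons (nat_lit 8) (nat_lit 0x4d00460072001400f100a5007c0010)
 (Net.cons (nat_lit 4) (nat_lit 0x10405090802080a080f090c03020c06)
 (Net.cons (nat_lit 2) (nat_lit 0x211203021000213002032201003030)
 (Net.cons (nat_lit 1) (nat_lit 0x1010451404014444004014114405140)
 (Net.cons (nat_lit 2) (nat_lit 0x202002000000000022200000020)
 (Net.cons (nat_lit 4) (nat_lit 0x4040000000008080c0c0c02000c02)
 (Net.cons (nat_lit 8) (nat_lit 0x40000600b00010008800a000360010)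
 (Net.cons (nat_lit 16) (nat_lit 0x5cb00000fee00000018200001598)
 (Net.cons (nat_lit 32) (nat_lit 0x551b85c80000000038b8f516)
 (Net.cons (nat_lit 64) (nat_lit 0x6a6d8e36a0ed612)
 Net.nil)))))))))))))

noncomputable def ns_11 : Net :=
 (Net.cons (nat_lit 64) (nat_lit 0xc897cde927318a18)
 (Net.cons (nat_lit 32) (nat_lit 0x1c89f66000000000d5424ea)
 (Net.cons (nat_lit 16) (nat_lit 0x45d70000284d00003b2400007d9a)
 (Net.cons (nat_lit 8) (nat_lit 0x4d009f00f200ac001800fc00530080)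
 (Net.cons (nat_lit 4) (nat_lit 0xc0d0c040a0e0e02000b0a01020700)
 (Net.cons (nat_lit 2) (nat_lit 0x3020321002001100020320010003002)
 (Net.cons (nat_lit 1) (nat_lit 0x1014400445401501440451101111000)
 (Net.cons (nat_lit 2) (nat_lit 0x2000000200202000220002002000000)
 (Net.cons (nat_lit 4) (nat_lit 0x408080c08080e0e0200020800000000)
 (Net.cons (nat_lit 8) (nat_lit 0x4c00000088003800c000000006)
 (Net.cons (nat_lit 16) (nat_lit 0xcc960000886800001f4000001f98)
 (Net.cons (nat_lit 32) (nat_lit 0xc9de9be2000000000c1414e8)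
 (Net.cons (nat_lit 64) (nat_lit 0xc897cde06e7983c4)
 Net.nil)))))))))))))

noncomputable def ns_12 : Net :=
 (Net.cons (nat_lit 64) (nat_lit 0x4688c768d905e290)
 (Net.cons (nat_lit 32) (nat_lit 0x178569a0000000005157a908)
 (Net.cons (nat_lit 16) (nat_lit 0x4708000014380000d1400000f280)
 (Net.cons (nat_lit 8) (nat_lit 0x86006000c000e000000068007000a8)
 (Net.cons (nat_lit 4) (nat_lit 0x400080e0a0c060d0201040204090c0c)
 (Net.cons (nat_lit 2) (nat_lit 0x21000222002200000002010020022230)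
 (Net.cons (nat_lit 1) (nat_lit 0x10014101140401440104004540004004)
 (Net.cons (nat_lit 2) (nat_lit 0x20000202000200000002000020002000)
 (Net.cons (nat_lit 4) (nat_lit 0x400080a0a0c02000200040204080c0c)
 (Net.cons (nat_lit 8) (nat_lit 0x82004000c000e000000068003000a8)
 (Net.cons (nat_lit 16) (nat_lit 0x470800001438000041400000f280)
 (Net.cons (nat_lit 32) (nat_lit 0x178569a0000000005157a900)
 (Net.cons (nat_lit 64) (nat_lit 0x4688c768d105e090)
 Net.nil)))))))))))))

noncomputable def ns_13 : Net :=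
 (Net.cons (nat_lit 64) (nat_lit 0xeba306f88885b284)
 (Net.cons (nat_lit 32) (nat_lit 0x9480a2540000000058059980)
 (Net.cons (nat_lit 16) (nat_lit 0xbf35000062ee0000105500007040)
 (Net.cons (nat_lit 8) (nat_lit 0xd4007300c300540004000800200044)
 (Net.cons (nat_lit 4) (nat_lit 0x40c06080c00040400000c04030a0a04)
 (Net.cons (nat_lit 2) (nat_lit 0x10212202022001321000212322023320)
 (Net.cons (nat_lit 1) (nat_lit 0x444410054514040404101014140140)
 (Net.cons (nat_lit 2) (nat_lit 0x222000002002000000202002000020)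
 (Net.cons (nat_lit 4) (nat_lit 0x408000a0c06040c00000408020c0004)
 (Net.cons (nat_lit 8) (nat_lit 0x700070000000120000001000e00040)
 (Net.cons (nat_lit 16) (nat_lit 0xbfb600006a280000405400006300)
 (Net.cons (nat_lit 32) (nat_lit 0x9f00a6740000000058058888)
 (Net.cons (nat_lit 64) (nat_lit 0xeba306f2c847ec00)
 Net.nil)))))))))))))

noncomputable def ns_14 : Net :=
 (Net.cons (nat_lit 64) (nat_lit 0x1a73407200c10220)
 (Net.cons (nat_lit 32) (nat_lit 0xe260800000000000c99c0708)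
 (Net.cons (nat_lit 16) (nat_lit 0x3400006cb800002e10000099c0)
 (Net.cons (nat_lit 8) (nat_lit 0x9a004000c8002a00800084008800f0)
 (Net.cons (nat_lit 4) (nat_lit 0x407000800040c0d00000c0108040c00)
 (Net.cons (nat_lit 2) (nat_lit 0x2330030330230000000020212002220)
 (Net.cons (nat_lit 1) (nat_lit 0x14144051551051444100510401014110)
 (Net.cons (nat_lit 2) (nat_lit 0x2000000000000000000020202002220)
 (Net.cons (nat_lit 4) (nat_lit 0x408000800000c0000000c0008000c00)
 (Net.cons (nat_lit 8) (nat_lit 0x9a004000c8002a00800084008000b0)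
 (Net.cons (nat_lit 16) (nat_lit 0x3400006cb800002e1000009840)
 (Net.cons (nat_lit 32) (nat_lit 0xe260800000000000c99c0700)
 (Net.cons (nat_lit 64) (nat_lit 0x1a73407200c10220)
 Net.nil)))))))))))))

noncomputable def ns_15 : Net :=
 (Net.cons (nat_lit 64) (nat_lit 0x7d8408fc1921920)
 (Net.cons (nat_lit 32) (nat_lit 0x120d0400000000002bc390a8)
 (Net.cons (nat_lit 16) (nat_lit 0x1114000079c800000a4000009624)
 (Net.cons (nat_lit 8) (nat_lit 0x4008200fa000800120028008600a0)
 (Net.cons (nat_lit 4) (nat_lit 0xc04080a0a00040c0c0d0e02020c0c)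
 (Net.cons (nat_lit 2) (nat_lit 0x12021321000020310222210202120)
 (Net.cons (nat_lit 1) (nat_lit 0x1110114041540004400100011044)
 (Net.cons (nat_lit 2) (nat_lit 0x2020220000020000200200002020)
 (Net.cons (nat_lit 4) (nat_lit 0x40008080800040c0c0c0a00020c0c)
 (Net.cons (nat_lit 8) (nat_lit 0x820080000000120028008200a0)
 (Net.cons (nat_lit 16) (nat_lit 0x1114000079c800000a4000009624)
 (Net.cons (nat_lit 32) (nat_lit 0x120d0400000000002bc390a0)
 (Net.cons (nat_lit 64) (nat_lit 0x7d8408fc1921920)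
 Net.nil)))))))))))))

noncomputable def ns_16 : Net :=
 (Net.cons (nat_lit 64) (nat_lit 0xe20607573a999c)
 (Net.cons (nat_lit 32) (nat_lit 0xe9e4842400000000eeb226f4)
 (Net.cons (nat_lit 16) (nat_lit 0x684600000d1a00005b0c0000cf1c)
 (Net.cons (nat_lit 8) (nat_lit 0x60008008400e60044000b0001006e)
 (Net.cons (nat_lit 4) (nat_lit 0x8000602000e0c040202000b01010603)
 (Net.cons (nat_lit 2) (nat_lit 0x1000023022112020100032102103021)
 (Net.cons (nat_lit 1) (nat_lit 0x5004040014004141040441541040411)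
 (Net.cons (nat_lit 2) (nat_lit 0x20020000022000200022000002)
 (Net.cons (nat_lit 4) (nat_lit 0x8000800080e0c0600080e0e0004060a)
 (Net.cons (nat_lit 8) (nat_lit 0x60040008600a40044001e00100078)
 (Net.cons (nat_lit 16) (nat_lit 0x684600001d1a000061060000ff18)
 (Net.cons (nat_lit 32) (nat_lit 0xe94484240000000046b247b0)
 (Net.cons (nat_lit 64) (nat_lit 0xe20603433a8b5c)
 Net.nil)))))))))))))

noncomputable def ns_17 : Net :=
 (Net.cons (nat_lit 64) (nat_lit 0x2ad09c039d99e44f)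
 (Net.cons (nat_lit 32) (nat_lit 0x2828896500000000b3ad6ece)
 (Net.cons (nat_lit 16) (nat_lit 0x14be0000dc0a000083270000fcaa)
 (Net.cons (nat_lit 8) (nat_lit 0x4e0018004f00680054004100b20034)
 (Net.cons (nat_lit 4) (nat_lit 0x40209060b0b020a060c06080c0c0607)
 (Net.cons (nat_lit 2) (nat_lit 0x10002203101000032011231303030223)
 (Net.cons (nat_lit 1) (nat_lit 0x4041101141410004105015410011441)
 (Net.cons (nat_lit 2) (nat_lit 0x2200020000002000020200020022)
 (Net.cons (nat_lit 4) (nat_lit 0x400000e0c020204060206080c040e06)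
 (Net.cons (nat_lit 8) (nat_lit 0x600090008000ec0054006600020066)
 (Net.cons (nat_lit 16) (nat_lit 0x1c96000058980000a0a60000ecc2)
 (Net.cons (nat_lit 32) (nat_lit 0xa3899640000000022814f28)
 (Net.cons (nat_lit 64) (nat_lit 0x2ad09c002a21e988)
 Net.nil)))))))))))))

noncomputable def ns_18 : Net :=
 (Net.cons (nat_lit 64) (nat_lit 0x240042fac6a9a96)
 (Net.cons (nat_lit 32) (nat_lit 0x410507000000000084989a58)
 (Net.cons (nat_lit 16) (nat_lit 0x410100000ce20000a30e0000d4b9)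
 (Net.cons (nat_lit 8) (nat_lit 0x6600e200ee00680032007a0088)
 (Net.cons (nat_lit 4) (nat_lit 0x40608060a020d0d0f0c0e04060e02)
 (Net.cons (nat_lit 2) (nat_lit 0x2002222202002233231301210102)
 (Net.cons (nat_lit 1) (nat_lit 0x1004144101014404000100550455045)
 (Net.cons (nat_lit 2) (nat_lit 0x2002202000202000200000000020)
 (Net.cons (nat_lit 4) (nat_lit 0x608020a020c0c000c0e0e020406)
 (Net.cons (nat_lit 8) (nat_lit 0x6000e00002006800320088007a)
 (Net.cons (nat_lit 16) (nat_lit 0x410000000ce20000a30600002b46)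
 (Net.cons (nat_lit 32) (nat_lit 0x410507000000000084989a58)
 (Net.cons (nat_lit 64) (nat_lit 0x240042fa46a9a92)
 Net.nil)))))))))))))

noncomputable def ns_19 : Net :=
 (Net.cons (nat_lit 64) (nat_lit 0x40801a491b92040)
 (Net.cons (nat_lit 32) (nat_lit 0x728808800000000d2c2f901)
 (Net.cons (nat_lit 16) (nat_lit 0x830000005a00000051c00000a93a)
 (Net.cons (nat_lit 8) (nat_lit 0x20000200f200e0004c00000030004c)
 (Net.cons (nat_lit 4) (nat_lit 0xc00000a000a08020000010c08000b0c)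
 (Net.cons (nat_lit 2) (nat_lit 0x22000002002000100112130202300002)
 (Net.cons (nat_lit 1) (nat_lit 0x41000101441500044001410040551544)
 (Net.cons (nat_lit 2) (nat_lit 0x22000002002000000002020000000002)
 (Net.cons (nat_lit 4) (nat_lit 0xc000008000a000000000c0808000004)
 (Net.cons (nat_lit 8) (nat_lit 0x20000200f000e0004c0000003000c0)
 (Net.cons (nat_lit 16) (nat_lit 0x830000005a00000051c00000a90a)
 (Net.cons (nat_lit 32) (nat_lit 0x728808800000000d2c2f900)
 (Net.cons (nat_lit 64) (nat_lit 0x40801a491b92000)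
 Net.nil)))))))))))))

noncomputable def ns_20 : Net :=
 (Net.cons (nat_lit 64) (nat_lit 0x8f0a0d0b3d009814)
 (Net.cons (nat_lit 32) (nat_lit 0xcd0a656e000000005af0b790)
 (Net.cons (nat_lit 16) (nat_lit 0xc26200003a0200002b2c00008279)
 (Net.cons (nat_lit 8) (nat_lit 0x4800060062008400dc008200a300f0)
 (Net.cons (nat_lit 4) (nat_lit 0x406020004000f0c0d020a0f0e070807)
 (Net.cons (nat_lit 2) (nat_lit 0x1000300300230021200123001302020)
 (Net.cons (nat_lit 1) (nat_lit 0x44404000000401501144414101001)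
 (Net.cons (nat_lit 2) (nat_lit 0x20200000000002000222002202000)
 (Net.cons (nat_lit 4) (nat_lit 0x404060008080c0c02020c0a0c080000)
 (Net.cons (nat_lit 8) (nat_lit 0x40000000e0008000dc000600f200e0)
 (Net.cons (nat_lit 16) (nat_lit 0x8b6800002680000069e8000082ee)
 (Net.cons (nat_lit 32) (nat_lit 0x44026d68000000005a402718)
 (Net.cons (nat_lit 64) (nat_lit 0x8f0a0d0129423d58)
 Net.nil)))))))))))))

noncomputable def ns_21 : Net :=
 (Net.cons (nat_lit 64) (nat_lit 0x5121405b9cba0180)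
 (Net.cons (nat_lit 32) (nat_lit 0x2823404800000000dfa7c500)
 (Net.cons (nat_lit 16) (nat_lit 0x70000000be280000bece0000bf12)
 (Net.cons (nat_lit 8) (nat_lit 0x400060003c001400e60072004a004a)
 (Net.cons (nat_lit 4) (nat_lit 0x4000c090c0d020d09060f0a0c0200)
 (Net.cons (nat_lit 2) (nat_lit 0x2021001130002022011231211020023)
 (Net.cons (nat_lit 1) (nat_lit 0x1040050145400514041055500404405)
 (Net.cons (nat_lit 2) (nat_lit 0x2020000020000020020000000000000)
 (Net.cons (nat_lit 4) (nat_lit 0x4000c060008020c0e0600000c0000)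
 (Net.cons (nat_lit 8) (nat_lit 0x400060000c0014004a0072004a004a)
 (Net.cons (nat_lit 16) (nat_lit 0x70000000be280000bece00009f00)
 (Net.cons (nat_lit 32) (nat_lit 0x2802404800000000dfa7c500)
 (Net.cons (nat_lit 64) (nat_lit 0x5121405998ba0180)
 Net.nil)))))))))))))

noncomputable def ns_22 : Net :=
 (Net.cons (nat_lit 64) (nat_lit 0x4b4398e522e1f7a0)
 (Net.cons (nat_lit 32) (nat_lit 0xb2415eb800000000376da562)
 (Net.cons (nat_lit 16) (nat_lit 0xb18f000043000000112700009808)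
 (Net.cons (nat_lit 8) (nat_lit 0x54003c002900600075000e002000b1)
 (Net.cons (nat_lit 4) (nat_lit 0xc030204080802040209060a00000b)
 (Net.cons (nat_lit 2) (nat_lit 0x2233011200132000021030212200221)
 (Net.cons (nat_lit 1) (nat_lit 0x4105014400441041001011444000511)
 (Net.cons (nat_lit 2) (nat_lit 0x2200002200200020000020202000022)
 (Net.cons (nat_lit 4) (nat_lit 0x40c000204040200020204060a08000a)
 (Net.cons (nat_lit 8) (nat_lit 0x16007e002000a000d4000e0008003e)
 (Net.cons (nat_lit 16) (nat_lit 0x7b8c000042800000140200009804)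
 (Net.cons (nat_lit 32) (nat_lit 0xf00056f800000000a34da068)
 (Net.cons (nat_lit 64) (nat_lit 0x4b4398e258207840)
 Net.nil)))))))))))))

noncomputable def ns_23 : Net :=
 (Net.cons (nat_lit 64) (nat_lit 0xfffe00)
 (Net.cons (nat_lit 32) (nat_lit 0xff000000)
 (Net.cons (nat_lit 16) 255
 (Net.cons (nat_lit 8) (nat_lit 0x5c00ff00ff00000000)
 (Net.cons (nat_lit 4) (nat_lit 0xf080b070b0b04080000)
 (Net.cons (nat_lit 2) (nat_lit 0x33300210020030020020)
 (Net.cons (nat_lit 1) (nat_lit 0x1410055545555511555440544)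
 (Net.cons (nat_lit 2) (nat_lit 0x2000200002)
 (Net.cons (nat_lit 4) (nat_lit 0x80000040404000008)
 (Net.cons (nat_lit 8) (nat_lit 0x440000000000000000)
 (Net.cons (nat_lit 32) (nat_lit 0xff000000)
 (Net.cons (nat_lit 64) (nat_lit 0xfffe00)
 Net.nil))))))))))))

noncomputable def ns_24 : Net :=
 (Net.cons (nat_lit 64) (nat_lit 0x881601ca0846ca08)
 (Net.cons (nat_lit 32) (nat_lit 0x925270400000000010c2ae40)
 (Net.cons (nat_lit 16) (nat_lit 0xa104000005840000b2420000dd28)
 (Net.cons (nat_lit 8) (nat_lit 0x2000c00054009000c00068009000a4)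
 (Net.cons (nat_lit 4) (nat_lit 0x106000809080a0005080600080a010a)
 (Net.cons (nat_lit 2) (nat_lit 0x2002003002200223300102033223102)
 (Net.cons (nat_lit 1) (nat_lit 0x1040004410000400144405101401)
 (Net.cons (nat_lit 2) (nat_lit 0x2000002200000200002000202002)
 (Net.cons (nat_lit 4) (nat_lit 0x80000020000000600080a0c08)
 (Net.cons (nat_lit 8) (nat_lit 0x2000c00054009000c00068009000a4)
 (Net.cons (nat_lit 16) (nat_lit 0xa104000005800000a4400000dd28)
 (Net.cons (nat_lit 32) (nat_lit 0x925270000000000010c2ae40)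
 (Net.cons (nat_lit 64) (nat_lit 0x881601ca0846ca08)
 Net.nil)))))))))))))

noncomputable def ns_25 : Net :=
 (Net.cons (nat_lit 64) (nat_lit 0x5204288dfa360440)
 (Net.cons (nat_lit 32) (nat_lit 0xb309852000000000714131c0)
 (Net.cons (nat_lit 16) (nat_lit 0xfa800000428000008984000038f4)
 (Net.cons (nat_lit 8) (nat_lit 0xa000ec00a000d000f4002800660042)
 (Net.cons (nat_lit 4) (nat_lit 0x20608040402000c0e080c0d00060a)
 (Net.cons (nat_lit 2) (nat_lit 0x2001223320000120220222313002301)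
 (Net.cons (nat_lit 1) (nat_lit 0x1050145500050040115010514014500)
 (Net.cons (nat_lit 2) (nat_lit 0x2000220000000020220020002002000)
 (Net.cons (nat_lit 4) (nat_lit 0x2040804000200080e080c02000000)
 (Net.cons (nat_lit 8) (nat_lit 0x2000ec00a000d000f4000000660042)
 (Net.cons (nat_lit 16) (nat_lit 0xfa800000428000008984000038e4)
 (Net.cons (nat_lit 32) (nat_lit 0xb309852000000000714131c0)
 (Net.cons (nat_lit 64) (nat_lit 0x5204288dfa360440)
 Net.nil)))))))))))))

noncomputable def ns_26 : Net :=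
 (Net.cons (nat_lit 64) (nat_lit 0x5a4a400aa9282400)
 (Net.cons (nat_lit 32) (nat_lit 0x8201400200000000f4948230)
 (Net.cons (nat_lit 16) (nat_lit 0x100a0000c10c0000e18000002d10)
 (Net.cons (nat_lit 8) (nat_lit 0xa001000ac00410024009c000e0099)
 (Net.cons (nat_lit 4) (nat_lit 0x400010c0609070002080002060202)
 (Net.cons (nat_lit 2) (nat_lit 0x2030002330201122100003202321200)
 (Net.cons (nat_lit 1) (nat_lit 0x40050000404410111001410101401440)
 (Net.cons (nat_lit 2) (nat_lit 0x202020002000000202200200)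
 (Net.cons (nat_lit 4) (nat_lit 0x400000c0808040002080000060400)
 (Net.cons (nat_lit 8) (nat_lit 0xa00100088002c00240098000e0090)
 (Net.cons (nat_lit 16) (nat_lit 0x10000000f1080000e10000002b00)
 (Net.cons (nat_lit 32) (nat_lit 0x8201400200000000f4948230)
 (Net.cons (nat_lit 64) (nat_lit 0x5a4a400aa9282400)
 Net.nil)))))))))))))

noncomputable def ns_27 : Net :=
 (Net.cons (nat_lit 64) (nat_lit 0x376cfdce77f04eb6)
 (Net.cons (nat_lit 32) (nat_lit 0x6421b6640000000019800e5e)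
 (Net.cons (nat_lit 16) (nat_lit 0x67240000d3060000985600008bda)
 (Net.cons (nat_lit 8) (nat_lit 0x1b00c600a400430008008200c40032)
 (Net.cons (nat_lit 4) (nat_lit 0x8040b080908010b040204020000020c)
 (Net.cons (nat_lit 2) (nat_lit 0x1130002213003000120100001020021)
 (Net.cons (nat_lit 1) (nat_lit 0x40041441100445100014001000401015)
 (Net.cons (nat_lit 2) (nat_lit 0x20022002200200200000002000202000)
 (Net.cons (nat_lit 4) (nat_lit 0xc00080000040c02040e040a00000a00)
 (Net.cons (nat_lit 8) (nat_lit 0x7e000600e800580008009800c40068)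
 (Net.cons (nat_lit 16) (nat_lit 0x17280000ee460000904400008b7c)
 (Net.cons (nat_lit 32) (nat_lit 0x5701deee0000000019000e5a)
 (Net.cons (nat_lit 64) (nat_lit 0x376cfdca733260b6)
 Net.nil)))))))))))))

noncomputable def ns_28 : Net :=
 (Net.cons (nat_lit 64) (nat_lit 0xd75d11ff13024e98)
 (Net.cons (nat_lit 32) (nat_lit 0x302f048200000000010b8094)
 (Net.cons (nat_lit 16) (nat_lit 0xd2300000bb9c00004b0a0000e8ce)
 (Net.cons (nat_lit 8) (nat_lit 0x1c0085004c00ac006a001900f000bf)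
 (Net.cons (nat_lit 4) (nat_lit 0x4050107040b09000c0808000c0c0f)
 (Net.cons (nat_lit 2) (nat_lit 0x1233002122030020220210200302023)
 (Net.cons (nat_lit 1) (nat_lit 0x14441154051440400005140400144151)
 (Net.cons (nat_lit 2) (nat_lit 0x222002002020000000200000002200)
 (Net.cons (nat_lit 4) (nat_lit 0x2000c0c0c04000004000800000e04)
 (Net.cons (nat_lit 8) (nat_lit 0x180016005400a40062009800e0007c)
 (Net.cons (nat_lit 16) (nat_lit 0xc63c0000389000004b820000b08a)
 (Net.cons (nat_lit 32) (nat_lit 0x332614c00000000021898c90)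
 (Net.cons (nat_lit 64) (nat_lit 0xd75d11f0424868cc)
 Net.nil)))))))))))))

noncomputable def ns_29 : Net :=
 (Net.cons (nat_lit 64) (nat_lit 0x202e4690123fe4ec)
 (Net.cons (nat_lit 32) (nat_lit 0xafa5041b00000000244198a1)
 (Net.cons (nat_lit 16) (nat_lit 0xa309000017a80000305d0000f4e9)
 (Net.cons (nat_lit 8) (nat_lit 0xa200930088002000fb00e9002e00a2)
 (Net.cons (nat_lit 4) (nat_lit 0x400070c0d020007080b02030a000300)
 (Net.cons (nat_lit 2) (nat_lit 0x22000002120230220001102010203100)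
 (Net.cons (nat_lit 1) (nat_lit 0x40014041441410414041410154411540)
 (Net.cons (nat_lit 2) (nat_lit 0x20020000000220200022000202222000)
 (Net.cons (nat_lit 4) (nat_lit 0xc00000c0c0200020000020008020008)
 (Net.cons (nat_lit 8) (nat_lit 0xa0001400c80068003200480048006e)
 (Net.cons (nat_lit 16) (nat_lit 0xa104000067e40000281c00007484)
 (Net.cons (nat_lit 32) (nat_lit 0x8f8d400a000000006d0018a8)
 (Net.cons (nat_lit 64) (nat_lit 0x202e46960fbf6266)
 Net.nil)))))))))))))

noncomputable def ns_30 : Net :=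
 (Net.cons (nat_lit 64) (nat_lit 0x8d41d17658e8837c)
 (Net.cons (nat_lit 32) (nat_lit 0xe901400200000000536ab3a6)
 (Net.cons (nat_lit 16) (nat_lit 0x7d28000022100000c43c00003250)
 (Net.cons (nat_lit 8) (nat_lit 0x80006b005400c200b400bf009e0098)
 (Net.cons (nat_lit 4) (nat_lit 0x10e0000030a000f0c0c090006080600)
 (Net.cons (nat_lit 2) (nat_lit 0x10030100332001022022330010000002)
 (Net.cons (nat_lit 1) (nat_lit 0x44114141040444114010040411404)
 (Net.cons (nat_lit 2) (nat_lit 0x20000000000202202020020002002)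
 (Net.cons (nat_lit 4) (nat_lit 0x60400000a0c080e0c020000080e00)
 (Net.cons (nat_lit 8) (nat_lit 0x80002e00cc000a0010008e00960088)
 (Net.cons (nat_lit 16) (nat_lit 0x3d280000a8140000c61600003a52)
 (Net.cons (nat_lit 32) (nat_lit 0xe800d00c0000000003f89724)
 (Net.cons (nat_lit 64) (nat_lit 0x8d41d17118ac5158)
 Net.nil)))))))))))))

noncomputable def ns : List Net := [ModelJ2.ns_0, ModelJ2.ns_1, ModelJ2.ns_2, ns_3, ns_4, ns_5, ns_6, ns_7, ns_8, ns_9, ns_10, ns_11, ns_12, ns_13, ns_14, ns_15, ns_16, ns_17, ns_18, ns_19, ns_20, ns_21, ns_22, ns_23, ns_24, ns_25, ns_26, ns_27, ns_28, ns_29, ns_30]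

theorem ctx : Ctx 128 7 ns := ctx_of (by decide +kernel)

theorem lctx : LCtx 128 7 8 127 trN7 ns := lctx_of ctx trOK7 (by decide +kernel)

noncomputable def E : List ℕ → ℕ → ℕ := pfW0 128 7 8 127 trN7 ns

theorem hE : Evl 128 ns E := evl_pfW0 lctx

open Cfsg.Agent.Fus Cfsg.Agent.Spor.ES5

theorem geq : gen ModelJ2.ns ModelJ2.G_ss0 = gen ns [[0], [2]] :=
  gen_eq_of_take (ns := ModelJ2.ns) (ns' := ns) (k := 2) rfl (ws := ModelJ2.G_ss0) (by decide +kernel)

theorem hn : Nat.card (gen ns [[0], [2]]) = 604800 :=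
  geq ▸ ModelJ2.G_card

instance fin : Finite (gen ns [[0], [2]]) := finite_gen ctx.ok _

theorem kn_0 : Known ns (gen ns [[0], [2]]) 3 :=
  known_gen (by decide +kernel)

noncomputable def A_S8 : List SD :=
  []

noncomputable def A_d7 : SD :=
  ⟨73, 1, [28], lab 1 1 0, 1⟩

noncomputable def A_S7 : List SD :=
  A_d7 :: A_S8

noncomputable def A_d6 : SD :=
  ⟨2, 1, [30, 28], lab 2 3 0, 1⟩

noncomputable def A_S6 : List SD :=
  A_d6 :: A_S7

noncomputable def A_d5 : SD :=
  ⟨43, 0, [30, 28], lab 2 3 0, 0⟩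

noncomputable def A_S5 : List SD :=
  A_d5 :: A_S6

noncomputable def A_d4 : SD :=
  ⟨29, 1, [24, 26, 30, 28], lab 3 7 0, 1⟩

noncomputable def A_S4 : List SD :=
  A_d4 :: A_S5

noncomputable def A_d3 : SD :=
  ⟨45, 0, [24, 26, 30, 28], lab 3 7 0, 0⟩

noncomputable def A_S3 : List SD :=
  A_d3 :: A_S4

noncomputable def A_d2 : SD :=
  ⟨1, 2, [18, 20, 22, 24, 26, 30, 28], lab 4 15 (nat_lit 0x4000800000000000000000000000000000000000000000004010000005000000000500002050000000000000040000), 2⟩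

noncomputable def A_S2 : List SD :=
  A_d2 :: A_S3

noncomputable def A_d1 : SD :=
  ⟨31, 1, [10, 12, 14, 16, 18, 20, 22, 24, 26, 30, 28], lab 5 31 (nat_lit 0x200b0101100400440686a560142438c10330000215aa71880000e94980000247144140012581d000002d008100022820411000a94b809000a35800000000), 3⟩

noncomputable def A_S1 : List SD :=
  A_d1 :: A_S2

noncomputable def A_d0 : SD :=
  ⟨0, 1, [0, 2, 6, 8, 10, 12, 14, 16, 18, 20, 22, 24, 26, 30, 28], lab 5 31 (nat_lit 0xc489244d875b18831b2491d3a25b907d4d1e42d68396e65659c369331000154d351a274b54dd6aaed65597f2d693c762469496a07a18719d60424315a0e00), 3⟩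

noncomputable def A_S0 : List SD :=
  A_d0 :: A_S1

theorem kn_1 : Known ns (gen ns [[0], [2]]) 8388607 :=
  kn_0.steps ctx (es := [(3, [1, 2, 1, 3, 0]),
 (4, [2, 1]),
 (5, [2, 0, 0, 6, 1]),
 (6, [0, 6, 9, 7, 2, 1]),
 (7, [13, 11, 13]),
 (8, [12, 10, 12, 11]),
 (9, [17, 11, 15, 16, 10, 13, 10, 17, 13, 16]),
 (10, [13, 11, 13, 17]),
 (11, [21, 19, 19, 19, 19, 19]),
 (12, [22, 19, 19, 21, 21, 18, 20]),
 (13, [19, 23, 18, 20]),
 (14, [25, 26, 26, 26, 25, 25, 25, 25]),
 (15, [25, 25, 27, 27]),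
 (2, [17, 6, 16, 23, 18, 30, 28]),
 (16, [19, 14, 0, 23, 13, 19]),
 (17, [2, 11, 12, 22, 22, 24, 30]),
 (18, [11, 0, 17, 11, 26, 18, 24, 30]),
 (19, [27, 6, 18, 12, 10, 23, 19, 24, 30]),
 (20, [19, 14, 0, 23, 13, 19, 30]),
 (21, [26, 14, 0, 23, 13, 26, 18, 24]),
 (22, [19, 14, 0, 23, 13, 19, 24, 30, 28])]) (by decide +kernel)

theorem A_ex : Exact 128 ns A_S0 ∧ gen ns (sTop A_S0) = gen ns [[0], [2]] ∧ gen ns [[0], [2]] = gen ns [[0], [2]] :=
  exact_of_known ctx hn (le_rfl) kn_1 (by decide +kernel)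

noncomputable def ss : List ℕ :=
  [36, 38, 40, 42, 44, 30, 4]

theorem ss_pc : IsPc ns ss :=
  isPc_of_pcB ctx (hs := [([], [[0, 2, 4, 6, 8, 10], [2, 8, 10], [4], [6, 8], [8], [10]]), ([], [[0, 4, 8], [2, 4], [4, 8], [6, 8], [8]]), ([4, 6], [[0, 4], [2], [4], [6]]), ([], [[0, 4], [2], [4]]), ([2], [[0], [2]]), ([], [[0]]), ([], [])]) (by decide +kernel)

theorem kS_0 : Known ns (gen ns (ltrs ss)) 8159236 :=
  known_gen (by decide +kernel)

theorem kS_1 : Known ns (gen ns (ltrs ss)) 2147328004 :=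
  kS_0.steps ctx (es := [(23, [38, 44, 4]),
 (24, [30, 4]),
 (25, [38, 4]),
 (26, [38, 40, 42, 4]),
 (27, [36, 44, 30, 4]),
 (28, [36, 42, 44, 4]),
 (13, [40, 44, 4]),
 (16, [40, 30]),
 (29, [38, 42, 30]),
 (30, [36, 42, 44, 30])]) (by decide +kernel)

noncomputable def B_S5 : List SD :=
  []

noncomputable def B_d4 : SD :=
  ⟨2, 1, [30], fun _ => 0, 0⟩

noncomputable def B_S4 : List SD :=
  B_d4 :: B_S5

noncomputable def B_d3 : SD :=
  ⟨16, 1, [26, 30], fun _ => 0, 0⟩

noncomputable def B_S3 : List SD :=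
  B_d3 :: B_S4

noncomputable def B_d2 : SD :=
  ⟨0, 3, [32, 26, 30], fun _ => 0, 0⟩

noncomputable def B_S2 : List SD :=
  B_d2 :: B_S3

noncomputable def B_d1 : SD :=
  ⟨19, 1, [58, 32, 26, 30], fun _ => 0, 0⟩

noncomputable def B_S1 : List SD :=
  B_d1 :: B_S2

noncomputable def B_d0 : SD :=
  ⟨4, 2, [60, 58, 32, 26, 30], fun _ => 0, 0⟩

noncomputable def B_S0 : List SD :=
  B_d0 :: B_S1

theorem syl : gen ns (ltrs ss) ≤ gen ns [[0], [2]] ∧ SylIn 2 (gen ns (ltrs ss)) (gen ns [[0], [2]]) :=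
  ss_pc.sylIn ctx hn (k := 7) kn_1 kS_1 (C := B_S0) (by decide +kernel)

noncomputable def CZ_as : List (List ℕ × List ℕ) :=
  [([4], [4])]

noncomputable def CZ_cs : List (List ℕ) :=
  [[], [32, 34, 33, 34, 33, 34, 33, 34, 33, 34], [34, 34, 33, 34, 34, 32, 34, 34], [35, 35, 33, 35, 35, 32, 35, 35], [32, 32, 34, 34, 32, 35, 32, 35], [33, 34, 32, 34, 32, 32, 34], [33, 34, 34, 32, 35, 35, 32, 34], [33, 35, 33, 35, 35], [34, 32, 32, 34, 34, 33, 35], [32, 34, 32, 32, 34, 33, 34], [32, 35, 32, 35, 32, 34, 34], [32, 32, 34, 33, 34, 33, 35, 35], [32, 35, 35, 32, 35], [32, 32, 35, 35, 32, 32, 35, 33, 34], [35, 33, 34, 34, 33, 35, 35, 32], [34, 34, 32, 34, 32], [35, 32, 35, 32, 32, 35, 33], [32, 34, 34, 33, 35, 33, 35], [32, 32, 35, 32, 34, 32, 32, 34, 34], [34, 33, 34, 34, 33], [32, 34, 34, 32, 35, 32, 34, 32, 34], [33, 34, 33, 34, 33, 35, 33, 34, 34], [34, 33, 34, 32, 35, 32, 34, 34], [35, 33, 35, 32, 34, 32, 35, 35]]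

noncomputable def CZ_pl : List Pl :=
  [⟨.lst 0, []⟩, ⟨.forced 0 0, []⟩, ⟨.free, []⟩, ⟨.forced 0 0, []⟩, ⟨.free, []⟩, ⟨.forced 0 0, []⟩, ⟨.free, []⟩, ⟨.forced 0 0, []⟩]

noncomputable def CZ_M0 : ℕ :=
  1

theorem CZ_b0 : Br 128 ns (derAs CZ_as [[0]]) (derSs 128 7 ns CZ_as [[0]]) (gen ns (sTop A_S0)) A_d0.p CZ_M0 (InCs ns A_S0 CZ_cs) :=
  br_of_brB ctx hE A_ex.1 (pl := CZ_pl) (bs := []) (tps := []) (by decide +kernel)

theorem CZ : SolList ns (gen ns [[0], [2]]) CZ_as [[32], [34]] CZ_cs :=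
  solList_of_br ctx A_ex.1 A_ex.2.1 kn_1 CZ_b0 (cons := []) (r := 6) (by decide +kernel)

noncomputable def cws : List (List ℕ) :=
  [[32], [34]]

theorem cent : ∀ x, x ∈ gen ns cws ↔ x ∈ gen ns [[0], [2]] ∧ x * wp ns [4] = wp ns [4] * x :=
  cent_iff ctx kn_1 CZ (by decide +kernel)

noncomputable def ML : List ℕ :=
  [nat_lit 0x8e8e2d0000006a4d,
 nat_lit 0x940029800080208028080cf02,
 nat_lit 0x8882a11603800a80400040401,
 nat_lit 0xe200001d00e100e100e100,
 nat_lit 0x28120084000c280a14000e08c,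
 nat_lit 0x182080854001a1c800800040b,
 nat_lit 0xa102080d00d16000020048007,
 nat_lit 0x282e00630008c208c20002001,
 nat_lit 0x19a10002a185800d02040004,
 nat_lit 0x98425151d00108048500,
 nat_lit 0xa800497f04040102010800080,
 nat_lit 0x3a00008e6a002d2b,
 nat_lit 0x1c4a9009900d200008e,
 nat_lit 0x1818605000049910402002508,
 nat_lit 0x324e2c900c5000000e8,
 nat_lit 0x1a0800021610644029040061,
 nat_lit 0x11280841201001008bb800102,
 nat_lit 0x848011080c40040610004c2c4,
 nat_lit 0x4e0000565a00e20000a600,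
 nat_lit 0x999af00100402042001804000,
 nat_lit 0x490214221040006f01800120,
 nat_lit 0x242400a84001040c2e00080a2,
 nat_lit 0xc50294c51d550000000000,
 nat_lit 0xa5a00002020800808108008e7,
 nat_lit 0x2414504800004012a52002a04,
 nat_lit 0x690074710000a959000000,
 nat_lit 0x8a801a028080fc0080804080,
 nat_lit 0x211048a0202d7040200800820,
 nat_lit 0x1410108040001450149004968,
 nat_lit 0x9100d8100620100001a040e40,
 nat_lit 0x97828a042046a2040200,
 nat_lit 0x1424a05240008294091000240,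
 nat_lit 0x400200100000210002a0000,
 nat_lit 0x1000080020021004001010,
 nat_lit 0x4241000000000000000610010,
 nat_lit 0x4000060080000000000521000,
 nat_lit 0x200040010020000004190000]

noncomputable def M (i : ℕ) : ℕ := getL 0 ML i

theorem shape : Shape (gen ns cws) :=
  (exists_equiv_masksS ctx ES5M.ctx A_ex.1 (n := 37) (M := M) (ws := cws) (ws' := ES5M.G_ss0)
    (A_ex.2.1.symm ▸ fun x hx => ((cent x).1 hx).1) (by decide +kernel) (by decide +kernel)).elim
    fun e _ => ES5M.shape.of_equiv e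

theorem simple : (Cfsg.fusionSystemOfSubgroup (gen ns [[0], [2]]) _ syl.1).IsSimple 2 :=
  isSimple_of_pc ctx ss_pc syl kn_1 kS_1 (j := 2) cent shape
    (es := [(23, [17, 6, 18, 12, 23, 19, 24, 30], [4]),
 (24, [27, 10, 0, 27, 15, 10, 18, 18], [46]),
 (25, [21, 0, 21, 13, 22, 22, 24], [46]),
 (26, [12, 20, 6, 10, 16, 18, 18, 24], [46]),
 (27, [23, 2, 21, 12, 10, 18, 18, 28], [46, 48]),
 (28, [21, 9, 19, 11, 23, 19, 24], [54]),
 (18, [], [50, 46, 54]),
 (19, [], [4, 50]),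
 (20, [], [50, 52, 54, 56]),
 (21, [], [54, 56]),
 (22, [], [50, 46]),
 (15, [], [4, 48])]) (by decide +kernel)

theorem z_mem : wp ns [4] ∈ gen ns [[0], [2]] :=
  kn_1.word (by decide +kernel)

theorem ord_z : orderOf (wp ns [4]) = 2 :=
  orderOf_eq_prime (pow_eq_one_of_eqW ctx (by decide +kernel)) (ne_one_of_neOne ctx (by decide +kernel))

noncomputable def z : List ℕ :=
  [4]

end Cfsg.Agent.Spor.InvJ2
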