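import Cfsg.Agent.Spor.GolayModel
import Cfsg.Agent.Spor.M24Basic

set_option autoImplicit false
set_option maxRecDepth 4096

namespace Cfsg.Agent.Spor.ModelM12

open Cfsg.Agent.Comp

noncomputable def ns_0 : Net :=
 (Net.cons (nat_lit 16) 2244
 (Net.cons (nat_lit 8) (nat_lit 0x2000c0)
 (Net.cons (nat_lit 4) (nat_lit 0x8040208)
 (Net.cons (nat_lit 2) (nat_lit 0x20200032)
 (Net.cons (nat_lit 1) (nat_lit 0x101054)
 (Net.cons (nat_lit 2) (nat_lit 0x200002)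
 (Net.cons (nat_lit 4) (nat_lit 0x8000208)
 (Net.cons (nat_lit 8) (nat_lit 0x200040)
 (Net.cons (nat_lit 16) 2244
 Net.nil)))))))))

noncomputable def ns_1 : Net :=
 (Net.cons (nat_lit 16) 14582
 (Net.cons (nat_lit 8) (nat_lit 0xbe0001)
 (Net.cons (nat_lit 4) (nat_lit 0x8090404)
 (Net.cons (nat_lit 2) (nat_lit 0x2300030)
 (Net.cons (nat_lit 1) (nat_lit 0x14004104)
 (Net.cons (nat_lit 2) (nat_lit 0x2000002)
 (Net.cons (nat_lit 4) (nat_lit 0x2080002)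
 (Net.cons (nat_lit 8) (nat_lit 0x960000)
 (Net.cons (nat_lit 16) 14410
 Net.nil)))))))))

noncomputable def ns_2 : Net :=
 (Net.cons (nat_lit 16) 20480
 (Net.cons (nat_lit 8) (nat_lit 0x58008a)
 (Net.cons (nat_lit 4) (nat_lit 0x804020c)
 (Net.cons (nat_lit 2) (nat_lit 0x20120230)
 (Net.cons (nat_lit 1) (nat_lit 0x10040100)
 (Net.cons (nat_lit 2) (nat_lit 0x20020200)
 (Net.cons (nat_lit 4) (nat_lit 0x804000c)
 (Net.cons (nat_lit 8) (nat_lit 0x58000a)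
 (Net.cons (nat_lit 16) 20480
 Net.nil)))))))))

noncomputable def ns_3 : Net :=
 (Net.cons (nat_lit 16) 19944
 (Net.cons (nat_lit 8) (nat_lit 0xc10080)
 (Net.cons (nat_lit 4) (nat_lit 0xc0e0204)
 (Net.cons (nat_lit 2) (nat_lit 0x320002)
 (Net.cons (nat_lit 1) (nat_lit 0x40141014)
 (Net.cons (nat_lit 2) (nat_lit 0x220002)
 (Net.cons (nat_lit 4) 786438
 (Net.cons (nat_lit 8) (nat_lit 0xc40000)
 (Net.cons (nat_lit 16) 19900
 Net.nil)))))))))

noncomputable def ns_4 : Net :=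
 (Net.cons (nat_lit 16) 33928
 (Net.cons (nat_lit 8) (nat_lit 0xc00040)
 (Net.cons (nat_lit 4) (nat_lit 0x400040c)
 (Net.cons (nat_lit 2) (nat_lit 0x220130)
 (Net.cons (nat_lit 1) 69632
 (Net.cons (nat_lit 2) 131072
 (Net.cons (nat_lit 4) 1036
 (Net.cons (nat_lit 8) (nat_lit 0xc00040)
 (Net.cons (nat_lit 16) 33800
 Net.nil)))))))))

noncomputable def ns_5 : Net :=
 (Net.cons (nat_lit 16) 25368
 (Net.cons (nat_lit 8) (nat_lit 0x9b0014)
 (Net.cons (nat_lit 4) (nat_lit 0x302040c)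
 (Net.cons (nat_lit 2) (nat_lit 0x22211000)
 (Net.cons (nat_lit 1) (nat_lit 0x50404040)
 (Net.cons (nat_lit 2) (nat_lit 0x200020)
 (Net.cons (nat_lit 4) (nat_lit 0x2000c00)
 (Net.cons (nat_lit 8) (nat_lit 0x980000)
 (Net.cons (nat_lit 16) 25448
 Net.nil)))))))))

noncomputable def ns_6 : Net :=
 (Net.cons (nat_lit 16) 52904
 (Net.cons (nat_lit 8) (nat_lit 0xc20000)
 (Net.cons (nat_lit 4) 264
 (Net.cons (nat_lit 2) (nat_lit 0x2210020)
 (Net.cons (nat_lit 1) (nat_lit 0x4551000)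
 (Net.cons (nat_lit 4) (nat_lit 0x4000008)
 (Net.cons (nat_lit 8) (nat_lit 0xc20010)
 (Net.cons (nat_lit 16) 52776
 Net.nil))))))))

noncomputable def ns_7 : Net :=
 (Net.cons (nat_lit 16) 47088
 (Net.cons (nat_lit 8) (nat_lit 0x8b0070)
 (Net.cons (nat_lit 4) (nat_lit 0x3030800)
 (Net.cons (nat_lit 2) (nat_lit 0x203000)
 (Net.cons (nat_lit 1) (nat_lit 0x4401040)
 (Net.cons (nat_lit 2) (nat_lit 0x200000)
 (Net.cons (nat_lit 4) (nat_lit 0x8040800)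
 (Net.cons (nat_lit 8) (nat_lit 0x280070)
 (Net.cons (nat_lit 16) 47088
 Net.nil)))))))))

noncomputable def ns_8 : Net :=
 (Net.cons (nat_lit 16) 29560
 (Net.cons (nat_lit 8) 184
 (Net.cons (nat_lit 4) (nat_lit 0x4040400)
 (Net.cons (nat_lit 2) (nat_lit 0x1333000)
 (Net.cons (nat_lit 1) (nat_lit 0x11041040)
 (Net.cons (nat_lit 2) 131072
 (Net.cons (nat_lit 4) (nat_lit 0x4040408)
 (Net.cons (nat_lit 8) (nat_lit 0x5200b0)
 (Net.cons (nat_lit 16) 29560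
 Net.nil)))))))))

noncomputable def ns_9 : Net :=
 (Net.cons (nat_lit 16) 29560
 (Net.cons (nat_lit 8) (nat_lit 0xc300c0)
 (Net.cons (nat_lit 4) (nat_lit 0x2030402)
 (Net.cons (nat_lit 2) (nat_lit 0x30130022)
 (Net.cons (nat_lit 1) (nat_lit 0x1140410)
 (Net.cons (nat_lit 2) 131104
 (Net.cons (nat_lit 4) (nat_lit 0x204080a)
 (Net.cons (nat_lit 8) (nat_lit 0xd200c0)
 (Net.cons (nat_lit 16) 29560
 Net.nil)))))))))

noncomputable def ns : List Net := [ns_0, ns_1, ns_2, ns_3, ns_4, ns_5, ns_6, ns_7, ns_8, ns_9]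

theorem ctx : Ctx 32 5 ns := ctx_of (by decide +kernel)

noncomputable def G_C5 : List Lvl :=
  []

noncomputable def G_ss4 : List (List ℕ) :=
  [[16], [18]]

noncomputable def G_D4 : ℕ :=
  340816

noncomputable def G_l4 : Lvl :=
  ⟨4, [[16], [18]],
  tabA [(13, 1024), (18, 1025), (6, 1026), (9, 1027), (12, 3328), (16, 3330), (8, 3331)], 2⟩

noncomputable def G_C4 : List Lvl :=
  G_l4 :: G_C5

noncomputable def G_ss3 : List (List ℕ) :=
  [[12], [14]]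

noncomputable def G_D3 : ℕ :=
  340824

noncomputable def G_l3 : Lvl :=
  ⟨3, [[12], [14], [16], [18]],
  tabA [(16, 768), (18, 769), (9, 4096), (4, 4098), (12, 4099), (6, 4100), (13, 4103), (8, 4614)], 2⟩

noncomputable def G_C3 : List Lvl :=
  G_l3 :: G_C4

noncomputable def G_ss2 : List (List ℕ) :=
  [[8], [10]]

noncomputable def G_D2 : ℕ :=
  340828

noncomputable def G_l2 : Lvl :=
  ⟨2, [[8], [10], [12], [14], [16], [18]],
  tabA [(4, 512), (6, 514), (12, 515), (8, 1027), (13, 1028), (16, 1031), (18, 1033), (9, 1035), (3, 3330)], 3⟩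

noncomputable def G_C2 : List Lvl :=
  G_l2 :: G_C3

noncomputable def G_ss1 : List (List ℕ) :=
  [[4], [6]]

noncomputable def G_D1 : ℕ :=
  340830

noncomputable def G_l1 : Lvl :=
  ⟨1, [[4], [6], [8], [10], [12], [14], [16], [18]],
  tabA [(13, 256), (4, 258), (6, 259), (12, 3330), (9, 3331), (3, 3334), (8, 3336), (16, 3342), (2, 1024), (18, 1037)], 2⟩

noncomputable def G_C1 : List Lvl :=
  G_l1 :: G_C2

noncomputable def G_ss0 : List (List ℕ) :=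
  [[0], [2]]

noncomputable def G_D0 : ℕ :=
  340831

noncomputable def G_l0 : Lvl :=
  ⟨0, [[0], [2], [4], [6], [8], [10], [12], [14], [16], [18]],
  tabA [(8, 2), (9, 3), (3, 2052), (16, 2054), (6, 2056), (4, 2058), (18, 2059), (12, 2060), (13, 2061), (2, 771), (1, 1542)], 3⟩

noncomputable def G_C0 : List Lvl :=
  G_l0 :: G_C1

theorem G_ver5 : Ver ns G_C5 1 :=
  ver_nil _

theorem G_le4 : gen ns G_l4.ws ≤ gen ns G_ss4 :=
  gen_le_step ctx (tgt := [])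
  (es := []) (le_refl (gen _ [])) (by decide +kernel)

theorem G_lv4 : chkLvl 32 ns G_l4 G_C5 G_D4 2 = true :=
  by decide +kernel

theorem G_pt4_0 : AllIn (PtOK 32 ns G_l4 G_C5 G_ss4 G_D4) 0 64 :=
  ptOK_of_chkPts ctx G_ver5 (a := 0) (n := 1) (by decide +kernel)

theorem G_st4 : IsStab 32 (gen ns G_l4.ws) (cgrp ns G_C5) G_l4.b G_D4 :=
  isStab_plain ctx G_le4 G_lv4 (by norm_num) G_pt4_0

theorem G_ver4 : Ver ns G_C4 8 :=
  G_ver5.cons ctx G_st4 (by decide +kernel)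

theorem G_le3 : gen ns G_l3.ws ≤ gen ns G_ss3 :=
  gen_le_step ctx (tgt := [[16], [18]])
  (es := [([16], [1, 1, 1, 2, 1, 3, 0, 0, 0, 2]), ([18], [3, 5, 3, 3, 3, 5, 2])]) G_le4 (by decide +kernel)

theorem G_lv3 : chkLvl 32 ns G_l3 G_C4 G_D3 2 = true :=
  by decide +kernel

theorem G_pt3_0 : AllIn (PtOK 32 ns G_l3 G_C4 G_ss3 G_D3) 0 64 :=
  ptOK_of_chkPts ctx G_ver4 (a := 0) (n := 1) (by decide +kernel)

theorem G_st3 : IsStab 32 (gen ns G_l3.ws) (cgrp ns G_C4) G_l3.b G_D3 :=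
  isStab_plain ctx G_le3 G_lv3 (by norm_num) G_pt3_0

theorem G_ver3 : Ver ns G_C3 72 :=
  G_ver4.cons ctx G_st3 (by decide +kernel)

theorem G_le2 : gen ns G_l2.ws ≤ gen ns G_ss2 :=
  gen_le_step ctx (tgt := [[12], [14]])
  (es := [([12], [2, 1, 3, 3, 0, 0, 0, 2, 1, 1, 1]), ([14], [3, 4, 4, 4, 3, 5, 3, 5])]) G_le3 (by decide +kernel)

theorem G_lv2 : chkLvl 32 ns G_l2 G_C3 G_D2 2 = true :=
  by decide +kernel

theorem G_pt2_0 : AllIn (PtOK 32 ns G_l2 G_C3 G_ss2 G_D2) 0 64 :=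
  ptOK_of_chkPts ctx G_ver3 (a := 0) (n := 1) (by decide +kernel)

theorem G_st2 : IsStab 32 (gen ns G_l2.ws) (cgrp ns G_C3) G_l2.b G_D2 :=
  isStab_plain ctx G_le2 G_lv2 (by norm_num) G_pt2_0

theorem G_ver2 : Ver ns G_C2 720 :=
  G_ver3.cons ctx G_st2 (by decide +kernel)

theorem G_le1 : gen ns G_l1.ws ≤ gen ns G_ss1 :=
  gen_le_step ctx (tgt := [[8], [10]])
  (es := [([8], [1, 3, 3, 3, 1, 3, 1, 1, 2]), ([10], [5, 3, 5, 2, 5, 2, 2])]) G_le2 (by decide +kernel)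

theorem G_lv1 : chkLvl 32 ns G_l1 G_C2 G_D1 1 = true :=
  by decide +kernel

theorem G_pt1_0 : AllIn (PtOK 32 ns G_l1 G_C2 G_ss1 G_D1) 0 64 :=
  ptOK_of_chkPts ctx G_ver2 (a := 0) (n := 1) (by decide +kernel)

theorem G_st1 : IsStab 32 (gen ns G_l1.ws) (cgrp ns G_C2) G_l1.b G_D1 :=
  isStab_plain ctx G_le1 G_lv1 (by norm_num) G_pt1_0

theorem G_ver1 : Ver ns G_C1 7920 :=
  G_ver2.cons ctx G_st1 (by decide +kernel)

theorem G_le0 : gen ns G_l0.ws ≤ gen ns G_ss0 :=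
  gen_le_step ctx (tgt := [[4], [6]])
  (es := [([4], [2, 1, 1, 1, 2, 0, 3, 1, 3]), ([6], [5, 5, 3, 3, 4, 2, 4, 3])]) G_le1 (by decide +kernel)

theorem G_lv0 : chkLvl 32 ns G_l0 G_C1 G_D0 2 = true :=
  by decide +kernel

theorem G_pt0_0 : AllIn (PtOK 32 ns G_l0 G_C1 G_ss0 G_D0) 0 64 :=
  ptOK_of_chkPts ctx G_ver1 (a := 0) (n := 1) (by decide +kernel)

theorem G_st0 : IsStab 32 (gen ns G_l0.ws) (cgrp ns G_C1) G_l0.b G_D0 :=
  isStab_plain ctx G_le0 G_lv0 (by norm_num) G_pt0_0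

theorem G_ver0 : Ver ns G_C0 95040 :=
  G_ver1.cons ctx G_st0 (by decide +kernel)

theorem G_eq : gen ns G_ss0 = cgrp ns G_C0 :=
  le_antisymm (gen_le_of_subsetL _ (by decide +kernel)) G_le0

theorem G_card : Nat.card (gen ns G_ss0) = 95040 :=
  by rw [G_eq]; exact G_ver0.card

theorem model : ∃ e : Cfsg.Spor.M12 ≃* gen ns G_ss0,
    ∀ g : Cfsg.Spor.M12, RepBy 24 pt (g : Equiv.Perm GolayPt) (e g : Equiv.Perm ℕ) :=
  exists_model_golay _ mem_M12_crit ctx (by decide +kernel) (isM12_M12.2.trans G_card.symm).le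

noncomputable def equiv : Cfsg.Spor.M12 ≃* gen ns G_ss0 :=
  Classical.choose model

theorem equiv_rep : ∀ g : Cfsg.Spor.M12, RepBy 24 pt (g : Equiv.Perm GolayPt) (equiv g : Equiv.Perm ℕ) :=
  Classical.choose_spec model

theorem G_supp : gen ns G_ss0 ≤ suppSub 24 :=
  gen_le_supp_of_suppW ctx (by decide +kernel)

end Cfsg.Agent.Spor.ModelM12
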