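import Cfsg.Agent.Spor.GolayModel
import Cfsg.Agent.Spor.M24Basic

set_option autoImplicit false
set_option maxRecDepth 4096

namespace Cfsg.Agent.Spor.ModelM24

open Cfsg.Agent.Comp

noncomputable def ns_0 : Net :=
 (Net.cons (nat_lit 16) 29696
 (Net.cons (nat_lit 8) (nat_lit 0xf40050)
 (Net.cons (nat_lit 4) (nat_lit 0xc0a0c08)
 (Net.cons (nat_lit 2) (nat_lit 0x20012020)
 (Net.cons (nat_lit 1) (nat_lit 0x44401505)
 (Net.cons (nat_lit 2) (nat_lit 0x20002000)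
 (Net.cons (nat_lit 4) (nat_lit 0xc080c08)
 (Net.cons (nat_lit 8) (nat_lit 0xe40050)
 (Net.cons (nat_lit 16) 29696
 Net.nil)))))))))

noncomputable def ns_1 : Net :=
 (Net.cons (nat_lit 16) 2416
 (Net.cons (nat_lit 8) (nat_lit 0x3400b0)
 (Net.cons (nat_lit 4) (nat_lit 0xa040004)
 (Net.cons (nat_lit 2) (nat_lit 0x23010012)
 (Net.cons (nat_lit 1) (nat_lit 0x14004010)
 (Net.cons (nat_lit 2) (nat_lit 0x22000000)
 (Net.cons (nat_lit 4) (nat_lit 0xa040004)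
 (Net.cons (nat_lit 8) (nat_lit 0x340030)
 (Net.cons (nat_lit 16) 2344
 Net.nil)))))))))

noncomputable def ns_2 : Net :=
 (Net.cons (nat_lit 16) 11367
 (Net.cons (nat_lit 8) (nat_lit 0x6200d5)
 (Net.cons (nat_lit 4) (nat_lit 0x2080002)
 (Net.cons (nat_lit 2) (nat_lit 0x22212100)
 (Net.cons (nat_lit 1) (nat_lit 0x44001000)
 (Net.cons (nat_lit 2) (nat_lit 0x22002000)
 (Net.cons (nat_lit 4) 525312
 (Net.cons (nat_lit 8) (nat_lit 0x6a00c4)
 (Net.cons (nat_lit 16) 11328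
 Net.nil)))))))))

noncomputable def ns_3 : Net :=
 (Net.cons (nat_lit 16) 64312
 (Net.cons (nat_lit 8) (nat_lit 0x7b0000)
 (Net.cons (nat_lit 4) (nat_lit 0x909000e)
 (Net.cons (nat_lit 2) (nat_lit 0x12300001)
 (Net.cons (nat_lit 1) (nat_lit 0x41100040)
 (Net.cons (nat_lit 2) (nat_lit 0x20000020)
 (Net.cons (nat_lit 4) 786442
 (Net.cons (nat_lit 8) (nat_lit 0x400000)
 (Net.cons (nat_lit 16) 64296
 Net.nil)))))))))

noncomputable def ns_4 : Net :=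
 (Net.cons (nat_lit 16) 28314
 (Net.cons (nat_lit 8) (nat_lit 0x14002b)
 (Net.cons (nat_lit 4) (nat_lit 0xc040b04)
 (Net.cons (nat_lit 2) (nat_lit 0x10010010)
 (Net.cons (nat_lit 1) (nat_lit 0x50411100)
 (Net.cons (nat_lit 2) 8704
 (Net.cons (nat_lit 4) (nat_lit 0x8060004)
 (Net.cons (nat_lit 8) (nat_lit 0x32003a)
 (Net.cons (nat_lit 16) 28258
 Net.nil)))))))))

noncomputable def ns_5 : Net :=
 (Net.cons (nat_lit 16) 2792
 (Net.cons (nat_lit 8) 655393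
 (Net.cons (nat_lit 4) 461826
 (Net.cons (nat_lit 2) (nat_lit 0x310112)
 (Net.cons (nat_lit 1) (nat_lit 0x140404)
 (Net.cons (nat_lit 4) 264198
 (Net.cons (nat_lit 8) 131072
 (Net.cons (nat_lit 16) 2688
 Net.nil))))))))

noncomputable def ns_6 : Net :=
 (Net.cons (nat_lit 16) 6286
 (Net.cons (nat_lit 8) (nat_lit 0xd40020)
 (Net.cons (nat_lit 4) (nat_lit 0xc0b0001)
 (Net.cons (nat_lit 2) (nat_lit 0x20200233)
 (Net.cons (nat_lit 1) (nat_lit 0x14110441)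
 (Net.cons (nat_lit 2) (nat_lit 0x20200220)
 (Net.cons (nat_lit 4) 656388
 (Net.cons (nat_lit 8) (nat_lit 0xcc0060)
 (Net.cons (nat_lit 16) 6318
 Net.nil)))))))))

noncomputable def ns_7 : Net :=
 (Net.cons (nat_lit 16) 48862
 (Net.cons (nat_lit 8) (nat_lit 0xae0001)
 (Net.cons (nat_lit 4) (nat_lit 0x40e0003)
 (Net.cons (nat_lit 2) (nat_lit 0x30010013)
 (Net.cons (nat_lit 1) (nat_lit 0x40510011)
 (Net.cons (nat_lit 2) 131072
 (Net.cons (nat_lit 4) (nat_lit 0xe000000)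
 (Net.cons (nat_lit 8) (nat_lit 0xb40000)
 (Net.cons (nat_lit 16) 48796
 Net.nil)))))))))

noncomputable def ns_8 : Net :=
 (Net.cons (nat_lit 16) 60312
 (Net.cons (nat_lit 8) (nat_lit 0xb20028)
 (Net.cons (nat_lit 4) (nat_lit 0x90a0c04)
 (Net.cons (nat_lit 2) (nat_lit 0x32200010)
 (Net.cons (nat_lit 1) (nat_lit 0x444000)
 (Net.cons (nat_lit 2) (nat_lit 0x202000)
 (Net.cons (nat_lit 4) 789504
 (Net.cons (nat_lit 8) (nat_lit 0x100028)
 (Net.cons (nat_lit 16) 60312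
 Net.nil)))))))))

noncomputable def ns_9 : Net :=
 (Net.cons (nat_lit 16) 7196
 (Net.cons (nat_lit 8) 786440
 (Net.cons (nat_lit 4) 459780
 (Net.cons (nat_lit 2) (nat_lit 0x102130)
 (Net.cons (nat_lit 1) (nat_lit 0x4110440)
 (Net.cons (nat_lit 2) 32
 (Net.cons (nat_lit 4) 263172
 (Net.cons (nat_lit 8) (nat_lit 0x140088)
 (Net.cons (nat_lit 16) 7196
 Net.nil)))))))))

noncomputable def ns_10 : Net :=
 (Net.cons (nat_lit 16) 64
 (Net.cons (nat_lit 8) 17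
 (Net.cons (nat_lit 4) 264716
 (Net.cons (nat_lit 2) 306
 (Net.cons (nat_lit 1) (nat_lit 0x144441)
 (Net.cons (nat_lit 2) 139810
 (Net.cons (nat_lit 4) 262156
 (Net.cons (nat_lit 8) 144
 (Net.cons (nat_lit 16) 80
 Net.nil)))))))))

noncomputable def ns_11 : Net :=
 (Net.cons (nat_lit 16) 58112
 (Net.cons (nat_lit 8) (nat_lit 0x8a0070)
 (Net.cons (nat_lit 4) 985088
 (Net.cons (nat_lit 2) (nat_lit 0x22032020)
 (Net.cons (nat_lit 1) (nat_lit 0x41144010)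
 (Net.cons (nat_lit 2) (nat_lit 0x20000020)
 (Net.cons (nat_lit 4) 526344
 (Net.cons (nat_lit 8) (nat_lit 0xea0070)
 (Net.cons (nat_lit 16) 58112
 Net.nil)))))))))

noncomputable def ns_12 : Net :=
 (Net.cons (nat_lit 16) 2214
 (Net.cons (nat_lit 8) (nat_lit 0x48001c)
 (Net.cons (nat_lit 4) (nat_lit 0x8090b00)
 (Net.cons (nat_lit 2) 131600
 (Net.cons (nat_lit 1) (nat_lit 0x40115500)
 (Net.cons (nat_lit 2) 131072
 (Net.cons (nat_lit 4) (nat_lit 0x8000400)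
 (Net.cons (nat_lit 8) (nat_lit 0x48002a)
 (Net.cons (nat_lit 16) 2222
 Net.nil)))))))))

noncomputable def ns_13 : Net :=
 (Net.cons (nat_lit 16) 57396
 (Net.cons (nat_lit 8) (nat_lit 0x1400f0)
 (Net.cons (nat_lit 4) (nat_lit 0x40a0200)
 (Net.cons (nat_lit 2) (nat_lit 0x20201300)
 (Net.cons (nat_lit 1) (nat_lit 0x50414000)
 (Net.cons (nat_lit 2) 8192
 (Net.cons (nat_lit 4) (nat_lit 0x4080000)
 (Net.cons (nat_lit 8) (nat_lit 0x5400ec)
 (Net.cons (nat_lit 16) 57424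
 Net.nil)))))))))

noncomputable def ns_14 : Net :=
 (Net.cons (nat_lit 16) 23084
 (Net.cons (nat_lit 8) (nat_lit 0x500020)
 (Net.cons (nat_lit 4) (nat_lit 0x4030a0c)
 (Net.cons (nat_lit 2) (nat_lit 0x200130)
 (Net.cons (nat_lit 1) (nat_lit 0x4400440)
 (Net.cons (nat_lit 2) (nat_lit 0x2200200)
 (Net.cons (nat_lit 4) (nat_lit 0x4000a04)
 (Net.cons (nat_lit 8) (nat_lit 0x400084)
 (Net.cons (nat_lit 16) 23084
 Net.nil)))))))))

noncomputable def ns_15 : Net :=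
 (Net.cons (nat_lit 16) 26660
 (Net.cons (nat_lit 8) (nat_lit 0x3a00a0)
 (Net.cons (nat_lit 4) (nat_lit 0xe06040c)
 (Net.cons (nat_lit 2) (nat_lit 0x22031000)
 (Net.cons (nat_lit 1) (nat_lit 0x14044104)
 (Net.cons (nat_lit 2) (nat_lit 0x22020000)
 (Net.cons (nat_lit 4) (nat_lit 0xc060608)
 (Net.cons (nat_lit 8) (nat_lit 0x3200a0)
 (Net.cons (nat_lit 16) 26660
 Net.nil)))))))))

noncomputable def ns_16 : Net :=
 (Net.cons (nat_lit 16) 50160
 (Net.cons (nat_lit 8) (nat_lit 0x2a0030)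
 (Net.cons (nat_lit 4) (nat_lit 0xe080c00)
 (Net.cons (nat_lit 2) (nat_lit 0x3122010)
 (Net.cons (nat_lit 1) (nat_lit 0x5044010)
 (Net.cons (nat_lit 4) (nat_lit 0x4080c00)
 (Net.cons (nat_lit 8) (nat_lit 0x2a0020)
 (Net.cons (nat_lit 16) 50080
 Net.nil))))))))

noncomputable def ns_17 : Net :=
 (Net.cons (nat_lit 16) 19806
 (Net.cons (nat_lit 8) (nat_lit 0x7c00e0)
 (Net.cons (nat_lit 4) (nat_lit 0xd000402)
 (Net.cons (nat_lit 2) (nat_lit 0x21012220)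
 (Net.cons (nat_lit 1) 267268
 (Net.cons (nat_lit 2) 512
 (Net.cons (nat_lit 4) (nat_lit 0xc000608)
 (Net.cons (nat_lit 8) (nat_lit 0x3400e0)
 (Net.cons (nat_lit 16) 19790
 Net.nil)))))))))

noncomputable def ns : List Net := [ns_0, ns_1, ns_2, ns_3, ns_4, ns_5, ns_6, ns_7, ns_8, ns_9, ns_10, ns_11, ns_12, ns_13, ns_14, ns_15, ns_16, ns_17]

theorem ctx : Ctx 32 5 ns := ctx_of (by decide +kernel)

noncomputable def G_C7 : List Lvl :=
  []

noncomputable def G_ss6 : List (List ℕ) :=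
  [[31]]

noncomputable def G_D6 : ℕ :=
  147488

noncomputable def G_l6 : Lvl :=
  ⟨5, [[31]],
  tabA [(14, 1280), (17, 1281)], 1⟩

noncomputable def G_C6 : List Lvl :=
  G_l6 :: G_C7

noncomputable def G_ss5 : List (List ℕ) :=
  [[28], [30], [32]]

noncomputable def G_D5 : ℕ :=
  nat_lit 0x7dbfd0

noncomputable def G_l5 : Lvl :=
  ⟨4, [[28], [30], [32], [31]],
  tabC 13 8191 [nat_lit 0x10152046057821000000d022008000808604b003406408f05902c80c0000000000000000000], 3⟩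

noncomputable def G_C5 : List Lvl :=
  G_l5 :: G_C6

noncomputable def G_ss4 : List (List ℕ) :=
  [[22], [24]]

noncomputable def G_D4 : ℕ :=
  nat_lit 0x7ffff8

noncomputable def G_l4 : Lvl :=
  ⟨3, [[22], [24], [34], [28], [30], [32], [31]],
  tabC 13 8191 [nat_lit 0xc0860ac063839c292043044805402c003003810c0d804a07180b00ce0960a0000000000000], 3⟩

noncomputable def G_C4 : List Lvl :=
  G_l4 :: G_C5

noncomputable def G_ss3 : List (List ℕ) :=
  [[16], [18]]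

noncomputable def G_D3 : ℕ :=
  nat_lit 0x7ffffc

noncomputable def G_l3 : Lvl :=
  ⟨2, [[16], [18], [26], [22], [24], [34], [28], [30], [32], [31]],
  tabC 13 8191 [nat_lit 0xc20608201a07183960140c10298116026051018c2680c2041838800c0c6091010000000000], 2⟩

noncomputable def G_C3 : List Lvl :=
  G_l3 :: G_C4

noncomputable def G_ss2 : List (List ℕ) :=
  [[10], [12]]

noncomputable def G_D2 : ℕ :=
  nat_lit 0x7ffffd

noncomputable def G_l2 : Lvl :=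
  ⟨0, [[10], [12], [20], [16], [18], [26], [22], [24], [34], [28], [30], [32], [31]],
  tabC 13 8191 [nat_lit 0x3c1d01e8110013c4101ad0c000a00000670d98a201000a0000022042602806386202c000000], 2⟩

noncomputable def G_C2 : List Lvl :=
  G_l2 :: G_C3

noncomputable def G_ss1 : List (List ℕ) :=
  [[4], [6]]

noncomputable def G_D1 : ℕ :=
  nat_lit 0x7fffff

noncomputable def G_l1 : Lvl :=
  ⟨1, [[4], [6], [14], [10], [12], [20], [16], [18], [26], [22], [24], [34], [28], [30], [32], [31]],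
  tabC 13 8191 [nat_lit 0x543020150a0818410c17509a86d44aa0e611a8bd43aa37514a8c8406a1150ba888408000603], 2⟩

noncomputable def G_C1 : List Lvl :=
  G_l1 :: G_C2

noncomputable def G_ss0 : List (List ℕ) :=
  [[0], [2]]

noncomputable def G_D0 : ℕ :=
  nat_lit 0xffffff

noncomputable def G_l0 : Lvl :=
  ⟨23, [[0], [2], [8], [4], [6], [14], [10], [12], [20], [16], [18], [26], [22], [24], [34], [28], [30], [32], [31]],
  tabC 13 8191 [nat_lit 0x5c02c2670db0ba85940f602b092812c0b609b055c12c38a11b82d80ec1760db04581e008711], 3⟩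

noncomputable def G_C0 : List Lvl :=
  G_l0 :: G_C1

theorem G_ver7 : Ver ns G_C7 1 :=
  ver_nil _

theorem G_le6 : gen ns G_l6.ws ≤ gen ns G_ss6 :=
  gen_le_step ctx (tgt := [])
  (es := []) (le_refl (gen _ [])) (by decide +kernel)

theorem G_lv6 : chkLvl 32 ns G_l6 G_C7 G_D6 2 = true :=
  by decide +kernel

theorem G_pt6_0 : AllIn (PtOK 32 ns G_l6 G_C7 G_ss6 G_D6) 0 64 :=
  ptOK_of_chkPts ctx G_ver7 (a := 0) (n := 1) (by decide +kernel)

theorem G_st6 : IsStab 32 (gen ns G_l6.ws) (cgrp ns G_C7) G_l6.b G_D6 :=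
  isStab_plain ctx G_le6 G_lv6 (by norm_num) G_pt6_0

theorem G_ver6 : Ver ns G_C6 3 :=
  G_ver7.cons ctx G_st6 (by decide +kernel)

theorem G_le5 : gen ns G_l5.ws ≤ gen ns G_ss5 :=
  gen_le_step ctx (tgt := [[31]])
  (es := [([31], [3])]) G_le6 (by decide +kernel)

theorem G_lv5 : chkLvl 32 ns G_l5 G_C6 G_D5 2 = true :=
  by decide +kernel

theorem G_pt5_0 : AllIn (PtOK 32 ns G_l5 G_C6 G_ss5 G_D5) 0 64 :=
  ptOK_of_chkPts ctx G_ver6 (a := 0) (n := 1) (by decide +kernel)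

theorem G_st5 : IsStab 32 (gen ns G_l5.ws) (cgrp ns G_C6) G_l5.b G_D5 :=
  isStab_plain ctx G_le5 G_lv5 (by norm_num) G_pt5_0

theorem G_ver5 : Ver ns G_C5 48 :=
  G_ver6.cons ctx G_st5 (by decide +kernel)

theorem G_le4 : gen ns G_l4.ws ≤ gen ns G_ss4 :=
  gen_le_step ctx (tgt := [[28], [30], [32], [34]])
  (es := [([28], [2, 1, 3]), ([30], [3, 5, 5, 3, 3, 5, 5, 3, 5]), ([32], [5, 7, 4, 6, 6, 5]), ([34], [8, 7, 8, 7])]) G_le5 (by decide +kernel)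

theorem G_lv4 : chkLvl 32 ns G_l4 G_C5 G_D4 2 = true :=
  by decide +kernel

theorem G_pt4_0 : AllIn (PtOK 32 ns G_l4 G_C5 G_ss4 G_D4) 0 64 :=
  ptOK_of_chkPts ctx G_ver5 (a := 0) (n := 1) (by decide +kernel)

theorem G_st4 : IsStab 32 (gen ns G_l4.ws) (cgrp ns G_C5) G_l4.b G_D4 :=
  isStab_plain ctx G_le4 G_lv4 (by norm_num) G_pt4_0

theorem G_ver4 : Ver ns G_C4 960 :=
  G_ver5.cons ctx G_st4 (by decide +kernel)

theorem G_le3 : gen ns G_l3.ws ≤ gen ns G_ss3 :=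
  gen_le_step ctx (tgt := [[22], [24], [26]])
  (es := [([22], [2, 2, 1, 1, 3, 3]), ([24], [2, 5, 2, 4, 4, 3, 5]), ([26], [6, 5, 6, 4, 7, 5, 7])]) G_le4 (by decide +kernel)

theorem G_lv3 : chkLvl 32 ns G_l3 G_C4 G_D3 1 = true :=
  by decide +kernel

theorem G_pt3_0 : AllIn (PtOK 32 ns G_l3 G_C4 G_ss3 G_D3) 0 64 :=
  ptOK_of_chkPts ctx G_ver4 (a := 0) (n := 1) (by decide +kernel)

theorem G_st3 : IsStab 32 (gen ns G_l3.ws) (cgrp ns G_C4) G_l3.b G_D3 :=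
  isStab_plain ctx G_le3 G_lv3 (by norm_num) G_pt3_0

theorem G_ver3 : Ver ns G_C3 20160 :=
  G_ver4.cons ctx G_st3 (by decide +kernel)

theorem G_le2 : gen ns G_l2.ws ≤ gen ns G_ss2 :=
  gen_le_step ctx (tgt := [[16], [18], [20]])
  (es := [([16], [2, 2, 1, 3, 0, 3, 1, 3, 0]), ([18], [4, 3, 4, 2, 2, 2, 5]), ([20], [5, 5, 5, 6])]) G_le3 (by decide +kernel)

theorem G_lv2 : chkLvl 32 ns G_l2 G_C3 G_D2 2 = true :=
  by decide +kernel

theorem G_pt2_0 : AllIn (PtOK 32 ns G_l2 G_C3 G_ss2 G_D2) 0 64 :=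
  ptOK_of_chkPts ctx G_ver3 (a := 0) (n := 1) (by decide +kernel)

theorem G_st2 : IsStab 32 (gen ns G_l2.ws) (cgrp ns G_C3) G_l2.b G_D2 :=
  isStab_plain ctx G_le2 G_lv2 (by norm_num) G_pt2_0

theorem G_ver2 : Ver ns G_C2 443520 :=
  G_ver3.cons ctx G_st2 (by decide +kernel)

theorem G_le1 : gen ns G_l1.ws ≤ gen ns G_ss1 :=
  gen_le_step ctx (tgt := [[10], [12], [14]])
  (es := [([10], [1, 3, 1, 1]), ([12], [4, 4, 3, 3, 5, 2]), ([14], [5, 7, 4, 6, 6, 4])]) G_le2 (by decide +kernel)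

theorem G_lv1 : chkLvl 32 ns G_l1 G_C2 G_D1 1 = true :=
  by decide +kernel

theorem G_pt1_0 : AllIn (PtOK 32 ns G_l1 G_C2 G_ss1 G_D1) 0 64 :=
  ptOK_of_chkPts ctx G_ver2 (a := 0) (n := 1) (by decide +kernel)

theorem G_st1 : IsStab 32 (gen ns G_l1.ws) (cgrp ns G_C2) G_l1.b G_D1 :=
  isStab_plain ctx G_le1 G_lv1 (by norm_num) G_pt1_0

theorem G_ver1 : Ver ns G_C1 10200960 :=
  G_ver2.cons ctx G_st1 (by decide +kernel)

theorem G_le0 : gen ns G_l0.ws ≤ gen ns G_ss0 :=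
  gen_le_step ctx (tgt := [[4], [6], [8]])
  (es := [([4], [1, 3, 0, 2, 0, 2, 0]), ([6], [3, 4, 3, 5, 3, 5, 3, 5, 3, 4, 2, 5, 5, 3, 5, 3, 3, 3, 4]), ([8], [6, 5, 6, 5, 5, 5, 6])]) G_le1 (by decide +kernel)

theorem G_lv0 : chkLvl 32 ns G_l0 G_C1 G_D0 1 = true :=
  by decide +kernel

theorem G_pt0_0 : AllIn (PtOK 32 ns G_l0 G_C1 G_ss0 G_D0) 0 64 :=
  ptOK_of_chkPts ctx G_ver1 (a := 0) (n := 1) (by decide +kernel)

theorem G_st0 : IsStab 32 (gen ns G_l0.ws) (cgrp ns G_C1) G_l0.b G_D0 :=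
  isStab_plain ctx G_le0 G_lv0 (by norm_num) G_pt0_0

theorem G_ver0 : Ver ns G_C0 244823040 :=
  G_ver1.cons ctx G_st0 (by decide +kernel)

theorem G_eq : gen ns G_ss0 = cgrp ns G_C0 :=
  le_antisymm (gen_le_of_subsetL _ (by decide +kernel)) G_le0

theorem G_card : Nat.card (gen ns G_ss0) = 244823040 :=
  by rw [G_eq]; exact G_ver0.card

theorem model : ∃ e : Cfsg.M24 ≃* gen ns G_ss0,
    ∀ g : Cfsg.M24, RepBy 24 pt (g : Equiv.Perm GolayPt) (e g : Equiv.Perm ℕ) :=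
  exists_model_golay _ mem_M24_crit ctx (by decide +kernel) (M24C.card_M24.trans G_card.symm).le

noncomputable def equiv : Cfsg.M24 ≃* gen ns G_ss0 :=
  Classical.choose model

theorem equiv_rep : ∀ g : Cfsg.M24, RepBy 24 pt (g : Equiv.Perm GolayPt) (equiv g : Equiv.Perm ℕ) :=
  Classical.choose_spec model

theorem G_supp : gen ns G_ss0 ≤ suppSub 24 :=
  gen_le_supp_of_suppW ctx (by decide +kernel)

end Cfsg.Agent.Spor.ModelM24
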