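import Mathlib
import Cfsg.Agent.Spor.Co0Order
import Cfsg.Agent.Spor.Golay
import Cfsg.Agent.Comp.ChainDC

/-! An explicit basis of the Leech lattice, coordinates `emb`, and explicit elements of `Co0` given
by integer matrices checked in the kernel. -/

set_option autoImplicit false

namespace Cfsg.Agent.Spor.Leech

open Cfsg Finset Cfsg.Spor Cfsg.Agent.Comp

/-- Dot product of integer lists by raw recursors. -/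
noncomputable def dotZ (a : List ℤ) : List ℤ → ℤ :=
  List.rec (motive := fun _ => List ℤ → ℤ) (fun _ => 0)
    (fun x _ ih b => List.rec (motive := fun _ => ℤ) 0 (fun y b' _ => Int.add (Int.mul x y) (ih b')) b) a

theorem dotZ_eq (a b : List ℤ) {n : ℕ} (h : a.length ≤ n ∨ b.length ≤ n) :
    dotZ a b = ∑ i ∈ range n, getL 0 a i * getL 0 b i := by
  simp only [getL_eq]
  induction a generalizing b n with
  | nil => simp [dotZ]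
  | cons x a ih =>
    cases b with
    | nil => simp [dotZ]
    | cons y b =>
      have e : dotZ (x :: a) (y :: b) = x * y + dotZ a b := rfl
      obtain ⟨n, rfl⟩ : ∃ m, n = m + 1 := ⟨n - 1, by simp only [List.length_cons] at h; omega⟩
      rw [e, sum_range_succ', ih b (n := n) (by simp only [List.length_cons] at h; omega), add_comm]
      simp

/-- Equality test of integers. -/
noncomputable def eqZ (a b : ℤ) : Bool := decide (a = b)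

theorem eqZ_iff (a b : ℤ) : eqZ a b = true ↔ a = b := by simp [eqZ]

/-- Oddness test. -/
noncomputable def oddZ (a : ℤ) : Bool := Nat.beq (Nat.land (Int.natAbs a) 1) 1

theorem oddZ_iff (a : ℤ) : oddZ a = true ↔ a % 2 = 1 := by
  have : Nat.land (Int.natAbs a) 1 = a.natAbs % 2 := Nat.and_one_is_mod _
  rw [oddZ, beq_iff, this]; omega

/-- Matrix entry. -/
noncomputable def ent (M : List (List ℤ)) (i j : ℕ) : ℤ := getL 0 (getL [] M i) j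

/-- Column of a matrix. -/
noncomputable def colZ (M : List (List ℤ)) (j : ℕ) : List ℤ := mapR (fun r => getL 0 r j) M

theorem getL_colZ (M : List (List ℤ)) (j i : ℕ) : getL 0 (colZ M j) i = ent M i j := by
  rw [colZ, mapR_eq, ent, getL_eq, getL_eq, getL_eq]
  by_cases h : i < M.length
  · rw [List.getD_eq_getElem _ _ (by simpa using h), List.getD_eq_getElem _ _ h]; simp [getL_eq]
  · rw [List.getD_eq_default (List.map _ M) _ (by simpa using h),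
      List.getD_eq_default M _ (by simpa using h)]
    simp

/-- The vector with a list of coordinates. -/
noncomputable def vecOf (a : List ℤ) : GolayPt → ℤ := fun p => getL 0 a (ix p)

/-- The coefficient vector of a list. -/
noncomputable def toF (a : List ℤ) : Fin 24 → ℤ := fun i => getL 0 a i

theorem sum_ix (f : ℕ → ℤ) : ∑ p : GolayPt, f (ix p) = ∑ i ∈ range 24, f i := by
  rw [← Fin.sum_univ_eq_sum_range]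
  exact Fintype.sum_equiv ptEquiv _ _ fun _ => rfl

theorem dotInt_vecOf (a b : List ℤ) (h : a.length ≤ 24 ∨ b.length ≤ 24) :
    dotInt (vecOf a) (vecOf b) = dotZ a b := by
  rw [dotZ_eq a b h, ← sum_ix]; rfl

theorem dotZ_eq_fin (a b : List ℤ) (h : a.length ≤ 24 ∨ b.length ≤ 24) :
    dotZ a b = ∑ i : Fin 24, toF a i * toF b i := by
  rw [dotZ_eq a b h, ← Fin.sum_univ_eq_sum_range (fun i => getL 0 a i * getL 0 b i)]; rfl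

/-- The all-ones list. -/
def ones24 : List ℤ := [1, 1, 1, 1, 1, 1, 1, 1, 1, 1, 1, 1, 1, 1, 1, 1, 1, 1, 1, 1, 1, 1, 1, 1]

/-- Membership test for the lattice. -/
noncomputable def isLee (a : List ℤ) : Bool :=
  (fun m : ℤ => force (sumLT 24 fun i => ite' (eqZ (getL 0 a i % 4) (m + 2)) (Nat.shiftLeft 1 i) 0) fun c =>
    and' (isCW c) (and' (allLT 24 fun i => eqZ (getL 0 a i % 4) (ite' (tb c i) (m + 2) m))
      (eqZ (dotZ ones24 a % 8) (4 * m)))) (getL 0 a 0 % 2)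

theorem mem_of_isLee {a : List ℤ} (h : isLee a = true) : vecOf a ∈ leechLattice := by
  simp only [isLee, force_eq, and'_eq_true, allLT_iff, eqZ_iff, ite'_eq, tb_eq] at h
  obtain ⟨h1, h2, h3⟩ := h
  refine mem_leech_iff.2 ⟨getL 0 a 0 % 2, Int.emod_two_eq_zero_or_one _, _, setOf'_mem_codeSets h1,
    fun p => ?_, ?_⟩
  · simp only [mem_setOf']; exact h2 _ (ix_lt p)
  · rw [← h3, dotZ_eq _ _ (n := 24) (Or.inl (by decide))]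
    have : ∀ i < 24, getL 0 ones24 i = 1 := by decide +kernel
    rw [sum_congr rfl (g := fun i => getL 0 a i) fun i hi => by rw [this i (mem_range.1 hi), one_mul],
      ← sum_ix]
    rfl

/-- The basis. -/
def Bm : List (List ℤ) :=
 [[2, 0, 0, 0, 0, 0, 0, 0, 0, 0, 0, 0, 2, 0, 2, 0, 2, 2, 2, 0, 0, 0, 2, 2],
  [0, 2, 0, 0, 0, 0, 0, 0, 0, 0, 0, 0, 2, 2, 2, 2, 2, 0, 0, 2, 0, 0, 2, 0],
  [0, 0, 2, 0, 0, 0, 0, 0, 0, 0, 0, 0, 2, 2, 0, 2, 0, 0, 2, 0, 2, 0, 2, 2],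
  [0, 0, 0, 2, 0, 0, 0, 0, 0, 0, 0, 0, 2, 2, 0, 0, 0, 2, 2, 2, 0, 2, 2, 0],
  [0, 0, 0, 0, 2, 0, 0, 0, 0, 0, 0, 0, 2, 2, 0, 0, 2, 2, 0, 2, 2, 0, 0, 2],
  [0, 0, 0, 0, 0, 2, 0, 0, 0, 0, 0, 0, 0, 2, 2, 0, 0, 2, 2, 0, 2, 2, 0, 2],
  [0, 0, 0, 0, 0, 0, 2, 0, 0, 0, 0, 0, 0, 0, 2, 2, 0, 0, 2, 2, 0, 2, 2, 2],
  [0, 0, 0, 0, 0, 0, 0, 2, 0, 0, 0, 0, 2, 0, 2, 2, 0, 2, 2, 2, 2, 0, 0, 0],
  [0, 0, 0, 0, 0, 0, 0, 0, 2, 0, 0, 0, 0, 2, 0, 2, 2, 0, 2, 2, 2, 2, 0, 0],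
  [0, 0, 0, 0, 0, 0, 0, 0, 0, 2, 0, 0, 0, 0, 2, 0, 2, 2, 0, 2, 2, 2, 2, 0],
  [0, 0, 0, 0, 0, 0, 0, 0, 0, 0, 2, 0, 2, 0, 2, 2, 2, 0, 0, 0, 2, 2, 0, 2],
  [1, 1, 1, 1, 1, 1, 1, 1, 1, 1, 1, 1, 1, 1, 1, 1, 1, 1, 1, 1, 1, 1, 1, -3],
  [0, 0, 0, 0, 0, 0, 0, 0, 0, 0, 0, 0, 4, 0, 0, 0, 0, 0, 0, 0, 0, 0, 0, 4],
  [0, 0, 0, 0, 0, 0, 0, 0, 0, 0, 0, 0, 0, 4, 0, 0, 0, 0, 0, 0, 0, 0, 0, 4],
  [0, 0, 0, 0, 0, 0, 0, 0, 0, 0, 0, 0, 0, 0, 4, 0, 0, 0, 0, 0, 0, 0, 0, 4],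
  [0, 0, 0, 0, 0, 0, 0, 0, 0, 0, 0, 0, 0, 0, 0, 4, 0, 0, 0, 0, 0, 0, 0, 4],
  [0, 0, 0, 0, 0, 0, 0, 0, 0, 0, 0, 0, 0, 0, 0, 0, 4, 0, 0, 0, 0, 0, 0, 4],
  [0, 0, 0, 0, 0, 0, 0, 0, 0, 0, 0, 0, 0, 0, 0, 0, 0, 4, 0, 0, 0, 0, 0, 4],
  [0, 0, 0, 0, 0, 0, 0, 0, 0, 0, 0, 0, 0, 0, 0, 0, 0, 0, 4, 0, 0, 0, 0, 4],
  [0, 0, 0, 0, 0, 0, 0, 0, 0, 0, 0, 0, 0, 0, 0, 0, 0, 0, 0, 4, 0, 0, 0, 4],
  [0, 0, 0, 0, 0, 0, 0, 0, 0, 0, 0, 0, 0, 0, 0, 0, 0, 0, 0, 0, 4, 0, 0, 4],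
  [0, 0, 0, 0, 0, 0, 0, 0, 0, 0, 0, 0, 0, 0, 0, 0, 0, 0, 0, 0, 0, 4, 0, 4],
  [0, 0, 0, 0, 0, 0, 0, 0, 0, 0, 0, 0, 0, 0, 0, 0, 0, 0, 0, 0, 0, 0, 4, 4],
  [0, 0, 0, 0, 0, 0, 0, 0, 0, 0, 0, 0, 0, 0, 0, 0, 0, 0, 0, 0, 0, 0, 0, 8]]

/-- The dual basis. -/
def Dm : List (List ℤ) :=
 [[4, 0, 0, 0, 0, 0, 0, 0, 0, 0, 0, -4, 0, 0, 0, 0, 0, 0, 0, 0, 0, 0, 0, 0],
  [0, 4, 0, 0, 0, 0, 0, 0, 0, 0, 0, -4, 0, 0, 0, 0, 0, 0, 0, 0, 0, 0, 0, 0],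
  [0, 0, 4, 0, 0, 0, 0, 0, 0, 0, 0, -4, 0, 0, 0, 0, 0, 0, 0, 0, 0, 0, 0, 0],
  [0, 0, 0, 4, 0, 0, 0, 0, 0, 0, 0, -4, 0, 0, 0, 0, 0, 0, 0, 0, 0, 0, 0, 0],
  [0, 0, 0, 0, 4, 0, 0, 0, 0, 0, 0, -4, 0, 0, 0, 0, 0, 0, 0, 0, 0, 0, 0, 0],
  [0, 0, 0, 0, 0, 4, 0, 0, 0, 0, 0, -4, 0, 0, 0, 0, 0, 0, 0, 0, 0, 0, 0, 0],
  [0, 0, 0, 0, 0, 0, 4, 0, 0, 0, 0, -4, 0, 0, 0, 0, 0, 0, 0, 0, 0, 0, 0, 0],
  [0, 0, 0, 0, 0, 0, 0, 4, 0, 0, 0, -4, 0, 0, 0, 0, 0, 0, 0, 0, 0, 0, 0, 0],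
  [0, 0, 0, 0, 0, 0, 0, 0, 4, 0, 0, -4, 0, 0, 0, 0, 0, 0, 0, 0, 0, 0, 0, 0],
  [0, 0, 0, 0, 0, 0, 0, 0, 0, 4, 0, -4, 0, 0, 0, 0, 0, 0, 0, 0, 0, 0, 0, 0],
  [0, 0, 0, 0, 0, 0, 0, 0, 0, 0, 4, -4, 0, 0, 0, 0, 0, 0, 0, 0, 0, 0, 0, 0],
  [0, 0, 0, 0, 0, 0, 0, 0, 0, 0, 0, 8, 0, 0, 0, 0, 0, 0, 0, 0, 0, 0, 0, 0],
  [-2, -2, -2, -2, -2, 0, 0, -2, 0, 0, -2, 12, 2, 0, 0, 0, 0, 0, 0, 0, 0, 0, 0, 0],
  [0, -2, -2, -2, -2, -2, 0, 0, -2, 0, 0, 10, 0, 2, 0, 0, 0, 0, 0, 0, 0, 0, 0, 0],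
  [-2, -2, 0, 0, 0, -2, -2, -2, 0, -2, -2, 12, 0, 0, 2, 0, 0, 0, 0, 0, 0, 0, 0, 0],
  [0, -2, -2, 0, 0, 0, -2, -2, -2, 0, -2, 10, 0, 0, 0, 2, 0, 0, 0, 0, 0, 0, 0, 0],
  [-2, -2, 0, 0, -2, 0, 0, 0, -2, -2, -2, 10, 0, 0, 0, 0, 2, 0, 0, 0, 0, 0, 0, 0],
  [-2, 0, 0, -2, -2, -2, 0, -2, 0, -2, 0, 10, 0, 0, 0, 0, 0, 2, 0, 0, 0, 0, 0, 0],
  [-2, 0, -2, -2, 0, -2, -2, -2, -2, 0, 0, 12, 0, 0, 0, 0, 0, 0, 2, 0, 0, 0, 0, 0],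
  [0, -2, 0, -2, -2, 0, -2, -2, -2, -2, 0, 12, 0, 0, 0, 0, 0, 0, 0, 2, 0, 0, 0, 0],
  [0, 0, -2, 0, -2, -2, 0, -2, -2, -2, -2, 12, 0, 0, 0, 0, 0, 0, 0, 0, 2, 0, 0, 0],
  [0, 0, 0, -2, 0, -2, -2, 0, -2, -2, -2, 10, 0, 0, 0, 0, 0, 0, 0, 0, 0, 2, 0, 0],
  [-2, -2, -2, -2, 0, 0, -2, 0, 0, -2, 0, 10, 0, 0, 0, 0, 0, 0, 0, 0, 0, 0, 2, 0],
  [5, 7, 5, 7, 5, 5, 5, 7, 7, 7, 5, -51, -1, -1, -1, -1, -1, -1, -1, -1, -1, -1, -1, 1]]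

/-- The transposed basis matrix. -/
def BT : List (List ℤ) :=
 [[2, 0, 0, 0, 0, 0, 0, 0, 0, 0, 0, 1, 0, 0, 0, 0, 0, 0, 0, 0, 0, 0, 0, 0],
  [0, 2, 0, 0, 0, 0, 0, 0, 0, 0, 0, 1, 0, 0, 0, 0, 0, 0, 0, 0, 0, 0, 0, 0],
  [0, 0, 2, 0, 0, 0, 0, 0, 0, 0, 0, 1, 0, 0, 0, 0, 0, 0, 0, 0, 0, 0, 0, 0],
  [0, 0, 0, 2, 0, 0, 0, 0, 0, 0, 0, 1, 0, 0, 0, 0, 0, 0, 0, 0, 0, 0, 0, 0],
  [0, 0, 0, 0, 2, 0, 0, 0, 0, 0, 0, 1, 0, 0, 0, 0, 0, 0, 0, 0, 0, 0, 0, 0],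
  [0, 0, 0, 0, 0, 2, 0, 0, 0, 0, 0, 1, 0, 0, 0, 0, 0, 0, 0, 0, 0, 0, 0, 0],
  [0, 0, 0, 0, 0, 0, 2, 0, 0, 0, 0, 1, 0, 0, 0, 0, 0, 0, 0, 0, 0, 0, 0, 0],
  [0, 0, 0, 0, 0, 0, 0, 2, 0, 0, 0, 1, 0, 0, 0, 0, 0, 0, 0, 0, 0, 0, 0, 0],
  [0, 0, 0, 0, 0, 0, 0, 0, 2, 0, 0, 1, 0, 0, 0, 0, 0, 0, 0, 0, 0, 0, 0, 0],
  [0, 0, 0, 0, 0, 0, 0, 0, 0, 2, 0, 1, 0, 0, 0, 0, 0, 0, 0, 0, 0, 0, 0, 0],
  [0, 0, 0, 0, 0, 0, 0, 0, 0, 0, 2, 1, 0, 0, 0, 0, 0, 0, 0, 0, 0, 0, 0, 0],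
  [0, 0, 0, 0, 0, 0, 0, 0, 0, 0, 0, 1, 0, 0, 0, 0, 0, 0, 0, 0, 0, 0, 0, 0],
  [2, 2, 2, 2, 2, 0, 0, 2, 0, 0, 2, 1, 4, 0, 0, 0, 0, 0, 0, 0, 0, 0, 0, 0],
  [0, 2, 2, 2, 2, 2, 0, 0, 2, 0, 0, 1, 0, 4, 0, 0, 0, 0, 0, 0, 0, 0, 0, 0],
  [2, 2, 0, 0, 0, 2, 2, 2, 0, 2, 2, 1, 0, 0, 4, 0, 0, 0, 0, 0, 0, 0, 0, 0],
  [0, 2, 2, 0, 0, 0, 2, 2, 2, 0, 2, 1, 0, 0, 0, 4, 0, 0, 0, 0, 0, 0, 0, 0],
  [2, 2, 0, 0, 2, 0, 0, 0, 2, 2, 2, 1, 0, 0, 0, 0, 4, 0, 0, 0, 0, 0, 0, 0],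
  [2, 0, 0, 2, 2, 2, 0, 2, 0, 2, 0, 1, 0, 0, 0, 0, 0, 4, 0, 0, 0, 0, 0, 0],
  [2, 0, 2, 2, 0, 2, 2, 2, 2, 0, 0, 1, 0, 0, 0, 0, 0, 0, 4, 0, 0, 0, 0, 0],
  [0, 2, 0, 2, 2, 0, 2, 2, 2, 2, 0, 1, 0, 0, 0, 0, 0, 0, 0, 4, 0, 0, 0, 0],
  [0, 0, 2, 0, 2, 2, 0, 2, 2, 2, 2, 1, 0, 0, 0, 0, 0, 0, 0, 0, 4, 0, 0, 0],
  [0, 0, 0, 2, 0, 2, 2, 0, 2, 2, 2, 1, 0, 0, 0, 0, 0, 0, 0, 0, 0, 4, 0, 0],
  [2, 2, 2, 2, 0, 0, 2, 0, 0, 2, 0, 1, 0, 0, 0, 0, 0, 0, 0, 0, 0, 0, 4, 0],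
  [2, 0, 2, 0, 2, 2, 2, 0, 0, 0, 2, -3, 4, 4, 4, 4, 4, 4, 4, 4, 4, 4, 4, 8]]

/-- The Gram matrix. -/
def Gm : List (List ℤ) :=
 [[4, 2, 2, 2, 2, 2, 2, 2, 1, 2, 2, 1, 2, 1, 2, 1, 2, 2, 2, 1, 1, 1, 2, 2],
  [2, 4, 2, 2, 2, 1, 2, 2, 2, 2, 2, 2, 1, 1, 1, 1, 1, 0, 0, 1, 0, 0, 1, 0],
  [2, 2, 4, 2, 2, 2, 2, 2, 2, 1, 2, 1, 2, 2, 1, 2, 1, 1, 2, 1, 2, 1, 2, 2],
  [2, 2, 2, 4, 2, 2, 2, 2, 2, 2, 1, 2, 1, 1, 0, 0, 0, 1, 1, 1, 0, 1, 1, 0],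
  [2, 2, 2, 2, 4, 2, 1, 2, 2, 2, 2, 1, 2, 2, 1, 1, 2, 2, 1, 2, 2, 1, 1, 2],
  [2, 1, 2, 2, 2, 4, 2, 2, 2, 2, 2, 1, 1, 2, 2, 1, 1, 2, 2, 1, 2, 2, 1, 2],
  [2, 2, 2, 2, 1, 2, 4, 2, 2, 2, 2, 1, 1, 1, 2, 2, 1, 1, 2, 2, 1, 2, 2, 2],
  [2, 2, 2, 2, 2, 2, 2, 4, 2, 2, 2, 2, 1, 0, 1, 1, 0, 1, 1, 1, 1, 0, 0, 0],
  [1, 2, 2, 2, 2, 2, 2, 2, 4, 2, 2, 2, 0, 1, 0, 1, 1, 0, 1, 1, 1, 1, 0, 0],
  [2, 2, 1, 2, 2, 2, 2, 2, 2, 4, 2, 2, 0, 0, 1, 0, 1, 1, 0, 1, 1, 1, 1, 0],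
  [2, 2, 2, 1, 2, 2, 2, 2, 2, 2, 4, 1, 2, 1, 2, 2, 2, 1, 1, 1, 2, 2, 1, 2],
  [1, 2, 1, 2, 1, 1, 1, 2, 2, 2, 1, 4, -1, -1, -1, -1, -1, -1, -1, -1, -1, -1, -1, -3],
  [2, 1, 2, 1, 2, 1, 1, 1, 0, 0, 2, -1, 4, 2, 2, 2, 2, 2, 2, 2, 2, 2, 2, 4],
  [1, 1, 2, 1, 2, 2, 1, 0, 1, 0, 1, -1, 2, 4, 2, 2, 2, 2, 2, 2, 2, 2, 2, 4],
  [2, 1, 1, 0, 1, 2, 2, 1, 0, 1, 2, -1, 2, 2, 4, 2, 2, 2, 2, 2, 2, 2, 2, 4],
  [1, 1, 2, 0, 1, 1, 2, 1, 1, 0, 2, -1, 2, 2, 2, 4, 2, 2, 2, 2, 2, 2, 2, 4],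
  [2, 1, 1, 0, 2, 1, 1, 0, 1, 1, 2, -1, 2, 2, 2, 2, 4, 2, 2, 2, 2, 2, 2, 4],
  [2, 0, 1, 1, 2, 2, 1, 1, 0, 1, 1, -1, 2, 2, 2, 2, 2, 4, 2, 2, 2, 2, 2, 4],
  [2, 0, 2, 1, 1, 2, 2, 1, 1, 0, 1, -1, 2, 2, 2, 2, 2, 2, 4, 2, 2, 2, 2, 4],
  [1, 1, 1, 1, 2, 1, 2, 1, 1, 1, 1, -1, 2, 2, 2, 2, 2, 2, 2, 4, 2, 2, 2, 4],
  [1, 0, 2, 0, 2, 2, 1, 1, 1, 1, 2, -1, 2, 2, 2, 2, 2, 2, 2, 2, 4, 2, 2, 4],
  [1, 0, 1, 1, 1, 2, 2, 0, 1, 1, 2, -1, 2, 2, 2, 2, 2, 2, 2, 2, 2, 4, 2, 4],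
  [2, 1, 2, 1, 1, 1, 2, 0, 0, 1, 1, -1, 2, 2, 2, 2, 2, 2, 2, 2, 2, 2, 4, 4],
  [2, 0, 2, 0, 2, 2, 2, 0, 0, 0, 2, -3, 4, 4, 4, 4, 4, 4, 4, 4, 4, 4, 4, 8]]

theorem Bm_lee : allLT 24 (fun k => and' (isLee (getL [] Bm k)) (isLee (getL [] Dm k))) = true := by
  decide +kernel

theorem Bm_chk : allLT 24 (fun k => and' (Nat.ble (getL [] Bm k).length 24)
    (and' (Nat.ble (getL [] Gm k).length 24) (and' (Nat.ble (getL [] BT k).length 24)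
    (allLT 24 fun l =>
    and' (eqZ (dotZ (getL [] Bm k) (getL [] Bm l)) (8 * ent Gm k l))
    (and' (eqZ (dotZ (getL [] Bm k) (getL [] Dm l)) (ite' (Nat.beq k l) 8 0))
    (and' (eqZ (ent BT k l) (ent Bm l k))
    (eqZ (dotZ (getL [] BT k) (colZ Dm l)) (ite' (Nat.beq k l) 8 0)))))))) = true := by
  decide +kernel

/-- The basis vectors. -/
noncomputable def bas (k : Fin 24) : leechLattice :=
  ⟨vecOf (getL [] Bm k), mem_of_isLee ((and'_eq_true _ _).1 ((allLT_iff _ _).1 Bm_lee k k.2)).1⟩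

/-- The dual basis vectors. -/
noncomputable def dbas (k : Fin 24) : leechLattice :=
  ⟨vecOf (getL [] Dm k), mem_of_isLee ((and'_eq_true _ _).1 ((allLT_iff _ _).1 Bm_lee k k.2)).2⟩

theorem Bm_spec {k l : ℕ} (hk : k < 24) (hl : l < 24) : (getL [] Bm k).length ≤ 24 ∧
    (getL [] Gm k).length ≤ 24 ∧ (getL [] BT k).length ≤ 24 ∧
    dotZ (getL [] Bm k) (getL [] Bm l) = 8 * ent Gm k l ∧
    dotZ (getL [] Bm k) (getL [] Dm l) = (if k = l then 8 else 0) ∧ ent BT k l = ent Bm l k ∧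
    dotZ (getL [] BT k) (colZ Dm l) = (if k = l then 8 else 0) := by
  have h := Bm_chk
  simp only [and'_eq_true, allLT_iff, eqZ_iff, ite'_eq, beq_iff, ble_iff] at h
  obtain ⟨a, b, c, d⟩ := h k hk
  exact ⟨a, b, c, d l hl⟩

theorem dot_bas (k l : Fin 24) :
    dotInt (bas k : GolayPt → ℤ) (bas l : GolayPt → ℤ) = 8 * ent Gm k l := by
  have := Bm_spec k.2 l.2
  rw [← this.2.2.2.1]; exact dotInt_vecOf _ _ (Or.inl this.1)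

theorem dot_bas_dbas (k l : Fin 24) :
    dotInt (bas k : GolayPt → ℤ) (dbas l : GolayPt → ℤ) = if k = l then 8 else 0 := by
  have := Bm_spec k.2 l.2
  simp only [Fin.ext_iff]
  rw [← this.2.2.2.2.1]; exact dotInt_vecOf _ _ (Or.inl this.1)

theorem sum_bas_dbas (p q : GolayPt) : ∑ k : Fin 24, (bas k : GolayPt → ℤ) p * (dbas k : GolayPt → ℤ) q =
    if p = q then 8 else 0 := by
  have := Bm_spec (ix_lt p) (ix_lt q)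
  simp only [← ix_injective.eq_iff]
  rw [← this.2.2.2.2.2.2, dotZ_eq_fin _ _ (Or.inl this.2.2.1)]
  refine sum_congr rfl fun k _ => ?_
  rw [toF, toF, getL_colZ]
  exact congrArg (· * _) (Bm_spec (ix_lt p) k.2).2.2.2.2.2.1.symm

/-- Coordinates with respect to the basis. -/
noncomputable def emb : (Fin 24 → ℤ) →ₗ[ℤ] leechLattice := Fintype.linearCombination ℤ bas

theorem emb_apply (x : Fin 24 → ℤ) : emb x = ∑ k, x k • bas k := Fintype.linearCombination_apply _ _ _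

theorem emb_coord (x : Fin 24 → ℤ) (p : GolayPt) :
    (emb x : GolayPt → ℤ) p = ∑ k, x k * (bas k : GolayPt → ℤ) p := by
  rw [emb_apply, AddSubgroup.val_finset_sum, Finset.sum_apply]
  simp

theorem emb_toF (a : List ℤ) (p : GolayPt) :
    (emb (toF a) : GolayPt → ℤ) p = dotZ (getL [] BT (ix p)) a := by
  rw [emb_coord, dotZ_eq_fin _ _ (Or.inl (Bm_spec (ix_lt p) (ix_lt p)).2.2.1)]
  refine sum_congr rfl fun k _ => ?_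
  rw [mul_comm]
  exact congrArg (· * _) (Bm_spec (ix_lt p) k.2).2.2.2.2.2.1.symm

theorem dot_emb_left (x : Fin 24 → ℤ) (v : leechLattice) :
    dotInt (emb x : GolayPt → ℤ) v = ∑ k, x k * dotInt (bas k : GolayPt → ℤ) v := by
  rw [← dotForm_apply, emb_apply, map_sum, LinearMap.sum_apply]
  simp [dotForm_apply]

theorem dot_emb_dbas (x : Fin 24 → ℤ) (l : Fin 24) :
    dotInt (emb x : GolayPt → ℤ) (dbas l : GolayPt → ℤ) = 8 * x l := by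
  rw [dot_emb_left]
  simp [dot_bas_dbas, mul_comm]

theorem emb_injective : Function.Injective emb := by
  intro x y h
  funext l
  have := dot_emb_dbas x l
  rw [h, dot_emb_dbas] at this
  omega

theorem emb_surjective : Function.Surjective emb := by
  intro v
  refine ⟨fun k => dotInt (v : GolayPt → ℤ) (dbas k : GolayPt → ℤ) / 8, ?_⟩
  apply Subtype.ext; funext p
  rw [emb_coord]
  have h : ∀ k, 8 * (dotInt (v : GolayPt → ℤ) (dbas k : GolayPt → ℤ) / 8 * (bas k : GolayPt → ℤ) p) =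
      ∑ q, (v : GolayPt → ℤ) q * ((bas k : GolayPt → ℤ) p * (dbas k : GolayPt → ℤ) q) := by
    intro k
    rw [← mul_assoc, Int.mul_ediv_cancel' (Int.dvd_of_emod_eq_zero (eight_dvd_dotInt v.2 (dbas k).2)),
      dotInt, sum_mul]
    exact sum_congr rfl fun q _ => by ring
  apply mul_left_cancel₀ (show (8 : ℤ) ≠ 0 by norm_num)
  rw [mul_sum, sum_congr rfl fun k _ => h k, sum_comm]
  simp only [← mul_sum, sum_bas_dbas]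
  simp [mul_comm]

/-- The coordinate isomorphism. -/
noncomputable def embEquiv : (Fin 24 → ℤ) ≃ₗ[ℤ] leechLattice :=
  LinearEquiv.ofBijective emb ⟨emb_injective, emb_surjective⟩

theorem dot_emb (x y : Fin 24 → ℤ) : dotInt (emb x : GolayPt → ℤ) (emb y : GolayPt → ℤ) =
    8 * ∑ k : Fin 24, x k * ∑ l : Fin 24, ent Gm k l * y l := by
  rw [dot_emb_left, mul_sum]
  refine sum_congr rfl fun k _ => ?_
  rw [dotInt_comm, dot_emb_left, mul_left_comm, mul_sum, mul_sum, mul_sum]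
  refine sum_congr rfl fun l _ => ?_
  rw [dotInt_comm, dot_bas]; ring

theorem finite_norm' (n : ℤ) : {x : leechLattice | sqNorm (x : GolayPt → ℤ) = n}.Finite := by
  apply Set.Finite.of_finite_image (f := Subtype.val) _ Subtype.val_injective.injOn
  refine (Set.Finite.pi (t := fun _ => Set.Icc (-n) n) fun _ => Set.finite_Icc _ _).subset ?_
  rintro _ ⟨x, hx, rfl⟩ i -
  have a := sq_le_sqNorm (x : GolayPt → ℤ) i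
  rw [show sqNorm (x : GolayPt → ℤ) = n from hx] at a
  constructor <;> nlinarith [sq_nonneg ((x : GolayPt → ℤ) i + 1), sq_nonneg ((x : GolayPt → ℤ) i - 1),
    sq_nonneg ((x : GolayPt → ℤ) i)]

/-- A norm-preserving additive map of the lattice lies in `Co0`. -/
theorem exists_co0_of_hom (φ : leechLattice →+ leechLattice)
    (h : ∀ v, sqNorm ((φ v : leechLattice) : GolayPt → ℤ) = sqNorm (v : GolayPt → ℤ)) :
    ∃ g : Co0, ∀ v, g • v = φ v := by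
  have hinj : Function.Injective φ := by
    rw [injective_iff_map_eq_zero]
    intro v hv
    have := h v
    rw [hv] at this
    exact Subtype.ext (sqNorm_eq_zero (by rw [← this]; simp [sqNorm]))
  have hsurj : Function.Surjective φ := by
    intro y
    have hf := finite_norm' (sqNorm (y : GolayPt → ℤ))
    obtain ⟨x, -, hx⟩ := (hf.injOn_iff_bijOn_of_mapsTo (f := φ)
      (fun x hx => (h x).trans hx)).1 hinj.injOn |>.surjOn (show y ∈ _ from rfl)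
    exact ⟨x, hx⟩
  exact ⟨ofAddEquiv (AddEquiv.ofBijective φ ⟨hinj, hsurj⟩) h, fun _ => rfl⟩

/-- The linear map with rows `C`: the `k`-th basis vector goes to `C k`. -/
noncomputable def rowMap (C : List (List ℤ)) (x : Fin 24 → ℤ) : Fin 24 → ℤ :=
  fun l => ∑ k : Fin 24, x k * ent C k l

/-- The matrix `C` preserves the Gram matrix (`W` is the product with the Gram matrix). -/
noncomputable def chkIso (C W : List (List ℤ)) : Bool :=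
  allLT 24 fun k => and' (Nat.ble (getL [] C k).length 24) (allLT 24 fun l =>
    and' (eqZ (getL 0 (getL [] W k) l) (dotZ (getL [] Gm l) (getL [] C k)))
      (eqZ (dotZ (getL [] C l) (getL [] W k)) (ent Gm l k)))

theorem exists_co0 {C W : List (List ℤ)} (h : chkIso C W = true) :
    ∃ g : Co0, ∀ x, g • emb x = emb (rowMap C x) := by
  simp only [chkIso, and'_eq_true, allLT_iff, eqZ_iff, ble_iff] at h
  let c : Fin 24 → leechLattice := fun k => emb (toF (getL [] C k))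
  have hc : ∀ k l : Fin 24, dotInt (c l : GolayPt → ℤ) (c k : GolayPt → ℤ) =
      dotInt (bas l : GolayPt → ℤ) (bas k : GolayPt → ℤ) := by
    intro k l
    rw [dot_emb, dot_bas, ← ((h k k.2).2 l l.2).2, dotZ_eq_fin _ _ (Or.inl (h l l.2).1)]
    congr 1
    refine sum_congr rfl fun j _ => ?_
    congr 1
    rw [toF, ((h k k.2).2 j j.2).1, dotZ_eq_fin _ _ (Or.inr (h k k.2).1)]
    rfl
  let ψ : (Fin 24 → ℤ) →ₗ[ℤ] leechLattice := Fintype.linearCombination ℤ c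
  have hψ : ∀ x, ψ x = emb (rowMap C x) := by
    intro x
    rw [Fintype.linearCombination_apply]
    simp only [c, ← map_smul, ← map_sum]
    refine congrArg emb (funext fun l => ?_)
    rw [Finset.sum_apply]; rfl
  have hd : ∀ x, sqNorm (ψ x : GolayPt → ℤ) = sqNorm (emb x : GolayPt → ℤ) := by
    intro x
    rw [← dotInt_self, ← dotInt_self, ← dotForm_apply, ← dotForm_apply, emb_apply,
      Fintype.linearCombination_apply]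
    simp only [map_sum, map_smul, LinearMap.sum_apply, LinearMap.smul_apply, dotForm_apply, hc]
  obtain ⟨g, hg⟩ := exists_co0_of_hom (ψ.comp embEquiv.symm.toLinearMap).toAddMonoidHom (fun v => by
    obtain ⟨x, rfl⟩ := embEquiv.surjective v
    simpa using (show sqNorm (ψ x : GolayPt → ℤ) = sqNorm (embEquiv x : GolayPt → ℤ) from hd x))
  refine ⟨g, fun x => ?_⟩
  rw [hg, ← hψ]
  exact congrArg ψ (embEquiv.symm_apply_apply x)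

/-- The element of `Co0` with matrix `C`. -/
noncomputable def elt (C W : List (List ℤ)) (h : chkIso C W = true) : Co0 :=
  Classical.choose (exists_co0 h)

theorem elt_smul (C W : List (List ℤ)) (h : chkIso C W = true) (x : Fin 24 → ℤ) :
    elt C W h • emb x = emb (rowMap C x) := Classical.choose_spec (exists_co0 h) x

/-- The matrix `C` maps the coefficient list `a` to `b`. -/
noncomputable def chkMap (C : List (List ℤ)) (a b : List ℤ) : Bool :=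
  and' (Nat.ble a.length 24) (allLT 24 fun l => eqZ (dotZ a (colZ C l)) (getL 0 b l))

theorem elt_map {C W : List (List ℤ)} (h : chkIso C W = true) {a b : List ℤ}
    (hm : chkMap C a b = true) : elt C W h • emb (toF a) = emb (toF b) := by
  simp only [chkMap, and'_eq_true, allLT_iff, eqZ_iff, ble_iff] at hm
  rw [elt_smul]
  congr 1; funext l
  rw [toF, ← hm.2 l l.2, dotZ_eq_fin _ _ (Or.inl hm.1)]
  exact sum_congr rfl fun k _ => by rw [toF, toF, getL_colZ]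

/-- The inner product (divided by 8) of two coefficient lists. -/
noncomputable def ipZ (a b : List ℤ) : ℤ := dotZ (mapR (fun r => dotZ r b) Gm) a

theorem dot_emb_toF (a b : List ℤ) :
    dotInt (emb (toF a) : GolayPt → ℤ) (emb (toF b) : GolayPt → ℤ) = 8 * ipZ a b := by
  rw [dot_emb, ipZ, dotZ_eq_fin _ _ (Or.inl (by rw [mapR_eq, List.length_map]; decide))]
  congr 1
  refine sum_congr rfl fun k _ => ?_
  rw [mul_comm]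
  congr 1
  have hk : (k : ℕ) < Gm.length := k.2
  rw [toF, mapR_eq, getL_eq, List.getD_eq_getElem _ _ (by simpa using hk), List.getElem_map,
    ← List.getD_eq_getElem _ [] hk, ← getL_eq, dotZ_eq_fin _ _ (Or.inl (Bm_spec k.2 k.2).2.1)]
  rfl

theorem sqNorm_emb_toF (a : List ℤ) : sqNorm (emb (toF a) : GolayPt → ℤ) = 8 * ipZ a a := by
  rw [← dotInt_self, dot_emb_toF]

/-- Coefficients of `leechU`. -/
def cU : List ℤ := [2, 0, 0, 0, 0, 0, 0, 0, 0, 0, 0, 0, -1, 0, -1, 0, -1, -1, -1, 0, 0, 0, -1, 3]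
/-- Coefficients of `leechU'`. -/
def cU' : List ℤ := [-2, 0, 0, 0, 0, 0, 0, 0, 0, 0, 0, 0, 1, 0, 1, 0, 1, 1, 1, 0, 0, 0, 1, -2]
/-- Coefficients of `u5`. -/
def cu5 : List ℤ := [0, 0, 0, 0, 0, 0, 0, 0, 0, 0, 0, 1, 0, 0, 0, 0, 0, 0, 0, 0, 0, 0, 0, 1]

theorem emb_cU : emb (toF cU) = leechU := by
  apply Subtype.ext; funext p; rw [emb_toF]; revert p; decide +kernel
theorem emb_cU' : emb (toF cU') = leechU' := by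
  apply Subtype.ext; funext p; rw [emb_toF]; revert p; decide +kernel
theorem emb_cu5 : emb (toF cu5) = u5 := by
  apply Subtype.ext; funext p; rw [emb_toF]; revert p; decide +kernel
theorem emb_nil : emb (toF []) = 0 := by
  rw [← map_zero emb]; congr 1

end Cfsg.Agent.Spor.Leech
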