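import Cfsg.Agent.Comp.MatSL

set_option autoImplicit false
set_option maxRecDepth 4096

namespace Cfsg.Agent.Spor.ModelL34

open Cfsg.Agent.Comp

noncomputable def ns_0 : Net :=
 (Net.cons (nat_lit 16) 1028
 (Net.cons (nat_lit 8) 262322
 (Net.cons (nat_lit 4) 524811
 (Net.cons (nat_lit 2) (nat_lit 0x212031)
 (Net.cons (nat_lit 1) (nat_lit 0x101014)
 (Net.cons (nat_lit 2) (nat_lit 0x202020)
 (Net.cons (nat_lit 4) 524292
 (Net.cons (nat_lit 8) 262288
 (Net.cons (nat_lit 16) 1028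
 Net.nil)))))))))

noncomputable def ns_1 : Net :=
 (Net.cons (nat_lit 16) 62240
 (Net.cons (nat_lit 8) (nat_lit 0x2c00c0)
 (Net.cons (nat_lit 4) (nat_lit 0x7030400)
 (Net.cons (nat_lit 2) (nat_lit 0x33000000)
 (Net.cons (nat_lit 1) (nat_lit 0x5104005)
 (Net.cons (nat_lit 4) (nat_lit 0x8000800)
 (Net.cons (nat_lit 8) (nat_lit 0x2c00c0)
 (Net.cons (nat_lit 16) 62240
 Net.nil))))))))

noncomputable def ns_2 : Net :=
 (Net.cons (nat_lit 16) 65054
 (Net.cons (nat_lit 8) (nat_lit 0xfe007c)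
 (Net.cons (nat_lit 4) (nat_lit 0xa060708)
 (Net.cons (nat_lit 2) (nat_lit 0x330202)
 (Net.cons (nat_lit 1) (nat_lit 0x10150500)
 (Net.cons (nat_lit 2) (nat_lit 0x20200000)
 (Net.cons (nat_lit 4) (nat_lit 0xa000208)
 (Net.cons (nat_lit 8) (nat_lit 0xe0007c)
 (Net.cons (nat_lit 16) 65024
 Net.nil)))))))))

noncomputable def ns_3 : Net :=
 (Net.cons (nat_lit 16) 65534
 (Net.cons (nat_lit 8) (nat_lit 0x1f0000)
 (Net.cons (nat_lit 4) (nat_lit 0x2000002)
 (Net.cons (nat_lit 2) (nat_lit 0x320000)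
 (Net.cons (nat_lit 1) (nat_lit 0x41410014)
 (Net.cons (nat_lit 2) (nat_lit 0x200000)
 (Net.cons (nat_lit 4) (nat_lit 0x20c0002)
 (Net.cons (nat_lit 8) (nat_lit 0xe00000)
 (Net.cons (nat_lit 16) 65504
 Net.nil)))))))))

noncomputable def ns_4 : Net :=
 (Net.cons (nat_lit 16) 7254
 (Net.cons (nat_lit 8) (nat_lit 0x1000b1)
 (Net.cons (nat_lit 4) (nat_lit 0xc010702)
 (Net.cons (nat_lit 2) (nat_lit 0x10112301)
 (Net.cons (nat_lit 1) (nat_lit 0x40011405)
 (Net.cons (nat_lit 2) 131584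
 (Net.cons (nat_lit 4) (nat_lit 0xc000400)
 (Net.cons (nat_lit 8) (nat_lit 0x100030)
 (Net.cons (nat_lit 16) 7244
 Net.nil)))))))))

noncomputable def ns_5 : Net :=
 (Net.cons (nat_lit 16) 65024
 (Net.cons (nat_lit 8) (nat_lit 0xfe0000)
 (Net.cons (nat_lit 4) 983050
 (Net.cons (nat_lit 2) (nat_lit 0x2220032)
 (Net.cons (nat_lit 1) (nat_lit 0x4440014)
 (Net.cons (nat_lit 2) 32
 (Net.cons (nat_lit 4) 6
 (Net.cons (nat_lit 8) (nat_lit 0xe00000)
 (Net.cons (nat_lit 16) 65024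
 Net.nil)))))))))

noncomputable def ns_6 : Net :=
 (Net.cons (nat_lit 16) 57344
 (Net.cons (nat_lit 8) (nat_lit 0xe000e0)
 (Net.cons (nat_lit 4) 657920
 (Net.cons (nat_lit 2) (nat_lit 0x333300)
 (Net.cons (nat_lit 8) (nat_lit 0xe000e0)
 (Net.cons (nat_lit 16) 57344
 Net.nil))))))

noncomputable def ns_7 : Net :=
 (Net.cons (nat_lit 16) 640
 (Net.cons (nat_lit 8) (nat_lit 0x1a000c)
 (Net.cons (nat_lit 4) (nat_lit 0xa080e0c)
 (Net.cons (nat_lit 2) 4096
 (Net.cons (nat_lit 1) (nat_lit 0x10014110)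
 (Net.cons (nat_lit 2) (nat_lit 0x20020220)
 (Net.cons (nat_lit 4) (nat_lit 0xa080608)
 (Net.cons (nat_lit 8) (nat_lit 0x1a0074)
 (Net.cons (nat_lit 16) 640
 Net.nil)))))))))

noncomputable def ns_8 : Net :=
 (Net.cons (nat_lit 16) 19456
 (Net.cons (nat_lit 8) (nat_lit 0x5e000a)
 (Net.cons (nat_lit 4) (nat_lit 0x804010c)
 (Net.cons (nat_lit 2) (nat_lit 0x22032012)
 (Net.cons (nat_lit 1) (nat_lit 0x14011110)
 (Net.cons (nat_lit 2) (nat_lit 0x22022000)
 (Net.cons (nat_lit 4) (nat_lit 0x8000a08)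
 (Net.cons (nat_lit 8) (nat_lit 0x5e0088)
 (Net.cons (nat_lit 16) 19456
 Net.nil)))))))))

noncomputable def ns_9 : Net :=
 (Net.cons (nat_lit 16) 8192
 (Net.cons (nat_lit 8) (nat_lit 0x200020)
 (Net.cons (nat_lit 4) 197376
 (Net.cons (nat_lit 1) (nat_lit 0x155540)
 (Net.cons (nat_lit 8) (nat_lit 0x200020)
 (Net.cons (nat_lit 16) 8192
 Net.nil))))))

noncomputable def ns_10 : Net :=
 (Net.cons (nat_lit 16) 7712
 (Net.cons (nat_lit 8) (nat_lit 0x1e00c0)
 (Net.cons (nat_lit 4) (nat_lit 0x2030200)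
 (Net.cons (nat_lit 1) (nat_lit 0x14154140)
 (Net.cons (nat_lit 4) (nat_lit 0x2000200)
 (Net.cons (nat_lit 16) 7712
 Net.nil))))))

noncomputable def ns_11 : Net :=
 (Net.cons (nat_lit 16) 16384
 (Net.cons (nat_lit 8) (nat_lit 0x400040)
 (Net.cons (nat_lit 4) 328960
 (Net.cons (nat_lit 2) (nat_lit 0x133320)
 (Net.cons (nat_lit 8) (nat_lit 0x400040)
 (Net.cons (nat_lit 16) 16384
 Net.nil))))))

noncomputable def ns : List Net := [ns_0, ns_1, ns_2, ns_3, ns_4, ns_5, ns_6, ns_7, ns_8, ns_9, ns_10, ns_11]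

theorem ctx : Ctx 32 5 ns := ctx_of (by decide +kernel)

open Cfsg Cfsg.Agent.Comp.Kron Cfsg.Agent.Class
open scoped MatrixGroups

noncomputable def G_C4 : List Lvl :=
  []

noncomputable def G_ss3 : List (List ℕ) :=
  [[18], [12], [20], [22]]

noncomputable def G_D3 : ℕ :=
  nat_lit 0x1fffe0

noncomputable def G_l3 : Lvl :=
  ⟨5, [[18], [12], [20], [22]],
  tabC 13 8191 [nat_lit 0x12065022c1260c5046834019008a06281200960c50028320180000000000000000000], 4⟩

noncomputable def G_C3 : List Lvl :=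
  G_l3 :: G_C4

noncomputable def G_ss2 : List (List ℕ) :=
  [[10], [12], [14]]

noncomputable def G_D2 : ℕ :=
  28

noncomputable def G_l2 : Lvl :=
  ⟨2, [[10], [14], [18], [12], [20], [22]],
  tabA [(4, 512), (3, 513)], 1⟩

noncomputable def G_C2 : List Lvl :=
  G_l2 :: G_C3

noncomputable def G_ss1 : List (List ℕ) :=
  [[4], [6]]

noncomputable def G_D1 : ℕ :=
  nat_lit 0x1ffffe

noncomputable def G_l1 : Lvl :=
  ⟨1, [[4], [6], [16], [10], [14], [18], [12], [20], [22]],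
  tabC 13 8191 [nat_lit 0x102381d040e007086021c0980610148830402061050801c18e0ec023824c0c000000], 3⟩

noncomputable def G_C1 : List Lvl :=
  G_l1 :: G_C2

noncomputable def G_ss0 : List (List ℕ) :=
  [[0], [2]]

noncomputable def G_D0 : ℕ :=
  nat_lit 0x1fffff

noncomputable def G_l0 : Lvl :=
  ⟨0, [[0], [2], [8], [4], [6], [16], [10], [14], [18], [12], [20], [22]],
  tabC 13 8191 [nat_lit 0x1216908000241521268b1414009203906b05821210b083481c00a50b902141c004000], 3⟩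

noncomputable def G_C0 : List Lvl :=
  G_l0 :: G_C1

theorem G_lb4 : 1 ≤ Nat.card (cgrp ns G_C4) :=
  lb_nil _

theorem G_le3 : gen ns G_l3.ws ≤ gen ns G_ss3 :=
  gen_le_step ctx (tgt := [])
  (es := []) (le_refl (gen _ [])) (by decide +kernel)

theorem G_lv3 : chkLvl 32 ns G_l3 G_C4 G_D3 1 = true :=
  by decide +kernel

theorem G_lb3 : 16 ≤ Nat.card (cgrp ns G_C3) :=
  lb_step ctx G_lv3 G_lb4 (by decide +kernel)

theorem G_le2 : gen ns G_l2.ws ≤ gen ns G_ss2 :=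
  gen_le_step ctx (tgt := [[18], [12], [20], [22]])
  (es := [([18], [3, 0, 4]), ([12], [5]), ([20], [5, 9]), ([22], [7, 11, 9, 6, 8, 7])]) G_le3 (by decide +kernel)

theorem G_lv2 : chkLvl 32 ns G_l2 G_C3 G_D2 1 = true :=
  by decide +kernel

theorem G_lb2 : 48 ≤ Nat.card (cgrp ns G_C2) :=
  lb_step ctx G_lv2 G_lb3 (by decide +kernel)

theorem G_le1 : gen ns G_l1.ws ≤ gen ns G_ss1 :=
  gen_le_step ctx (tgt := [[10], [12], [14], [16]])
  (es := [([10], [0, 2, 1, 2, 0, 2]), ([12], [2, 4, 4, 2, 5, 2, 2]), ([14], [4, 7, 7, 4, 4]), ([16], [7, 7, 7, 8, 7, 9])]) G_le2 (by decide +kernel)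

theorem G_lv1 : chkLvl 32 ns G_l1 G_C2 G_D1 2 = true :=
  by decide +kernel

theorem G_lb1 : 960 ≤ Nat.card (cgrp ns G_C1) :=
  lb_step ctx G_lv1 G_lb2 (by decide +kernel)

theorem G_le0 : gen ns G_l0.ws ≤ gen ns G_ss0 :=
  gen_le_step ctx (tgt := [[4], [6], [8]])
  (es := [([4], [1, 3, 1, 3, 3, 3, 1, 3, 3, 1, 3]), ([6], [3, 5, 5, 3, 4, 2, 4, 2, 4]), ([8], [5, 7, 4, 4])]) G_le1 (by decide +kernel)

theorem G_lv0 : chkLvl 32 ns G_l0 G_C1 G_D0 1 = true :=
  by decide +kernel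

theorem G_lb0 : 20160 ≤ Nat.card (cgrp ns G_C0) :=
  lb_step ctx G_lv0 G_lb1 (by decide +kernel)

theorem G_lb : 20160 ≤ Nat.card (gen ns G_ss0) :=
  lb_of_le ctx G_le0 G_lb0

theorem hq : ∀ a : Fin 3, a.val < 3 ∧ (fun i => Fin.ofNat 3 i) a.val = a :=
  isEnum_fin' 3

noncomputable def MASK : ℕ :=
  nat_lit 0x100000100000100000010000010000010000001000001000001000000100000100000100000010000010000010000001000001000001000000000000000000

noncomputable def MOD : ℕ :=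
  nat_lit 0xffffffffffffffffff

noncomputable def DW : ℕ :=
  nat_lit 0x1001000000000000001001000000000000001001000000000000000000001000000000000000001000000000000000001000000000000000

noncomputable def Cw : ℕ :=
  nat_lit 0x100100010010001001100000010000001000

noncomputable def op : ℕ → ℕ → ℕ :=
  raw MASK MOD

theorem X : Kron.Ctx (fun i => Fin.ofNat 3 i) (QuadraticAlgebra.omega : GF4) 4 3 2 6 2 op DW :=
  ctx_two (isEnum_fin 3) (isBase_GF4) Cw (by decide +kernel)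

noncomputable def o : ℕ :=
  nat_lit 0x100000010000001

theorem ho : matB 4 3 2 6 2 oneCode o = true :=
  by decide +kernel

noncomputable def S : ℕ → ℕ :=
  tabC 24 (ones 24) [nat_lit 0x110111110011010111010011110101110001010101010001100111100011000111000011100101100001000101000001100110100010000110000010000100]

noncomputable def Z : ℕ :=
  nat_lit 0x100000010000001000

theorem hZ : matB 4 3 2 6 2 (scalCode (fun t => getL 0 [0, 1] t)) Z = true :=
  by decide +kernel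

theorem hS : validT 4 3 6 2 21 S = true :=
  by decide +kernel

/-- the points -/
noncomputable def pt : ℕ → Sub (Fin 3) (GF4) := subPt (fun i => Fin.ofNat 3 i) (QuadraticAlgebra.omega : GF4) 4 3 6 S

noncomputable def C0 : ℕ :=
  nat_lit 0x10111010001011000

theorem act0 : ∀ g : GL (Fin 3) (GF4), RepE (fun i => Fin.ofNat 3 i) (QuadraticAlgebra.omega : GF4) 4 3 6 2 C0 g → RepBy 21 pt g (wp ns [0]) :=
  fun _ hg => X.repBy_of_chkLine ctx hS hZ hg (t := 3) (by decide +kernel)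

theorem rep0 : ∃ g ∈ (slGL (Fin 3) (GF4)).range, RepBy 21 pt g (wp ns [0]) :=
  by
  obtain ⟨g, hg⟩ := X.exists_repE' ho (C := C0) (nat_lit 0x10111010001011000) (by decide +kernel)
  have hm := X.coe_eq_matS hq hg
  exact ⟨g, mem_slGL_of_det (by rw [hm, Matrix.det_fin_three]; decide +kernel), act0 g hg⟩

noncomputable def C1 : ℕ :=
  nat_lit 0x10100000001111

theorem act1 : ∀ g : GL (Fin 3) (GF4), RepE (fun i => Fin.ofNat 3 i) (QuadraticAlgebra.omega : GF4) 4 3 6 2 C1 g → RepBy 21 pt g (wp ns [2]) :=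
  fun _ hg => X.repBy_of_chkLine ctx hS hZ hg (t := 3) (by decide +kernel)

theorem rep1 : ∃ g ∈ (slGL (Fin 3) (GF4)).range, RepBy 21 pt g (wp ns [2]) :=
  by
  obtain ⟨g, hg⟩ := X.exists_repE' ho (C := C1) (nat_lit 0x10010000100101010) (by decide +kernel)
  have hm := X.coe_eq_matS hq hg
  exact ⟨g, mem_slGL_of_det (by rw [hm, Matrix.det_fin_three]; decide +kernel), act1 g hg⟩

noncomputable def ls : List (List ℕ) :=
  [[0], [2]]

theorem repsL : Reps 21 pt (slGL (Fin 3) (GF4)).range ns ls :=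
  Reps.cons rep0 (Reps.cons rep1 (Reps.nil))

theorem sep0 : Sep 21 pt 0 :=
  X.sep_of_chkSepSub hS (P := (nat_lit 0x100000000000000)) (by decide +kernel)

theorem inj : ∀ i < 21, ∀ j < 21, pt i = pt j → i = j :=
  repsL.inj ctx (ps := [0]) 6 (List.forall_mem_cons.2 ⟨sep0, fun _ h => absurd h List.not_mem_nil⟩) (by decide +kernel)

theorem card : Nat.card (Matrix.ProjectiveSpecialLinearGroup (Fin 3) (GF4)) = 20160 :=
  by
  have h1 := gcd_mul_card_PSL (ι := Fin 3) (F := GF4)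
  rw [card_SL_of (n := 3) (M := 60480) card_GF4 (by decide +kernel),
    (Nat.card_eq_fintype_card.trans card_GF4 : Nat.card (GF4) = 4), Fintype.card_fin,
    show Nat.gcd 3 (4 - 1) = 3 by norm_num] at h1
  omega

theorem model : ∃ e : Matrix.ProjectiveSpecialLinearGroup (Fin 3) (GF4) ≃* gen ns G_ss0,
    ∀ g : SL(3, GF4), RepBy 21 pt (slGL (Fin 3) (GF4) g) (e g : Equiv.Perm ℕ) :=
  by
  refine Reps.exists_quot (ws := G_ss0) (slGL (Fin 3) (GF4)) inj repsL le_rfl _ (fun z hz i _ => ?_)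
    (card.trans_le G_lb)
  obtain ⟨r, -, hr⟩ := Matrix.SpecialLinearGroup.mem_center_iff.1 hz
  refine smul_eq_of_scalar (e := r) (fun x => ?_) _
  change Matrix.mulVec (z : Matrix (Fin 3) (Fin 3) (GF4)) x = r • x
  rw [← hr]
  ext1 i
  simp [Matrix.mulVec_diagonal]

noncomputable def equiv : Matrix.ProjectiveSpecialLinearGroup (Fin 3) (GF4) ≃* gen ns G_ss0 :=
  Classical.choose model

theorem equiv_rep : ∀ g : SL(3, GF4), RepBy 21 pt (slGL (Fin 3) (GF4) g) (equiv g : Equiv.Perm ℕ) :=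
  Classical.choose_spec model

theorem G_card : Nat.card (gen ns G_ss0) = 20160 :=
  (Nat.card_congr equiv.toEquiv).symm.trans card

theorem G_eq : gen ns G_ss0 = cgrp ns G_C0 :=
  eq_of_le_of_lb ctx G_le0 G_card G_lb0

theorem G_card0 : Nat.card (cgrp ns G_C0) = 20160 :=
  G_eq ▸ G_card

theorem G_st0 : IsStab 32 (gen ns G_l0.ws) (cgrp ns G_C1) G_l0.b G_D0 :=
  isStab_known ctx G_card0 G_lb1 G_lv0 (by decide +kernel)

theorem G_card1 : Nat.card (cgrp ns G_C1) = 960 :=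
  card_step ctx G_st0 G_card0 (by decide +kernel)

theorem G_st1 : IsStab 32 (gen ns G_l1.ws) (cgrp ns G_C2) G_l1.b G_D1 :=
  isStab_known ctx G_card1 G_lb2 G_lv1 (by decide +kernel)

theorem G_card2 : Nat.card (cgrp ns G_C2) = 48 :=
  card_step ctx G_st1 G_card1 (by decide +kernel)

theorem G_st2 : IsStab 32 (gen ns G_l2.ws) (cgrp ns G_C3) G_l2.b G_D2 :=
  isStab_known ctx G_card2 G_lb3 G_lv2 (by decide +kernel)

theorem G_card3 : Nat.card (cgrp ns G_C3) = 16 :=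
  card_step ctx G_st2 G_card2 (by decide +kernel)

theorem G_st3 : IsStab 32 (gen ns G_l3.ws) (cgrp ns G_C4) G_l3.b G_D3 :=
  isStab_known ctx G_card3 G_lb4 G_lv3 (by decide +kernel)

theorem G_ver4 : Ver ns G_C4 1 :=
  ver_nil _

theorem G_ver3 : Ver ns G_C3 16 :=
  G_ver4.cons ctx G_st3 (by decide +kernel)

theorem G_ver2 : Ver ns G_C2 48 :=
  G_ver3.cons ctx G_st2 (by decide +kernel)

theorem G_ver1 : Ver ns G_C1 960 :=
  G_ver2.cons ctx G_st1 (by decide +kernel)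

theorem G_ver0 : Ver ns G_C0 20160 :=
  G_ver1.cons ctx G_st0 (by decide +kernel)

theorem G_supp : gen ns G_ss0 ≤ suppSub 21 :=
  gen_le_supp_of_suppW ctx (by decide +kernel)

end Cfsg.Agent.Spor.ModelL34
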