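import Cfsg.Agent.KSG.MultCov
import Cfsg.Agent.Spor.ModelL34

set_option autoImplicit false
set_option maxRecDepth 4096
set_option Elab.async false

namespace Cfsg.Agent.Spor.CovL34a

open Cfsg Cfsg.Agent.Comp Cfsg.Agent.KSG.Pc

noncomputable def ns_0 : Net :=
 (Net.cons (nat_lit 64) (nat_lit 0x38038000e00000)
 (Net.cons (nat_lit 32) (nat_lit 0x18438000000000f0000000)
 (Net.cons (nat_lit 16) (nat_lit 0x40800000a0600000083400004404)
 (Net.cons (nat_lit 8) (nat_lit 0x400000008000180008004c000400b2)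
 (Net.cons (nat_lit 4) (nat_lit 0x40000000a020804030c000308060b)
 (Net.cons (nat_lit 2) (nat_lit 0x200000203302300200200300212031)
 (Net.cons (nat_lit 1) (nat_lit 0x40000000011044404100500101014)
 (Net.cons (nat_lit 2) (nat_lit 0x2000200200000202020)
 (Net.cons (nat_lit 4) (nat_lit 0x40000000002080400080000080004)
 (Net.cons (nat_lit 8) (nat_lit 0x400000008000180008004c00040090)
 (Net.cons (nat_lit 16) (nat_lit 0x40800000a0600000083400004404)
 (Net.cons (nat_lit 32) (nat_lit 0x18438000000000f0000000)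
 (Net.cons (nat_lit 64) (nat_lit 0x38038000e00000)
 Net.nil)))))))))))))

noncomputable def ns_1 : Net :=
 (Net.cons (nat_lit 64) (nat_lit 0xfe07e07000000000)
 (Net.cons (nat_lit 32) (nat_lit 0xc603e3700000000020000000)
 (Net.cons (nat_lit 16) (nat_lit 0xcb20000026c3000033800000efe0)
 (Net.cons (nat_lit 8) (nat_lit 0xe2005000a800d4006800a000ab006c)
 (Net.cons (nat_lit 4) (nat_lit 0x10a0800040a0e0d0b0004020707070c)
 (Net.cons (nat_lit 2) (nat_lit 0x213000002230131020020003302100)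
 (Net.cons (nat_lit 1) (nat_lit 0x10441000404140104110410155005545)
 (Net.cons (nat_lit 2) (nat_lit 0x200000002000202020020000000000)
 (Net.cons (nat_lit 4) (nat_lit 0x20c0800080c0e080800040208080800)
 (Net.cons (nat_lit 8) (nat_lit 0xe2005000a800d4006800a00054006c)
 (Net.cons (nat_lit 16) (nat_lit 0xeb20000026c00000320000007fe0)
 (Net.cons (nat_lit 32) (nat_lit 0xc60703300000000020000000)
 (Net.cons (nat_lit 64) (nat_lit 0xfe07e07000000000)
 Net.nil)))))))))))))

noncomputable def ns_2 : Net :=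
 (Net.cons (nat_lit 64) (nat_lit 0xffffffffff000000)
 (Net.cons (nat_lit 32) (nat_lit 0x77b983d0000000000000000)
 (Net.cons (nat_lit 16) (nat_lit 0x14ac0000c55f000000000000fe1e)
 (Net.cons (nat_lit 8) (nat_lit 0x42004700c600540000000000fe007c)
 (Net.cons (nat_lit 4) (nat_lit 0x80e0c0d080402000000000002060708)
 (Net.cons (nat_lit 2) (nat_lit 0x1013020213000130000000012330202)
 (Net.cons (nat_lit 1) (nat_lit 0x14054415104441140000000050150500)
 (Net.cons (nat_lit 2) (nat_lit 0x20000220000222020000000000200000)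
 (Net.cons (nat_lit 4) (nat_lit 0x20e0e04080e0c060000000008000208)
 (Net.cons (nat_lit 8) (nat_lit 0xe2008400b800f40000000000e0007c)
 (Net.cons (nat_lit 16) (nat_lit 0xb4a200007606000000000000fe00)
 (Net.cons (nat_lit 32) (nat_lit 0xe17f3d420000000000000000)
 (Net.cons (nat_lit 64) (nat_lit 0xffffffffff000000)
 Net.nil)))))))))))))

noncomputable def ns_3 : Net :=
 (Net.cons (nat_lit 64) (nat_lit 0xffffffffff000000)
 (Net.cons (nat_lit 32) (nat_lit 0xa377387a0000000000000000)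
 (Net.cons (nat_lit 16) (nat_lit 0xdc8000007f5e000000000000e1fe)
 (Net.cons (nat_lit 8) (nat_lit 0x7700640065007f000000000001001e)
 (Net.cons (nat_lit 4) (nat_lit 0xa030f090c020105000000000c0f0c00)
 (Net.cons (nat_lit 2) (nat_lit 0x21130103113221120000000003001000)
 (Net.cons (nat_lit 1) (nat_lit 0x4104145504045110000000001004040)
 (Net.cons (nat_lit 2) (nat_lit 0x20002000000000000002000020)
 (Net.cons (nat_lit 4) (nat_lit 0x20a040800020400000000000c000c00)
 (Net.cons (nat_lit 8) (nat_lit 0xfc00cc000200600000000000e00000)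
 (Net.cons (nat_lit 16) (nat_lit 0x8000000eb60000000000000e1e0)
 (Net.cons (nat_lit 32) (nat_lit 0x207738980000000000000000)
 (Net.cons (nat_lit 64) (nat_lit 0xffffffffff000000)
 Net.nil)))))))))))))

noncomputable def ns_4 : Net :=
 (Net.cons (nat_lit 64) (nat_lit 0xffffffffffe00000)
 (Net.cons (nat_lit 32) (nat_lit 0xf8af6c300000000000000000)
 (Net.cons (nat_lit 16) (nat_lit 0xf83e0000007300000000000077d3)
 (Net.cons (nat_lit 8) (nat_lit 0x4f00e0002800ac0000000000cd00a4)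
 (Net.cons (nat_lit 4) (nat_lit 0x20f0a0f0001000c0000000003040c09)
 (Net.cons (nat_lit 2) (nat_lit 0x23211100102333000000000020112002)
 (Net.cons (nat_lit 1) (nat_lit 0x505401101540410000000041004000)
 (Net.cons (nat_lit 2) (nat_lit 0x20220000000002000000)
 (Net.cons (nat_lit 4) (nat_lit 0x40c080000000000000c00)
 (Net.cons (nat_lit 8) (nat_lit 0xcc0000008800ec00000000008800ac)
 (Net.cons (nat_lit 16) (nat_lit 0xe3e00000e7fa00000000000077d0)
 (Net.cons (nat_lit 32) (nat_lit 0xe4e2e01c0000000000000000)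
 (Net.cons (nat_lit 64) (nat_lit 0xffffffffffe00000)
 Net.nil)))))))))))))

noncomputable def ns_5 : Net :=
 (Net.cons (nat_lit 64) (nat_lit 0xf000fff000000000)
 (Net.cons (nat_lit 32) (nat_lit 0x59f0600000000f8508040)
 (Net.cons (nat_lit 16) (nat_lit 0x5114000002180000f840000024f0)
 (Net.cons (nat_lit 8) (nat_lit 0xd000b4000200c800a8007400280040)
 (Net.cons (nat_lit 4) (nat_lit 0x30c06020002010c00000003000a0904)
 (Net.cons (nat_lit 2) (nat_lit 0x30230000033232331002202233110)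
 (Net.cons (nat_lit 1) (nat_lit 0x1014400001041010111044105111004)
 (Net.cons (nat_lit 2) (nat_lit 0x20200000002020220002200222000)
 (Net.cons (nat_lit 4) (nat_lit 0x20c040400020c0c0200080000080800)
 (Net.cons (nat_lit 8) (nat_lit 0xd000b4000000c800a8007400000000)
 (Net.cons (nat_lit 16) (nat_lit 0x5110000002100000f840000029e8)
 (Net.cons (nat_lit 32) (nat_lit 0x5870600000000f8508040)
 (Net.cons (nat_lit 64) (nat_lit 0xf000fff000000000)
 Net.nil)))))))))))))

noncomputable def ns_6 : Net :=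
 (Net.cons (nat_lit 64) (nat_lit 0xffff000000000000)
 (Net.cons (nat_lit 32) (nat_lit 0xef8070000000000f8000000)
 (Net.cons (nat_lit 16) (nat_lit 0x870800005c720000ff800000fe00)
 (Net.cons (nat_lit 8) (nat_lit 0x700080040008c0000000c00fe00c0)
 (Net.cons (nat_lit 4) (nat_lit 0x70000000206040409000c00040a0c0c)
 (Net.cons (nat_lit 2) (nat_lit 0x11010200002020230200301230110130)
 (Net.cons (nat_lit 1) (nat_lit 0x11010100104540141400001144440410)
 (Net.cons (nat_lit 2) (nat_lit 0x200000020220200000000000020)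
 (Net.cons (nat_lit 4) (nat_lit 0x800020604040400000008000c0c)
 (Net.cons (nat_lit 8) (nat_lit 0x8001000000080000c00e000c0)
 (Net.cons (nat_lit 16) (nat_lit 0x8708000054520000ff800000fe00)
 (Net.cons (nat_lit 32) (nat_lit 0xef8070000000000f8000000)
 (Net.cons (nat_lit 64) (nat_lit 0xffff000000000000)
 Net.nil)))))))))))))

noncomputable def ns_7 : Net :=
 (Net.cons (nat_lit 64) (nat_lit 0x1fbbc7000000000)
 (Net.cons (nat_lit 32) (nat_lit 0x1ceffc000000000da168b80)
 (Net.cons (nat_lit 16) (nat_lit 0xfff0000001eb00001b9a0000febc)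
 (Net.cons (nat_lit 8) (nat_lit 0xd30000000000fc002000dc00d200a0)
 (Net.cons (nat_lit 4) (nat_lit 0x20c00000008010a080a04070c0e0100)
 (Net.cons (nat_lit 2) (nat_lit 0x30310000000031020122100310312000)
 (Net.cons (nat_lit 1) (nat_lit 0x1040000004014010104001114114140)
 (Net.cons (nat_lit 2) (nat_lit 0x2000000002020020002000200200020)
 (Net.cons (nat_lit 4) (nat_lit 0x804000000080c080408040e0c080804)
 (Net.cons (nat_lit 8) (nat_lit 0x740000000000e000ac00cc00a600e0)
 (Net.cons (nat_lit 16) (nat_lit 0xffc0000001a00000d39c00009e7c)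
 (Net.cons (nat_lit 32) (nat_lit 0x1cf7fc0000000007a16c980)
 (Net.cons (nat_lit 64) (nat_lit 0x1fbbc7000000000)
 Net.nil)))))))))))))

noncomputable def ns_8 : Net :=
 (Net.cons (nat_lit 64) (nat_lit 0xf000fff000000000)
 (Net.cons (nat_lit 32) (nat_lit 0x800f000000000000ff77e1e0)
 (Net.cons (nat_lit 16) (nat_lit 0x778e000088420000ab6a00000000)
 (Net.cons (nat_lit 8) (nat_lit 0xf700000088007c004b008a00220000)
 (Net.cons (nat_lit 4) (nat_lit 0x805080e00000306050c040802050006)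
 (Net.cons (nat_lit 2) (nat_lit 0x2023010000202211103010300020230)
 (Net.cons (nat_lit 1) (nat_lit 0x1144050004014114511044101410440)
 (Net.cons (nat_lit 2) (nat_lit 0x2022000000022200002022000020020)
 (Net.cons (nat_lit 4) (nat_lit 0x80200080008080600080e0400080006)
 (Net.cons (nat_lit 8) (nat_lit 0xf60070008800d800ea004a00220000)
 (Net.cons (nat_lit 16) (nat_lit 0x778e0000884200006ae800000000)
 (Net.cons (nat_lit 32) (nat_lit 0x800fff8000000000ffbee1e0)
 (Net.cons (nat_lit 64) (nat_lit 0xf000fff000000000)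
 Net.nil)))))))))))))

noncomputable def ns_9 : Net :=
 (Net.cons (nat_lit 64) (nat_lit 0x8000000000000000)
 (Net.cons (nat_lit 32) (nat_lit 0x8000000000000000edb80000)
 (Net.cons (nat_lit 16) (nat_lit 0xc0000000b6d000000000)
 (Net.cons (nat_lit 8) (nat_lit 0xc000920092009900ee0000)
 (Net.cons (nat_lit 4) (nat_lit 0xa0b08080202080c000000)
 (Net.cons (nat_lit 2) (nat_lit 0x2323222233232223320000)
 (Net.cons (nat_lit 1) (nat_lit 0x4110555504405511440000)
 (Net.cons (nat_lit 2) (nat_lit 0x200000002000002200000)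
 (Net.cons (nat_lit 4) (nat_lit 0x60200000404000c000000)
 (Net.cons (nat_lit 8) (nat_lit 0xc000240024003200de0000)
 (Net.cons (nat_lit 16) (nat_lit 0xc00000006db000000000)
 (Net.cons (nat_lit 32) (nat_lit 0x8000000000000000db780000)
 (Net.cons (nat_lit 64) (nat_lit 0x8000000000000000)
 Net.nil)))))))))))))

noncomputable def ns : List Net := [ns_0, ns_1, ns_2, ns_3, ns_4, ns_5, ns_6, ns_7, ns_8, ns_9]

theorem ctx : Ctx 128 7 ns := ctx_of (by decide +kernel)

noncomputable def X_C5 : List Lvl :=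
  []

noncomputable def X_ss4 : List (List ℕ) :=
  [[18]]

noncomputable def X_D4 : ℕ :=
  nat_lit 0xe00000

noncomputable def X_l4 : Lvl :=
  ⟨21, [[18]],
  tabA [(23, 5376), (22, 5377)], 1⟩

noncomputable def X_C4 : List Lvl :=
  X_l4 :: X_C5

noncomputable def X_ss3 : List (List ℕ) :=
  [[18], [13]]

noncomputable def X_D3 : ℕ :=
  28

noncomputable def X_l3 : Lvl :=
  ⟨2, [[13], [18]],
  tabA [(3, 512), (4, 513)], 1⟩

noncomputable def X_C3 : List Lvl :=
  X_l3 :: X_C4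

noncomputable def X_ss2 : List (List ℕ) :=
  [[10], [12], [14]]

noncomputable def X_D2 : ℕ :=
  nat_lit 0x1fffe0

noncomputable def X_l2 : Lvl :=
  ⟨5, [[10], [12], [14], [13], [18]],
  tabC 15 32767 [nat_lit 0x1105140444102800505240424102808d05140214108818905200034100000000000000000000000], 3⟩

noncomputable def X_C2 : List Lvl :=
  X_l2 :: X_C3

noncomputable def X_ss1 : List (List ℕ) :=
  [[4], [6]]

noncomputable def X_D1 : ℕ :=
  nat_lit 0x1ffffe

noncomputable def X_l1 : Lvl :=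
  ⟨1, [[4], [6], [16], [10], [12], [14], [13], [18]],
  tabC 15 32767 [nat_lit 0xd040e061c1838007040e161c0808181010e14301c081070802001c246818104120004140000000], 2⟩

noncomputable def X_C1 : List Lvl :=
  X_l1 :: X_C2

noncomputable def X_ss0 : List (List ℕ) :=
  [[0], [2]]

noncomputable def X_D0 : ℕ :=
  nat_lit 0x1fffff

noncomputable def X_l0 : Lvl :=
  ⟨0, [[0], [2], [8], [4], [6], [16], [10], [12], [14], [13], [18]],
  tabC 15 32767 [nat_lit 0x428000000908920c241c482c9030005281248140841204241a481c901010a1800042c0010000], 2⟩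

noncomputable def X_C0 : List Lvl :=
  X_l0 :: X_C1

theorem X_ver5 : Ver ns X_C5 1 :=
  ver_nil _

theorem X_le4 : gen ns X_l4.ws ≤ gen ns X_ss4 :=
  gen_le_step ctx (tgt := [])
  (es := []) (le_refl (gen _ [])) (by decide +kernel)

theorem X_lv4 : chkLvl 128 ns X_l4 X_C5 X_D4 2 = true :=
  by decide +kernel

theorem X_pt4_0 : AllIn (PtOK 128 ns X_l4 X_C5 X_ss4 X_D4) 0 128 :=
  ptOK_of_chkPts ctx X_ver5 (a := 0) (n := 2) (by decide +kernel)

theorem X_st4 : IsStab 128 (gen ns X_l4.ws) (cgrp ns X_C5) X_l4.b X_D4 :=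
  isStab_plain ctx X_le4 X_lv4 (by norm_num) X_pt4_0

theorem X_ver4 : Ver ns X_C4 3 :=
  X_ver5.cons ctx X_st4 (by decide +kernel)

theorem X_le3 : gen ns X_l3.ws ≤ gen ns X_ss3 :=
  gen_le_step ctx (tgt := [[18]])
  (es := [([18], [3, 1, 2, 1])]) X_le4 (by decide +kernel)

theorem X_lv3 : chkLvl 128 ns X_l3 X_C4 X_D3 2 = true :=
  by decide +kernel

theorem X_pt3_0 : AllIn (PtOK 128 ns X_l3 X_C4 X_ss3 X_D3) 0 128 :=
  ptOK_of_chkPts ctx X_ver4 (a := 0) (n := 2) (by decide +kernel)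

theorem X_st3 : IsStab 128 (gen ns X_l3.ws) (cgrp ns X_C4) X_l3.b X_D3 :=
  isStab_plain ctx X_le3 X_lv3 (by norm_num) X_pt3_0

theorem X_ver3 : Ver ns X_C3 9 :=
  X_ver4.cons ctx X_st3 (by decide +kernel)

theorem X_le2 : gen ns X_l2.ws ≤ gen ns X_ss2 :=
  gen_le_step ctx (tgt := [[18], [13]])
  (es := [([18], [4, 1, 3, 4, 3, 1, 4]), ([13], [3, 4, 7, 2, 6, 4, 6, 5, 7, 7, 7])]) X_le3 (by decide +kernel)

theorem X_lv2 : chkLvl 128 ns X_l2 X_C3 X_D2 2 = true :=
  by decide +kernel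

theorem X_pt2_0 : AllIn (PtOK 128 ns X_l2 X_C3 X_ss2 X_D2) 0 128 :=
  ptOK_of_chkPts ctx X_ver3 (a := 0) (n := 2) (by decide +kernel)

theorem X_st2 : IsStab 128 (gen ns X_l2.ws) (cgrp ns X_C3) X_l2.b X_D2 :=
  isStab_plain ctx X_le2 X_lv2 (by norm_num) X_pt2_0

theorem X_ver2 : Ver ns X_C2 144 :=
  X_ver3.cons ctx X_st2 (by decide +kernel)

theorem X_le1 : gen ns X_l1.ws ≤ gen ns X_ss1 :=
  gen_le_step ctx (tgt := [[10], [12], [14], [16]])
  (es := [([10], [0, 2, 1, 1, 3, 0]), ([12], [2, 4, 4, 3, 4, 2, 4]), ([14], [5, 7, 5, 5]), ([16], [8, 6, 9, 7, 8, 6, 9])]) X_le2 (by decide +kernel)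

theorem X_lv1 : chkLvl 128 ns X_l1 X_C2 X_D1 1 = true :=
  by decide +kernel

theorem X_pt1_0 : AllIn (PtOK 128 ns X_l1 X_C2 X_ss1 X_D1) 0 128 :=
  ptOK_of_chkPts ctx X_ver2 (a := 0) (n := 2) (by decide +kernel)

theorem X_st1 : IsStab 128 (gen ns X_l1.ws) (cgrp ns X_C2) X_l1.b X_D1 :=
  isStab_plain ctx X_le1 X_lv1 (by norm_num) X_pt1_0

theorem X_ver1 : Ver ns X_C1 2880 :=
  X_ver2.cons ctx X_st1 (by decide +kernel)

theorem X_le0 : gen ns X_l0.ws ≤ gen ns X_ss0 :=
  gen_le_step ctx (tgt := [[4], [6], [8]])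
  (es := [([4], [1, 3, 1, 3, 3, 3, 1, 2, 2, 0, 3]), ([6], [5, 3, 5, 3, 4, 3, 5, 5, 2, 5, 3, 3, 5, 2]), ([8], [7, 7, 4, 6, 4, 4])]) X_le1 (by decide +kernel)

theorem X_lv0 : chkLvl 128 ns X_l0 X_C1 X_D0 1 = true :=
  by decide +kernel

theorem X_pt0_0 : AllIn (PtOK 128 ns X_l0 X_C1 X_ss0 X_D0) 0 128 :=
  ptOK_of_chkPts ctx X_ver1 (a := 0) (n := 2) (by decide +kernel)

theorem X_st0 : IsStab 128 (gen ns X_l0.ws) (cgrp ns X_C1) X_l0.b X_D0 :=
  isStab_plain ctx X_le0 X_lv0 (by norm_num) X_pt0_0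

theorem X_ver0 : Ver ns X_C0 60480 :=
  X_ver1.cons ctx X_st0 (by decide +kernel)

theorem X_eq : gen ns X_ss0 = cgrp ns X_C0 :=
  le_antisymm (gen_le_of_subsetL _ (by decide +kernel)) X_le0

theorem X_card : Nat.card (gen ns X_ss0) = 60480 :=
  by rw [X_eq]; exact X_ver0.card

noncomputable def ps : List (List ℕ × List ℕ) :=
  [([0], [0]), ([2], [2])]

theorem chk : chkCover 128 7 ns 32 5 ModelL34.ns 21 ps [0, 1, 5, 2] [0, 1, 5, 2, 21] [([18], [0, 2, 2], [3, 0, 3], 7)] = true :=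
  by decide +kernel

theorem hb : StabIn 128 (cgrp ns X_C0) (gen ns [[18]]) [0, 1, 5, 2] :=
  (stabIn_cons X_st0 (stabIn_cons X_st1 (stabIn_cons X_st2 (stabIn_cons X_st3 (stabIn_nil _ _)))))

theorem hb' : IsBase 128 (cgrp ns X_C0) [0, 1, 5, 2, 21] :=
  StabIn.isBase (stabIn_cons X_st0 (stabIn_cons X_st1 (stabIn_cons X_st2 (stabIn_cons X_st3 (stabIn_cons X_st4 (stabIn_nil _ _))))))

theorem onto : MultOnto (gen ModelL34.ns ModelL34.G_ss0) (Multiplicative (ZMod 3)) :=
  multOnto_cover ctx ModelL34.ctx (ps := ps) chk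
    (((X_ver0.nested X_l4 (by simp [X_C0, X_C1, X_C2, X_C3, X_C4])).trans X_eq.ge :))
    (X_eq ▸ hb :) (X_eq ▸ hb' :) X_ver4.card

end Cfsg.Agent.Spor.CovL34a
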