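import Cfsg.Agent.KSG.MultH
import Cfsg.Agent.Spor.ModelL34

set_option autoImplicit false
set_option Elab.async false
set_option maxRecDepth 4096
set_option Elab.async false

namespace Cfsg.Agent.Spor.MultL34

open Cfsg Cfsg.Agent.Comp Cfsg.Agent.KSG.Pc

noncomputable def ns_12 : Net :=
 (Net.cons (nat_lit 16) 581
 (Net.cons (nat_lit 8) 131088
 (Net.cons (nat_lit 4) 3074
 (Net.cons (nat_lit 2) (nat_lit 0x102020)
 (Net.cons (nat_lit 1) 5136
 (Net.cons (nat_lit 2) 8224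
 (Net.cons (nat_lit 4) 3072
 (Net.cons (nat_lit 8) 16
 (Net.cons (nat_lit 16) 576
 Net.nil)))))))))

noncomputable def ns_13 : Net :=
 (Net.cons (nat_lit 16) 2106
 (Net.cons (nat_lit 8) 30
 (Net.cons (nat_lit 4) 985344
 (Net.cons (nat_lit 2) (nat_lit 0x100100)
 (Net.cons (nat_lit 1) (nat_lit 0x511140)
 (Net.cons (nat_lit 2) 512
 (Net.cons (nat_lit 4) 787456
 (Net.cons (nat_lit 8) 524488
 (Net.cons (nat_lit 16) 2088
 Net.nil)))))))))

noncomputable def ns_14 : Net :=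
 (Net.cons (nat_lit 16) 24064
 (Net.cons (nat_lit 8) (nat_lit 0x5e0058)
 (Net.cons (nat_lit 4) 918794
 (Net.cons (nat_lit 2) (nat_lit 0x2012302)
 (Net.cons (nat_lit 1) (nat_lit 0x4100104)
 (Net.cons (nat_lit 2) (nat_lit 0x200200)
 (Net.cons (nat_lit 4) 918536
 (Net.cons (nat_lit 8) (nat_lit 0x400058)
 (Net.cons (nat_lit 16) 24064
 Net.nil)))))))))

noncomputable def ns_15 : Net :=
 (Net.cons (nat_lit 16) 45410
 (Net.cons (nat_lit 8) (nat_lit 0x8f0050)
 (Net.cons (nat_lit 4) (nat_lit 0xb050604)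
 (Net.cons (nat_lit 2) (nat_lit 0x3213000)
 (Net.cons (nat_lit 1) (nat_lit 0x14104044)
 (Net.cons (nat_lit 2) (nat_lit 0x22202002)
 (Net.cons (nat_lit 4) (nat_lit 0x8040608)
 (Net.cons (nat_lit 8) (nat_lit 0xae005c)
 (Net.cons (nat_lit 16) 45436
 Net.nil)))))))))

noncomputable def ns_16 : Net :=
 (Net.cons (nat_lit 16) 4352
 (Net.cons (nat_lit 8) 65536
 (Net.cons (nat_lit 4) (nat_lit 0x1000e0a)
 (Net.cons (nat_lit 2) 139826
 (Net.cons (nat_lit 1) 279572
 (Net.cons (nat_lit 2) 32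
 (Net.cons (nat_lit 4) 6
 (Net.cons (nat_lit 8) 224
 (Net.cons (nat_lit 16) 4352
 Net.nil)))))))))

noncomputable def ns_17 : Net :=
 (Net.cons (nat_lit 16) 1056
 (Net.cons (nat_lit 8) (nat_lit 0x16003c)
 (Net.cons (nat_lit 4) (nat_lit 0x6020c08)
 (Net.cons (nat_lit 2) (nat_lit 0x30031330)
 (Net.cons (nat_lit 1) (nat_lit 0x40044440)
 (Net.cons (nat_lit 2) (nat_lit 0x20020220)
 (Net.cons (nat_lit 4) (nat_lit 0x6020c00)
 (Net.cons (nat_lit 8) (nat_lit 0x1600bc)
 (Net.cons (nat_lit 16) 1056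
 Net.nil)))))))))

noncomputable def ns_18 : Net :=
 (Net.cons (nat_lit 16) 32736
 (Net.cons (nat_lit 8) (nat_lit 0x5b0000)
 (Net.cons (nat_lit 4) (nat_lit 0x10e000c)
 (Net.cons (nat_lit 2) (nat_lit 0x33330010)
 (Net.cons (nat_lit 1) (nat_lit 0x44440040)
 (Net.cons (nat_lit 2) (nat_lit 0x22220000)
 (Net.cons (nat_lit 4) 12
 (Net.cons (nat_lit 8) (nat_lit 0x100000)
 (Net.cons (nat_lit 16) 32736
 Net.nil)))))))))

noncomputable def ns_19 : Net :=
 (Net.cons (nat_lit 16) 57344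
 (Net.cons (nat_lit 8) (nat_lit 0xe000e0)
 (Net.cons (nat_lit 4) 789504
 (Net.cons (nat_lit 1) (nat_lit 0x555500)
 (Net.cons (nat_lit 8) (nat_lit 0xe000e0)
 (Net.cons (nat_lit 16) 57344
 Net.nil))))))

noncomputable def ns_20 : Net :=
 (Net.cons (nat_lit 16) 57344
 (Net.cons (nat_lit 8) (nat_lit 0xe000e0)
 (Net.cons (nat_lit 4) 986880
 (Net.cons (nat_lit 8) (nat_lit 0xe000e0)
 (Net.cons (nat_lit 16) 57344
 Net.nil)))))

noncomputable def ns_21 : Net :=
 (Net.cons (nat_lit 16) 1504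
 (Net.cons (nat_lit 8) 327680
 (Net.cons (nat_lit 4) 657920
 (Net.cons (nat_lit 2) (nat_lit 0x1333200)
 (Net.cons (nat_lit 16) 1504
 Net.nil)))))

noncomputable def ns : List Net := [ModelL34.ns_0, ModelL34.ns_1, ModelL34.ns_2, ModelL34.ns_3, ModelL34.ns_4, ModelL34.ns_5, ModelL34.ns_6, ModelL34.ns_7, ModelL34.ns_8, ModelL34.ns_9, ModelL34.ns_10, ModelL34.ns_11, ns_12, ns_13, ns_14, ns_15, ns_16, ns_17, ns_18, ns_19, ns_20, ns_21]

theorem ctx : Ctx 32 5 ns := ctx_of (by decide +kernel)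

theorem lctx : LCtx 32 5 8 31 trN5 ns := lctx_of ctx trOK5 (by decide +kernel)

noncomputable def E : List ℕ → ℕ → ℕ := pfW0 32 5 8 31 trN5 ns

theorem hE : Evl 32 ns E := evl_pfW0 lctx

theorem geq : gen ModelL34.ns ModelL34.G_ss0 = gen ns ModelL34.G_ss0 :=
  gen_eq_of_take (ns := ModelL34.ns) (ns' := ns) (k := 12) rfl (ws := ModelL34.G_ss0) (by decide +kernel)

theorem geq0 : gen ModelL34.ns ModelL34.G_l0.ws = gen ns ModelL34.G_l0.ws :=
  gen_eq_of_take (ns := ModelL34.ns) (ns' := ns) (k := 12) rfl (ws := ModelL34.G_l0.ws) (by decide +kernel)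

theorem hn : Nat.card (gen ns ModelL34.G_ss0) = 20160 :=
  geq ▸ ModelL34.G_card

theorem kn_0 : Known ns (gen ns ModelL34.G_ss0) 4095 :=
  known_of_mem (ws := ModelL34.G_l0.ws) (gen_le_iff.1 (geq ▸ geq0 ▸ ModelL34.G_le0)) (by decide +kernel)

noncomputable def A_S4 : List SD :=
  []

noncomputable def A_d3 : SD :=
  ⟨5, 1, [38, 40, 42, 22], lab 3 7 (nat_lit 0x6936930d92d80000), 4⟩

noncomputable def A_S3 : List SD :=
  A_d3 :: A_S4

noncomputable def A_d2 : SD :=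
  ⟨2, 1, [32, 34, 36, 38, 40, 42, 22], lab 4 15 4096, 1⟩

noncomputable def A_S2 : List SD :=
  A_d2 :: A_S3

noncomputable def A_d1 : SD :=
  ⟨1, 2, [26, 28, 30, 32, 34, 36, 38, 40, 42, 22], lab 5 31 (nat_lit 0x11152e011859100811c6430800), 3⟩

noncomputable def A_S1 : List SD :=
  A_d1 :: A_S2

noncomputable def A_d0 : SD :=
  ⟨0, 1, [0, 2, 24, 26, 28, 30, 32, 34, 36, 38, 40, 42, 22], lab 5 31 (nat_lit 0xf68184950034a14b4284731040), 3⟩

noncomputable def A_S0 : List SD :=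
  A_d0 :: A_S1

theorem kn_1 : Known ns (gen ns ModelL34.G_ss0) 4194303 :=
  kn_0.steps ctx (es := [(12, [3, 3, 3, 1, 3]),
 (13, [1, 2, 1, 2, 0, 24, 1]),
 (14, [1, 3, 1, 25, 2, 0, 0, 2, 2, 1, 2]),
 (15, [29, 26, 26, 29, 27, 27]),
 (16, [27, 30, 27, 30, 26, 28, 28]),
 (17, [26, 29, 26]),
 (18, [28, 26, 30, 26, 26, 29]),
 (19, [34, 36, 33]),
 (20, [32, 34, 32, 37, 35]),
 (21, [36, 33, 33])]) (by decide +kernel)

theorem A_ex : Exact 32 ns A_S0 ∧ gen ns (sTop A_S0) = gen ns ModelL34.G_ss0 ∧ gen ns ModelL34.G_ss0 = gen ns ModelL34.G_ss0 :=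
  exact_of_known ctx hn (le_rfl) kn_1 (by decide +kernel)

theorem hbase : IsBase 32 (gen ns ModelL34.G_ss0) [0, 1, 2, 5] :=
  isBase_of_exact A_ex (by decide +kernel)

noncomputable def m2_P : Pd :=
  ⟨5, 2, 1, nat_lit 0x800000000810000000810e20000810634000810214880,
  nat_lit 0xffffffffffff000000000000000000000000000000000000000000000000ffffffffffffffffffffffff000000000000000000000000000000000000000000000000ffffffffffffffffffffffff, 56, 32, 44,
  nat_lit 0x50000000000000000000000000000000400000000000000030000000200010000⟩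

noncomputable def m2_aws : List (List ℕ) :=
  [[22], [26, 26, 33, 42], [28, 33, 22, 38], [40, 38], [30, 26, 22, 38], [32, 30, 26, 33, 42], [33, 26, 40, 38], [0]]

theorem m2_mem : ∀ u ∈ m2_aws, wp ns u ∈ gen ns ModelL34.G_ss0 :=
  kn_1.words (by decide +kernel)

noncomputable def m2_prs : Prs :=
  [(6, 1, 16), (6, 8, 48), (6, 16, 17), (6, 32, 41), (7, 32, 45), (7, 16, 31), (7, 2, 47), (7, 13, 13)]

noncomputable def m2_rels : List Rel :=
  [.con 8 0 0 [770],
  .con 16 0 0 [1026],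
  .con 32 0 0 [1282],
  .con 32 3 3 [5890],
  .con 32 4 4 [7426],
  .fus 6 [0, 0] [] [31, 7169, 9218],
  .con 4 2 2 [4353],
  .con 16 2 4 [4126],
  .fus 6 [1, 1] [] [5407, 7169, 7425, 8961, 9474],
  .fus 6 [2, 2] [] [1, 1025, 9730],
  .fus 6 [3, 3] [] [1, 769, 1281, 5377, 5889, 9986],
  .con 16 2 2 [4098, 7425],
  .con 2 0 1 [286, 2847, 8991],
  .con 8 1 3 [2334, 5663, 7199],
  .con 8 2 3 [3870, 5663, 5919, 7199, 7455, 8991],
  .fus 6 [1, 0] [0, 1] [799, 7425],
  .con 2 0 0 [258, 1281, 8961],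
  .con 4 0 0 [514, 1025, 7169],
  .con 8 1 1 [2306, 2561, 7169],
  .con 4 0 2 [542, 1281, 4127, 7199, 7454],
  .con 4 1 1 [2050, 2561, 2817, 7169, 7425, 8961],
  .con 8 2 2 [3842, 4097, 4353, 5889, 7169, 7425, 8961],
  .con 8 0 1 [1025, 5889, 7425],
  .fus 7 [4, 4] [] [1, 513, 769, 1281, 3585, 3841, 4097, 4353, 5377, 5633, 5890, 7169, 7425, 8961, 10242],
  .fus 7 [5, 5] [] [1, 257, 513, 769, 1025, 1793, 2049, 2305, 2817, 3585, 3841, 4353, 5377, 5635, 5891, 7170, 7428, 8962, 10498],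
  .fus 7 [6, 6] [] [1, 257, 513, 769, 1281, 2049, 2305, 2561, 3585, 3841, 4097, 4354, 5377, 5634, 5892, 7170, 7428, 8963, 10754],
  .fus 7 [5, 7] [7, 5] [257, 2079, 2335, 2591, 4126, 4353, 5663, 7199, 7455]]

noncomputable def m2_ys : List (List ℕ) :=
  [[9745],
  [10271, 10513],
  [10015, 10257],
  [9759, 10001],
  [3585, 3841, 9218, 9502, 9732, 10012, 10242],
  [3585, 10014, 10242]]

noncomputable def m2_ss : List (List ℕ × ℕ × ℕ) :=
  [([2305, 3585, 3841, 8961, 9218, 9500, 9734, 10010, 10270, 10756], 4, (nat_lit 0x6180004180c071c071e081c0c0207030c1408131a1c0a0a0a1b0a)),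
  ([2049, 2305, 3585, 8961, 9218, 9500, 9734, 10010, 10270, 10756], 4, (nat_lit 0xe0800141c04110415061606120411170c0408070a0c1f1f1f1d0f))]

noncomputable def m2_cs : List (List ℕ) :=
  [[(nat_lit 0x140c00121705131b151c030214021309160914191d1e07070702170200)],
  [(nat_lit 0x1b1600060914111a141c180e1304111a1e111a1a1f0b1a1a1a151a0302), (nat_lit 0x1d1c1f031e1b10001111031c0a110f17160a14070e1e04040414040200)],
  [(nat_lit 0xc0800150517111c130d071d0613110e1a06170e181d03030304130202), (nat_lit 0xc0800160407100d140e161d1604101109060701070d1b1b1b140b0301), 0],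
  [(nat_lit 0x10000001f0000000f000000000000000000), (nat_lit 0x1e1a00040c08010a031b15010713011617191516020e06060610060201), (nat_lit 0x1e00000208031f091f18001704001f1a1d121f1a1d110c0c0c170c0000), (nat_lit 0x1c000215190217021804050911020a151b140a0d0e0909091c190002)],
  [(nat_lit 0x1a1c0002050f1e19001a13141e021e1e060a041e1d0e0808081b080200), (nat_lit 0x16080014171d160d171f070c0c0216061c141806090c0a0a0a1b0a0202), (nat_lit 0x6180004171c060d081f171c1b1306061c1418060a0c0202020b020202), (nat_lit 0x6180004170d061d080f170c1c1306160c040816190c0202020b020202), (nat_lit 0x100c0010010711031315031a1602111f1a16160f010c0202021a020200)],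
  [(nat_lit 0xc0c0012121d1003100414080d11100e061a040e0d1e02020218020002), (nat_lit 0x1c1c0002121d0003000415080d11011e061a041e0d1e02020218020002), (nat_lit 0x1f0000000000000000), (nat_lit 0x140c00121605131b151c03021402130a160a140a1d1e07070702170200), (nat_lit 0x1f0000000f000000000000000000), (nat_lit 0x1c18000212050107030a17020313010f1e04181f0d1c05050500150202)]]

noncomputable def m2_B : List (ℕ × ℕ × List (List ℕ)) :=
  [(1, 1, [[5], [4], [2], [1], [0], [3]]),
  (5, 1, [[3], [0]])]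

theorem m2_row0 : AllIn (fun j => m2_P.chkRow (eqB (Comp.evL E) [0, 1, 2, 5] m2_aws) j = true) 0 6 :=
  allIn_of_allFrom (a := 0) (n := 6) (by decide +kernel)

theorem m2_pr0 : AllIn (fun j => m2_P.chkPr (eqB (Comp.evL E) [0, 1, 2, 5] m2_aws) (m2_prs.get j) = true) 0 8 :=
  allIn_of_allFrom (a := 0) (n := 8) (by decide +kernel)

theorem m2_rel0 : AllIn (fun k => m2_P.chkRel m2_prs (getL (Rel.con 0 0 0 []) m2_rels k) = true) 0 27 :=
  allIn_of_allFrom (a := 0) (n := 27) (by decide +kernel)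

theorem m2_lin : m2_P.chkLin 4 m2_rels m2_ys m2_ss m2_cs = true :=
  by decide +kernel

theorem m2_bound : MultBound 2 4 (gen ns ModelL34.G_ss0) :=
  multBound_net ctx m2_mem hn (P := m2_P) (B := m2_B) (by norm_num [m2_P])
    (GOK.of_rows (eSound_eqB (evl_evL ctx.ok hE) hbase m2_mem) m2_row0 m2_pr0 (by decide +kernel))
    (rels_of_allIn m2_rel0 (by decide +kernel)) m2_lin (by decide +kernel) (by decide +kernel)

noncomputable def m3_P : Pd :=
  ⟨1, 3, 2, 64,
  0, 12, 9, 6,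
  nat_lit 0x10000000100000000⟩

noncomputable def m3_aws : List (List ℕ) :=
  [[2, 0, 30, 32], [28, 28, 33, 22, 38], [28, 32, 22, 42, 38]]

theorem m3_mem : ∀ u ∈ m3_aws, wp ns u ∈ gen ns ModelL34.G_ss0 :=
  kn_1.words (by decide +kernel)

noncomputable def m3_prs : Prs :=
  [(2, 1, 2), (2, 4, 8)]

noncomputable def m3_rels : List Rel :=
  [.con 4 0 0 [259],
  .fus 2 [0, 0, 0] [] [1, 1027],
  .fus 2 [1, 1, 1] [] [769, 1283]]

noncomputable def m3_ys : List (List ℕ) :=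
  [[1031],
  [1287]]

noncomputable def m3_ss : List (List ℕ × ℕ × ℕ) :=
  [([257], 3, 8)]

noncomputable def m3_cs : List (List ℕ) :=
  [[524288],
  [2050, (nat_lit 0x8000000)]]

noncomputable def m3_B : List (ℕ × ℕ × List (List ℕ)) :=
  [(1, 1, [[1], [1], [0], [0]])]

theorem m3_row0 : AllIn (fun j => m3_P.chkRow (eqB (Comp.evL E) [0, 1, 2, 5] m3_aws) j = true) 0 2 :=
  allIn_of_allFrom (a := 0) (n := 2) (by decide +kernel)

theorem m3_pr0 : AllIn (fun j => m3_P.chkPr (eqB (Comp.evL E) [0, 1, 2, 5] m3_aws) (m3_prs.get j) = true) 0 2 :=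
  allIn_of_allFrom (a := 0) (n := 2) (by decide +kernel)

theorem m3_rel0 : AllIn (fun k => m3_P.chkRel m3_prs (getL (Rel.con 0 0 0 []) m3_rels k) = true) 0 3 :=
  allIn_of_allFrom (a := 0) (n := 3) (by decide +kernel)

theorem m3_lin : m3_P.chkLin 1 m3_rels m3_ys m3_ss m3_cs = true :=
  by decide +kernel

theorem m3_bound : MultBound 3 1 (gen ns ModelL34.G_ss0) :=
  multBound_net ctx m3_mem hn (P := m3_P) (B := m3_B) (by norm_num [m3_P])
    (GOK.of_rows (eSound_eqB (evl_evL ctx.ok hE) hbase m3_mem) m3_row0 m3_pr0 (by decide +kernel))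
    (rels_of_allIn m3_rel0 (by decide +kernel)) m3_lin (by decide +kernel) (by decide +kernel)

theorem bounds : ∀ x ∈ ([(2, 4), (3, 1)] : List (ℕ × ℕ)), MultBound x.1 x.2 (gen ns ModelL34.G_ss0) :=
  List.forall_mem_cons.2 ⟨m2_bound, List.forall_mem_cons.2 ⟨m3_bound, fun _ h => absurd h List.not_mem_nil⟩⟩

theorem mult_of : ∀ {A : Type} [CommGroup A], Nat.card A = 48 → MultOnto (gen ModelL34.ns ModelL34.G_ss0) A →
    HasSchurMultiplier (gen ModelL34.ns ModelL34.G_ss0) A :=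
  fun ha h => hasMult_of_list ModelL34.G_card ha (geq ▸ bounds) (by decide +kernel) h

end Cfsg.Agent.Spor.MultL34
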