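import Cfsg.Agent.Comp.Xfer2

set_option autoImplicit false
set_option maxRecDepth 4096

namespace Cfsg.Agent.Spor.ModelA6

open Cfsg.Agent.Comp

noncomputable def ns_0 : Net :=
 (Net.cons (nat_lit 2) 1
 (Net.cons (nat_lit 1) 1
 Net.nil))

noncomputable def ns_1 : Net :=
 (Net.cons (nat_lit 4) 12
 (Net.cons (nat_lit 2) 16
 (Net.cons (nat_lit 1) 81
 (Net.cons (nat_lit 4) 12
 Net.nil))))

noncomputable def ns_2 : Net :=
 (Net.cons (nat_lit 4) 8
 (Net.cons (nat_lit 2) 2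
 (Net.cons (nat_lit 1) 20
 (Net.cons (nat_lit 2) 34
 (Net.cons (nat_lit 4) 10
 Net.nil)))))

noncomputable def ns_3 : Net :=
 (Net.cons (nat_lit 4) 8
 (Net.cons (nat_lit 2) 32
 (Net.cons (nat_lit 1) 16
 (Net.cons (nat_lit 4) 8
 Net.nil))))

noncomputable def ns_4 : Net :=
 (Net.cons (nat_lit 4) 12
 (Net.cons (nat_lit 2) 48
 (Net.cons (nat_lit 1) 16
 (Net.cons (nat_lit 2) 32
 (Net.cons (nat_lit 4) 12
 Net.nil)))))

noncomputable def ns : List Net := [ns_0, ns_1, ns_2, ns_3, ns_4]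

theorem ctx : Ctx 8 3 ns := ctx_of (by decide +kernel)

noncomputable def G_C4 : List Lvl :=
  []

noncomputable def G_ss3 : List (List ℕ) :=
  [[6]]

noncomputable def G_D3 : ℕ :=
  56

noncomputable def G_l3 : Lvl :=
  ⟨3, [[6]],
  tabA [(5, 768), (4, 769)], 1⟩

noncomputable def G_C3 : List Lvl :=
  G_l3 :: G_C4

noncomputable def G_ss2 : List (List ℕ) :=
  [[6], [8]]

noncomputable def G_D2 : ℕ :=
  60

noncomputable def G_l2 : Lvl :=
  ⟨2, [[8], [6]],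
  tabA [(4, 512), (3, 513), (5, 1027)], 2⟩

noncomputable def G_C2 : List Lvl :=
  G_l2 :: G_C3

noncomputable def G_ss1 : List (List ℕ) :=
  [[4], [6]]

noncomputable def G_D1 : ℕ :=
  62

noncomputable def G_l1 : Lvl :=
  ⟨1, [[4], [8], [6]],
  tabA [(3, 256), (2, 257), (4, 768), (5, 772)], 2⟩

noncomputable def G_C1 : List Lvl :=
  G_l1 :: G_C2

noncomputable def G_ss0 : List (List ℕ) :=
  [[0], [2]]

noncomputable def G_D0 : ℕ :=
  63

noncomputable def G_l0 : Lvl :=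
  ⟨0, [[0], [2], [4], [8], [6]],
  tabA [(1, 0), (2, 1), (3, 260), (5, 515), (4, 518)], 2⟩

noncomputable def G_C0 : List Lvl :=
  G_l0 :: G_C1

theorem G_ver4 : Ver ns G_C4 1 :=
  ver_nil _

theorem G_le3 : gen ns G_l3.ws ≤ gen ns G_ss3 :=
  gen_le_step ctx (tgt := [])
  (es := []) (le_refl (gen _ [])) (by decide +kernel)

theorem G_lv3 : chkLvl 8 ns G_l3 G_C4 G_D3 2 = true :=
  by decide +kernel

theorem G_pt3_0 : AllIn (PtOK 8 ns G_l3 G_C4 G_ss3 G_D3) 0 64 :=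
  ptOK_of_chkPts ctx G_ver4 (a := 0) (n := 1) (by decide +kernel)

theorem G_st3 : IsStab 8 (gen ns G_l3.ws) (cgrp ns G_C4) G_l3.b G_D3 :=
  isStab_plain ctx G_le3 G_lv3 (by norm_num) G_pt3_0

theorem G_ver3 : Ver ns G_C3 3 :=
  G_ver4.cons ctx G_st3 (by decide +kernel)

theorem G_le2 : gen ns G_l2.ws ≤ gen ns G_ss2 :=
  gen_le_step ctx (tgt := [[6]])
  (es := [([6], [3, 1, 2, 2])]) G_le3 (by decide +kernel)

theorem G_lv2 : chkLvl 8 ns G_l2 G_C3 G_D2 2 = true :=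
  by decide +kernel

theorem G_pt2_0 : AllIn (PtOK 8 ns G_l2 G_C3 G_ss2 G_D2) 0 64 :=
  ptOK_of_chkPts ctx G_ver3 (a := 0) (n := 1) (by decide +kernel)

theorem G_st2 : IsStab 8 (gen ns G_l2.ws) (cgrp ns G_C3) G_l2.b G_D2 :=
  isStab_plain ctx G_le2 G_lv2 (by norm_num) G_pt2_0

theorem G_ver2 : Ver ns G_C2 12 :=
  G_ver3.cons ctx G_st2 (by decide +kernel)

theorem G_le1 : gen ns G_l1.ws ≤ gen ns G_ss1 :=
  gen_le_step ctx (tgt := [[6], [8]])
  (es := [([6], [3, 3]), ([8], [3, 3, 3, 4, 3, 4, 3, 3])]) G_le2 (by decide +kernel)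

theorem G_lv1 : chkLvl 8 ns G_l1 G_C2 G_D1 2 = true :=
  by decide +kernel

theorem G_pt1_0 : AllIn (PtOK 8 ns G_l1 G_C2 G_ss1 G_D1) 0 64 :=
  ptOK_of_chkPts ctx G_ver2 (a := 0) (n := 1) (by decide +kernel)

theorem G_st1 : IsStab 8 (gen ns G_l1.ws) (cgrp ns G_C2) G_l1.b G_D1 :=
  isStab_plain ctx G_le1 G_lv1 (by norm_num) G_pt1_0

theorem G_ver1 : Ver ns G_C1 60 :=
  G_ver2.cons ctx G_st1 (by decide +kernel)

theorem G_le0 : gen ns G_l0.ws ≤ gen ns G_ss0 :=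
  gen_le_step ctx (tgt := [[4], [6]])
  (es := [([4], [2, 0, 0, 0, 0]), ([6], [2, 5, 3, 5, 5, 5, 2, 2, 5, 2])]) G_le1 (by decide +kernel)

theorem G_lv0 : chkLvl 8 ns G_l0 G_C1 G_D0 1 = true :=
  by decide +kernel

theorem G_pt0_0 : AllIn (PtOK 8 ns G_l0 G_C1 G_ss0 G_D0) 0 64 :=
  ptOK_of_chkPts ctx G_ver1 (a := 0) (n := 1) (by decide +kernel)

theorem G_st0 : IsStab 8 (gen ns G_l0.ws) (cgrp ns G_C1) G_l0.b G_D0 :=
  isStab_plain ctx G_le0 G_lv0 (by norm_num) G_pt0_0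

theorem G_ver0 : Ver ns G_C0 360 :=
  G_ver1.cons ctx G_st0 (by decide +kernel)

theorem G_eq : gen ns G_ss0 = cgrp ns G_C0 :=
  le_antisymm (gen_le_of_subsetL _ (by decide +kernel)) G_le0

theorem G_card : Nat.card (gen ns G_ss0) = 360 :=
  by rw [G_eq]; exact G_ver0.card

theorem G_supp : gen ns G_ss0 ≤ suppSub 6 :=
  gen_le_supp_of_suppW ctx (by decide +kernel)

theorem iso : Nonempty (gen ns G_ss0 ≃* alternatingGroup (Fin 6)) :=
  exists_equiv_alt G_supp (by rw [G_card]; decide +kernel)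

end Cfsg.Agent.Spor.ModelA6
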