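import Cfsg.Agent.KSG.MultCov
import Cfsg.Agent.Spor.ModelA6

set_option autoImplicit false
set_option maxRecDepth 4096
set_option Elab.async false

namespace Cfsg.Agent.Spor.CovA6a

open Cfsg Cfsg.Agent.Comp Cfsg.Agent.KSG.Pc

noncomputable def ns_0 : Net :=
 (Net.cons (nat_lit 16) 32768
 (Net.cons (nat_lit 8) (nat_lit 0xe00035)
 (Net.cons (nat_lit 4) 525832
 (Net.cons (nat_lit 2) (nat_lit 0x20002331)
 (Net.cons (nat_lit 1) (nat_lit 0x40014141)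
 (Net.cons (nat_lit 2) 139810
 (Net.cons (nat_lit 4) 524814
 (Net.cons (nat_lit 8) (nat_lit 0xe00076)
 (Net.cons (nat_lit 16) 32768
 Net.nil)))))))))

noncomputable def ns_1 : Net :=
 (Net.cons (nat_lit 16) 61440
 (Net.cons (nat_lit 8) 192
 (Net.cons (nat_lit 4) 459788
 (Net.cons (nat_lit 2) (nat_lit 0x20220310)
 (Net.cons (nat_lit 1) (nat_lit 0x50554551)
 (Net.cons (nat_lit 4) 1036
 (Net.cons (nat_lit 8) (nat_lit 0xe000c0)
 (Net.cons (nat_lit 16) 61440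
 Net.nil))))))))

noncomputable def ns_2 : Net :=
 (Net.cons (nat_lit 16) 65024
 (Net.cons (nat_lit 8) (nat_lit 0x4c0000)
 (Net.cons (nat_lit 4) (nat_lit 0xa01000a)
 (Net.cons (nat_lit 2) (nat_lit 0x12230022)
 (Net.cons (nat_lit 1) (nat_lit 0x44440014)
 (Net.cons (nat_lit 2) (nat_lit 0x22000002)
 (Net.cons (nat_lit 4) (nat_lit 0x2080008)
 (Net.cons (nat_lit 8) (nat_lit 0x680000)
 (Net.cons (nat_lit 16) 65024
 Net.nil)))))))))

noncomputable def ns_3 : Net :=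
 (Net.cons (nat_lit 16) 32256
 (Net.cons (nat_lit 8) (nat_lit 0xe000c0)
 (Net.cons (nat_lit 4) (nat_lit 0xe0c0c06)
 (Net.cons (nat_lit 2) (nat_lit 0x12300120)
 (Net.cons (nat_lit 1) (nat_lit 0x54100440)
 (Net.cons (nat_lit 2) (nat_lit 0x200020)
 (Net.cons (nat_lit 4) 789508
 (Net.cons (nat_lit 8) (nat_lit 0x8000c0)
 (Net.cons (nat_lit 16) 32256
 Net.nil)))))))))

noncomputable def ns_4 : Net :=
 (Net.cons (nat_lit 16) 61440
 (Net.cons (nat_lit 8) (nat_lit 0x600000)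
 (Net.cons (nat_lit 4) 196620
 (Net.cons (nat_lit 2) 131600
 (Net.cons (nat_lit 1) (nat_lit 0x40440440)
 (Net.cons (nat_lit 2) (nat_lit 0x20020000)
 (Net.cons (nat_lit 4) 524300
 (Net.cons (nat_lit 8) (nat_lit 0xb00000)
 (Net.cons (nat_lit 16) 61440
 Net.nil)))))))))

noncomputable def ns_5 : Net :=
 (Net.cons (nat_lit 16) 61440
 (Net.cons (nat_lit 8) 192
 (Net.cons (nat_lit 4) 263180
 (Net.cons (nat_lit 2) (nat_lit 0x20230300)
 (Net.cons (nat_lit 1) (nat_lit 0x50044440)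
 (Net.cons (nat_lit 2) 131104
 (Net.cons (nat_lit 4) 395276
 (Net.cons (nat_lit 8) (nat_lit 0xe000c0)
 (Net.cons (nat_lit 16) 61440
 Net.nil)))))))))

noncomputable def ns_6 : Net :=
 (Net.cons (nat_lit 16) 32768
 (Net.cons (nat_lit 8) (nat_lit 0x2400c0)
 (Net.cons (nat_lit 4) (nat_lit 0x4010408)
 (Net.cons (nat_lit 2) (nat_lit 0x20320300)
 (Net.cons (nat_lit 1) (nat_lit 0x40114410)
 (Net.cons (nat_lit 2) (nat_lit 0x200020)
 (Net.cons (nat_lit 4) (nat_lit 0x4080808)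
 (Net.cons (nat_lit 8) (nat_lit 0x2400c0)
 (Net.cons (nat_lit 16) 32768
 Net.nil)))))))))

noncomputable def ns_7 : Net :=
 (Net.cons (nat_lit 16) 32768
 (Net.cons (nat_lit 8) (nat_lit 0x500000)
 (Net.cons (nat_lit 4) 655368
 (Net.cons (nat_lit 2) (nat_lit 0x30231220)
 (Net.cons (nat_lit 1) (nat_lit 0x10011410)
 (Net.cons (nat_lit 2) (nat_lit 0x20020000)
 (Net.cons (nat_lit 4) 524296
 (Net.cons (nat_lit 8) (nat_lit 0x500000)
 (Net.cons (nat_lit 16) 32768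
 Net.nil)))))))))

noncomputable def ns_8 : Net :=
 (Net.cons (nat_lit 16) 32768
 (Net.cons (nat_lit 8) (nat_lit 0xe000f0)
 (Net.cons (nat_lit 4) 788992
 (Net.cons (nat_lit 2) (nat_lit 0x20322330)
 (Net.cons (nat_lit 1) (nat_lit 0x40114140)
 (Net.cons (nat_lit 2) (nat_lit 0x200220)
 (Net.cons (nat_lit 4) 787968
 (Net.cons (nat_lit 8) (nat_lit 0xe000f0)
 (Net.cons (nat_lit 16) 32768
 Net.nil)))))))))

noncomputable def ns : List Net := [ns_0, ns_1, ns_2, ns_3, ns_4, ns_5, ns_6, ns_7, ns_8]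

theorem ctx : Ctx 32 5 ns := ctx_of (by decide +kernel)

noncomputable def X_C5 : List Lvl :=
  []

noncomputable def X_ss4 : List (List ℕ) :=
  [[16]]

noncomputable def X_D4 : ℕ :=
  448

noncomputable def X_l4 : Lvl :=
  ⟨6, [[16]],
  tabA [(8, 1536), (7, 1537)], 1⟩

noncomputable def X_C4 : List Lvl :=
  X_l4 :: X_C5

noncomputable def X_ss3 : List (List ℕ) :=
  [[12], [14]]

noncomputable def X_D3 : ℕ :=
  56

noncomputable def X_l3 : Lvl :=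
  ⟨3, [[12], [14], [16]],
  tabA [(4, 768), (5, 769)], 1⟩

noncomputable def X_C3 : List Lvl :=
  X_l3 :: X_C4

noncomputable def X_ss2 : List (List ℕ) :=
  [[8], [10]]

noncomputable def X_D2 : ℕ :=
  60

noncomputable def X_l2 : Lvl :=
  ⟨2, [[8], [10], [12], [14], [16]],
  tabA [(3, 512), (4, 513), (5, 515)], 1⟩

noncomputable def X_C2 : List Lvl :=
  X_l2 :: X_C3

noncomputable def X_ss1 : List (List ℕ) :=
  [[4], [6]]

noncomputable def X_D1 : ℕ :=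
  62

noncomputable def X_l1 : Lvl :=
  ⟨1, [[4], [6], [8], [10], [12], [14], [16]],
  tabA [(2, 256), (3, 257), (5, 258), (4, 517)], 2⟩

noncomputable def X_C1 : List Lvl :=
  X_l1 :: X_C2

noncomputable def X_ss0 : List (List ℕ) :=
  [[0], [2]]

noncomputable def X_D0 : ℕ :=
  63

noncomputable def X_l0 : Lvl :=
  ⟨0, [[0], [2], [4], [6], [8], [10], [12], [14], [16]],
  tabA [(1, 0), (2, 1), (3, 261), (5, 262), (4, 521)], 2⟩

noncomputable def X_C0 : List Lvl :=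
  X_l0 :: X_C1

theorem X_ver5 : Ver ns X_C5 1 :=
  ver_nil _

theorem X_le4 : gen ns X_l4.ws ≤ gen ns X_ss4 :=
  gen_le_step ctx (tgt := [])
  (es := []) (le_refl (gen _ [])) (by decide +kernel)

theorem X_lv4 : chkLvl 32 ns X_l4 X_C5 X_D4 2 = true :=
  by decide +kernel

theorem X_pt4_0 : AllIn (PtOK 32 ns X_l4 X_C5 X_ss4 X_D4) 0 64 :=
  ptOK_of_chkPts ctx X_ver5 (a := 0) (n := 1) (by decide +kernel)

theorem X_st4 : IsStab 32 (gen ns X_l4.ws) (cgrp ns X_C5) X_l4.b X_D4 :=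
  isStab_plain ctx X_le4 X_lv4 (by norm_num) X_pt4_0

theorem X_ver4 : Ver ns X_C4 3 :=
  X_ver5.cons ctx X_st4 (by decide +kernel)

theorem X_le3 : gen ns X_l3.ws ≤ gen ns X_ss3 :=
  gen_le_step ctx (tgt := [[16]])
  (es := [([16], [3, 1, 1, 1, 1])]) X_le4 (by decide +kernel)

theorem X_lv3 : chkLvl 32 ns X_l3 X_C4 X_D3 1 = true :=
  by decide +kernel

theorem X_pt3_0 : AllIn (PtOK 32 ns X_l3 X_C4 X_ss3 X_D3) 0 64 :=
  ptOK_of_chkPts ctx X_ver4 (a := 0) (n := 1) (by decide +kernel)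

theorem X_st3 : IsStab 32 (gen ns X_l3.ws) (cgrp ns X_C4) X_l3.b X_D3 :=
  isStab_plain ctx X_le3 X_lv3 (by norm_num) X_pt3_0

theorem X_ver3 : Ver ns X_C3 9 :=
  X_ver4.cons ctx X_st3 (by decide +kernel)

theorem X_le2 : gen ns X_l2.ws ≤ gen ns X_ss2 :=
  gen_le_step ctx (tgt := [[12], [14]])
  (es := [([12], [0, 2, 1]), ([14], [3, 5, 2, 5, 3, 5, 5, 3, 4])]) X_le3 (by decide +kernel)

theorem X_lv2 : chkLvl 32 ns X_l2 X_C3 X_D2 1 = true :=
  by decide +kernel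

theorem X_pt2_0 : AllIn (PtOK 32 ns X_l2 X_C3 X_ss2 X_D2) 0 64 :=
  ptOK_of_chkPts ctx X_ver3 (a := 0) (n := 1) (by decide +kernel)

theorem X_st2 : IsStab 32 (gen ns X_l2.ws) (cgrp ns X_C3) X_l2.b X_D2 :=
  isStab_plain ctx X_le2 X_lv2 (by norm_num) X_pt2_0

theorem X_ver2 : Ver ns X_C2 36 :=
  X_ver3.cons ctx X_st2 (by decide +kernel)

theorem X_le1 : gen ns X_l1.ws ≤ gen ns X_ss1 :=
  gen_le_step ctx (tgt := [[8], [10]])
  (es := [([8], [0, 0, 3, 0, 3, 3]), ([10], [3, 3, 3, 5, 2, 5, 2])]) X_le2 (by decide +kernel)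

theorem X_lv1 : chkLvl 32 ns X_l1 X_C2 X_D1 1 = true :=
  by decide +kernel

theorem X_pt1_0 : AllIn (PtOK 32 ns X_l1 X_C2 X_ss1 X_D1) 0 64 :=
  ptOK_of_chkPts ctx X_ver2 (a := 0) (n := 1) (by decide +kernel)

theorem X_st1 : IsStab 32 (gen ns X_l1.ws) (cgrp ns X_C2) X_l1.b X_D1 :=
  isStab_plain ctx X_le1 X_lv1 (by norm_num) X_pt1_0

theorem X_ver1 : Ver ns X_C1 180 :=
  X_ver2.cons ctx X_st1 (by decide +kernel)

theorem X_le0 : gen ns X_l0.ws ≤ gen ns X_ss0 :=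
  gen_le_step ctx (tgt := [[4], [6]])
  (es := [([4], [1, 3]), ([6], [2, 5, 2, 4, 2, 2])]) X_le1 (by decide +kernel)

theorem X_lv0 : chkLvl 32 ns X_l0 X_C1 X_D0 1 = true :=
  by decide +kernel

theorem X_pt0_0 : AllIn (PtOK 32 ns X_l0 X_C1 X_ss0 X_D0) 0 64 :=
  ptOK_of_chkPts ctx X_ver1 (a := 0) (n := 1) (by decide +kernel)

theorem X_st0 : IsStab 32 (gen ns X_l0.ws) (cgrp ns X_C1) X_l0.b X_D0 :=
  isStab_plain ctx X_le0 X_lv0 (by norm_num) X_pt0_0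

theorem X_ver0 : Ver ns X_C0 1080 :=
  X_ver1.cons ctx X_st0 (by decide +kernel)

theorem X_eq : gen ns X_ss0 = cgrp ns X_C0 :=
  le_antisymm (gen_le_of_subsetL _ (by decide +kernel)) X_le0

theorem X_card : Nat.card (gen ns X_ss0) = 1080 :=
  by rw [X_eq]; exact X_ver0.card

noncomputable def ps : List (List ℕ × List ℕ) :=
  [([0], [0]), ([2], [2])]

theorem chk : chkCover 32 5 ns 8 3 ModelA6.ns 6 ps [0, 1, 2, 3] [0, 1, 2, 3, 6] [([16], [0], [2], 4)] = true :=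
  by decide +kernel

theorem hb : StabIn 32 (cgrp ns X_C0) (gen ns [[16]]) [0, 1, 2, 3] :=
  (stabIn_cons X_st0 (stabIn_cons X_st1 (stabIn_cons X_st2 (stabIn_cons X_st3 (stabIn_nil _ _)))))

theorem hb' : IsBase 32 (cgrp ns X_C0) [0, 1, 2, 3, 6] :=
  StabIn.isBase (stabIn_cons X_st0 (stabIn_cons X_st1 (stabIn_cons X_st2 (stabIn_cons X_st3 (stabIn_cons X_st4 (stabIn_nil _ _))))))

theorem onto : MultOnto (gen ModelA6.ns ModelA6.G_ss0) (Multiplicative (ZMod 3)) :=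
  multOnto_cover ctx ModelA6.ctx (ps := ps) chk
    (((X_ver0.nested X_l4 (by simp [X_C0, X_C1, X_C2, X_C3, X_C4])).trans X_eq.ge :))
    (X_eq ▸ hb :) (X_eq ▸ hb' :) X_ver4.card

end Cfsg.Agent.Spor.CovA6a
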