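import Cfsg.Agent.KSG.MultCov
import Cfsg.Agent.Spor.ModelA6

set_option autoImplicit false
set_option maxRecDepth 4096
set_option Elab.async false

namespace Cfsg.Agent.Spor.CovA6b

open Cfsg Cfsg.Agent.Comp Cfsg.Agent.KSG.Pc

noncomputable def ns_0 : Net :=
 (Net.cons (nat_lit 64) (nat_lit 0xf30fc03030000000)
 (Net.cons (nat_lit 32) (nat_lit 0xc00fcfc000000000c3ccc000)
 (Net.cons (nat_lit 16) (nat_lit 0xcf000000000c00003ff000000000)
 (Net.cons (nat_lit 8) (nat_lit 0xc00f00030003000f000c0000c00c0)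
 (Net.cons (nat_lit 4) (nat_lit 0xf000f000003000f000c000c00000300)
 (Net.cons (nat_lit 2) (nat_lit 0x3030300000330300330003000033001)
 (Net.cons (nat_lit 1) (nat_lit 0x51100400540410450010000000001)
 (Net.cons (nat_lit 4) (nat_lit 0xc000c000000000c0000000c00000000)
 (Net.cons (nat_lit 8) (nat_lit 0xf00030003000f00000000c00c0)
 (Net.cons (nat_lit 16) (nat_lit 0xcf000000c00c00003c3000000c00)
 (Net.cons (nat_lit 32) (nat_lit 0xc00fcfc000000000c3fcc000)
 (Net.cons (nat_lit 64) (nat_lit 0xf30fc03030000000)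
 Net.nil))))))))))))

noncomputable def ns_1 : Net :=
 (Net.cons (nat_lit 64) (nat_lit 0x30cff30c3ff3c300)
 (Net.cons (nat_lit 32) (nat_lit 0xf0303fc00000000c33cf0c0)
 (Net.cons (nat_lit 16) (nat_lit 0xf0f00000cf3f0000fc3c0000c000)
 (Net.cons (nat_lit 8) (nat_lit 0xc0000003f00300000003c00030000)
 (Net.cons (nat_lit 4) (nat_lit 0xf03030c0c0f000c0000000c00030c0c)
 (Net.cons (nat_lit 2) (nat_lit 0x30030000033000303000300300000010)
 (Net.cons (nat_lit 1) (nat_lit 0x1040040001000410400100401000051)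
 (Net.cons (nat_lit 4) (nat_lit 0xc00000c000000000000000c)
 (Net.cons (nat_lit 8) (nat_lit 0x3c000000000030000000c0)
 (Net.cons (nat_lit 16) (nat_lit 0xc0300000cf3c0000300c0000c300)
 (Net.cons (nat_lit 32) (nat_lit 0x3f00c0f000000000c33cfc00)
 (Net.cons (nat_lit 64) (nat_lit 0x30cff30c3fc3f300)
 Net.nil))))))))))))

noncomputable def ns_2 : Net :=
 (Net.cons (nat_lit 64) (nat_lit 0xc0303fc33f30c0)
 (Net.cons (nat_lit 32) (nat_lit 0xc3fc0c3c0000000000c03f00)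
 (Net.cons (nat_lit 16) (nat_lit 0xc000000000000f0c00000d8fc)
 (Net.cons (nat_lit 8) (nat_lit 0x3c00000000000000f3000000d80020)
 (Net.cons (nat_lit 4) (nat_lit 0xf000c03000c030f000c030004000f02)
 (Net.cons (nat_lit 2) (nat_lit 0x3003000000330030303300010033000)
 (Net.cons (nat_lit 1) (nat_lit 0x11004010000101151541110054455110)
 (Net.cons (nat_lit 4) (nat_lit 0xc00000c000c000c0c00080e0e02)
 (Net.cons (nat_lit 8) (nat_lit 0x3c000c00000000000c0000001c002e)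
 (Net.cons (nat_lit 16) (nat_lit 0xc00000000000033000000dcee)
 (Net.cons (nat_lit 32) (nat_lit 0xc3fc0c000000000000c3f300)
 (Net.cons (nat_lit 64) (nat_lit 0xc0303fc33c0cc0)
 Net.nil))))))))))))

noncomputable def ns_3 : Net :=
 (Net.cons (nat_lit 64) (nat_lit 0x3fcf0c0cfcfc0c00)
 (Net.cons (nat_lit 32) (nat_lit 0xf33003cc00000000033f801a)
 (Net.cons (nat_lit 16) (nat_lit 0xfc000000300000062c100000000)
 (Net.cons (nat_lit 8) (nat_lit 0x3300000030000f00fe00700000003a)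
 (Net.cons (nat_lit 4) (nat_lit 0xc030000000f000f0f0e030b0000070c)
 (Net.cons (nat_lit 2) (nat_lit 0x33030000003003303303203000000330)
 (Net.cons (nat_lit 1) (nat_lit 0x15400404004154001001011000004410)
 (Net.cons (nat_lit 2) (nat_lit 0x2000000002200)
 (Net.cons (nat_lit 4) (nat_lit 0xc0c000c020a0000000e)
 (Net.cons (nat_lit 8) (nat_lit 0xcc0000003c0030003c0060000000dc)
 (Net.cons (nat_lit 16) (nat_lit 0x30c000033000000a0c200000030)
 (Net.cons (nat_lit 32) (nat_lit 0xcf3003c000000000030f0178)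
 (Net.cons (nat_lit 64) (nat_lit 0x3fcf0c0cfccc3300)
 Net.nil)))))))))))))

noncomputable def ns_4 : Net :=
 (Net.cons (nat_lit 64) (nat_lit 0x3f0030c3c000000)
 (Net.cons (nat_lit 32) (nat_lit 0x3f03cc000000000300c3cc0)
 (Net.cons (nat_lit 16) (nat_lit 0x30000000ccf00000c0c300000300)
 (Net.cons (nat_lit 8) (nat_lit 0x30000000f300fc00c000fc00f000cc)
 (Net.cons (nat_lit 4) (nat_lit 0xc000c0f000c0c000000000c00)
 (Net.cons (nat_lit 2) (nat_lit 0x300000000030003000330333030)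
 (Net.cons (nat_lit 1) (nat_lit 0x10000404005114044041100140410510)
 (Net.cons (nat_lit 4) (nat_lit 0xc0000000c)
 (Net.cons (nat_lit 8) (nat_lit 0xc000fc000c00cc00000030)
 (Net.cons (nat_lit 16) (nat_lit 0x30000000ccf000000cc000000000)
 (Net.cons (nat_lit 32) (nat_lit 0x3f03cc000000000300c3cc0)
 (Net.cons (nat_lit 64) (nat_lit 0x3f0030c3c000000)
 Net.nil))))))))))))

noncomputable def ns_5 : Net :=
 (Net.cons (nat_lit 64) (nat_lit 0x80c0b300cc0c34)
 (Net.cons (nat_lit 32) (nat_lit 0xcc3c000000000370f370)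
 (Net.cons (nat_lit 16) (nat_lit 0xf0000000033000000c00)
 (Net.cons (nat_lit 8) (nat_lit 0xfc0000000300c3003c00330000)
 (Net.cons (nat_lit 4) (nat_lit 0xc00000f0003030c03000f000f04)
 (Net.cons (nat_lit 2) (nat_lit 0x1003003300000030300033003000)
 (Net.cons (nat_lit 1) (nat_lit 0x1041404001011510050054011100)
 (Net.cons (nat_lit 4) (nat_lit 0x40c0000000000000c0000000c00)
 (Net.cons (nat_lit 8) (nat_lit 0xfc00f0000000fc000c00000000)
 (Net.cons (nat_lit 16) (nat_lit 0x800000f0000000c00c00000c40)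
 (Net.cons (nat_lit 32) (nat_lit 0xcc3c000000000370f370)
 (Net.cons (nat_lit 64) (nat_lit 0x80c0b300cc0c34)
 Net.nil))))))))))))

noncomputable def ns_6 : Net :=
 (Net.cons (nat_lit 64) (nat_lit 0xc03c3cfcc0033f00)
 (Net.cons (nat_lit 32) (nat_lit 0xc03cf0f00000000033c30000)
 (Net.cons (nat_lit 16) (nat_lit 0xc0000cc3c000000000000665a)
 (Net.cons (nat_lit 8) (nat_lit 0xc0000c000c00fc0003000000370032)
 (Net.cons (nat_lit 4) (nat_lit 0xc0c0c00000003030c0c000a0b000a)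
 (Net.cons (nat_lit 2) (nat_lit 0x3000003030012220320)
 (Net.cons (nat_lit 1) (nat_lit 0x45004041451410100050044041110)
 (Net.cons (nat_lit 2) (nat_lit 0x2022220)
 (Net.cons (nat_lit 4) (nat_lit 0xc00000c0c000e0c0000)
 (Net.cons (nat_lit 8) (nat_lit 0xc000000000003c00000000000a0010)
 (Net.cons (nat_lit 16) (nat_lit 0xcc00000003000000666a)
 (Net.cons (nat_lit 32) (nat_lit 0x30cc000000000000c0c000)
 (Net.cons (nat_lit 64) (nat_lit 0xc03c3cfcc0003f00)
 Net.nil)))))))))))))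

noncomputable def ns_7 : Net :=
 (Net.cons (nat_lit 1) (nat_lit 0x1555555555555555555540)
 Net.nil)

noncomputable def ns : List Net := [ns_0, ns_1, ns_2, ns_3, ns_4, ns_5, ns_6, ns_7]

theorem ctx : Ctx 128 7 ns := ctx_of (by decide +kernel)

noncomputable def X_C5 : List Lvl :=
  []

noncomputable def X_ss4 : List (List ℕ) :=
  [[14]]

noncomputable def X_D4 : ℕ :=
  192

noncomputable def X_l4 : Lvl :=
  ⟨6, [[14]],
  tabA [(7, 1536)], 1⟩

noncomputable def X_C4 : List Lvl :=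
  X_l4 :: X_C5

noncomputable def X_ss3 : List (List ℕ) :=
  [[12], [14]]

noncomputable def X_D3 : ℕ :=
  56

noncomputable def X_l3 : Lvl :=
  ⟨3, [[12], [14]],
  tabA [(4, 768), (5, 769)], 1⟩

noncomputable def X_C3 : List Lvl :=
  X_l3 :: X_C4

noncomputable def X_ss2 : List (List ℕ) :=
  [[8], [10]]

noncomputable def X_D2 : ℕ :=
  60

noncomputable def X_l2 : Lvl :=
  ⟨2, [[8], [10], [12], [14]],
  tabA [(4, 512), (5, 515), (3, 1029)], 2⟩

noncomputable def X_C2 : List Lvl :=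
  X_l2 :: X_C3

noncomputable def X_ss1 : List (List ℕ) :=
  [[4], [6]]

noncomputable def X_D1 : ℕ :=
  62

noncomputable def X_l1 : Lvl :=
  ⟨1, [[4], [6], [8], [10], [12], [14]],
  tabA [(5, 256), (4, 257), (2, 258), (3, 259)], 1⟩

noncomputable def X_C1 : List Lvl :=
  X_l1 :: X_C2

noncomputable def X_ss0 : List (List ℕ) :=
  [[0], [2]]

noncomputable def X_D0 : ℕ :=
  63

noncomputable def X_l0 : Lvl :=
  ⟨0, [[0], [2], [4], [6], [8], [10], [12], [14]],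
  tabA [(1, 0), (2, 1), (5, 260), (4, 261), (3, 263)], 2⟩

noncomputable def X_C0 : List Lvl :=
  X_l0 :: X_C1

theorem X_ver5 : Ver ns X_C5 1 :=
  ver_nil _

theorem X_le4 : gen ns X_l4.ws ≤ gen ns X_ss4 :=
  gen_le_step ctx (tgt := [])
  (es := []) (le_refl (gen _ [])) (by decide +kernel)

theorem X_lv4 : chkLvl 128 ns X_l4 X_C5 X_D4 1 = true :=
  by decide +kernel

theorem X_pt4_0 : AllIn (PtOK 128 ns X_l4 X_C5 X_ss4 X_D4) 0 128 :=
  ptOK_of_chkPts ctx X_ver5 (a := 0) (n := 2) (by decide +kernel)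

theorem X_st4 : IsStab 128 (gen ns X_l4.ws) (cgrp ns X_C5) X_l4.b X_D4 :=
  isStab_plain ctx X_le4 X_lv4 (by norm_num) X_pt4_0

theorem X_ver4 : Ver ns X_C4 2 :=
  X_ver5.cons ctx X_st4 (by decide +kernel)

theorem X_le3 : gen ns X_l3.ws ≤ gen ns X_ss3 :=
  gen_le_step ctx (tgt := [[14]])
  (es := [([14], [0, 3, 1, 1, 1, 1])]) X_le4 (by decide +kernel)

theorem X_lv3 : chkLvl 128 ns X_l3 X_C4 X_D3 2 = true :=
  by decide +kernel

theorem X_pt3_0 : AllIn (PtOK 128 ns X_l3 X_C4 X_ss3 X_D3) 0 128 :=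
  ptOK_of_chkPts ctx X_ver4 (a := 0) (n := 2) (by decide +kernel)

theorem X_st3 : IsStab 128 (gen ns X_l3.ws) (cgrp ns X_C4) X_l3.b X_D3 :=
  isStab_plain ctx X_le3 X_lv3 (by norm_num) X_pt3_0

theorem X_ver3 : Ver ns X_C3 6 :=
  X_ver4.cons ctx X_st3 (by decide +kernel)

theorem X_le2 : gen ns X_l2.ws ≤ gen ns X_ss2 :=
  gen_le_step ctx (tgt := [[12], [14]])
  (es := [([12], [2, 2, 0]), ([14], [4, 3, 3, 5])]) X_le3 (by decide +kernel)

theorem X_lv2 : chkLvl 128 ns X_l2 X_C3 X_D2 1 = true :=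
  by decide +kernel

theorem X_pt2_0 : AllIn (PtOK 128 ns X_l2 X_C3 X_ss2 X_D2) 0 128 :=
  ptOK_of_chkPts ctx X_ver3 (a := 0) (n := 2) (by decide +kernel)

theorem X_st2 : IsStab 128 (gen ns X_l2.ws) (cgrp ns X_C3) X_l2.b X_D2 :=
  isStab_plain ctx X_le2 X_lv2 (by norm_num) X_pt2_0

theorem X_ver2 : Ver ns X_C2 24 :=
  X_ver3.cons ctx X_st2 (by decide +kernel)

theorem X_le1 : gen ns X_l1.ws ≤ gen ns X_ss1 :=
  gen_le_step ctx (tgt := [[8], [10]])
  (es := [([8], [2, 0, 3, 3, 1, 2, 1, 1]), ([10], [2, 2, 5, 2, 4, 2])]) X_le2 (by decide +kernel)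

theorem X_lv1 : chkLvl 128 ns X_l1 X_C2 X_D1 1 = true :=
  by decide +kernel

theorem X_pt1_0 : AllIn (PtOK 128 ns X_l1 X_C2 X_ss1 X_D1) 0 128 :=
  ptOK_of_chkPts ctx X_ver2 (a := 0) (n := 2) (by decide +kernel)

theorem X_st1 : IsStab 128 (gen ns X_l1.ws) (cgrp ns X_C2) X_l1.b X_D1 :=
  isStab_plain ctx X_le1 X_lv1 (by norm_num) X_pt1_0

theorem X_ver1 : Ver ns X_C1 120 :=
  X_ver2.cons ctx X_st1 (by decide +kernel)

theorem X_le0 : gen ns X_l0.ws ≤ gen ns X_ss0 :=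
  gen_le_step ctx (tgt := [[4], [6]])
  (es := [([4], [0, 3, 3, 3, 3, 1, 3, 0, 3, 3]), ([6], [3, 5])]) X_le1 (by decide +kernel)

theorem X_lv0 : chkLvl 128 ns X_l0 X_C1 X_D0 1 = true :=
  by decide +kernel

theorem X_pt0_0 : AllIn (PtOK 128 ns X_l0 X_C1 X_ss0 X_D0) 0 128 :=
  ptOK_of_chkPts ctx X_ver1 (a := 0) (n := 2) (by decide +kernel)

theorem X_st0 : IsStab 128 (gen ns X_l0.ws) (cgrp ns X_C1) X_l0.b X_D0 :=
  isStab_plain ctx X_le0 X_lv0 (by norm_num) X_pt0_0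

theorem X_ver0 : Ver ns X_C0 720 :=
  X_ver1.cons ctx X_st0 (by decide +kernel)

theorem X_eq : gen ns X_ss0 = cgrp ns X_C0 :=
  le_antisymm (gen_le_of_subsetL _ (by decide +kernel)) X_le0

theorem X_card : Nat.card (gen ns X_ss0) = 720 :=
  by rw [X_eq]; exact X_ver0.card

noncomputable def ps : List (List ℕ × List ℕ) :=
  [([0], [0]), ([2], [2])]

theorem chk : chkCover 128 7 ns 8 3 ModelA6.ns 6 ps [0, 1, 2, 3] [0, 1, 2, 3, 6] [([14], [0], [2], 2)] = true :=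
  by decide +kernel

theorem hb : StabIn 128 (cgrp ns X_C0) (gen ns [[14]]) [0, 1, 2, 3] :=
  (stabIn_cons X_st0 (stabIn_cons X_st1 (stabIn_cons X_st2 (stabIn_cons X_st3 (stabIn_nil _ _)))))

theorem hb' : IsBase 128 (cgrp ns X_C0) [0, 1, 2, 3, 6] :=
  StabIn.isBase (stabIn_cons X_st0 (stabIn_cons X_st1 (stabIn_cons X_st2 (stabIn_cons X_st3 (stabIn_cons X_st4 (stabIn_nil _ _))))))

theorem onto : MultOnto (gen ModelA6.ns ModelA6.G_ss0) (Multiplicative (ZMod 2)) :=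
  multOnto_cover ctx ModelA6.ctx (ps := ps) chk
    (((X_ver0.nested X_l4 (by simp [X_C0, X_C1, X_C2, X_C3, X_C4])).trans X_eq.ge :))
    (X_eq ▸ hb :) (X_eq ▸ hb' :) X_ver4.card

end Cfsg.Agent.Spor.CovA6b
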