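import Cfsg.Agent.KSG.MultCov
import Cfsg.Agent.Spor.ModelA7

set_option autoImplicit false
set_option maxRecDepth 4096
set_option Elab.async false

namespace Cfsg.Agent.Spor.CovA7a

open Cfsg Cfsg.Agent.Comp Cfsg.Agent.KSG.Pc

noncomputable def ns_0 : Net :=
 (Net.cons (nat_lit 32) (nat_lit 0x979c74d5)
 (Net.cons (nat_lit 16) (nat_lit 0x919200005bd1)
 (Net.cons (nat_lit 8) (nat_lit 0x1a00120025008c)
 (Net.cons (nat_lit 4) (nat_lit 0x20d070d040c0008)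
 (Net.cons (nat_lit 2) (nat_lit 0x2112303002012001)
 (Net.cons (nat_lit 1) (nat_lit 0x401101105144041)
 (Net.cons (nat_lit 2) (nat_lit 0x200200022000)
 (Net.cons (nat_lit 4) (nat_lit 0xa0c000602040400)
 (Net.cons (nat_lit 8) (nat_lit 0x1a00b8007c008c)
 (Net.cons (nat_lit 16) (nat_lit 0x161000005bd0)
 (Net.cons (nat_lit 32) (nat_lit 0x979972d6)
 Net.nil)))))))))))

noncomputable def ns_1 : Net :=
 (Net.cons (nat_lit 32) (nat_lit 0xbe1a8090)
 (Net.cons (nat_lit 16) (nat_lit 0x82d0000c83c)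
 (Net.cons (nat_lit 8) (nat_lit 0x9a00b1008f0060)
 (Net.cons (nat_lit 4) (nat_lit 0xe0d0d0404080508)
 (Net.cons (nat_lit 2) (nat_lit 0x3012023001000220)
 (Net.cons (nat_lit 1) (nat_lit 0x5010410404101404)
 (Net.cons (nat_lit 2) (nat_lit 0x20020202000200)
 (Net.cons (nat_lit 4) (nat_lit 0xc0c000200000204)
 (Net.cons (nat_lit 8) (nat_lit 0x96003e00460060)
 (Net.cons (nat_lit 16) (nat_lit 0xa8200000c95c)
 (Net.cons (nat_lit 32) (nat_lit 0xbe1bee08)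
 Net.nil)))))))))))

noncomputable def ns_2 : Net :=
 (Net.cons (nat_lit 32) (nat_lit 0xfe270264)
 (Net.cons (nat_lit 16) (nat_lit 0x9d130000fe26)
 (Net.cons (nat_lit 8) (nat_lit 0x5001c006100c0)
 (Net.cons (nat_lit 4) (nat_lit 0xa0b020b0f0a0c00)
 (Net.cons (nat_lit 2) (nat_lit 0x2221020202130102)
 (Net.cons (nat_lit 1) (nat_lit 0x5111441414400404)
 (Net.cons (nat_lit 2) (nat_lit 0x220002000000000)
 (Net.cons (nat_lit 4) (nat_lit 0xa040c02000c00)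
 (Net.cons (nat_lit 8) (nat_lit 0x200ba00d800c0)
 (Net.cons (nat_lit 16) (nat_lit 0x45120000fe20)
 (Net.cons (nat_lit 32) (nat_lit 0xfe2efdcc)
 Net.nil)))))))))))

noncomputable def ns_3 : Net :=
 (Net.cons (nat_lit 32) (nat_lit 0x8fc00000)
 (Net.cons (nat_lit 16) (nat_lit 0xc1e000003ff0)
 (Net.cons (nat_lit 8) (nat_lit 0x2e00290060)
 (Net.cons (nat_lit 4) (nat_lit 0x40a090a0000)
 (Net.cons (nat_lit 2) (nat_lit 0x121321302120010)
 (Net.cons (nat_lit 1) (nat_lit 0x544111114111000)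
 (Net.cons (nat_lit 2) (nat_lit 0x2202022002000)
 (Net.cons (nat_lit 4) (nat_lit 0xe040208000000)
 (Net.cons (nat_lit 8) (nat_lit 0xc000ba00140060)
 (Net.cons (nat_lit 16) (nat_lit 0xcfe000005ff0)
 (Net.cons (nat_lit 32) (nat_lit 0x8fc00000)
 Net.nil)))))))))))

noncomputable def ns_4 : Net :=
 (Net.cons (nat_lit 32) (nat_lit 0x6a4c59ba)
 (Net.cons (nat_lit 16) (nat_lit 0xdd0400003b38)
 (Net.cons (nat_lit 8) (nat_lit 0xdc0084008f0000)
 (Net.cons (nat_lit 4) (nat_lit 0x80d060e0d020508)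
 (Net.cons (nat_lit 2) (nat_lit 0x112220110030102)
 (Net.cons (nat_lit 1) (nat_lit 0x4100041041110010)
 (Net.cons (nat_lit 2) (nat_lit 0x2000022000200020)
 (Net.cons (nat_lit 4) (nat_lit 0xc04080e04080008)
 (Net.cons (nat_lit 8) (nat_lit 0x9600c400b60080)
 (Net.cons (nat_lit 16) (nat_lit 0xb74400002e20)
 (Net.cons (nat_lit 32) (nat_lit 0x6a4c59ba)
 Net.nil)))))))))))

noncomputable def ns_5 : Net :=
 (Net.cons (nat_lit 32) (nat_lit 0x26846652)
 (Net.cons (nat_lit 16) (nat_lit 0xd0d00000a52)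
 (Net.cons (nat_lit 8) (nat_lit 0x2400a6006a0090)
 (Net.cons (nat_lit 4) (nat_lit 0x6060a030e0a02)
 (Net.cons (nat_lit 2) (nat_lit 0x22122100001320)
 (Net.cons (nat_lit 1) (nat_lit 0x141141541504140)
 (Net.cons (nat_lit 2) (nat_lit 0x222220002000020)
 (Net.cons (nat_lit 4) (nat_lit 0xc0400000a0600)
 (Net.cons (nat_lit 8) (nat_lit 0x240012007800d0)
 (Net.cons (nat_lit 16) (nat_lit 0xd8000009b60)
 (Net.cons (nat_lit 32) (nat_lit 0x268d7470)
 Net.nil)))))))))))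

noncomputable def ns_6 : Net :=
 (Net.cons (nat_lit 32) (nat_lit 0x313f2e94)
 (Net.cons (nat_lit 16) (nat_lit 0x3f010000d8d0)
 (Net.cons (nat_lit 8) (nat_lit 0x14006b00100002)
 (Net.cons (nat_lit 4) (nat_lit 0xa0404050e01020a)
 (Net.cons (nat_lit 2) (nat_lit 0x2030032120110320)
 (Net.cons (nat_lit 1) (nat_lit 0x140151050450044)
 (Net.cons (nat_lit 2) (nat_lit 0x20202000000020)
 (Net.cons (nat_lit 4) (nat_lit 0x80406040e00000c)
 (Net.cons (nat_lit 8) (nat_lit 0x2c008a00c00064)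
 (Net.cons (nat_lit 16) (nat_lit 0x3e0800001210)
 (Net.cons (nat_lit 32) (nat_lit 0x31309d44)
 Net.nil)))))))))))

noncomputable def ns_7 : Net :=
 (Net.cons (nat_lit 32) (nat_lit 0x8fc00000)
 (Net.cons (nat_lit 16) (nat_lit 0xe3e000009fd8)
 (Net.cons (nat_lit 8) (nat_lit 0x100d500230070)
 (Net.cons (nat_lit 4) (nat_lit 0x200050e000e0008)
 (Net.cons (nat_lit 2) (nat_lit 0x302023033100030)
 (Net.cons (nat_lit 1) (nat_lit 0x4405044050041010)
 (Net.cons (nat_lit 2) (nat_lit 0x2000022000020020)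
 (Net.cons (nat_lit 4) (nat_lit 0x80e0006000a0008)
 (Net.cons (nat_lit 8) (nat_lit 0xe0005200900050)
 (Net.cons (nat_lit 16) (nat_lit 0xebe00000bfe8)
 (Net.cons (nat_lit 32) (nat_lit 0x8fc00000)
 Net.nil)))))))))))

noncomputable def ns_8 : Net :=
 (Net.cons (nat_lit 32) (nat_lit 0x80000000)
 (Net.cons (nat_lit 16) (nat_lit 0xc00000000000)
 (Net.cons (nat_lit 8) (nat_lit 0xc0009200c900e0)
 (Net.cons (nat_lit 4) (nat_lit 0xa0b0808020c00)
 (Net.cons (nat_lit 2) (nat_lit 0x23232222333220)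
 (Net.cons (nat_lit 1) (nat_lit 0x41105555401140)
 (Net.cons (nat_lit 2) (nat_lit 0x2000000202000)
 (Net.cons (nat_lit 4) (nat_lit 0x6020000040c00)
 (Net.cons (nat_lit 8) (nat_lit 0xc00024009200e0)
 (Net.cons (nat_lit 16) (nat_lit 0xc00000000000)
 (Net.cons (nat_lit 32) (nat_lit 0x80000000)
 Net.nil)))))))))))

noncomputable def ns : List Net := [ns_0, ns_1, ns_2, ns_3, ns_4, ns_5, ns_6, ns_7, ns_8]

theorem ctx : Ctx 64 6 ns := ctx_of (by decide +kernel)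

noncomputable def X_C6 : List Lvl :=
  []

noncomputable def X_ss5 : List (List ℕ) :=
  [[16]]

noncomputable def X_D5 : ℕ :=
  896

noncomputable def X_l5 : Lvl :=
  ⟨7, [[16]],
  tabA [(9, 1792), (8, 1793)], 1⟩

noncomputable def X_C5 : List Lvl :=
  X_l5 :: X_C6

noncomputable def X_ss4 : List (List ℕ) :=
  [[14], [16]]

noncomputable def X_D4 : ℕ :=
  112

noncomputable def X_l4 : Lvl :=
  ⟨4, [[14], [16]],
  tabA [(5, 1024), (6, 1025)], 1⟩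

noncomputable def X_C4 : List Lvl :=
  X_l4 :: X_C5

noncomputable def X_ss3 : List (List ℕ) :=
  [[10], [12]]

noncomputable def X_D3 : ℕ :=
  114

noncomputable def X_l3 : Lvl :=
  ⟨1, [[10], [12], [14], [16]],
  tabA [(5, 256), (4, 257), (6, 1284)], 2⟩

noncomputable def X_C3 : List Lvl :=
  X_l3 :: X_C4

noncomputable def X_ss2 : List (List ℕ) :=
  [[6], [8]]

noncomputable def X_D2 : ℕ :=
  122

noncomputable def X_l2 : Lvl :=
  ⟨3, [[6], [8], [10], [12], [14], [16]],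
  tabA [(4, 770), (1, 771), (5, 1024), (6, 1025)], 2⟩

noncomputable def X_C2 : List Lvl :=
  X_l2 :: X_C3

noncomputable def X_ss1 : List (List ℕ) :=
  [[4], [3]]

noncomputable def X_D1 : ℕ :=
  126

noncomputable def X_l1 : Lvl :=
  ⟨2, [[4], [3], [6], [8], [10], [12], [14], [16]],
  tabA [(6, 512), (3, 513), (5, 1536), (4, 1540), (1, 769)], 2⟩

noncomputable def X_C1 : List Lvl :=
  X_l1 :: X_C2

noncomputable def X_ss0 : List (List ℕ) :=
  [[0], [2]]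

noncomputable def X_D0 : ℕ :=
  127

noncomputable def X_l0 : Lvl :=
  ⟨0, [[0], [2], [4], [3], [6], [8], [10], [12], [14], [16]],
  tabA [(1, 0), (2, 1), (3, 260), (5, 261), (4, 267), (6, 515)], 2⟩

noncomputable def X_C0 : List Lvl :=
  X_l0 :: X_C1

theorem X_ver6 : Ver ns X_C6 1 :=
  ver_nil _

theorem X_le5 : gen ns X_l5.ws ≤ gen ns X_ss5 :=
  gen_le_step ctx (tgt := [])
  (es := []) (le_refl (gen _ [])) (by decide +kernel)

theorem X_lv5 : chkLvl 64 ns X_l5 X_C6 X_D5 2 = true :=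
  by decide +kernel

theorem X_pt5_0 : AllIn (PtOK 64 ns X_l5 X_C6 X_ss5 X_D5) 0 64 :=
  ptOK_of_chkPts ctx X_ver6 (a := 0) (n := 1) (by decide +kernel)

theorem X_st5 : IsStab 64 (gen ns X_l5.ws) (cgrp ns X_C6) X_l5.b X_D5 :=
  isStab_plain ctx X_le5 X_lv5 (by norm_num) X_pt5_0

theorem X_ver5 : Ver ns X_C5 3 :=
  X_ver6.cons ctx X_st5 (by decide +kernel)

theorem X_le4 : gen ns X_l4.ws ≤ gen ns X_ss4 :=
  gen_le_step ctx (tgt := [[16]])
  (es := [([16], [0, 2, 2, 0, 3, 1, 1])]) X_le5 (by decide +kernel)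

theorem X_lv4 : chkLvl 64 ns X_l4 X_C5 X_D4 2 = true :=
  by decide +kernel

theorem X_pt4_0 : AllIn (PtOK 64 ns X_l4 X_C5 X_ss4 X_D4) 0 64 :=
  ptOK_of_chkPts ctx X_ver5 (a := 0) (n := 1) (by decide +kernel)

theorem X_st4 : IsStab 64 (gen ns X_l4.ws) (cgrp ns X_C5) X_l4.b X_D4 :=
  isStab_plain ctx X_le4 X_lv4 (by norm_num) X_pt4_0

theorem X_ver4 : Ver ns X_C4 9 :=
  X_ver5.cons ctx X_st4 (by decide +kernel)

theorem X_le3 : gen ns X_l3.ws ≤ gen ns X_ss3 :=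
  gen_le_step ctx (tgt := [[14], [16]])
  (es := [([14], [0, 3, 0, 3, 0, 3, 3, 0]), ([16], [2, 5, 5, 3, 3, 3, 3])]) X_le4 (by decide +kernel)

theorem X_lv3 : chkLvl 64 ns X_l3 X_C4 X_D3 1 = true :=
  by decide +kernel

theorem X_pt3_0 : AllIn (PtOK 64 ns X_l3 X_C4 X_ss3 X_D3) 0 64 :=
  ptOK_of_chkPts ctx X_ver4 (a := 0) (n := 1) (by decide +kernel)

theorem X_st3 : IsStab 64 (gen ns X_l3.ws) (cgrp ns X_C4) X_l3.b X_D3 :=
  isStab_plain ctx X_le3 X_lv3 (by norm_num) X_pt3_0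

theorem X_ver3 : Ver ns X_C3 36 :=
  X_ver4.cons ctx X_st3 (by decide +kernel)

theorem X_le2 : gen ns X_l2.ws ≤ gen ns X_ss2 :=
  gen_le_step ctx (tgt := [[10], [12]])
  (es := [([10], [3, 0, 3, 3, 1, 2]), ([12], [5, 5, 2, 5, 2])]) X_le3 (by decide +kernel)

theorem X_lv2 : chkLvl 64 ns X_l2 X_C3 X_D2 1 = true :=
  by decide +kernel

theorem X_pt2_0 : AllIn (PtOK 64 ns X_l2 X_C3 X_ss2 X_D2) 0 64 :=
  ptOK_of_chkPts ctx X_ver3 (a := 0) (n := 1) (by decide +kernel)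

theorem X_st2 : IsStab 64 (gen ns X_l2.ws) (cgrp ns X_C3) X_l2.b X_D2 :=
  isStab_plain ctx X_le2 X_lv2 (by norm_num) X_pt2_0

theorem X_ver2 : Ver ns X_C2 180 :=
  X_ver3.cons ctx X_st2 (by decide +kernel)

theorem X_le1 : gen ns X_l1.ws ≤ gen ns X_ss1 :=
  gen_le_step ctx (tgt := [[6], [8]])
  (es := [([6], [1, 1, 2, 0]), ([8], [2, 5])]) X_le2 (by decide +kernel)

theorem X_lv1 : chkLvl 64 ns X_l1 X_C2 X_D1 1 = true :=
  by decide +kernel

theorem X_pt1_0 : AllIn (PtOK 64 ns X_l1 X_C2 X_ss1 X_D1) 0 64 :=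
  ptOK_of_chkPts ctx X_ver2 (a := 0) (n := 1) (by decide +kernel)

theorem X_st1 : IsStab 64 (gen ns X_l1.ws) (cgrp ns X_C2) X_l1.b X_D1 :=
  isStab_plain ctx X_le1 X_lv1 (by norm_num) X_pt1_0

theorem X_ver1 : Ver ns X_C1 1080 :=
  X_ver2.cons ctx X_st1 (by decide +kernel)

theorem X_le0 : gen ns X_l0.ws ≤ gen ns X_ss0 :=
  gen_le_step ctx (tgt := [[4], [3]])
  (es := [([4], [3, 3, 3, 1, 3, 0, 3, 3]), ([3], [5])]) X_le1 (by decide +kernel)

theorem X_lv0 : chkLvl 64 ns X_l0 X_C1 X_D0 1 = true :=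
  by decide +kernel

theorem X_pt0_0 : AllIn (PtOK 64 ns X_l0 X_C1 X_ss0 X_D0) 0 64 :=
  ptOK_of_chkPts ctx X_ver1 (a := 0) (n := 1) (by decide +kernel)

theorem X_st0 : IsStab 64 (gen ns X_l0.ws) (cgrp ns X_C1) X_l0.b X_D0 :=
  isStab_plain ctx X_le0 X_lv0 (by norm_num) X_pt0_0

theorem X_ver0 : Ver ns X_C0 7560 :=
  X_ver1.cons ctx X_st0 (by decide +kernel)

theorem X_eq : gen ns X_ss0 = cgrp ns X_C0 :=
  le_antisymm (gen_le_of_subsetL _ (by decide +kernel)) X_le0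

theorem X_card : Nat.card (gen ns X_ss0) = 7560 :=
  by rw [X_eq]; exact X_ver0.card

noncomputable def ps : List (List ℕ × List ℕ) :=
  [([0], [0]), ([2], [2])]

theorem chk : chkCover 64 6 ns 8 3 ModelA7.ns 7 ps [0, 2, 3, 1, 4] [0, 2, 3, 1, 4, 7] [([16], [0, 3, 1], [3], 2)] = true :=
  by decide +kernel

theorem hb : StabIn 64 (cgrp ns X_C0) (gen ns [[16]]) [0, 2, 3, 1, 4] :=
  (stabIn_cons X_st0 (stabIn_cons X_st1 (stabIn_cons X_st2 (stabIn_cons X_st3 (stabIn_cons X_st4 (stabIn_nil _ _))))))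

theorem hb' : IsBase 64 (cgrp ns X_C0) [0, 2, 3, 1, 4, 7] :=
  StabIn.isBase (stabIn_cons X_st0 (stabIn_cons X_st1 (stabIn_cons X_st2 (stabIn_cons X_st3 (stabIn_cons X_st4 (stabIn_cons X_st5 (stabIn_nil _ _)))))))

theorem onto : MultOnto (gen ModelA7.ns ModelA7.G_ss0) (Multiplicative (ZMod 3)) :=
  multOnto_cover ctx ModelA7.ctx (ps := ps) chk
    (((X_ver0.nested X_l5 (by simp [X_C0, X_C1, X_C2, X_C3, X_C4, X_C5])).trans X_eq.ge :))
    (X_eq ▸ hb :) (X_eq ▸ hb' :) X_ver5.card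

end Cfsg.Agent.Spor.CovA7a
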