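import Cfsg.Agent.KSG.MultCov
import Cfsg.Agent.Spor.ModelA7

set_option autoImplicit false
set_option maxRecDepth 4096
set_option Elab.async false

namespace Cfsg.Agent.Spor.CovA7b

open Cfsg Cfsg.Agent.Comp Cfsg.Agent.KSG.Pc

noncomputable def ns_0 : Net :=
 (Net.cons (nat_lit 128) (nat_lit 0xe68e661819969f80e61e58e078031e1d)
 (Net.cons (nat_lit 64) (nat_lit 0xff9e6007e61e67e0000000000000000063070d369aa88ef8)
 (Net.cons (nat_lit 32) (nat_lit 0x2b554d1f000000005da7f514000000004fa3f17900000000b4511afd)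
 (Net.cons (nat_lit 16) (nat_lit 0xdbb700007a22000019eb0000b068000018710000d9360000150200004554)
 (Net.cons (nat_lit 8) (nat_lit 0x35008100b0007400c700ac000600a7009e00dc007d0078002d0094000800c0)
 (Net.cons (nat_lit 4) (nat_lit 0x704090b0708070107090a0e0007060d0e0d020b0e020a02080d0e080f050b0c)
 (Net.cons (nat_lit 2) (nat_lit 0x220011020321112033013033010233110303203311012222121230210203231)
 (Net.cons (nat_lit 1) (nat_lit 0x4005100101110140101545400010404551104100141001440044410110100105)
 (Net.cons (nat_lit 2) (nat_lit 0x200200200000020000020000002202200200000000020220000000200)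
 (Net.cons (nat_lit 4) (nat_lit 0x40802000004080402000c0000000802040c0e080c020400080204080200040a)
 (Net.cons (nat_lit 8) (nat_lit 0x26001200a800ac006800ca00d00044009c00cc006e00760008006800000050)
 (Net.cons (nat_lit 16) (nat_lit 0x90f0000054980000f820000096c80000057000004200000004fe0000cd42)
 (Net.cons (nat_lit 32) (nat_lit 0x424dd530000000007d8950520000000025e3916c000000003df580b6)
 (Net.cons (nat_lit 64) (nat_lit 0xf99e03e00079ff8000000000000000006b530706f1faa06a)
 (Net.cons (nat_lit 128) (nat_lit 0xe6fd85fc67d9e7e6006e82646798099e)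
 Net.nil)))))))))))))))

noncomputable def ns_1 : Net :=
 (Net.cons (nat_lit 128) (nat_lit 0x2e4f26a5285d5cea942d469b957e0ca2)
 (Net.cons (nat_lit 64) (nat_lit 0x70c852110733adae0000000000000000bc4fd76b779a2eac)
 (Net.cons (nat_lit 32) (nat_lit 0x181309c00000000f7583ec600000000167dbc3a0000000007262a0c)
 (Net.cons (nat_lit 16) (nat_lit 0xb29f00001db000006e8c00001b120000cd7400002d7b0000b32c000017e8)
 (Net.cons (nat_lit 8) (nat_lit 0xbd002c00dd0070005c009000d600e000a2006000f1009d003300d400eb00b8)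
 (Net.cons (nat_lit 4) (nat_lit 0x3040d0a080906000c0309090402040300050708090a0f0a0505090103050b08)
 (Net.cons (nat_lit 2) (nat_lit 0x302303030121021301132013023012212332113311203033103121312232202)
 (Net.cons (nat_lit 1) (nat_lit 0x440011000100000004004100010010000010440400100014001400010400100)
 (Net.cons (nat_lit 2) (nat_lit 0x2200020020000000200000000022000000000000200)
 (Net.cons (nat_lit 4) (nat_lit 0xe000e0c0006000c00000e0008080600080204040806000c000e0408040c0008)
 (Net.cons (nat_lit 8) (nat_lit 0x3000360068001000f800e6004a00e8004000e00068005a00a400c200b0003a)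
 (Net.cons (nat_lit 16) (nat_lit 0xed040000af9c000041920000bebe00000a820000b0280000b7dc00003d20)
 (Net.cons (nat_lit 32) (nat_lit 0x7fb7b644000000005a2ca41000000000e7267b1e00000000571d18d0)
 (Net.cons (nat_lit 64) (nat_lit 0x7cbcb8fa5251ceb600000000000000002c3c2ae1d37cc0d4)
 (Net.cons (nat_lit 128) (nat_lit 0x2e3c3b15cbf2830b4e754a2346fd7892)
 Net.nil)))))))))))))))

noncomputable def ns_2 : Net :=
 (Net.cons (nat_lit 128) (nat_lit 0x40677b91f01d34939867aee6900f9bc)
 (Net.cons (nat_lit 64) (nat_lit 0x348b4ca3dca4864d0000000000000000b6bb663121fd6a38)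
 (Net.cons (nat_lit 32) (nat_lit 0x9ce8b11b00000000e030bc7d00000000d668283a0000000031f0f6ee)
 (Net.cons (nat_lit 16) (nat_lit 0x15c1000034a700003408000001ba000064db00006e780000163100000744)
 (Net.cons (nat_lit 8) (nat_lit 0x8700d2007e0077001800cc009d009e00fa00f900d9004000c40066004400ca)
 (Net.cons (nat_lit 4) (nat_lit 0xb020c0602020c070a0100040c0b020c0a060e0c0b03000605030f040b050406)
 (Net.cons (nat_lit 2) (nat_lit 0x203303100201030120320222210201230032002133022101011300320111330)
 (Net.cons (nat_lit 1) (nat_lit 0x1004140105400411111141401414114404011115154004455041100401004110)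
 (Net.cons (nat_lit 2) (nat_lit 0x2000200200022220200202002020000000200202002000002200002000200)
 (Net.cons (nat_lit 4) (nat_lit 0x206000802040c080200000004040a08080002040002000a0804080e08000c0c)
 (Net.cons (nat_lit 8) (nat_lit 0x8a0018006800ea004a0008008400b00090005a00c60010004800bc006a0028)
 (Net.cons (nat_lit 16) (nat_lit 0xbde80000502a00007a2a00009f70000062ac0000591200009c500000c51a)
 (Net.cons (nat_lit 32) (nat_lit 0x9c711196000000006b29d97000000000282a88f40000000090cb9f64)
 (Net.cons (nat_lit 64) (nat_lit 0x3489e2b352aa882a00000000000000003f47197f3d772982)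
 (Net.cons (nat_lit 128) (nat_lit 0x475e1eb6546e6e01f81d73980ae1eda)
 Net.nil)))))))))))))))

noncomputable def ns_3 : Net :=
 (Net.cons (nat_lit 128) (nat_lit 0x9e607e181fe60798661fff8006066780)
 (Net.cons (nat_lit 64) (nat_lit 0x28f950cd3d894850000000000000000a08ec289140f3538)
 (Net.cons (nat_lit 32) (nat_lit 0x21cdd57d00000000cf23452f00000000f9b5972100000000b725797a)
 (Net.cons (nat_lit 16) (nat_lit 0x30d10000d9fb000096cb000075790000804a0000bace0000d5b10000807c)
 (Net.cons (nat_lit 8) (nat_lit 0xfd00f800280088002b0077009300a100690019000c00a500da008a00c900e4)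
 (Net.cons (nat_lit 4) (nat_lit 0xa050b07080a03030e0c050408070a0309010d04000a0f01030c0c0b0f0f04)
 (Net.cons (nat_lit 2) (nat_lit 0x3323310131301031221323223130330030323312221001132313201332233230)
 (Net.cons (nat_lit 1) (nat_lit 0x4014151441101411141504411544415511555054545505511554100544101144)
 (Net.cons (nat_lit 2) (nat_lit 0x2020000000202002002002202002000022000000020000020002200002000222)
 (Net.cons (nat_lit 4) (nat_lit 0xc020404020000040c06040e0a00020000020000080c040c08060a060002)
 (Net.cons (nat_lit 8) (nat_lit 0x74005a00700004007400660098008c00f000040028000000780096009200f8)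
 (Net.cons (nat_lit 16) (nat_lit 0x8e48000083d400007bd4000087820000986c0000b9880000d10800009a7c)
 (Net.cons (nat_lit 32) (nat_lit 0xbf79c5a000000000c92c5d680000000018ae4d1600000000eaa0c362)
 (Net.cons (nat_lit 64) (nat_lit 0xcef307afdfa89520000000000000000e075b522aa43b0d8)
 (Net.cons (nat_lit 128) (nat_lit 0x9e07e0678067f9f99986018199818780)
 Net.nil)))))))))))))))

noncomputable def ns_4 : Net :=
 (Net.cons (nat_lit 128) (nat_lit 0x4d4accb53355332f4b3754b3534532b2)
 (Net.cons (nat_lit 64) (nat_lit 0xf2125571aa24a4900000000000000000e4b967e9a5fb4300)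
 (Net.cons (nat_lit 32) (nat_lit 0x622178100000000218ab4a900000000a2b875a20000000011616ce2)
 (Net.cons (nat_lit 16) (nat_lit 0xcbbb0000ffe90000adb90000d5b50000d2ef00002bac0000ca920000a5b4)
 (Net.cons (nat_lit 8) (nat_lit 0xfc00c300f800a500ec004c00950089002200510083008400c700a8006700b0)
 (Net.cons (nat_lit 4) (nat_lit 0x4070f080c0d030d000702010f0507070a0a0d01080905050800050309020904)
 (Net.cons (nat_lit 2) (nat_lit 0x111220121302022002013232112120110200231122211002112200210202122)
 (Net.cons (nat_lit 1) (nat_lit 0x1141141040004051004404114001155104514014104141044140411041404540)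
 (Net.cons (nat_lit 2) (nat_lit 0x2002020020002002000200020000000002020020000200020200000022202020)
 (Net.cons (nat_lit 4) (nat_lit 0xc000e06060c00000000000c060e0e000a0e000006080a0804020c0808040408)
 (Net.cons (nat_lit 8) (nat_lit 0xd60094006600340020001200920048009000d000fc00e0000e0026001c0014)
 (Net.cons (nat_lit 16) (nat_lit 0xd78c00006c460000e16400001468000040040000c270000048880000659c)
 (Net.cons (nat_lit 32) (nat_lit 0xd950ce62000000002cc2f5a200000000123e4030000000000aa64378)
 (Net.cons (nat_lit 64) (nat_lit 0xff1446a98bd76c480000000000000000e6af3710f7ee5800)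
 (Net.cons (nat_lit 128) (nat_lit 0x4d2ccb2b34b4ab32b3352ccd48b6acb8)
 Net.nil)))))))))))))))

noncomputable def ns_5 : Net :=
 (Net.cons (nat_lit 128) (nat_lit 0xff0406665fe601587e07007e3df80814)
 (Net.cons (nat_lit 64) (nat_lit 0x710d9f06baef8bb90000000000000000e07deff859409984)
 (Net.cons (nat_lit 32) (nat_lit 0x72f72953000000001112637000000000d54ab1e300000000b9af0e32)
 (Net.cons (nat_lit 16) (nat_lit 0x6c4f0000df2c0000ffe20000a8ce00001290000079720000a6a40000d904)
 (Net.cons (nat_lit 8) (nat_lit 0xb000610064000300e6000a009f005f001b00d4009d00de008300ef009a0082)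
 (Net.cons (nat_lit 4) (nat_lit 0xa0b0108060a010a040e0109080c010609000c01090b0c08010603000c030006)
 (Net.cons (nat_lit 2) (nat_lit 0x1032210312102111010312302211001311012002222010010001002003002130)
 (Net.cons (nat_lit 1) (nat_lit 0x1541411014415411154541544114511114014445404100441550145045145540)
 (Net.cons (nat_lit 2) (nat_lit 0x20000200002000022002022022020002020200000020000200000020020)
 (Net.cons (nat_lit 4) (nat_lit 0xc000008080c000804080808020c080a0a00000a0c00040800000a0e08080c06)
 (Net.cons (nat_lit 8) (nat_lit 0xdc00c00010001c00900064003e00a2002c008800c60098003000f0009c0082)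
 (Net.cons (nat_lit 16) (nat_lit 0x928a000042500000f92800003086000056fc0000d3740000194a00008d30)
 (Net.cons (nat_lit 32) (nat_lit 0xd5c98c2400000000656f823000000000b553b24200000000a6bafc36)
 (Net.cons (nat_lit 64) (nat_lit 0x837bf3e607b1b8b00000000000000000e0e5ebe1802261a0)
 (Net.cons (nat_lit 128) (nat_lit 0xff69e7887b84787e6010487fef800024)
 Net.nil)))))))))))))))

noncomputable def ns_6 : Net :=
 (Net.cons (nat_lit 128) (nat_lit 0x99e661e66678079e7e7980186799f800)
 (Net.cons (nat_lit 64) (nat_lit 0x8007e6619e0181860000000000000000e61819f99e607980)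
 (Net.cons (nat_lit 32) (nat_lit 0x79fe01ff0000000081f98000000000002cb2db3200000000054d72d8)
 (Net.cons (nat_lit 16) (nat_lit 0xfd53000001f90000f998000006010000a344000084b90000e6a100000740)
 (Net.cons (nat_lit 8) (nat_lit 0xc0009d0061008600e0005a00e00098004100d0002a00d000fe008600d00050)
 (Net.cons (nat_lit 4) (nat_lit 0x90e0307080f0e080007090a00030e010a07040d070e070807000109070a)
 (Net.cons (nat_lit 2) (nat_lit 0x2122032111021023320110312000233323323022301000211110031220322210)
 (Net.cons (nat_lit 1) (nat_lit 0x4040001111514515015444444055150044141441111110415011050414054140)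
 (Net.cons (nat_lit 2) (nat_lit 0x20002022022020020222222000200000222002020200200022000200002000)
 (Net.cons (nat_lit 4) (nat_lit 0xc080c000e08000808020000000000000e040000080000080808020c060200)
 (Net.cons (nat_lit 8) (nat_lit 0x24009e00e0008000980030009800e000080048009800b600fe008600340048)
 (Net.cons (nat_lit 16) (nat_lit 0x4ac000080660000fe600000f9fe00008120000007800000e320000084c0)
 (Net.cons (nat_lit 32) (nat_lit 0xf80186000000000081f98000000000004acac2ac0000000002caf358)
 (Net.cons (nat_lit 64) (nat_lit 0x8007e6619e0181860000000000000000e61819f99e607980)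
 (Net.cons (nat_lit 128) (nat_lit 0x99e661e66678079e7e7980186799f800)
 Net.nil)))))))))))))))

noncomputable def ns_7 : Net :=
 (Net.cons (nat_lit 128) (nat_lit 0x9e607e181fe60798661fff8006066780)
 (Net.cons (nat_lit 64) (nat_lit 0x19f879981999e07000000000000000061878799800601f8)
 (Net.cons (nat_lit 32) (nat_lit 0x19fe1ff00000000b2ab34d300000000061e618600000000e600787e)
 (Net.cons (nat_lit 16) (nat_lit 0x1f9000007e700000e76000069c40000ff8600001ec8000081e000008078)
 (Net.cons (nat_lit 8) (nat_lit 0x82000100790001009a00040067006100e000e0001f00f0006100e9008000e0)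
 (Net.cons (nat_lit 4) (nat_lit 0x80c04010704070e060e0203030a010508010e0e010e050807070f000e05040e)
 (Net.cons (nat_lit 2) (nat_lit 0x10330001300033321303302112010130232312001001003200030202002110)
 (Net.cons (nat_lit 1) (nat_lit 0x515410504445050404104140111140400404044001410000105050101554110)
 (Net.cons (nat_lit 2) (nat_lit 0x20000002220000202200200002220200202022002200000200000202000020)
 (Net.cons (nat_lit 4) (nat_lit 0x8000208080208080e000e000400060008080808000e04000e0808080800040e)
 (Net.cons (nat_lit 8) (nat_lit 0x86009800f8002c000800b6002400f800800018007000860068008000f8)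
 (Net.cons (nat_lit 16) (nat_lit 0x80000000f9e6000072f0000012d00000f980000007280000fe0000009878)
 (Net.cons (nat_lit 32) (nat_lit 0x9ff9f980000000004cccd4d400000000679f980000000000f981e066)
 (Net.cons (nat_lit 64) (nat_lit 0x99e678787ff8181e0000000000000000607f9e67f80799f8)
 (Net.cons (nat_lit 128) (nat_lit 0x9e07e0678067f9f99986018199818780)
 Net.nil)))))))))))))))

noncomputable def ns_8 : Net :=
 (Net.cons (nat_lit 128) (nat_lit 0x80000000000000000000000000000000)
 (Net.cons (nat_lit 64) (nat_lit 0x800000000000000100000000000000008000000000000000)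
 (Net.cons (nat_lit 32) (nat_lit 0x80000001000000008000000100000000800000010000000080000000)
 (Net.cons (nat_lit 16) (nat_lit 0x800100008001000080010000800100008001000080010000800100008000)
 (Net.cons (nat_lit 8) (nat_lit 0x80008100810081008100810081008100810081008100810081008100810080)
 (Net.cons (nat_lit 4) (nat_lit 0x9090909090909090909090909090909090909090909090909090909090900)
 (Net.cons (nat_lit 2) (nat_lit 0x33333333333333333333333333333333333333333333333333333333333300)
 (Net.cons (nat_lit 1) (nat_lit 0x55555555555555555555555555555555555555555555555555555555555500)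
 (Net.cons (nat_lit 8) (nat_lit 0x80000000000000000000000000000000000000000000000000000000000080)
 (Net.cons (nat_lit 16) 32768
 (Net.cons (nat_lit 32) (nat_lit 0x80000000)
 (Net.cons (nat_lit 64) (nat_lit 0x8000000000000000)
 (Net.cons (nat_lit 128) (nat_lit 0x80000000000000000000000000000000)
 Net.nil)))))))))))))

noncomputable def ns : List Net := [ns_0, ns_1, ns_2, ns_3, ns_4, ns_5, ns_6, ns_7, ns_8]

theorem ctx : Ctx 256 8 ns := ctx_of (by decide +kernel)

noncomputable def X_C6 : List Lvl :=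
  []

noncomputable def X_ss5 : List (List ℕ) :=
  [[16]]

noncomputable def X_D5 : ℕ :=
  384

noncomputable def X_l5 : Lvl :=
  ⟨7, [[16]],
  tabA [(8, 1792)], 1⟩

noncomputable def X_C5 : List Lvl :=
  X_l5 :: X_C6

noncomputable def X_ss4 : List (List ℕ) :=
  [[14], [16]]

noncomputable def X_D4 : ℕ :=
  112

noncomputable def X_l4 : Lvl :=
  ⟨4, [[14], [16]],
  tabA [(5, 1024), (6, 1025)], 1⟩

noncomputable def X_C4 : List Lvl :=
  X_l4 :: X_C5

noncomputable def X_ss3 : List (List ℕ) :=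
  [[10], [12]]

noncomputable def X_D3 : ℕ :=
  114

noncomputable def X_l3 : Lvl :=
  ⟨1, [[10], [12], [14], [16]],
  tabA [(5, 256), (4, 257), (6, 1284)], 2⟩

noncomputable def X_C3 : List Lvl :=
  X_l3 :: X_C4

noncomputable def X_ss2 : List (List ℕ) :=
  [[6], [8]]

noncomputable def X_D2 : ℕ :=
  122

noncomputable def X_l2 : Lvl :=
  ⟨3, [[6], [8], [10], [12], [14], [16]],
  tabA [(4, 770), (1, 771), (5, 1024), (6, 1025)], 2⟩

noncomputable def X_C2 : List Lvl :=
  X_l2 :: X_C3

noncomputable def X_ss1 : List (List ℕ) :=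
  [[4], [3]]

noncomputable def X_D1 : ℕ :=
  126

noncomputable def X_l1 : Lvl :=
  ⟨2, [[4], [3], [6], [8], [10], [12], [14], [16]],
  tabA [(6, 512), (3, 513), (5, 1536), (4, 1540), (1, 769)], 2⟩

noncomputable def X_C1 : List Lvl :=
  X_l1 :: X_C2

noncomputable def X_ss0 : List (List ℕ) :=
  [[0], [2]]

noncomputable def X_D0 : ℕ :=
  127

noncomputable def X_l0 : Lvl :=
  ⟨0, [[0], [2], [4], [3], [6], [8], [10], [12], [14], [16]],
  tabA [(1, 0), (2, 1), (3, 260), (5, 261), (4, 267), (6, 515)], 2⟩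

noncomputable def X_C0 : List Lvl :=
  X_l0 :: X_C1

theorem X_ver6 : Ver ns X_C6 1 :=
  ver_nil _

theorem X_le5 : gen ns X_l5.ws ≤ gen ns X_ss5 :=
  gen_le_step ctx (tgt := [])
  (es := []) (le_refl (gen _ [])) (by decide +kernel)

theorem X_lv5 : chkLvl 256 ns X_l5 X_C6 X_D5 1 = true :=
  by decide +kernel

theorem X_pt5_0 : AllIn (PtOK 256 ns X_l5 X_C6 X_ss5 X_D5) 0 256 :=
  ptOK_of_chkPts ctx X_ver6 (a := 0) (n := 4) (by decide +kernel)

theorem X_st5 : IsStab 256 (gen ns X_l5.ws) (cgrp ns X_C6) X_l5.b X_D5 :=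
  isStab_plain ctx X_le5 X_lv5 (by norm_num) X_pt5_0

theorem X_ver5 : Ver ns X_C5 2 :=
  X_ver6.cons ctx X_st5 (by decide +kernel)

theorem X_le4 : gen ns X_l4.ws ≤ gen ns X_ss4 :=
  gen_le_step ctx (tgt := [[16]])
  (es := [([16], [0, 2, 2, 0, 3, 1, 1])]) X_le5 (by decide +kernel)

theorem X_lv4 : chkLvl 256 ns X_l4 X_C5 X_D4 2 = true :=
  by decide +kernel

theorem X_pt4_0 : AllIn (PtOK 256 ns X_l4 X_C5 X_ss4 X_D4) 0 256 :=
  ptOK_of_chkPts ctx X_ver5 (a := 0) (n := 4) (by decide +kernel)

theorem X_st4 : IsStab 256 (gen ns X_l4.ws) (cgrp ns X_C5) X_l4.b X_D4 :=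
  isStab_plain ctx X_le4 X_lv4 (by norm_num) X_pt4_0

theorem X_ver4 : Ver ns X_C4 6 :=
  X_ver5.cons ctx X_st4 (by decide +kernel)

theorem X_le3 : gen ns X_l3.ws ≤ gen ns X_ss3 :=
  gen_le_step ctx (tgt := [[14], [16]])
  (es := [([14], [0, 3, 0, 3, 0, 3, 3, 0]), ([16], [2, 5, 5, 3, 3, 3, 3])]) X_le4 (by decide +kernel)

theorem X_lv3 : chkLvl 256 ns X_l3 X_C4 X_D3 1 = true :=
  by decide +kernel

theorem X_pt3_0 : AllIn (PtOK 256 ns X_l3 X_C4 X_ss3 X_D3) 0 256 :=
  ptOK_of_chkPts ctx X_ver4 (a := 0) (n := 4) (by decide +kernel)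

theorem X_st3 : IsStab 256 (gen ns X_l3.ws) (cgrp ns X_C4) X_l3.b X_D3 :=
  isStab_plain ctx X_le3 X_lv3 (by norm_num) X_pt3_0

theorem X_ver3 : Ver ns X_C3 24 :=
  X_ver4.cons ctx X_st3 (by decide +kernel)

theorem X_le2 : gen ns X_l2.ws ≤ gen ns X_ss2 :=
  gen_le_step ctx (tgt := [[10], [12]])
  (es := [([10], [3, 0, 3, 3, 1, 2]), ([12], [5, 5, 2, 5, 2])]) X_le3 (by decide +kernel)

theorem X_lv2 : chkLvl 256 ns X_l2 X_C3 X_D2 1 = true :=
  by decide +kernel

theorem X_pt2_0 : AllIn (PtOK 256 ns X_l2 X_C3 X_ss2 X_D2) 0 256 :=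
  ptOK_of_chkPts ctx X_ver3 (a := 0) (n := 4) (by decide +kernel)

theorem X_st2 : IsStab 256 (gen ns X_l2.ws) (cgrp ns X_C3) X_l2.b X_D2 :=
  isStab_plain ctx X_le2 X_lv2 (by norm_num) X_pt2_0

theorem X_ver2 : Ver ns X_C2 120 :=
  X_ver3.cons ctx X_st2 (by decide +kernel)

theorem X_le1 : gen ns X_l1.ws ≤ gen ns X_ss1 :=
  gen_le_step ctx (tgt := [[6], [8]])
  (es := [([6], [1, 1, 2, 0]), ([8], [2, 5])]) X_le2 (by decide +kernel)

theorem X_lv1 : chkLvl 256 ns X_l1 X_C2 X_D1 1 = true :=
  by decide +kernel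

theorem X_pt1_0 : AllIn (PtOK 256 ns X_l1 X_C2 X_ss1 X_D1) 0 256 :=
  ptOK_of_chkPts ctx X_ver2 (a := 0) (n := 4) (by decide +kernel)

theorem X_st1 : IsStab 256 (gen ns X_l1.ws) (cgrp ns X_C2) X_l1.b X_D1 :=
  isStab_plain ctx X_le1 X_lv1 (by norm_num) X_pt1_0

theorem X_ver1 : Ver ns X_C1 720 :=
  X_ver2.cons ctx X_st1 (by decide +kernel)

theorem X_le0 : gen ns X_l0.ws ≤ gen ns X_ss0 :=
  gen_le_step ctx (tgt := [[4], [3]])
  (es := [([4], [3, 3, 3, 1, 3, 0, 3, 3]), ([3], [5])]) X_le1 (by decide +kernel)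

theorem X_lv0 : chkLvl 256 ns X_l0 X_C1 X_D0 1 = true :=
  by decide +kernel

theorem X_pt0_0 : AllIn (PtOK 256 ns X_l0 X_C1 X_ss0 X_D0) 0 256 :=
  ptOK_of_chkPts ctx X_ver1 (a := 0) (n := 4) (by decide +kernel)

theorem X_st0 : IsStab 256 (gen ns X_l0.ws) (cgrp ns X_C1) X_l0.b X_D0 :=
  isStab_plain ctx X_le0 X_lv0 (by norm_num) X_pt0_0

theorem X_ver0 : Ver ns X_C0 5040 :=
  X_ver1.cons ctx X_st0 (by decide +kernel)

theorem X_eq : gen ns X_ss0 = cgrp ns X_C0 :=
  le_antisymm (gen_le_of_subsetL _ (by decide +kernel)) X_le0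

theorem X_card : Nat.card (gen ns X_ss0) = 5040 :=
  by rw [X_eq]; exact X_ver0.card

noncomputable def ps : List (List ℕ × List ℕ) :=
  [([0], [0]), ([2], [2])]

theorem chk : chkCover 256 8 ns 8 3 ModelA7.ns 7 ps [0, 2, 3, 1, 4] [0, 2, 3, 1, 4, 7] [([16], [0], [2], 3)] = true :=
  by decide +kernel

theorem hb : StabIn 256 (cgrp ns X_C0) (gen ns [[16]]) [0, 2, 3, 1, 4] :=
  (stabIn_cons X_st0 (stabIn_cons X_st1 (stabIn_cons X_st2 (stabIn_cons X_st3 (stabIn_cons X_st4 (stabIn_nil _ _))))))

theorem hb' : IsBase 256 (cgrp ns X_C0) [0, 2, 3, 1, 4, 7] :=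
  StabIn.isBase (stabIn_cons X_st0 (stabIn_cons X_st1 (stabIn_cons X_st2 (stabIn_cons X_st3 (stabIn_cons X_st4 (stabIn_cons X_st5 (stabIn_nil _ _)))))))

theorem onto : MultOnto (gen ModelA7.ns ModelA7.G_ss0) (Multiplicative (ZMod 2)) :=
  multOnto_cover ctx ModelA7.ctx (ps := ps) chk
    (((X_ver0.nested X_l5 (by simp [X_C0, X_C1, X_C2, X_C3, X_C4, X_C5])).trans X_eq.ge :))
    (X_eq ▸ hb :) (X_eq ▸ hb' :) X_ver5.card

end Cfsg.Agent.Spor.CovA7b
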