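import Cfsg.Agent.KSG.MultH
import Cfsg.Agent.Spor.ModelA6

set_option autoImplicit false
set_option Elab.async false
set_option maxRecDepth 4096
set_option Elab.async false

namespace Cfsg.Agent.Spor.MultA6

open Cfsg Cfsg.Agent.Comp Cfsg.Agent.KSG.Pc

noncomputable def ns_5 : Net :=
 (Net.cons (nat_lit 4) 14
 (Net.cons (nat_lit 2) 32
 (Net.cons (nat_lit 1) 80
 (Net.cons (nat_lit 4) 12
 Net.nil))))

noncomputable def ns_6 : Net :=
 (Net.cons (nat_lit 4) 4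
 (Net.cons (nat_lit 2) 16
 (Net.cons (nat_lit 1) 16
 (Net.cons (nat_lit 4) 4
 Net.nil))))

noncomputable def ns_7 : Net :=
 (Net.cons (nat_lit 4) 8
 (Net.cons (nat_lit 1) 16
 (Net.cons (nat_lit 2) 32
 (Net.cons (nat_lit 4) 8
 Net.nil))))

noncomputable def ns : List Net := [ModelA6.ns_0, ModelA6.ns_1, ModelA6.ns_2, ModelA6.ns_3, ModelA6.ns_4, ns_5, ns_6, ns_7]

theorem ctx : Ctx 8 3 ns := ctx_of (by decide +kernel)

theorem lctx : LCtx 8 3 4 7 trN3 ns := lctx_of ctx trOK3 (by decide +kernel)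

noncomputable def E : List ℕ → ℕ → ℕ := pfW0 8 3 4 7 trN3 ns

theorem hE : Evl 8 ns E := evl_pfW0 lctx

theorem geq : gen ModelA6.ns ModelA6.G_ss0 = gen ns ModelA6.G_ss0 :=
  gen_eq_of_take (ns := ModelA6.ns) (ns' := ns) (k := 5) rfl (ws := ModelA6.G_ss0) (by decide +kernel)

theorem geq0 : gen ModelA6.ns ModelA6.G_l0.ws = gen ns ModelA6.G_l0.ws :=
  gen_eq_of_take (ns := ModelA6.ns) (ns' := ns) (k := 5) rfl (ws := ModelA6.G_l0.ws) (by decide +kernel)

theorem hn : Nat.card (gen ns ModelA6.G_ss0) = 360 :=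
  geq ▸ ModelA6.G_card

theorem kn_0 : Known ns (gen ns ModelA6.G_ss0) 31 :=
  known_of_mem (ws := ModelA6.G_l0.ws) (gen_le_iff.1 (geq ▸ geq0 ▸ ModelA6.G_le0)) (by decide +kernel)

noncomputable def A_S4 : List SD :=
  []

noncomputable def A_d3 : SD :=
  ⟨3, 2, [14], lab 1 1 32, 1⟩

noncomputable def A_S3 : List SD :=
  A_d3 :: A_S4

noncomputable def A_d2 : SD :=
  ⟨2, 1, [8, 12, 14], lab 3 7 98816, 1⟩

noncomputable def A_S2 : List SD :=
  A_d2 :: A_S3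

noncomputable def A_d1 : SD :=
  ⟨1, 1, [4, 10, 8, 12, 14], lab 4 15 (nat_lit 0x200100), 2⟩

noncomputable def A_S1 : List SD :=
  A_d1 :: A_S2

noncomputable def A_d0 : SD :=
  ⟨0, 1, [0, 2, 4, 10, 8, 12, 14], lab 4 15 (nat_lit 0x684100), 2⟩

noncomputable def A_S0 : List SD :=
  A_d0 :: A_S1

theorem kn_1 : Known ns (gen ns ModelA6.G_ss0) 255 :=
  kn_0.steps ctx (es := [(5, [0, 3, 1, 2, 0, 0, 0, 0, 3]),
 (6, [4, 10, 5, 10, 10]),
 (7, [8, 8, 13, 8, 13, 13, 8])]) (by decide +kernel)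

theorem A_ex : Exact 8 ns A_S0 ∧ gen ns (sTop A_S0) = gen ns ModelA6.G_ss0 ∧ gen ns ModelA6.G_ss0 = gen ns ModelA6.G_ss0 :=
  exact_of_known ctx hn (le_rfl) kn_1 (by decide +kernel)

theorem hbase : IsBase 8 (gen ns ModelA6.G_ss0) [0, 1, 2, 3] :=
  isBase_of_exact A_ex (by decide +kernel)

noncomputable def m2_P : Pd :=
  ⟨2, 2, 1, 131376,
  nat_lit 0xffffffffffff, 22, 4, 13,
  nat_lit 0x200010000⟩

noncomputable def m2_aws : List (List ℕ) :=
  [[10, 13, 15], [4, 0, 8], [4, 4, 9, 14], [0, 14], [8, 14]]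

theorem m2_mem : ∀ u ∈ m2_aws, wp ns u ∈ gen ns ModelA6.G_ss0 :=
  kn_1.words (by decide +kernel)

noncomputable def m2_prs : Prs :=
  [(3, 2, 4), (4, 1, 4), (3, 4, 6), (4, 4, 5)]

noncomputable def m2_rels : List Rel :=
  [.con 4 1 1 [1282],
  .fus 3 [0, 0] [] [1027, 2049, 2306],
  .fus 4 [1, 1] [] [3, 2049, 2562],
  .fus 3 [2, 2] [] [1025, 1281, 2818],
  .fus 4 [3, 3] [] [1, 513, 3074],
  .con 2 0 1 [258, 1283, 2051],
  .con 2 0 0 [258, 513, 2049]]

noncomputable def m2_ys : List (List ℕ) :=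
  [[3075],
  [2819],
  [257]]

noncomputable def m2_ss : List (List ℕ × ℕ × ℕ) :=
  [([2049, 2562, 3074], 2, (nat_lit 0x2000203))]

noncomputable def m2_cs : List (List ℕ) :=
  [[(nat_lit 0x201020301)],
  [0, (nat_lit 0x301010301000301)],
  [(nat_lit 0x30003000001), (nat_lit 0x301010001000001), (nat_lit 0x300010201020301)]]

noncomputable def m2_B : List (ℕ × ℕ × List (List ℕ)) :=
  [(1, 1, [[2], [0], [1]]),
  (0, 1, [[1]])]

theorem m2_row0 : AllIn (fun j => m2_P.chkRow (eqB (Comp.evL E) [0, 1, 2, 3] m2_aws) j = true) 0 3 :=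
  allIn_of_allFrom (a := 0) (n := 3) (by decide +kernel)

theorem m2_pr0 : AllIn (fun j => m2_P.chkPr (eqB (Comp.evL E) [0, 1, 2, 3] m2_aws) (m2_prs.get j) = true) 0 4 :=
  allIn_of_allFrom (a := 0) (n := 4) (by decide +kernel)

theorem m2_rel0 : AllIn (fun k => m2_P.chkRel m2_prs (getL (Rel.con 0 0 0 []) m2_rels k) = true) 0 7 :=
  allIn_of_allFrom (a := 0) (n := 7) (by decide +kernel)

theorem m2_lin : m2_P.chkLin 1 m2_rels m2_ys m2_ss m2_cs = true :=
  by decide +kernel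

theorem m2_bound : MultBound 2 1 (gen ns ModelA6.G_ss0) :=
  multBound_net ctx m2_mem hn (P := m2_P) (B := m2_B) (by norm_num [m2_P])
    (GOK.of_rows (eSound_eqB (evl_evL ctx.ok hE) hbase m2_mem) m2_row0 m2_pr0 (by decide +kernel))
    (rels_of_allIn m2_rel0 (by decide +kernel)) m2_lin (by decide +kernel) (by decide +kernel)

noncomputable def m3_P : Pd :=
  ⟨1, 3, 2, 64,
  0, 12, 9, 6,
  nat_lit 0x10000000100000000⟩

noncomputable def m3_aws : List (List ℕ) :=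
  [[5, 14], [8, 1, 5, 8, 14], [0, 5, 13]]

theorem m3_mem : ∀ u ∈ m3_aws, wp ns u ∈ gen ns ModelA6.G_ss0 :=
  kn_1.words (by decide +kernel)

noncomputable def m3_prs : Prs :=
  [(2, 4, 1), (2, 1, 8)]

noncomputable def m3_rels : List Rel :=
  [.con 4 0 0 [259],
  .fus 2 [0, 0, 0] [] [1, 776, 1027],
  .fus 2 [1, 1, 1] [] [8, 770, 1283]]

noncomputable def m3_ys : List (List ℕ) :=
  [[1032, 1287],
  [1031, 1287]]

noncomputable def m3_ss : List (List ℕ × ℕ × ℕ) :=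
  [([257], 3, 8)]

noncomputable def m3_cs : List (List ℕ) :=
  [[(nat_lit 0x8070000)],
  [2050, (nat_lit 0x8080000)]]

noncomputable def m3_B : List (ℕ × ℕ × List (List ℕ)) :=
  [(0, 1, [[1], [1], [0]]),
  (1, 1, [[0], [0]])]

theorem m3_row0 : AllIn (fun j => m3_P.chkRow (eqB (Comp.evL E) [0, 1, 2, 3] m3_aws) j = true) 0 2 :=
  allIn_of_allFrom (a := 0) (n := 2) (by decide +kernel)

theorem m3_pr0 : AllIn (fun j => m3_P.chkPr (eqB (Comp.evL E) [0, 1, 2, 3] m3_aws) (m3_prs.get j) = true) 0 2 :=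
  allIn_of_allFrom (a := 0) (n := 2) (by decide +kernel)

theorem m3_rel0 : AllIn (fun k => m3_P.chkRel m3_prs (getL (Rel.con 0 0 0 []) m3_rels k) = true) 0 3 :=
  allIn_of_allFrom (a := 0) (n := 3) (by decide +kernel)

theorem m3_lin : m3_P.chkLin 1 m3_rels m3_ys m3_ss m3_cs = true :=
  by decide +kernel

theorem m3_bound : MultBound 3 1 (gen ns ModelA6.G_ss0) :=
  multBound_net ctx m3_mem hn (P := m3_P) (B := m3_B) (by norm_num [m3_P])
    (GOK.of_rows (eSound_eqB (evl_evL ctx.ok hE) hbase m3_mem) m3_row0 m3_pr0 (by decide +kernel))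
    (rels_of_allIn m3_rel0 (by decide +kernel)) m3_lin (by decide +kernel) (by decide +kernel)

theorem bounds : ∀ x ∈ ([(2, 1), (3, 1)] : List (ℕ × ℕ)), MultBound x.1 x.2 (gen ns ModelA6.G_ss0) :=
  List.forall_mem_cons.2 ⟨m2_bound, List.forall_mem_cons.2 ⟨m3_bound, fun _ h => absurd h List.not_mem_nil⟩⟩

theorem mult_of : ∀ {A : Type} [CommGroup A], Nat.card A = 6 → MultOnto (gen ModelA6.ns ModelA6.G_ss0) A →
    HasSchurMultiplier (gen ModelA6.ns ModelA6.G_ss0) A :=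
  fun ha h => hasMult_of_list ModelA6.G_card ha (geq ▸ bounds) (by decide +kernel) h

end Cfsg.Agent.Spor.MultA6
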