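import Cfsg.Agent.KSG.MultH
import Cfsg.Agent.Spor.ModelA7

set_option autoImplicit false
set_option Elab.async false
set_option maxRecDepth 4096
set_option Elab.async false

namespace Cfsg.Agent.Spor.MultA7

open Cfsg Cfsg.Agent.Comp Cfsg.Agent.KSG.Pc

noncomputable def ns_9 : Net :=
 (Net.cons (nat_lit 4) 8
 (Net.cons (nat_lit 2) 50
 (Net.cons (nat_lit 1) 20
 (Net.cons (nat_lit 2) 34
 (Net.cons (nat_lit 4) 10
 Net.nil)))))

noncomputable def ns_10 : Net :=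
 (Net.cons (nat_lit 4) 12
 (Net.cons (nat_lit 2) 16
 (Net.cons (nat_lit 1) 64
 (Net.cons (nat_lit 4) 12
 Net.nil))))

noncomputable def ns_11 : Net :=
 (Net.cons (nat_lit 4) 10
 (Net.cons (nat_lit 2) 50
 (Net.cons (nat_lit 1) 20
 (Net.cons (nat_lit 2) 34
 (Net.cons (nat_lit 4) 14
 Net.nil)))))

noncomputable def ns_12 : Net :=
 (Net.cons (nat_lit 4) 8
 (Net.cons (nat_lit 2) 32
 (Net.cons (nat_lit 1) 16
 (Net.cons (nat_lit 4) 8
 Net.nil))))

noncomputable def ns_13 : Net :=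
 (Net.cons (nat_lit 2) 48
 (Net.cons (nat_lit 1) 64
 (Net.cons (nat_lit 2) 32
 Net.nil)))

noncomputable def ns : List Net := [ModelA7.ns_0, ModelA7.ns_1, ModelA7.ns_2, ModelA7.ns_3, ModelA7.ns_4, ModelA7.ns_5, ModelA7.ns_6, ModelA7.ns_7, ModelA7.ns_8, ns_9, ns_10, ns_11, ns_12, ns_13]

theorem ctx : Ctx 8 3 ns := ctx_of (by decide +kernel)

theorem lctx : LCtx 8 3 4 7 trN3 ns := lctx_of ctx trOK3 (by decide +kernel)

noncomputable def E : List ℕ → ℕ → ℕ := pfW0 8 3 4 7 trN3 ns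

theorem hE : Evl 8 ns E := evl_pfW0 lctx

theorem geq : gen ModelA7.ns ModelA7.G_ss0 = gen ns ModelA7.G_ss0 :=
  gen_eq_of_take (ns := ModelA7.ns) (ns' := ns) (k := 9) rfl (ws := ModelA7.G_ss0) (by decide +kernel)

theorem geq0 : gen ModelA7.ns ModelA7.G_l0.ws = gen ns ModelA7.G_l0.ws :=
  gen_eq_of_take (ns := ModelA7.ns) (ns' := ns) (k := 9) rfl (ws := ModelA7.G_l0.ws) (by decide +kernel)

theorem hn : Nat.card (gen ns ModelA7.G_ss0) = 2520 :=
  geq ▸ ModelA7.G_card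

theorem kn_0 : Known ns (gen ns ModelA7.G_ss0) 511 :=
  known_of_mem (ws := ModelA7.G_l0.ws) (gen_le_iff.1 (geq ▸ geq0 ▸ ModelA7.G_le0)) (by decide +kernel)

noncomputable def A_S5 : List SD :=
  []

noncomputable def A_d4 : SD :=
  ⟨4, 2, [26], lab 1 1 32, 1⟩

noncomputable def A_S4 : List SD :=
  A_d4 :: A_S5

noncomputable def A_d3 : SD :=
  ⟨3, 1, [12, 24, 26], lab 3 7 69632, 1⟩

noncomputable def A_S3 : List SD :=
  A_d3 :: A_S4

noncomputable def A_d2 : SD :=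
  ⟨2, 1, [20, 22, 12, 24, 26], lab 4 15 (nat_lit 0x2310000), 2⟩

noncomputable def A_S2 : List SD :=
  A_d2 :: A_S3

noncomputable def A_d1 : SD :=
  ⟨1, 1, [4, 18, 20, 22, 12, 24, 26], lab 4 15 (nat_lit 0x1200300), 2⟩

noncomputable def A_S1 : List SD :=
  A_d1 :: A_S2

noncomputable def A_d0 : SD :=
  ⟨0, 1, [0, 2, 4, 18, 20, 22, 12, 24, 26], lab 5 31 (nat_lit 0x14c920400), 2⟩

noncomputable def A_S0 : List SD :=
  A_d0 :: A_S1

theorem kn_1 : Known ns (gen ns ModelA7.G_ss0) 16383 :=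
  kn_0.steps ctx (es := [(9, [0, 3, 3, 3, 3, 1, 3, 0, 3, 3, 0]),
 (10, [4, 18, 4]),
 (11, [19, 19, 5, 18, 5, 5]),
 (12, [20, 23, 20, 23, 21, 23, 23, 21, 22]),
 (13, [25, 12, 25, 12, 25, 25, 12])]) (by decide +kernel)

theorem A_ex : Exact 8 ns A_S0 ∧ gen ns (sTop A_S0) = gen ns ModelA7.G_ss0 ∧ gen ns ModelA7.G_ss0 = gen ns ModelA7.G_ss0 :=
  exact_of_known ctx hn (le_rfl) kn_1 (by decide +kernel)

theorem hbase : IsBase 8 (gen ns ModelA7.G_ss0) [0, 1, 2, 3, 4] :=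
  isBase_of_exact A_ex (by decide +kernel)

noncomputable def m2_P : Pd :=
  ⟨2, 2, 1, 131376,
  nat_lit 0xffffffffffff, 22, 4, 12,
  nat_lit 0x200010000⟩

noncomputable def m2_aws : List (List ℕ) :=
  [[18, 22, 20, 13], [23, 24], [4, 4, 20, 12, 27], [5, 24, 27], [21, 13, 27]]

theorem m2_mem : ∀ u ∈ m2_aws, wp ns u ∈ gen ns ModelA7.G_ss0 :=
  kn_1.words (by decide +kernel)

noncomputable def m2_prs : Prs :=
  [(3, 4, 2), (4, 1, 4), (4, 4, 5)]

noncomputable def m2_rels : List Rel :=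
  [.con 4 0 0 [514],
  .fus 3 [0, 0] [] [1025, 2051, 2306],
  .fus 4 [1, 1] [] [3, 2049, 2562],
  .fus 4 [2, 2] [] [1, 513, 2818],
  .con 2 0 1 [258, 1283, 2051],
  .con 2 0 0 [258, 513, 2049]]

noncomputable def m2_ys : List (List ℕ) :=
  [[2819],
  [2307, 2563, 2819],
  [257]]

noncomputable def m2_ss : List (List ℕ × ℕ × ℕ) :=
  [([2049, 2562, 2818], 2, (nat_lit 0x2020003))]

noncomputable def m2_cs : List (List ℕ) :=
  [[(nat_lit 0x203000301)],
  [0, (nat_lit 0x202030301)],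
  [(nat_lit 0x303000001), (nat_lit 0x3010101000001), (nat_lit 0x3000303000301)]]

noncomputable def m2_B : List (ℕ × ℕ × List (List ℕ)) :=
  [(1, 1, [[2], [0], [1]]),
  (2, 1, [[1]])]

theorem m2_row0 : AllIn (fun j => m2_P.chkRow (eqB (Comp.evL E) [0, 1, 2, 3, 4] m2_aws) j = true) 0 3 :=
  allIn_of_allFrom (a := 0) (n := 3) (by decide +kernel)

theorem m2_pr0 : AllIn (fun j => m2_P.chkPr (eqB (Comp.evL E) [0, 1, 2, 3, 4] m2_aws) (m2_prs.get j) = true) 0 3 :=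
  allIn_of_allFrom (a := 0) (n := 3) (by decide +kernel)

theorem m2_rel0 : AllIn (fun k => m2_P.chkRel m2_prs (getL (Rel.con 0 0 0 []) m2_rels k) = true) 0 6 :=
  allIn_of_allFrom (a := 0) (n := 6) (by decide +kernel)

theorem m2_lin : m2_P.chkLin 1 m2_rels m2_ys m2_ss m2_cs = true :=
  by decide +kernel

theorem m2_bound : MultBound 2 1 (gen ns ModelA7.G_ss0) :=
  multBound_net ctx m2_mem hn (P := m2_P) (B := m2_B) (by norm_num [m2_P])
    (GOK.of_rows (eSound_eqB (evl_evL ctx.ok hE) hbase m2_mem) m2_row0 m2_pr0 (by decide +kernel))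
    (rels_of_allIn m2_rel0 (by decide +kernel)) m2_lin (by decide +kernel) (by decide +kernel)

noncomputable def m3_P : Pd :=
  ⟨1, 3, 2, 64,
  0, 12, 9, 6,
  nat_lit 0x10000000100000000⟩

noncomputable def m3_aws : List (List ℕ) :=
  [[4, 4, 23, 24, 27], [24, 27], [5, 21, 26]]

theorem m3_mem : ∀ u ∈ m3_aws, wp ns u ∈ gen ns ModelA7.G_ss0 :=
  kn_1.words (by decide +kernel)

noncomputable def m3_prs : Prs :=
  [(2, 1, 4), (2, 4, 2)]

noncomputable def m3_rels : List Rel :=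
  [.con 4 0 0 [259],
  .fus 2 [0, 0, 0] [] [8, 769, 1027],
  .fus 2 [1, 1, 1] [] [2, 776, 1283]]

noncomputable def m3_ys : List (List ℕ) :=
  [[1031, 1287],
  [1032, 1287]]

noncomputable def m3_ss : List (List ℕ × ℕ × ℕ) :=
  [([257], 3, 8)]

noncomputable def m3_cs : List (List ℕ) :=
  [[(nat_lit 0x8080000)],
  [2050, (nat_lit 0x8070000)]]

noncomputable def m3_B : List (ℕ × ℕ × List (List ℕ)) :=
  [(3, 1, [[1], [1], [0]]),
  (1, 1, [[0], [0]])]

theorem m3_row0 : AllIn (fun j => m3_P.chkRow (eqB (Comp.evL E) [0, 1, 2, 3, 4] m3_aws) j = true) 0 2 :=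
  allIn_of_allFrom (a := 0) (n := 2) (by decide +kernel)

theorem m3_pr0 : AllIn (fun j => m3_P.chkPr (eqB (Comp.evL E) [0, 1, 2, 3, 4] m3_aws) (m3_prs.get j) = true) 0 2 :=
  allIn_of_allFrom (a := 0) (n := 2) (by decide +kernel)

theorem m3_rel0 : AllIn (fun k => m3_P.chkRel m3_prs (getL (Rel.con 0 0 0 []) m3_rels k) = true) 0 3 :=
  allIn_of_allFrom (a := 0) (n := 3) (by decide +kernel)

theorem m3_lin : m3_P.chkLin 1 m3_rels m3_ys m3_ss m3_cs = true :=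
  by decide +kernel

theorem m3_bound : MultBound 3 1 (gen ns ModelA7.G_ss0) :=
  multBound_net ctx m3_mem hn (P := m3_P) (B := m3_B) (by norm_num [m3_P])
    (GOK.of_rows (eSound_eqB (evl_evL ctx.ok hE) hbase m3_mem) m3_row0 m3_pr0 (by decide +kernel))
    (rels_of_allIn m3_rel0 (by decide +kernel)) m3_lin (by decide +kernel) (by decide +kernel)

theorem bounds : ∀ x ∈ ([(2, 1), (3, 1)] : List (ℕ × ℕ)), MultBound x.1 x.2 (gen ns ModelA7.G_ss0) :=
  List.forall_mem_cons.2 ⟨m2_bound, List.forall_mem_cons.2 ⟨m3_bound, fun _ h => absurd h List.not_mem_nil⟩⟩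

theorem mult_of : ∀ {A : Type} [CommGroup A], Nat.card A = 6 → MultOnto (gen ModelA7.ns ModelA7.G_ss0) A →
    HasSchurMultiplier (gen ModelA7.ns ModelA7.G_ss0) A :=
  fun ha h => hasMult_of_list ModelA7.G_card ha (geq ▸ bounds) (by decide +kernel) h

end Cfsg.Agent.Spor.MultA7
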