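import Cfsg.Agent.Spor.GolayModel
import Cfsg.Agent.Spor.M24Basic

set_option autoImplicit false
set_option maxRecDepth 4096

namespace Cfsg.Agent.Spor.ModelM11

open Cfsg.Agent.Comp

noncomputable def ns_0 : Net :=
 (Net.cons (nat_lit 16) 19472
 (Net.cons (nat_lit 8) (nat_lit 0x480018)
 (Net.cons (nat_lit 4) (nat_lit 0x4030006)
 (Net.cons (nat_lit 2) 512
 (Net.cons (nat_lit 1) (nat_lit 0x400110)
 (Net.cons (nat_lit 2) 512
 (Net.cons (nat_lit 4) 2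
 (Net.cons (nat_lit 8) (nat_lit 0x400018)
 (Net.cons (nat_lit 16) 19472
 Net.nil)))))))))

noncomputable def ns_1 : Net :=
 (Net.cons (nat_lit 16) 59400
 (Net.cons (nat_lit 8) (nat_lit 0x680004)
 (Net.cons (nat_lit 4) (nat_lit 0xc020700)
 (Net.cons (nat_lit 2) (nat_lit 0x20213020)
 (Net.cons (nat_lit 1) (nat_lit 0x4514004)
 (Net.cons (nat_lit 2) 139264
 (Net.cons (nat_lit 4) (nat_lit 0xc020600)
 (Net.cons (nat_lit 8) (nat_lit 0x400004)
 (Net.cons (nat_lit 16) 59432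
 Net.nil)))))))))

noncomputable def ns_2 : Net :=
 (Net.cons (nat_lit 16) 50368
 (Net.cons (nat_lit 8) (nat_lit 0xc40028)
 (Net.cons (nat_lit 4) (nat_lit 0x4080200)
 (Net.cons (nat_lit 2) (nat_lit 0x220200)
 (Net.cons (nat_lit 1) (nat_lit 0x441150)
 (Net.cons (nat_lit 2) (nat_lit 0x220200)
 (Net.cons (nat_lit 4) 512
 (Net.cons (nat_lit 8) (nat_lit 0xc40028)
 (Net.cons (nat_lit 16) 50368
 Net.nil)))))))))

noncomputable def ns_3 : Net :=
 (Net.cons (nat_lit 16) 64232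
 (Net.cons (nat_lit 8) (nat_lit 0x140040)
 (Net.cons (nat_lit 4) (nat_lit 0x4050408)
 (Net.cons (nat_lit 2) (nat_lit 0x12010020)
 (Net.cons (nat_lit 1) (nat_lit 0x54040010)
 (Net.cons (nat_lit 2) 131104
 (Net.cons (nat_lit 4) 786440
 (Net.cons (nat_lit 8) 917568
 (Net.cons (nat_lit 16) 64080
 Net.nil)))))))))

noncomputable def ns_4 : Net :=
 (Net.cons (nat_lit 16) 29560
 (Net.cons (nat_lit 8) 184
 (Net.cons (nat_lit 4) (nat_lit 0x4040400)
 (Net.cons (nat_lit 2) (nat_lit 0x1333000)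
 (Net.cons (nat_lit 1) (nat_lit 0x11041040)
 (Net.cons (nat_lit 2) 131072
 (Net.cons (nat_lit 4) (nat_lit 0x4040408)
 (Net.cons (nat_lit 8) (nat_lit 0x5200b0)
 (Net.cons (nat_lit 16) 29560
 Net.nil)))))))))

noncomputable def ns_5 : Net :=
 (Net.cons (nat_lit 16) 47088
 (Net.cons (nat_lit 8) (nat_lit 0x8b0070)
 (Net.cons (nat_lit 4) (nat_lit 0x3030800)
 (Net.cons (nat_lit 2) (nat_lit 0x203000)
 (Net.cons (nat_lit 1) (nat_lit 0x4401040)
 (Net.cons (nat_lit 2) (nat_lit 0x200000)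
 (Net.cons (nat_lit 4) (nat_lit 0x8040800)
 (Net.cons (nat_lit 8) (nat_lit 0x280070)
 (Net.cons (nat_lit 16) 47088
 Net.nil)))))))))

noncomputable def ns_6 : Net :=
 (Net.cons (nat_lit 16) 29560
 (Net.cons (nat_lit 8) (nat_lit 0x2500c0)
 (Net.cons (nat_lit 4) (nat_lit 0x302040a)
 (Net.cons (nat_lit 2) (nat_lit 0x13300022)
 (Net.cons (nat_lit 1) (nat_lit 0x14014010)
 (Net.cons (nat_lit 2) (nat_lit 0x2000020)
 (Net.cons (nat_lit 4) (nat_lit 0x4020802)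
 (Net.cons (nat_lit 8) (nat_lit 0x3400c0)
 (Net.cons (nat_lit 16) 29560
 Net.nil)))))))))

noncomputable def ns : List Net := [ns_0, ns_1, ns_2, ns_3, ns_4, ns_5, ns_6]

theorem ctx : Ctx 32 5 ns := ctx_of (by decide +kernel)

noncomputable def G_C4 : List Lvl :=
  []

noncomputable def G_ss3 : List (List ℕ) :=
  [[10], [12]]

noncomputable def G_D3 : ℕ :=
  340816

noncomputable def G_l3 : Lvl :=
  ⟨4, [[10], [12]],
  tabA [(8, 1024), (16, 1025), (9, 1026), (6, 1027), (12, 2048), (18, 2050), (13, 2051)], 2⟩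

noncomputable def G_C3 : List Lvl :=
  G_l3 :: G_C4

noncomputable def G_ss2 : List (List ℕ) :=
  [[6], [8]]

noncomputable def G_D2 : ℕ :=
  340824

noncomputable def G_l2 : Lvl :=
  ⟨3, [[6], [8], [10], [12]],
  tabA [(4, 768), (6, 769), (16, 1024), (13, 1026), (18, 1027), (8, 1028), (9, 1030), (12, 1543)], 2⟩

noncomputable def G_C2 : List Lvl :=
  G_l2 :: G_C3

noncomputable def G_ss1 : List (List ℕ) :=
  [[4], [2]]

noncomputable def G_D1 : ℕ :=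
  340828

noncomputable def G_l1 : Lvl :=
  ⟨2, [[4], [2], [6], [8], [10], [12]],
  tabA [(9, 514), (12, 515), (8, 2306), (18, 2309), (16, 2310), (13, 2312), (4, 2315), (6, 3082), (3, 2048)], 3⟩

noncomputable def G_C1 : List Lvl :=
  G_l1 :: G_C2

noncomputable def G_ss0 : List (List ℕ) :=
  [[0], [2]]

noncomputable def G_D0 : ℕ :=
  340830

noncomputable def G_l0 : Lvl :=
  ⟨1, [[0], [4], [2], [6], [8], [10], [12]],
  tabA [(12, 256), (9, 3074), (2, 3076), (8, 3077), (13, 3078), (18, 3080), (16, 3082), (6, 3084), (4, 2317), (3, 2048)], 3⟩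

noncomputable def G_C0 : List Lvl :=
  G_l0 :: G_C1

theorem G_ver4 : Ver ns G_C4 1 :=
  ver_nil _

theorem G_le3 : gen ns G_l3.ws ≤ gen ns G_ss3 :=
  gen_le_step ctx (tgt := [])
  (es := []) (le_refl (gen _ [])) (by decide +kernel)

theorem G_lv3 : chkLvl 32 ns G_l3 G_C4 G_D3 2 = true :=
  by decide +kernel

theorem G_pt3_0 : AllIn (PtOK 32 ns G_l3 G_C4 G_ss3 G_D3) 0 64 :=
  ptOK_of_chkPts ctx G_ver4 (a := 0) (n := 1) (by decide +kernel)

theorem G_st3 : IsStab 32 (gen ns G_l3.ws) (cgrp ns G_C4) G_l3.b G_D3 :=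
  isStab_plain ctx G_le3 G_lv3 (by norm_num) G_pt3_0

theorem G_ver3 : Ver ns G_C3 8 :=
  G_ver4.cons ctx G_st3 (by decide +kernel)

theorem G_le2 : gen ns G_l2.ws ≤ gen ns G_ss2 :=
  gen_le_step ctx (tgt := [[10], [12]])
  (es := [([10], [0, 2, 1, 1]), ([12], [3, 3, 5, 2, 4, 4, 3, 4, 3])]) G_le3 (by decide +kernel)

theorem G_lv2 : chkLvl 32 ns G_l2 G_C3 G_D2 2 = true :=
  by decide +kernel

theorem G_pt2_0 : AllIn (PtOK 32 ns G_l2 G_C3 G_ss2 G_D2) 0 64 :=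
  ptOK_of_chkPts ctx G_ver3 (a := 0) (n := 1) (by decide +kernel)

theorem G_st2 : IsStab 32 (gen ns G_l2.ws) (cgrp ns G_C3) G_l2.b G_D2 :=
  isStab_plain ctx G_le2 G_lv2 (by norm_num) G_pt2_0

theorem G_ver2 : Ver ns G_C2 72 :=
  G_ver3.cons ctx G_st2 (by decide +kernel)

theorem G_le1 : gen ns G_l1.ws ≤ gen ns G_ss1 :=
  gen_le_step ctx (tgt := [[6], [8]])
  (es := [([6], [3, 0, 3]), ([8], [5, 5, 3, 4, 3, 5, 3, 5, 2, 5, 2, 2, 5])]) G_le2 (by decide +kernel)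

theorem G_lv1 : chkLvl 32 ns G_l1 G_C2 G_D1 2 = true :=
  by decide +kernel

theorem G_pt1_0 : AllIn (PtOK 32 ns G_l1 G_C2 G_ss1 G_D1) 0 64 :=
  ptOK_of_chkPts ctx G_ver2 (a := 0) (n := 1) (by decide +kernel)

theorem G_st1 : IsStab 32 (gen ns G_l1.ws) (cgrp ns G_C2) G_l1.b G_D1 :=
  isStab_plain ctx G_le1 G_lv1 (by norm_num) G_pt1_0

theorem G_ver1 : Ver ns G_C1 720 :=
  G_ver2.cons ctx G_st1 (by decide +kernel)

theorem G_le0 : gen ns G_l0.ws ≤ gen ns G_ss0 :=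
  gen_le_step ctx (tgt := [[4], [2]])
  (es := [([4], [1, 2, 1, 3, 0, 2, 0, 3, 0]), ([2], [3, 3, 4, 3, 3, 3, 3])]) G_le1 (by decide +kernel)

theorem G_lv0 : chkLvl 32 ns G_l0 G_C1 G_D0 2 = true :=
  by decide +kernel

theorem G_pt0_0 : AllIn (PtOK 32 ns G_l0 G_C1 G_ss0 G_D0) 0 64 :=
  ptOK_of_chkPts ctx G_ver1 (a := 0) (n := 1) (by decide +kernel)

theorem G_st0 : IsStab 32 (gen ns G_l0.ws) (cgrp ns G_C1) G_l0.b G_D0 :=
  isStab_plain ctx G_le0 G_lv0 (by norm_num) G_pt0_0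

theorem G_ver0 : Ver ns G_C0 7920 :=
  G_ver1.cons ctx G_st0 (by decide +kernel)

theorem G_eq : gen ns G_ss0 = cgrp ns G_C0 :=
  le_antisymm (gen_le_of_subsetL _ (by decide +kernel)) G_le0

theorem G_card : Nat.card (gen ns G_ss0) = 7920 :=
  by rw [G_eq]; exact G_ver0.card

theorem model : ∃ e : Cfsg.Spor.M11 ≃* gen ns G_ss0,
    ∀ g : Cfsg.Spor.M11, RepBy 24 pt (g : Equiv.Perm GolayPt) (e g : Equiv.Perm ℕ) :=
  exists_model_golay _ mem_M11_crit ctx (by decide +kernel) (isM11_M11.2.trans G_card.symm).le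

noncomputable def equiv : Cfsg.Spor.M11 ≃* gen ns G_ss0 :=
  Classical.choose model

theorem equiv_rep : ∀ g : Cfsg.Spor.M11, RepBy 24 pt (g : Equiv.Perm GolayPt) (equiv g : Equiv.Perm ℕ) :=
  Classical.choose_spec model

theorem G_supp : gen ns G_ss0 ≤ suppSub 24 :=
  gen_le_supp_of_suppW ctx (by decide +kernel)

end Cfsg.Agent.Spor.ModelM11
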