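import Cfsg.Agent.Comp.Known
import Cfsg.Agent.Spor.ModelM11

set_option autoImplicit false
set_option maxRecDepth 4096

namespace Cfsg.Agent.Spor.OutM11

open Cfsg.Agent.Comp

noncomputable def ns_2 : Net :=
 (Net.cons (nat_lit 16) 44912
 (Net.cons (nat_lit 8) (nat_lit 0x7100b0)
 (Net.cons (nat_lit 4) (nat_lit 0x10a000a)
 (Net.cons (nat_lit 2) (nat_lit 0x230020)
 (Net.cons (nat_lit 1) (nat_lit 0x45001050)
 (Net.cons (nat_lit 2) (nat_lit 0x20002000)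
 (Net.cons (nat_lit 4) (nat_lit 0xa00000e)
 (Net.cons (nat_lit 8) (nat_lit 0x5000b0)
 (Net.cons (nat_lit 16) 44952
 Net.nil)))))))))

noncomputable def ns_3 : Net :=
 (Net.cons (nat_lit 16) 59926
 (Net.cons (nat_lit 8) (nat_lit 0x66000c)
 (Net.cons (nat_lit 4) (nat_lit 0x80d0404)
 (Net.cons (nat_lit 2) (nat_lit 0x22021222)
 (Net.cons (nat_lit 1) (nat_lit 0x44140114)
 (Net.cons (nat_lit 2) (nat_lit 0x22000222)
 (Net.cons (nat_lit 4) 787456
 (Net.cons (nat_lit 8) (nat_lit 0x2c000c)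
 (Net.cons (nat_lit 16) 59984
 Net.nil)))))))))

noncomputable def ns_4 : Net :=
 (Net.cons (nat_lit 16) 46076
 (Net.cons (nat_lit 8) (nat_lit 0xa100c0)
 (Net.cons (nat_lit 4) (nat_lit 0xa0d0008)
 (Net.cons (nat_lit 2) (nat_lit 0x2320030)
 (Net.cons (nat_lit 1) (nat_lit 0x10404410)
 (Net.cons (nat_lit 2) (nat_lit 0x200000)
 (Net.cons (nat_lit 4) (nat_lit 0x80a0008)
 (Net.cons (nat_lit 8) (nat_lit 0x1200c0)
 (Net.cons (nat_lit 16) 45948
 Net.nil)))))))))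

noncomputable def ns_5 : Net :=
 (Net.cons (nat_lit 16) 59432
 (Net.cons (nat_lit 8) (nat_lit 0xe00004)
 (Net.cons (nat_lit 4) (nat_lit 0xc020100)
 (Net.cons (nat_lit 2) (nat_lit 0x20110120)
 (Net.cons (nat_lit 1) (nat_lit 0x4540104)
 (Net.cons (nat_lit 2) 131072
 (Net.cons (nat_lit 4) (nat_lit 0xc020000)
 (Net.cons (nat_lit 8) (nat_lit 0x200004)
 (Net.cons (nat_lit 16) 59400
 Net.nil)))))))))

noncomputable def ns_6 : Net :=
 (Net.cons (nat_lit 16) 17024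
 (Net.cons (nat_lit 8) (nat_lit 0x420030)
 (Net.cons (nat_lit 4) (nat_lit 0x4080102)
 (Net.cons (nat_lit 2) (nat_lit 0x2000012)
 (Net.cons (nat_lit 1) (nat_lit 0x4510004)
 (Net.cons (nat_lit 2) (nat_lit 0x2000002)
 (Net.cons (nat_lit 4) (nat_lit 0x4080002)
 (Net.cons (nat_lit 8) (nat_lit 0x420030)
 (Net.cons (nat_lit 16) 16896
 Net.nil)))))))))

noncomputable def ns_7 : Net :=
 (Net.cons (nat_lit 16) 18516
 (Net.cons (nat_lit 8) (nat_lit 0xaa00a4)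
 (Net.cons (nat_lit 4) (nat_lit 0x2050206)
 (Net.cons (nat_lit 2) (nat_lit 0x20100310)
 (Net.cons (nat_lit 1) (nat_lit 0x40000404)
 (Net.cons (nat_lit 2) 514
 (Net.cons (nat_lit 4) 514
 (Net.cons (nat_lit 8) (nat_lit 0xa20000)
 (Net.cons (nat_lit 16) 18516
 Net.nil)))))))))

noncomputable def ns_8 : Net :=
 (Net.cons (nat_lit 16) 41052
 (Net.cons (nat_lit 8) (nat_lit 0xa0006c)
 (Net.cons (nat_lit 4) 722956
 (Net.cons (nat_lit 2) (nat_lit 0x20010220)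
 (Net.cons (nat_lit 1) (nat_lit 0x414410)
 (Net.cons (nat_lit 2) (nat_lit 0x222220)
 (Net.cons (nat_lit 4) 264192
 (Net.cons (nat_lit 8) (nat_lit 0xa00064)
 (Net.cons (nat_lit 16) 41208
 Net.nil)))))))))

noncomputable def ns_9 : Net :=
 (Net.cons (nat_lit 16) 27972
 (Net.cons (nat_lit 8) (nat_lit 0x65001c)
 (Net.cons (nat_lit 4) (nat_lit 0x8070e00)
 (Net.cons (nat_lit 2) (nat_lit 0x21313020)
 (Net.cons (nat_lit 1) (nat_lit 0x414040)
 (Net.cons (nat_lit 2) (nat_lit 0x220000)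
 (Net.cons (nat_lit 4) (nat_lit 0x8080e00)
 (Net.cons (nat_lit 8) (nat_lit 0x64009c)
 (Net.cons (nat_lit 16) 27972
 Net.nil)))))))))

noncomputable def ns_10 : Net :=
 (Net.cons (nat_lit 16) 27840
 (Net.cons (nat_lit 8) (nat_lit 0xbe0054)
 (Net.cons (nat_lit 4) (nat_lit 0x4040100)
 (Net.cons (nat_lit 2) (nat_lit 0x32210320)
 (Net.cons (nat_lit 1) (nat_lit 0x14404400)
 (Net.cons (nat_lit 2) (nat_lit 0x200200)
 (Net.cons (nat_lit 4) (nat_lit 0x4000000)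
 (Net.cons (nat_lit 8) (nat_lit 0x920054)
 (Net.cons (nat_lit 16) 27744
 Net.nil)))))))))

noncomputable def ns_11 : Net :=
 (Net.cons (nat_lit 16) 40990
 (Net.cons (nat_lit 8) (nat_lit 0x200096)
 (Net.cons (nat_lit 4) 198924
 (Net.cons (nat_lit 2) (nat_lit 0x20031322)
 (Net.cons (nat_lit 1) (nat_lit 0x440444)
 (Net.cons (nat_lit 2) 131074
 (Net.cons (nat_lit 4) 131080
 (Net.cons (nat_lit 8) (nat_lit 0x2000da)
 (Net.cons (nat_lit 16) 40990
 Net.nil)))))))))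

noncomputable def ns_12 : Net :=
 (Net.cons (nat_lit 16) 26548
 (Net.cons (nat_lit 8) (nat_lit 0x5300f0)
 (Net.cons (nat_lit 4) (nat_lit 0x2040800)
 (Net.cons (nat_lit 2) (nat_lit 0x10003000)
 (Net.cons (nat_lit 1) (nat_lit 0x10054000)
 (Net.cons (nat_lit 4) (nat_lit 0x40a0800)
 (Net.cons (nat_lit 8) (nat_lit 0x340070)
 (Net.cons (nat_lit 16) 26560
 Net.nil))))))))

noncomputable def ns_13 : Net :=
 (Net.cons (nat_lit 16) 47604
 (Net.cons (nat_lit 8) (nat_lit 0x2c000c)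
 (Net.cons (nat_lit 4) 65536
 (Net.cons (nat_lit 2) (nat_lit 0x21120200)
 (Net.cons (nat_lit 1) (nat_lit 0x100450)
 (Net.cons (nat_lit 4) (nat_lit 0x8080000)
 (Net.cons (nat_lit 8) (nat_lit 0x3c000c)
 (Net.cons (nat_lit 16) 47440
 Net.nil))))))))

noncomputable def ns_14 : Net :=
 (Net.cons (nat_lit 16) 10282
 (Net.cons (nat_lit 8) (nat_lit 0x780022)
 (Net.cons (nat_lit 4) (nat_lit 0x80a0b08)
 (Net.cons (nat_lit 2) (nat_lit 0x30000002)
 (Net.cons (nat_lit 1) (nat_lit 0x10011404)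
 (Net.cons (nat_lit 2) (nat_lit 0x20020202)
 (Net.cons (nat_lit 4) (nat_lit 0x8000e04)
 (Net.cons (nat_lit 8) (nat_lit 0x7000b0)
 (Net.cons (nat_lit 16) 10428
 Net.nil)))))))))

noncomputable def ns_15 : Net :=
 (Net.cons (nat_lit 16) 2188
 (Net.cons (nat_lit 8) (nat_lit 0x90000c)
 (Net.cons (nat_lit 4) (nat_lit 0x8020404)
 (Net.cons (nat_lit 2) (nat_lit 0x20011102)
 (Net.cons (nat_lit 1) (nat_lit 0x10044104)
 (Net.cons (nat_lit 2) (nat_lit 0x20020202)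
 (Net.cons (nat_lit 4) 3072
 (Net.cons (nat_lit 8) (nat_lit 0x90004a)
 (Net.cons (nat_lit 16) 2178
 Net.nil)))))))))

noncomputable def ns_16 : Net :=
 (Net.cons (nat_lit 16) 64660
 (Net.cons (nat_lit 8) (nat_lit 0xec004a)
 (Net.cons (nat_lit 4) (nat_lit 0xc020406)
 (Net.cons (nat_lit 2) (nat_lit 0x10000330)
 (Net.cons (nat_lit 1) (nat_lit 0x14410140)
 (Net.cons (nat_lit 2) (nat_lit 0x200000)
 (Net.cons (nat_lit 4) (nat_lit 0x4040406)
 (Net.cons (nat_lit 8) (nat_lit 0xd40048)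
 (Net.cons (nat_lit 16) 64518
 Net.nil)))))))))

noncomputable def ns_17 : Net :=
 (Net.cons (nat_lit 16) 8192
 (Net.cons (nat_lit 8) 262290
 (Net.cons (nat_lit 4) (nat_lit 0x40a000c)
 (Net.cons (nat_lit 2) (nat_lit 0x20000020)
 (Net.cons (nat_lit 1) (nat_lit 0x40400510)
 (Net.cons (nat_lit 2) (nat_lit 0x20000020)
 (Net.cons (nat_lit 4) (nat_lit 0x4080008)
 (Net.cons (nat_lit 8) 262162
 (Net.cons (nat_lit 16) 8192
 Net.nil)))))))))

noncomputable def ns_18 : Net :=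
 (Net.cons (nat_lit 16) 17554
 (Net.cons (nat_lit 8) (nat_lit 0xc0002a)
 (Net.cons (nat_lit 4) (nat_lit 0x4070008)
 (Net.cons (nat_lit 2) (nat_lit 0x120222)
 (Net.cons (nat_lit 1) (nat_lit 0x40040140)
 (Net.cons (nat_lit 2) 32
 (Net.cons (nat_lit 4) 393220
 (Net.cons (nat_lit 8) (nat_lit 0xc00020)
 (Net.cons (nat_lit 16) 17554
 Net.nil)))))))))

noncomputable def ns_19 : Net :=
 (Net.cons (nat_lit 16) 25712
 (Net.cons (nat_lit 8) (nat_lit 0xaa000a)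
 (Net.cons (nat_lit 4) (nat_lit 0xc030108)
 (Net.cons (nat_lit 2) 196640
 (Net.cons (nat_lit 1) (nat_lit 0x44040140)
 (Net.cons (nat_lit 2) (nat_lit 0x2020200)
 (Net.cons (nat_lit 4) (nat_lit 0x8020000)
 (Net.cons (nat_lit 8) (nat_lit 0xaa0088)
 (Net.cons (nat_lit 16) 25716
 Net.nil)))))))))

noncomputable def ns_20 : Net :=
 (Net.cons (nat_lit 16) 49366
 (Net.cons (nat_lit 8) 524456
 (Net.cons (nat_lit 4) (nat_lit 0x801090e)
 (Net.cons (nat_lit 2) (nat_lit 0x100002)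
 (Net.cons (nat_lit 1) (nat_lit 0x40000544)
 (Net.cons (nat_lit 2) 34
 (Net.cons (nat_lit 4) 2056
 (Net.cons (nat_lit 8) 524456
 (Net.cons (nat_lit 16) 49234
 Net.nil)))))))))

noncomputable def ns_21 : Net :=
 (Net.cons (nat_lit 16) 16586
 (Net.cons (nat_lit 8) (nat_lit 0x800020)
 (Net.cons (nat_lit 4) 264718
 (Net.cons (nat_lit 2) 196642
 (Net.cons (nat_lit 1) (nat_lit 0x40001444)
 (Net.cons (nat_lit 2) 34
 (Net.cons (nat_lit 4) 264704
 (Net.cons (nat_lit 8) (nat_lit 0x800020)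
 (Net.cons (nat_lit 16) 16586
 Net.nil)))))))))

noncomputable def ns : List Net := [ModelM11.ns_0, ModelM11.ns_1, ns_2, ns_3, ns_4, ns_5, ns_6, ns_7, ns_8, ns_9, ns_10, ns_11, ns_12, ns_13, ns_14, ns_15, ns_16, ns_17, ns_18, ns_19, ns_20, ns_21]

theorem ctx : Ctx 32 5 ns := ctx_of (by decide +kernel)

theorem lctx : LCtx 32 5 8 31 trN5 ns := lctx_of ctx trOK5 (by decide +kernel)

noncomputable def E : List ℕ → ℕ → ℕ := pfW0 32 5 8 31 trN5 ns

theorem hE : Evl 32 ns E := evl_pfW0 lctx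

theorem geq : gen ModelM11.ns ModelM11.G_ss0 = gen ns [[0], [2]] :=
  gen_eq_of_take (ns := ModelM11.ns) (ns' := ns) (k := 2) rfl (ws := ModelM11.G_ss0) (by decide +kernel)

theorem hn : Nat.card (gen ns [[0], [2]]) = 7920 :=
  geq ▸ ModelM11.G_card

theorem kn_0 : Known ns (gen ns [[0], [2]]) 3 :=
  known_gen (by decide +kernel)

noncomputable def A_S4 : List SD :=
  []

noncomputable def A_d3 : SD :=
  ⟨13, 2, [20, 22, 24], lab 3 7 (nat_lit 0x2c0420c0), 2⟩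

noncomputable def A_S3 : List SD :=
  A_d3 :: A_S4

noncomputable def A_d2 : SD :=
  ⟨3, 1, [14, 16, 18, 20, 22, 24], lab 4 15 (nat_lit 0x1030000005002040200), 2⟩

noncomputable def A_S2 : List SD :=
  A_d2 :: A_S3

noncomputable def A_d1 : SD :=
  ⟨12, 1, [8, 10, 12, 14, 16, 18, 20, 22, 24], lab 5 31 (nat_lit 0x400a00020000620100748000), 2⟩

noncomputable def A_S1 : List SD :=
  A_d1 :: A_S2

noncomputable def A_d0 : SD :=
  ⟨1, 1, [0, 2, 6, 8, 10, 12, 14, 16, 18, 20, 22, 24], lab 5 31 (nat_lit 0x140c000e0000830100e18800), 2⟩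

noncomputable def A_S0 : List SD :=
  A_d0 :: A_S1

theorem kn_1 : Known ns (gen ns [[0], [2]]) 16383 :=
  kn_0.steps ctx (es := [(2, [1, 3]),
 (3, [0, 2, 0, 3]),
 (4, [0, 3, 6, 3, 3, 0]),
 (5, [3]),
 (6, [9, 10, 10, 10, 10, 9]),
 (7, [8, 8, 13, 10, 8]),
 (8, [12, 10, 9, 9]),
 (9, [14, 14, 17, 15, 16]),
 (10, [14, 17, 19, 15, 16]),
 (11, [14, 17]),
 (12, [21, 23]),
 (13, [9, 15, 24])]) (by decide +kernel)

theorem A_ex : Exact 32 ns A_S0 ∧ gen ns (sTop A_S0) = gen ns [[0], [2]] ∧ gen ns [[0], [2]] = gen ns [[0], [2]] :=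
  exact_of_known ctx hn (le_rfl) kn_1 (by decide +kernel)

theorem km_0 : Known ns (gen ns [[4], [26], [16]]) 8452 :=
  known_gen (by decide +kernel)

noncomputable def B_S4 : List SD :=
  []

noncomputable def B_d3 : SD :=
  ⟨15, 2, [40, 42], lab 2 3 (nat_lit 0x804000208000), 2⟩

noncomputable def B_S3 : List SD :=
  B_d3 :: B_S4

noncomputable def B_d2 : SD :=
  ⟨21, 1, [34, 36, 38, 40, 42], lab 4 15 (nat_lit 0x250020006300440080000000), 2⟩

noncomputable def B_S2 : List SD :=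
  B_d2 :: B_S3

noncomputable def B_d1 : SD :=
  ⟨20, 1, [28, 30, 32, 34, 36, 38, 40, 42], lab 4 15 (nat_lit 0x14020005a00290030000000), 2⟩

noncomputable def B_S1 : List SD :=
  B_d1 :: B_S2

noncomputable def B_d0 : SD :=
  ⟨5, 1, [4, 26, 16, 28, 30, 32, 34, 36, 38, 40, 42], lab 5 31 (nat_lit 0x2088218000650000b8000000000000), 2⟩

noncomputable def B_S0 : List SD :=
  B_d0 :: B_S1

theorem km_1 : Known ns (gen ns [[4], [26], [16]]) 4186372 :=
  km_0.steps ctx (es := [(14, [5, 16, 27]),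
 (15, [27, 16, 16, 27, 17, 27, 4]),
 (16, [31, 28]),
 (17, [28, 31, 28, 28, 32, 31, 31, 32, 30]),
 (18, [29, 32, 28, 31, 33, 33, 29, 31, 32, 28]),
 (19, [37, 35]),
 (20, [39, 39, 37, 38, 37, 38, 35]),
 (21, [37, 37, 35, 38, 37, 34, 39, 35])]) (by decide +kernel)

theorem B_ex : Exact 32 ns B_S0 ∧ gen ns (sTop B_S0) = gen ns [[0], [2]] ∧ gen ns [[4], [26], [16]] = gen ns [[0], [2]] :=
  exact_of_known ctx hn (kn_1.gen_le (by decide +kernel)) km_1 (by decide +kernel)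

theorem kG_0 : Known ns (gen ns [[0], [2]]) 4194303 :=
  kn_1.lor (km_1.mono B_ex.2.2.le)

noncomputable def CA_as : List (List ℕ × List ℕ) :=
  [([4], [4])]

noncomputable def CA_cs : List (List ℕ) :=
  [[]]

noncomputable def CA_pl : List Pl :=
  [⟨.lst 0, []⟩, ⟨.forced 0 0, []⟩, ⟨.forced 0 0, []⟩, ⟨.forced 0 0, []⟩]

noncomputable def CA_M0 : ℕ :=
  2

theorem CA_b0 : Br 32 ns (derAs CA_as [[0]]) (derSs 32 5 ns CA_as [[0]]) (gen ns (sTop A_S0)) A_d0.p CA_M0 (InCs ns A_S0 CA_cs) :=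
  br_of_brB ctx hE A_ex.1 (pl := CA_pl) (bs := []) (tps := []) (by decide +kernel)

theorem CA : SolList ns (gen ns [[0], [2]]) CA_as [[4]] CA_cs :=
  solList_of_br ctx A_ex.1 A_ex.2.1 kG_0 CA_b0 (cons := []) (r := 10) (by decide +kernel)

noncomputable def XB_as : List (List ℕ × List ℕ) :=
  [(powW [26] 1, powW [26] 2)]

noncomputable def XB_cs : List (List ℕ) :=
  [[16]]

noncomputable def XB_pl : List Pl :=
  [⟨.lst 0, []⟩, ⟨.forced 0 0, []⟩, ⟨.forced 0 0, []⟩, ⟨.forced 0 0, []⟩]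

noncomputable def XB_M0 : ℕ :=
  nat_lit 0x800020

theorem XB_b0 : Br 32 ns (derAs XB_as [[0]]) (derSs 32 5 ns XB_as [[0]]) (gen ns (sTop B_S0)) B_d0.p XB_M0 (InCs ns B_S0 XB_cs) :=
  br_of_brB ctx hE B_ex.1 (pl := XB_pl) (bs := []) (tps := [23]) (by decide +kernel)

theorem XB : SolList ns (gen ns [[0], [2]]) XB_as [[26]] XB_cs :=
  solList_of_br ctx B_ex.1 B_ex.2.1 kG_0 XB_b0 (cons := []) (r := 4) (by decide +kernel)

noncomputable def od : OD :=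
  ⟨[4], [26], [16], 11, 3, 5, 1, 2, [1, 2], 1, [[1, 4, 1, 4, 1, 4, 1, 4, 1, 4]]⟩

theorem od_chk : od.chk 32 5 ns 7920 = true :=
  by decide +kernel

theorem od_kill : ∀ c ∈ XB_cs, od.kill 32 E [(1, od.c)] [1, 2] c = true :=
  forall_mem_of_allL (by decide +kernel)

theorem out : Nat.card (Cfsg.Out (gen ns [[0], [2]])) = 1 :=
  OD.out_one (o := od) ctx hE hn (by norm_num [od]) B_ex.2.2.symm od_chk CA.cent XB.one od_kill

theorem out_card : Nat.card (Cfsg.Out Cfsg.Spor.M11) = 1 :=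
  (card_out_eq (ModelM11.equiv.trans (MulEquiv.subgroupCongr geq))).trans out

end Cfsg.Agent.Spor.OutM11
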