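import Mathlib
import Cfsg.Agent.Comp.KronGL
import Cfsg.Agent.Spor.J3Data
import Cfsg.Prelude.Def_Spor_J3

/-! The Boolean checks of the certificate for `3.J3`. -/

set_option autoImplicit false
set_option maxRecDepth 100000

namespace Cfsg.Agent.Spor.J3c

open Cfsg.Agent.Comp.Dig Cfsg.Agent.Comp.SS Cfsg.Agent.Comp.Kron Cfsg.Spor

/-- the operation -/
noncomputable def op (D s : ℕ) : ℕ := raw MASK MOD D s
/-- multiplication by `ω` -/
noncomputable def DW : ℕ := hat 6 9 18 Cw
/-- operator of a state -/
noncomputable def hR (C : ℕ) : ℕ := hatE op DW 6 9 18 2 C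
/-- letters -/
noncomputable def D1 : List ℕ := l1.map hR
/-- letters -/
noncomputable def D4 : List ℕ := l4.map hR
/-- the key of a state: the line through its first column -/
noncomputable def key : ℕ → ℕ := minK (fun s => dig (6 * 18) s 0) (lab op DZ 0) 2
/-- transversal -/
noncomputable def T1 : ℕ → ℕ → ℕ :=
  trD (lab op DH) (lab op DR) 7 127 3 6 63 (look 27 (chunkOf tW))
/-- first level -/
noncomputable def P1 : ℕ → Bool :=
  lvlK Nat.beq o op D0 2 23256 15 32767 36 T1 (appW (lab op DH) 7 127 3) (look 72 (chunkOf tH)) key
/-- transversal -/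
noncomputable def T2 : ℕ → ℕ → ℕ := trW (lab op DH) 7 127 3 (look 21 (chunkOf tW2))
/-- second base point -/
noncomputable def o2 : ℕ := pick lR 11
/-- second level -/
noncomputable def P2 : ℕ → Bool :=
  lvlK Nat.beq o2 op DG 2 2160 12 4095 14 T2 (appW (lab op DZ) 1 1 2) (look 28 (chunkOf tH2)) key

/-- enumeration of the index set -/
def ix (k : ℕ) : F9 := (((k / 3 : ℕ) : ZMod 3), ((k % 3 : ℕ) : ZMod 3))

/-- coordinates of the element of the field with four elements with code `c` -/
def c4 (c t : ℕ) : ℕ := (c >>> t) % 2

/-- codes of the entries of the defining generators -/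
def cG (τ : ℕ) (Z w z : F9) : ℕ :=
  match τ with
  | 0 => if w = z then (Z.1 * w.1 + Z.2 * w.2).val + 1 else 0
  | 1 => if w = z then ((Z.1 - w.1) ^ 2 + (Z.2 - w.2) ^ 2).val + 1 else 0
  | 2 => if w = z + Z then (if z = 0 then 1 else if F9.div Z z = F9.I - F9.one then 2
      else if F9.div Z z = -F9.I - F9.one then 3 else 1) else 0
  | 3 => if w = F9.mul Z z then 1 else 0
  | _ => if z = 0 then (if w = 0 then 1 else 0) else if w = -F9.div Z z ∨
      w = F9.mul F9.I (F9.div Z z) ∨ w = -F9.mul F9.I (F9.div Z z) then 1 else 0

/-- the state `s` is that of the generator number `e` -/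
noncomputable def genB (e s : ℕ) : Bool :=
  matB 6 9 2 18 2 (fun j i => c4 (cG (e / 9) (ix (e % 9)) (ix j) (ix i))) s

theorem e_MASK : MASK = mask 6 9 18 1 := by decide +kernel
theorem e_MOD : MOD = modu 6 9 18 := by decide +kernel
theorem e_D0 : D0 = l0.map hR := by decide +kernel
theorem e_DG : DG = lG.map hR := by decide +kernel
theorem e_DH : DH = lH.map hR := by decide +kernel
theorem e_DR : DR = lR.map hR := by decide +kernel
theorem e_DZ : DZ = [cz].map hR := by decide +kernel
theorem c_W : wB 6 9 2 18 2 (fun _ => 1) Cw = true := by decide +kernel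
theorem c_o : matB 6 9 2 18 2 oneCode o = true := by decide +kernel
theorem c_z : matB 6 9 2 18 2 (fun j i => c4 (if j = i then 2 else 0)) cz = true := by
  decide +kernel
theorem c_l0 : realB op DW 6 9 18 2 2 o l0 l0i l0.length = true := by decide +kernel
theorem c_l1 : codesB o l1 (lab op D0) 2 3 18 w1 l1.length = true := by decide +kernel
theorem c_lG : codesB o lG (lab op D1) 3 7 18 wG lG.length = true := by decide +kernel
theorem c_lH : codesB o lH (lab op DG) 2 3 18 wH lH.length = true := by decide +kernel
theorem c_lR : codesB o lR (lab op D1) 3 7 18 wR lR.length = true := by decide +kernel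
theorem c_lz : codesB o [cz] (lab op DH) 7 127 3 wz [cz].length = true := by decide +kernel
theorem c_l45 : codesB o l45 (lab op (DH ++ DR)) 8 255 7 w45 l45.length = true := by decide +kernel
theorem c_l04 : codesB o l0 (lab op D4) 3 7 18 w0 l0.length = true := by decide +kernel
theorem c_fix : fixB o op DG key lG.length = true := by decide +kernel
theorem c_max : maxB Nat.beq o op D0 l0.length (lab op DH) (lab op DR) 7 127 9 wM
    (lR.length - 1) = true := by decide +kernel
theorem c_gen : allR (fun e => (e == 27 || e == 36) || genB e (pick l45 e)) 45 = true := by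
  decide +kernel
theorem c_l4 : l4 = [pick l45 21, pick l45 31, pick l45 39, pick l45 9] := by decide +kernel
theorem c_R0 : pick lR 0 = o := by decide +kernel
theorem c_T1 : Nat.beq (T1 0 o) o = true := by decide +kernel
theorem c_T2 : Nat.beq (T2 325 o2) o2 = true := by decide +kernel
theorem c_ord : allR (fun e => Nat.beq (itr (lab op D0 e) 19 o) o) l0.length = true := by
  decide +kernel
theorem c_2 : blocks P2 2160 0 34 = true := by decide +kernel
theorem c_1a : blocks P1 23256 0 91 = true := by decide +kernel
theorem c_1b : blocks P1 23256 91 91 = true := by decide +kernel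
theorem c_1c : blocks P1 23256 182 91 = true := by decide +kernel
theorem c_1d : blocks P1 23256 273 91 = true := by decide +kernel

end Cfsg.Agent.Spor.J3c
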