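import Cfsg.Agent.Spor.RuPl
import Cfsg.Agent.Spor.RuPerm
import Cfsg.Agent.Comp.MatModel

/-! The automorphism group of the Rudvalis lattice acts on the 4060 minimal lines as the
permutation group `gen ns G_ss0`, with kernel the centre of order four. -/

set_option autoImplicit false
set_option maxRecDepth 8192
set_option Elab.async false

namespace Cfsg.Agent.Spor.RuL

open Cfsg.Spor Cfsg.Agent.Comp Finset
open scoped Pointwise

/-- The listed vectors as elements of the lattice. -/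
noncomputable def V (i : ℕ) : ruLattice := ⟨v i, v_mem i⟩

theorem smul_add' (g : fourRu) (x y : ruLattice) : g • (x + y) = g • x + g • y := g.2.1 x y

theorem dot_smul (g : fourRu) (x y : ruLattice) :
    dot (g • x : ruLattice) (g • y : ruLattice) = dot x y := by
  have h : ∀ x : ruLattice, dot (g • x : ruLattice) (g • x : ruLattice) = dot x x := fun x => by
    rw [← norm_eq, ← norm_eq]; exact g.2.2.2 x
  have h1 := h (x + y)
  rw [smul_add', AddSubgroup.coe_add, AddSubgroup.coe_add, norm_add, norm_add, h, h] at h1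
  omega

theorem coe_smul_I (g : fourRu) (x : ruLattice) :
    gI • ((g • x : ruLattice) : RuVec) = (g • ruI x : ruLattice) :=
  (congrArg Subtype.val (g.2.2.1 x)).symm

theorem dot_smul_I (g : fourRu) (x y : ruLattice) :
    dot (g • x : ruLattice) (gI • ((g • y : ruLattice) : RuVec)) = dot x (gI • (y : RuVec)) := by
  rw [coe_smul_I, dot_smul]; rfl

theorem lab_smul (g : fourRu) (x y : ruLattice) :
    Lab (g • x : ruLattice) (g • y : ruLattice) ↔ Lab x y := by
  rw [Lab, Lab, dot_smul, dot_smul_I]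

/-- Multiplication by `i`. -/
noncomputable def iota : fourRu :=
  ⟨⟨ruI, fun x => -ruI x, fun x => Subtype.ext (by
      change -(gI • gI • (x : RuVec)) = x
      rw [I_I, neg_neg]), fun x => Subtype.ext (by
      change gI • (-(gI • (x : RuVec))) = x
      rw [smul_neg, I_I, neg_neg])⟩,
    fun x y => Subtype.ext (smul_add _ _ _), fun _ => rfl, fun x => by
      rw [norm_eq, norm_eq]; exact dot_I_I _ _⟩

theorem coe_iota_pow (a : ℕ) (x : ruLattice) :
    ((iota ^ a • x : ruLattice) : RuVec) = gI ^ a • (x : RuVec) := by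
  induction a with
  | zero => rw [pow_zero, pow_zero, one_smul, one_smul]
  | succ a ih => rw [pow_succ', pow_succ', mul_smul, mul_smul, ← ih]; rfl

theorem iota_comm (g : fourRu) : g * iota = iota * g :=
  Subtype.ext (Equiv.ext fun x => g.2.2.1 x)

theorem iota_pow_four : iota ^ 4 = 1 := Subtype.ext (Equiv.ext fun x => Subtype.ext (by
  have := coe_iota_pow 4 x
  rwa [show gI ^ 4 = 1 by decide, one_smul] at this))

theorem orderOf_iota : orderOf iota = 4 := by
  refine orderOf_eq_prime_pow (p := 2) (n := 1) (fun h => ?_) iota_pow_four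
  have h1 := coe_iota_pow 2 (V 0)
  rw [show iota ^ 2 = 1 from h, one_smul, pow_two, mul_smul, I_I] at h1
  have h2 := dot_neg_right (v 0) (v 0)
  rw [← show v 0 = -v 0 from h1, dot_v (by norm_num)] at h2
  omega

theorem exists_smul_V (g : fourRu) {i : ℕ} (hi : i < 4060) :
    ∃ j < 4060, ∃ a < 4, g • V i = iota ^ a • V j := by
  have h : dot (g • V i : ruLattice) (g • V i : ruLattice) = 16 := (dot_smul g _ _).trans (dot_v hi)
  rcases classify (g • V i).2 h.le with h0 | ⟨-, j, hj, a, e⟩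
  · rw [h0, dot_zero_right] at h; omega
  · refine ⟨j, hj, a % 4, Nat.mod_lt _ (by norm_num), Subtype.ext ?_⟩
    rw [← pow_eq_pow_mod a iota_pow_four, coe_iota_pow]; exact e

theorem exists_finset (n m : ℕ) : ∃ S : Finset ruLattice, S.card ≤ n * m ∧
    ∀ j < n, ∀ a < m, iota ^ a • V j ∈ S := by
  classical
  refine ⟨(range n ×ˢ range m).image fun p => iota ^ p.2 • V p.1, card_image_le.trans ?_,
    fun j hj a ha => mem_image.2 ⟨(j, a), mem_product.2 ⟨mem_range.2 hj, mem_range.2 ha⟩, rfl⟩⟩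
  rw [card_product, card_range, card_range]

/-- The scalars. -/
noncomputable abbrev ZZ : Subgroup fourRu := Subgroup.zpowers iota

theorem ZZ_le_center : ZZ ≤ Subgroup.center fourRu :=
  Subgroup.zpowers_le.2 (Subgroup.mem_center_iff.2 iota_comm)

/-- The minimal line number `i`. -/
def ruPt (i : ℕ) : Set ruLattice := MulAction.orbit ZZ (V i)

theorem smul_orbit (g : fourRu) (x : ruLattice) :
    g • MulAction.orbit ZZ x = MulAction.orbit ZZ (g • x) := by
  have h : ∀ z : ZZ, g • z • x = z • g • x := fun z => by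
    change g • (z : fourRu) • x = (z : fourRu) • g • x
    rw [← mul_smul, ← mul_smul, Subgroup.mem_center_iff.1 (ZZ_le_center z.2) g]
  ext y
  constructor
  · rintro ⟨_, ⟨z, rfl⟩, rfl⟩; exact ⟨z, (h z).symm⟩
  · rintro ⟨z, rfl⟩; exact ⟨_, ⟨z, rfl⟩, h z⟩

theorem smul_pt {g : fourRu} {i j a : ℕ} (h : g • V i = iota ^ a • V j) : g • ruPt i = ruPt j := by
  rw [ruPt, smul_orbit, h]
  exact MulAction.orbit_smul (⟨_, Subgroup.npow_mem_zpowers iota a⟩ : ZZ) (V j)

theorem exists_pow {z : fourRu} (hz : z ∈ ZZ) : ∃ a : ℕ, z = iota ^ a := by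
  have : IsOfFinOrder iota := isOfFinOrder_iff_pow_eq_one.2 ⟨4, by norm_num, iota_pow_four⟩
  obtain ⟨a, e⟩ := this.mem_powers_iff_mem_zpowers.2 hz
  exact ⟨a, e.symm⟩

theorem ruPt_inj : ∀ i < 4060, ∀ j < 4060, ruPt i = ruPt j → i = j := by
  intro i hi j hj h
  obtain ⟨z, e⟩ : V i ∈ ruPt j := h ▸ MulAction.mem_orbit_self _
  obtain ⟨a, ha⟩ := exists_pow z.2
  have h1 : v i = gI ^ a • v j := by
    change (z : fourRu) • V j = V i at e
    rw [ha] at e
    exact (congrArg Subtype.val e).symm.trans (coe_iota_pow a _)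
  exact eq_of_lab hi hj fun t _ => by rw [h1, lab_pow]

/-! ### Automorphisms from the images of the basis -/

/-- The basis vectors as elements of the lattice. -/
noncomputable def BB (t : Fin 56) : ruLattice := ⟨bv t, bv_mem t.2⟩

theorem eq_sum_BB (x : ruLattice) : x = ∑ t : Fin 56, (dot (wv t) x / 4) • BB t := by
  apply Subtype.ext
  rw [AddSubgroup.val_finsetSum]
  exact (eq_sum wv_bv (lattice_eq ▸ x.2)).trans (sum_range _)

theorem hom_ext {M : Type*} [AddCommGroup M] {f g : ruLattice →+ M} (h : ∀ t, f (BB t) = g (BB t))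
    (x : ruLattice) : f x = g x := by
  rw [eq_sum_BB x]
  simp only [map_sum, map_zsmul, h]

/-- Multiplication by `i` as an additive map. -/
noncomputable def iH : ruLattice →+ ruLattice :=
  AddMonoidHom.mk' ruI fun _ _ => Subtype.ext (smul_add _ _ _)

theorem exists_aut (y : Fin 56 → ruLattice)
    (h1 : ∀ (t : ℕ) (h : t < 28), y ⟨t + 28, by omega⟩ = ruI (y ⟨t, by omega⟩))
    (h2 : ∀ s t, dot (y s) (y t) = dot (bv s) (bv t)) : ∃ g : fourRu, ∀ t, g • BB t = y t := by
  have hd : ∀ (x : ruLattice) (t : Fin 56), 4 ∣ dot (wv t) x := fun x t =>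
    (lattice_eq ▸ x.2 : (x : RuVec) ∈ dual wv) t t.2
  let φ : ruLattice →+ ruLattice := AddMonoidHom.mk' (fun x => ∑ t : Fin 56, (dot (wv t) x / 4) • y t)
    fun a b => by
      rw [← sum_add_distrib]
      refine sum_congr rfl fun t _ => ?_
      rw [AddSubgroup.coe_add, dot_add_right, Int.add_ediv_of_dvd_left (hd a t), add_zsmul]
  have a1 : ∀ s, φ (BB s) = y s := fun s => by
    change ∑ t : Fin 56, (dot (wv t) (bv s) / 4) • y t = y s
    rw [sum_eq_single s (fun t _ h => by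
      rw [wv_bv _ t.2 _ s.2, if_neg fun e => h (Fin.ext e)]; simp) (by simp),
      wv_bv _ s.2 _ s.2, if_pos rfl]
    simp
  have a2 : ∀ x x' : ruLattice, dot (φ x) (φ x') = dot x x' := by
    intro x
    refine hom_ext (f := (dotH _).comp (ruLattice.subtype.comp φ))
      (g := (dotH _).comp ruLattice.subtype) fun t => ?_
    change dot (φ x) (φ (BB t)) = dot x (BB t)
    rw [dot_comm, dot_comm x]
    refine hom_ext (f := (dotH _).comp (ruLattice.subtype.comp φ))
      (g := (dotH _).comp ruLattice.subtype) (fun s => ?_) x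
    change dot (φ (BB t)) (φ (BB s)) = dot (BB t) (BB s)
    rw [a1, a1, h2]; rfl
  have a3 : ∀ x, φ (ruI x) = ruI (φ x) := by
    refine hom_ext (f := φ.comp iH) (g := iH.comp φ) fun t => ?_
    change φ (ruI (BB t)) = ruI (φ (BB t))
    obtain ⟨t, ht⟩ := t
    by_cases h : t < 28
    · rw [a1, ← h1 t h, ← a1]
      exact congrArg φ (Subtype.ext (bv_I h).symm)
    · obtain ⟨s, rfl⟩ : ∃ s, t = s + 28 := ⟨t - 28, by omega⟩
      have e : ruI (BB ⟨s + 28, ht⟩) = -BB ⟨s, by omega⟩ := Subtype.ext (by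
        change gI • bv (s + 28) = -bv s
        rw [bv_I (by omega), I_I])
      rw [e, map_neg, a1, a1, h1 s (by omega)]
      exact Subtype.ext (I_I _).symm
  have a4 : Function.Injective φ := (injective_iff_map_eq_zero φ).2 fun x h => by
    have := a2 x x
    rw [h, AddSubgroup.coe_zero, dot_zero_right] at this
    exact Subtype.ext (eq_zero_of_dot this.symm)
  have a5 : Function.Surjective φ := by
    let S : Set ruLattice := {x | dot x x = 16}
    have hS : S.Finite := by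
      obtain ⟨T, -, hT⟩ := exists_finset 4060 4
      refine T.finite_toSet.subset ?_
      intro x hx
      rcases classify x.2 (le_of_eq hx) with h0 | ⟨-, j, hj, a, e⟩
      · change dot x x = 16 at hx
        rw [h0, dot_zero_right] at hx; omega
      · have := hT j hj (a % 4) (Nat.mod_lt _ (by norm_num))
        rw [← pow_eq_pow_mod a iota_pow_four] at this
        rw [show x = iota ^ a • V j from Subtype.ext (e.trans (coe_iota_pow a (V j)).symm)]
        exact this
    have hm : Set.MapsTo φ S S := fun x hx => (a2 x x).trans hx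
    have hb := (hS.injOn_iff_bijOn_of_mapsTo hm).1 a4.injOn
    intro x
    change x ∈ φ.range
    rw [eq_sum_BB x]
    refine sum_mem fun t _ => zsmul_mem ?_ _
    obtain ⟨z, -, e⟩ := hb.surjOn (show BB t ∈ S from dot_bv t.2)
    exact ⟨z, e⟩
  exact ⟨⟨Equiv.ofBijective φ ⟨a4, a5⟩, φ.map_add, a3, fun x => by
    rw [norm_eq, norm_eq]; exact a2 x x⟩, a1⟩

open ModelRu in
/-- The rows of `Y` are the images of the basis under an automorphism acting as the word `u`. -/
noncomputable def chkAut (Y : List (List ℤ)) (P : List ℤ) (u : List ℕ) : Bool :=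
  and' (allLT 56 fun t => and' (div4 WP (ofL (getL [] Y t))) (and' (small (getL [] Y t))
      (and' (small (getL [] BL t)) (Nat.beq (lanes P (getL [] Y t)) (lanes BP (getL [] BL t))))))
    (allLT 28 fun t => and' (decide (ofL (getL [] Y (t + 28)) = gI • ofL (getL [] Y t)))
      (Nat.beq (appW 1 ns u (labM (ofL (getL [] Y t)))) (labM (bv t))))

open ModelRu in
theorem rep_of_chkAut {Y : List (List ℤ)} {P : List ℤ} {u : List ℕ} (hu : u ∈ G_ss0)
    (hP : chkPk Y P = true) (h : chkAut Y P u = true) :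
    ∃ g ∈ (⊤ : Subgroup fourRu), RepBy 4060 ruPt g (wp ns u) := by
  simp only [chkAut, and'_eq_true, allLT_iff, beq_iff, decide_eq_true_eq] at h
  have hs : Supp 4060 (wp ns u) := G_supp (wp_mem_gen ns hu)
  obtain ⟨g, hg⟩ := exists_aut
    (fun t => ⟨ofL (getL [] Y t), lattice_eq ▸ mem_dual (h.1 t t.2).1⟩)
    (fun t ht => Subtype.ext (h.2 t ht).1) fun s t => by
      obtain ⟨-, a, b, c⟩ := h.1 t t.2
      have e1 := (pk_of_chkPk hP).dig_lanes a s.2
      have e2 := pkB.dig_lanes b s.2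
      rw [c, e2] at e1
      exact (add_right_cancel e1).symm
  refine ⟨g, trivial, hs, fun i hi => ?_⟩
  obtain ⟨j, hj, a, -, e⟩ := exists_smul_V g hi
  have hj' := hs.inv.lt hj
  have hπ : wp ns u ((wp ns u)⁻¹ j) = j := by simp
  have : (wp ns u)⁻¹ j = i := eq_of_lab hj' hi fun t ht => by
    have b1 := lab_smul g (V i) (BB ⟨t, by omega⟩)
    rw [e, hg, coe_iota_pow, lab_pow] at b1
    rw [← testBit_labM, ← (h.2 t ht).2, testBit_appW_one ctx.ok _ _ (by omega),
      hπ, testBit_labM]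
    exact b1
  rw [smul_pt e, ← this, hπ]

/-- The images of the basis under a generator. -/
def Y0 : List (List ℤ) :=
 [[.ofNat 0, .ofNat 0, .negSucc 0, .ofNat 0, .ofNat 0, .ofNat 0, .ofNat 0, .negSucc 0, .ofNat 0, .ofNat 0, .ofNat 0, .ofNat 0, .ofNat 0, .negSucc 0, .ofNat 0, .ofNat 0, .ofNat 0, .negSucc 0, .ofNat 1, .ofNat 0, .ofNat 1, .ofNat 0, .ofNat 0, .ofNat 0, .ofNat 0, .ofNat 1, .ofNat 1, .ofNat 0, .ofNat 0, .negSucc 0, .ofNat 0, .ofNat 0, .ofNat 0, .ofNat 0, .ofNat 1, .ofNat 0, .ofNat 0, .ofNat 0, .ofNat 1, .ofNat 1, .ofNat 0, .ofNat 0, .ofNat 0, .negSucc 0, .ofNat 0, .ofNat 0, .ofNat 0, .ofNat 0, .ofNat 0, .ofNat 0, .negSucc 0, .ofNat 0, .negSucc 0, .ofNat 0, .ofNat 0, .ofNat 1],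
 [.ofNat 0, .ofNat 0, .ofNat 0, .ofNat 0, .ofNat 1, .ofNat 0, .ofNat 0, .ofNat 0, .ofNat 0, .negSucc 0, .ofNat 1, .ofNat 0, .ofNat 1, .ofNat 0, .ofNat 0, .ofNat 1, .ofNat 0, .ofNat 0, .ofNat 0, .ofNat 1, .ofNat 1, .ofNat 0, .ofNat 0, .ofNat 0, .ofNat 0, .ofNat 0, .ofNat 0, .negSucc 0, .ofNat 0, .ofNat 1, .negSucc 0, .ofNat 0, .ofNat 0, .ofNat 0, .ofNat 1, .ofNat 0, .negSucc 0, .ofNat 0, .ofNat 0, .negSucc 0, .ofNat 0, .ofNat 0, .ofNat 0, .ofNat 0, .ofNat 0, .ofNat 0, .ofNat 1, .ofNat 0, .ofNat 0, .negSucc 0, .ofNat 0, .ofNat 0, .ofNat 0, .ofNat 1, .ofNat 0, .ofNat 0],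
 [.ofNat 0, .ofNat 1, .ofNat 0, .ofNat 1, .ofNat 0, .negSucc 0, .ofNat 1, .ofNat 0, .negSucc 0, .ofNat 0, .ofNat 0, .ofNat 1, .ofNat 0, .ofNat 0, .ofNat 0, .ofNat 0, .negSucc 0, .ofNat 0, .ofNat 0, .ofNat 0, .ofNat 0, .negSucc 0, .ofNat 0, .ofNat 0, .ofNat 0, .negSucc 0, .ofNat 1, .ofNat 0, .ofNat 0, .ofNat 0, .ofNat 0, .ofNat 0, .ofNat 1, .ofNat 0, .ofNat 0, .ofNat 1, .ofNat 0, .ofNat 0, .ofNat 0, .ofNat 0, .ofNat 1, .negSucc 0, .ofNat 0, .ofNat 0, .ofNat 0, .negSucc 0, .ofNat 0, .ofNat 0, .ofNat 0, .ofNat 0, .ofNat 0, .negSucc 0, .ofNat 0, .ofNat 0, .ofNat 0, .ofNat 0],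
 [.ofNat 1, .ofNat 0, .negSucc 0, .ofNat 0, .ofNat 1, .ofNat 0, .ofNat 0, .ofNat 0, .ofNat 0, .negSucc 0, .ofNat 0, .ofNat 1, .ofNat 0, .ofNat 1, .ofNat 0, .negSucc 0, .ofNat 0, .ofNat 0, .ofNat 0, .ofNat 0, .ofNat 0, .ofNat 0, .ofNat 0, .ofNat 1, .ofNat 0, .ofNat 0, .ofNat 1, .ofNat 1, .ofNat 0, .ofNat 0, .ofNat 0, .ofNat 0, .ofNat 0, .ofNat 0, .ofNat 0, .ofNat 1, .ofNat 0, .ofNat 0, .ofNat 0, .ofNat 0, .ofNat 1, .ofNat 0, .ofNat 1, .ofNat 0, .ofNat 1, .ofNat 0, .ofNat 0, .negSucc 0, .ofNat 0, .ofNat 0, .ofNat 1, .ofNat 0, .ofNat 0, .ofNat 0, .ofNat 0, .ofNat 0],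
 [.ofNat 0, .ofNat 1, .ofNat 0, .ofNat 1, .ofNat 0, .negSucc 0, .ofNat 0, .negSucc 0, .ofNat 1, .ofNat 0, .ofNat 0, .negSucc 0, .ofNat 0, .ofNat 0, .ofNat 0, .negSucc 0, .ofNat 0, .ofNat 0, .ofNat 0, .ofNat 0, .ofNat 0, .ofNat 0, .ofNat 0, .ofNat 1, .ofNat 0, .ofNat 1, .ofNat 1, .ofNat 0, .ofNat 0, .ofNat 0, .ofNat 0, .ofNat 0, .negSucc 0, .ofNat 0, .ofNat 1, .ofNat 0, .ofNat 0, .ofNat 0, .ofNat 0, .ofNat 0, .ofNat 0, .ofNat 0, .ofNat 1, .ofNat 0, .ofNat 0, .ofNat 0, .negSucc 0, .negSucc 0, .ofNat 0, .negSucc 0, .ofNat 0, .ofNat 0, .ofNat 0, .ofNat 0, .ofNat 0, .ofNat 0],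
 [.ofNat 0, .ofNat 0, .negSucc 0, .ofNat 0, .negSucc 0, .negSucc 0, .ofNat 1, .ofNat 1, .ofNat 0, .ofNat 1, .ofNat 0, .ofNat 0, .ofNat 0, .ofNat 0, .ofNat 0, .ofNat 1, .negSucc 0, .ofNat 0, .ofNat 0, .ofNat 0, .ofNat 0, .ofNat 0, .ofNat 0, .ofNat 0, .ofNat 0, .ofNat 0, .ofNat 0, .ofNat 0, .negSucc 0, .ofNat 0, .ofNat 0, .ofNat 0, .ofNat 0, .ofNat 0, .ofNat 0, .ofNat 0, .ofNat 0, .ofNat 0, .ofNat 1, .ofNat 0, .ofNat 0, .ofNat 0, .ofNat 1, .ofNat 0, .ofNat 0, .negSucc 0, .ofNat 0, .ofNat 0, .ofNat 1, .ofNat 0, .ofNat 1, .ofNat 0, .ofNat 0, .ofNat 1, .ofNat 1, .ofNat 0],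
 [.ofNat 1, .ofNat 0, .ofNat 0, .ofNat 1, .ofNat 0, .ofNat 0, .negSucc 0, .ofNat 0, .ofNat 0, .ofNat 0, .ofNat 1, .ofNat 1, .ofNat 0, .ofNat 0, .ofNat 0, .ofNat 0, .ofNat 0, .ofNat 0, .ofNat 0, .ofNat 0, .negSucc 0, .ofNat 0, .ofNat 0, .ofNat 0, .negSucc 0, .ofNat 1, .ofNat 1, .negSucc 0, .ofNat 0, .ofNat 0, .ofNat 0, .ofNat 0, .ofNat 0, .ofNat 0, .ofNat 0, .ofNat 1, .ofNat 0, .ofNat 0, .ofNat 0, .ofNat 0, .negSucc 0, .ofNat 0, .ofNat 1, .ofNat 0, .ofNat 0, .ofNat 1, .negSucc 0, .ofNat 0, .ofNat 0, .ofNat 0, .ofNat 1, .ofNat 0, .ofNat 0, .ofNat 0, .ofNat 0, .ofNat 0],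
 [.ofNat 0, .ofNat 0, .ofNat 1, .ofNat 0, .ofNat 0, .ofNat 0, .ofNat 1, .ofNat 0, .ofNat 0, .negSucc 0, .ofNat 0, .ofNat 0, .ofNat 1, .ofNat 0, .negSucc 0, .ofNat 0, .ofNat 0, .negSucc 0, .ofNat 1, .ofNat 0, .ofNat 1, .ofNat 0, .ofNat 0, .ofNat 0, .negSucc 0, .negSucc 0, .ofNat 1, .ofNat 1, .ofNat 0, .ofNat 1, .ofNat 0, .ofNat 0, .ofNat 0, .ofNat 0, .ofNat 0, .ofNat 1, .negSucc 0, .ofNat 0, .ofNat 0, .ofNat 0, .ofNat 0, .ofNat 0, .ofNat 0, .ofNat 0, .ofNat 0, .ofNat 0, .ofNat 0, .ofNat 0, .ofNat 0, .ofNat 0, .ofNat 1, .ofNat 0, .ofNat 0, .ofNat 0, .ofNat 0, .ofNat 0],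
 [.ofNat 1, .ofNat 0, .ofNat 0, .ofNat 1, .ofNat 0, .negSucc 0, .ofNat 0, .ofNat 0, .ofNat 0, .ofNat 0, .ofNat 0, .ofNat 0, .ofNat 0, .ofNat 0, .ofNat 1, .ofNat 1, .negSucc 0, .ofNat 0, .negSucc 0, .ofNat 0, .ofNat 0, .ofNat 0, .ofNat 0, .negSucc 0, .ofNat 0, .negSucc 0, .ofNat 0, .ofNat 1, .ofNat 0, .negSucc 0, .ofNat 1, .ofNat 0, .ofNat 0, .ofNat 0, .ofNat 1, .ofNat 0, .negSucc 0, .negSucc 0, .ofNat 0, .ofNat 0, .ofNat 0, .ofNat 0, .ofNat 0, .ofNat 0, .ofNat 0, .ofNat 0, .ofNat 0, .ofNat 0, .ofNat 1, .ofNat 0, .ofNat 0, .ofNat 0, .ofNat 0, .ofNat 0, .ofNat 0, .ofNat 0],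
 [.ofNat 0, .ofNat 1, .ofNat 0, .ofNat 0, .negSucc 0, .ofNat 0, .ofNat 1, .ofNat 0, .ofNat 0, .ofNat 1, .negSucc 0, .ofNat 0, .ofNat 1, .ofNat 0, .ofNat 0, .ofNat 0, .negSucc 0, .negSucc 0, .ofNat 1, .ofNat 1, .ofNat 0, .ofNat 0, .negSucc 0, .ofNat 0, .ofNat 0, .ofNat 0, .ofNat 1, .ofNat 0, .ofNat 1, .ofNat 0, .ofNat 0, .ofNat 0, .ofNat 0, .ofNat 0, .ofNat 0, .ofNat 0, .ofNat 0, .ofNat 0, .ofNat 0, .ofNat 0, .ofNat 0, .ofNat 0, .ofNat 1, .ofNat 0, .ofNat 0, .ofNat 0, .ofNat 0, .ofNat 0, .ofNat 0, .negSucc 0, .ofNat 0, .ofNat 0, .ofNat 0, .ofNat 0, .ofNat 0, .ofNat 1],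
 [.ofNat 0, .ofNat 0, .negSucc 0, .negSucc 0, .ofNat 1, .ofNat 0, .ofNat 1, .ofNat 0, .ofNat 0, .ofNat 0, .ofNat 0, .ofNat 1, .ofNat 0, .ofNat 1, .ofNat 0, .negSucc 0, .negSucc 0, .ofNat 0, .ofNat 0, .negSucc 0, .ofNat 0, .ofNat 1, .ofNat 0, .ofNat 0, .ofNat 0, .ofNat 0, .ofNat 0, .ofNat 0, .ofNat 0, .ofNat 0, .ofNat 0, .ofNat 0, .ofNat 0, .ofNat 0, .ofNat 0, .ofNat 0, .negSucc 0, .ofNat 0, .ofNat 0, .ofNat 0, .ofNat 0, .ofNat 0, .ofNat 0, .ofNat 0, .ofNat 0, .ofNat 1, .negSucc 0, .ofNat 0, .ofNat 0, .ofNat 0, .negSucc 0, .ofNat 0, .ofNat 1, .ofNat 1, .ofNat 0, .ofNat 0],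
 [.ofNat 0, .ofNat 0, .ofNat 0, .ofNat 0, .negSucc 0, .ofNat 0, .ofNat 0, .ofNat 0, .ofNat 0, .negSucc 0, .ofNat 0, .ofNat 1, .ofNat 0, .negSucc 0, .negSucc 0, .ofNat 0, .ofNat 0, .ofNat 0, .ofNat 0, .ofNat 0, .ofNat 0, .ofNat 0, .ofNat 0, .ofNat 0, .ofNat 0, .negSucc 0, .ofNat 0, .ofNat 0, .ofNat 1, .ofNat 0, .negSucc 0, .ofNat 0, .ofNat 0, .ofNat 0, .ofNat 0, .ofNat 1, .ofNat 0, .ofNat 0, .ofNat 0, .ofNat 0, .ofNat 1, .ofNat 0, .ofNat 0, .negSucc 0, .negSucc 0, .ofNat 0, .ofNat 0, .ofNat 1, .ofNat 1, .ofNat 1, .ofNat 0, .ofNat 0, .ofNat 1, .ofNat 0, .ofNat 0, .ofNat 0],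
 [.ofNat 0, .ofNat 0, .ofNat 0, .ofNat 0, .ofNat 0, .ofNat 1, .ofNat 0, .negSucc 0, .ofNat 0, .ofNat 1, .ofNat 0, .ofNat 1, .ofNat 0, .ofNat 0, .ofNat 1, .ofNat 0, .ofNat 0, .ofNat 0, .ofNat 0, .negSucc 0, .negSucc 0, .ofNat 0, .ofNat 0, .ofNat 0, .ofNat 0, .ofNat 1, .ofNat 0, .ofNat 0, .ofNat 0, .negSucc 0, .negSucc 0, .ofNat 0, .ofNat 0, .ofNat 0, .ofNat 0, .ofNat 0, .negSucc 0, .ofNat 0, .ofNat 1, .ofNat 0, .ofNat 0, .negSucc 0, .ofNat 0, .ofNat 0, .ofNat 0, .ofNat 0, .negSucc 0, .ofNat 0, .ofNat 0, .ofNat 1, .ofNat 0, .ofNat 0, .ofNat 0, .ofNat 0, .ofNat 0, .ofNat 1],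
 [.ofNat 0, .ofNat 0, .ofNat 0, .ofNat 0, .ofNat 0, .negSucc 0, .ofNat 0, .ofNat 0, .negSucc 0, .negSucc 0, .negSucc 0, .ofNat 0, .ofNat 0, .ofNat 1, .ofNat 1, .ofNat 1, .ofNat 0, .ofNat 0, .ofNat 0, .ofNat 0, .ofNat 0, .ofNat 0, .ofNat 0, .ofNat 0, .ofNat 0, .ofNat 0, .negSucc 0, .ofNat 0, .ofNat 0, .ofNat 0, .ofNat 0, .ofNat 0, .negSucc 0, .ofNat 0, .ofNat 1, .ofNat 1, .ofNat 0, .ofNat 0, .ofNat 0, .ofNat 1, .negSucc 0, .ofNat 0, .ofNat 0, .ofNat 0, .ofNat 0, .ofNat 0, .ofNat 0, .ofNat 0, .ofNat 0, .ofNat 0, .ofNat 0, .ofNat 0, .ofNat 1, .negSucc 0, .ofNat 0, .ofNat 1],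
 [.ofNat 0, .ofNat 0, .ofNat 0, .ofNat 0, .ofNat 0, .negSucc 0, .ofNat 0, .ofNat 0, .negSucc 0, .negSucc 0, .negSucc 0, .ofNat 0, .ofNat 0, .negSucc 0, .negSucc 0, .negSucc 0, .ofNat 0, .ofNat 0, .ofNat 0, .ofNat 0, .ofNat 0, .ofNat 0, .ofNat 0, .ofNat 0, .ofNat 0, .ofNat 0, .ofNat 1, .ofNat 0, .ofNat 0, .ofNat 0, .ofNat 0, .ofNat 0, .negSucc 0, .ofNat 0, .ofNat 1, .ofNat 1, .ofNat 0, .ofNat 0, .ofNat 0, .ofNat 1, .ofNat 1, .ofNat 0, .ofNat 0, .ofNat 0, .ofNat 0, .ofNat 0, .ofNat 0, .ofNat 0, .ofNat 0, .ofNat 0, .ofNat 0, .ofNat 0, .negSucc 0, .ofNat 1, .ofNat 0, .negSucc 0],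
 [.ofNat 0, .ofNat 0, .ofNat 0, .ofNat 0, .ofNat 0, .ofNat 0, .ofNat 0, .ofNat 0, .ofNat 1, .negSucc 0, .ofNat 0, .ofNat 1, .ofNat 0, .ofNat 0, .ofNat 0, .ofNat 0, .negSucc 0, .ofNat 0, .negSucc 0, .negSucc 0, .ofNat 1, .negSucc 0, .negSucc 0, .ofNat 0, .ofNat 0, .negSucc 0, .ofNat 1, .ofNat 1, .ofNat 0, .ofNat 0, .ofNat 0, .ofNat 0, .ofNat 0, .ofNat 0, .ofNat 0, .ofNat 0, .ofNat 0, .ofNat 0, .ofNat 1, .ofNat 0, .ofNat 0, .ofNat 0, .ofNat 0, .ofNat 0, .ofNat 0, .ofNat 1, .ofNat 0, .ofNat 0, .ofNat 0, .ofNat 0, .ofNat 0, .negSucc 0, .ofNat 1, .ofNat 0, .ofNat 0, .ofNat 0],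
 [.ofNat 0, .ofNat 1, .ofNat 0, .ofNat 0, .ofNat 1, .ofNat 0, .ofNat 1, .ofNat 0, .ofNat 0, .ofNat 0, .ofNat 0, .ofNat 0, .ofNat 1, .ofNat 0, .ofNat 0, .ofNat 0, .ofNat 1, .negSucc 0, .ofNat 0, .ofNat 0, .ofNat 1, .ofNat 0, .ofNat 0, .negSucc 0, .negSucc 0, .ofNat 1, .ofNat 0, .ofNat 0, .ofNat 1, .ofNat 0, .ofNat 0, .ofNat 0, .ofNat 0, .ofNat 0, .ofNat 0, .ofNat 0, .ofNat 0, .negSucc 0, .ofNat 1, .ofNat 0, .ofNat 0, .ofNat 0, .ofNat 1, .ofNat 0, .ofNat 0, .ofNat 0, .ofNat 1, .ofNat 1, .ofNat 0, .ofNat 0, .ofNat 0, .ofNat 0, .ofNat 0, .ofNat 0, .ofNat 0, .ofNat 0],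
 [.ofNat 0, .ofNat 0, .ofNat 1, .ofNat 0, .ofNat 0, .ofNat 0, .ofNat 0, .ofNat 0, .ofNat 1, .ofNat 0, .ofNat 1, .ofNat 1, .ofNat 0, .ofNat 0, .ofNat 0, .ofNat 1, .ofNat 0, .negSucc 0, .negSucc 0, .negSucc 0, .ofNat 0, .ofNat 0, .ofNat 0, .ofNat 0, .ofNat 0, .ofNat 0, .ofNat 0, .ofNat 0, .ofNat 1, .negSucc 0, .ofNat 0, .negSucc 0, .ofNat 0, .ofNat 0, .ofNat 0, .ofNat 0, .ofNat 0, .negSucc 0, .ofNat 0, .ofNat 0, .negSucc 0, .negSucc 0, .ofNat 1, .ofNat 0, .ofNat 1, .ofNat 0, .ofNat 0, .ofNat 0, .ofNat 0, .ofNat 0, .ofNat 0, .ofNat 0, .ofNat 0, .ofNat 0, .ofNat 0, .ofNat 0],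
 [.ofNat 0, .ofNat 1, .ofNat 0, .ofNat 0, .ofNat 0, .ofNat 0, .ofNat 0, .ofNat 0, .ofNat 0, .ofNat 1, .ofNat 0, .ofNat 0, .ofNat 1, .ofNat 0, .ofNat 1, .ofNat 0, .ofNat 1, .ofNat 0, .ofNat 0, .ofNat 0, .ofNat 1, .ofNat 0, .ofNat 0, .ofNat 0, .negSucc 0, .ofNat 0, .ofNat 1, .ofNat 0, .ofNat 0, .ofNat 0, .ofNat 1, .ofNat 0, .negSucc 0, .ofNat 1, .ofNat 0, .ofNat 0, .ofNat 1, .ofNat 0, .ofNat 0, .ofNat 0, .ofNat 0, .ofNat 0, .ofNat 0, .ofNat 0, .ofNat 0, .ofNat 0, .ofNat 0, .negSucc 0, .ofNat 0, .ofNat 0, .negSucc 0, .ofNat 0, .ofNat 0, .ofNat 1, .ofNat 0, .ofNat 1],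
 [.ofNat 0, .ofNat 0, .ofNat 0, .ofNat 1, .ofNat 0, .negSucc 0, .ofNat 1, .ofNat 0, .ofNat 0, .ofNat 1, .ofNat 0, .negSucc 0, .ofNat 1, .ofNat 0, .negSucc 0, .ofNat 0, .negSucc 0, .ofNat 0, .ofNat 0, .negSucc 0, .ofNat 0, .ofNat 0, .ofNat 0, .ofNat 1, .ofNat 0, .ofNat 0, .ofNat 0, .ofNat 0, .ofNat 0, .ofNat 1, .ofNat 0, .ofNat 0, .ofNat 0, .ofNat 0, .ofNat 0, .ofNat 0, .ofNat 0, .ofNat 0, .ofNat 0, .ofNat 0, .ofNat 0, .negSucc 0, .ofNat 0, .negSucc 0, .ofNat 0, .ofNat 0, .ofNat 0, .ofNat 0, .ofNat 0, .ofNat 0, .ofNat 1, .ofNat 0, .ofNat 0, .ofNat 0, .negSucc 0, .ofNat 1],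
 [.ofNat 0, .ofNat 0, .ofNat 0, .ofNat 0, .ofNat 0, .ofNat 0, .ofNat 0, .ofNat 0, .ofNat 0, .ofNat 0, .ofNat 0, .ofNat 0, .ofNat 0, .ofNat 0, .ofNat 0, .ofNat 0, .ofNat 0, .ofNat 0, .ofNat 0, .ofNat 0, .ofNat 0, .ofNat 0, .ofNat 0, .ofNat 0, .ofNat 0, .ofNat 0, .ofNat 0, .ofNat 0, .ofNat 0, .ofNat 0, .negSucc 0, .ofNat 1, .negSucc 0, .ofNat 0, .ofNat 1, .ofNat 0, .ofNat 0, .negSucc 0, .ofNat 1, .ofNat 0, .ofNat 0, .negSucc 0, .ofNat 0, .ofNat 1, .negSucc 0, .negSucc 0, .negSucc 0, .negSucc 0, .negSucc 0, .ofNat 0, .ofNat 0, .ofNat 1, .ofNat 1, .negSucc 0, .ofNat 0, .ofNat 0],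
 [.ofNat 0, .negSucc 0, .ofNat 0, .ofNat 0, .ofNat 0, .ofNat 0, .ofNat 0, .negSucc 0, .ofNat 0, .negSucc 0, .ofNat 0, .ofNat 0, .ofNat 0, .ofNat 0, .ofNat 0, .ofNat 0, .ofNat 0, .ofNat 0, .ofNat 0, .ofNat 1, .ofNat 0, .negSucc 0, .ofNat 0, .negSucc 0, .ofNat 0, .negSucc 0, .ofNat 0, .ofNat 1, .ofNat 0, .ofNat 0, .negSucc 0, .ofNat 0, .ofNat 0, .ofNat 0, .ofNat 1, .ofNat 0, .negSucc 0, .ofNat 0, .ofNat 0, .ofNat 0, .negSucc 0, .ofNat 0, .ofNat 1, .ofNat 0, .negSucc 0, .ofNat 0, .ofNat 0, .ofNat 0, .ofNat 0, .ofNat 0, .ofNat 0, .ofNat 0, .ofNat 1, .ofNat 0, .ofNat 1, .ofNat 0],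
 [.negSucc 0, .negSucc 0, .ofNat 0, .ofNat 0, .ofNat 0, .negSucc 0, .ofNat 0, .ofNat 0, .ofNat 0, .negSucc 0, .ofNat 0, .ofNat 0, .ofNat 0, .ofNat 0, .ofNat 0, .ofNat 0, .ofNat 0, .ofNat 0, .ofNat 1, .ofNat 0, .ofNat 0, .negSucc 0, .ofNat 0, .ofNat 1, .ofNat 0, .ofNat 1, .ofNat 0, .ofNat 0, .ofNat 0, .ofNat 0, .ofNat 0, .ofNat 0, .negSucc 0, .ofNat 0, .ofNat 0, .ofNat 0, .ofNat 0, .ofNat 0, .ofNat 0, .ofNat 1, .ofNat 0, .negSucc 0, .ofNat 1, .ofNat 0, .negSucc 0, .ofNat 0, .ofNat 0, .ofNat 0, .negSucc 0, .ofNat 0, .negSucc 0, .ofNat 0, .ofNat 0, .ofNat 0, .ofNat 1, .ofNat 0],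
 [.ofNat 0, .ofNat 0, .ofNat 0, .ofNat 0, .ofNat 0, .ofNat 0, .ofNat 0, .negSucc 0, .ofNat 1, .ofNat 0, .ofNat 0, .ofNat 0, .ofNat 1, .ofNat 0, .negSucc 0, .ofNat 0, .ofNat 0, .ofNat 0, .ofNat 0, .ofNat 0, .ofNat 0, .ofNat 0, .ofNat 0, .ofNat 0, .ofNat 1, .ofNat 1, .ofNat 0, .ofNat 0, .ofNat 1, .ofNat 0, .ofNat 0, .negSucc 0, .ofNat 0, .ofNat 0, .ofNat 1, .ofNat 0, .ofNat 0, .negSucc 0, .ofNat 0, .ofNat 0, .ofNat 0, .ofNat 0, .ofNat 0, .ofNat 0, .ofNat 0, .ofNat 1, .ofNat 1, .ofNat 0, .ofNat 0, .negSucc 0, .ofNat 0, .ofNat 1, .ofNat 0, .ofNat 0, .negSucc 0, .ofNat 1],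
 [.ofNat 0, .ofNat 0, .ofNat 1, .ofNat 0, .ofNat 0, .negSucc 0, .ofNat 0, .ofNat 0, .ofNat 0, .ofNat 0, .ofNat 0, .ofNat 0, .ofNat 0, .ofNat 1, .ofNat 1, .ofNat 0, .ofNat 0, .negSucc 0, .ofNat 0, .ofNat 1, .ofNat 0, .ofNat 0, .negSucc 0, .ofNat 1, .ofNat 1, .ofNat 0, .ofNat 0, .negSucc 0, .ofNat 0, .ofNat 0, .ofNat 0, .ofNat 1, .negSucc 0, .ofNat 0, .ofNat 0, .ofNat 0, .negSucc 0, .ofNat 0, .ofNat 1, .ofNat 0, .ofNat 0, .ofNat 0, .ofNat 0, .ofNat 0, .ofNat 0, .ofNat 0, .ofNat 0, .ofNat 0, .negSucc 0, .negSucc 0, .ofNat 0, .ofNat 0, .ofNat 0, .ofNat 0, .ofNat 0, .ofNat 0],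
 [.ofNat 0, .negSucc 0, .negSucc 0, .ofNat 0, .negSucc 0, .ofNat 0, .ofNat 0, .ofNat 0, .ofNat 0, .ofNat 0, .ofNat 0, .ofNat 0, .ofNat 0, .ofNat 0, .ofNat 1, .ofNat 0, .ofNat 0, .ofNat 0, .ofNat 1, .ofNat 0, .ofNat 0, .negSucc 0, .ofNat 0, .ofNat 0, .negSucc 0, .ofNat 0, .negSucc 0, .ofNat 0, .ofNat 0, .ofNat 0, .ofNat 0, .ofNat 0, .ofNat 0, .ofNat 0, .ofNat 1, .ofNat 0, .negSucc 0, .negSucc 0, .ofNat 1, .ofNat 1, .ofNat 0, .negSucc 0, .ofNat 0, .ofNat 0, .ofNat 0, .ofNat 0, .ofNat 0, .negSucc 0, .ofNat 1, .ofNat 0, .ofNat 0, .ofNat 0, .ofNat 0, .ofNat 0, .ofNat 0, .ofNat 0],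
 [.ofNat 0, .ofNat 0, .ofNat 0, .ofNat 0, .ofNat 0, .negSucc 0, .ofNat 0, .ofNat 0, .ofNat 0, .ofNat 1, .ofNat 0, .ofNat 0, .ofNat 1, .ofNat 0, .ofNat 0, .ofNat 0, .ofNat 0, .ofNat 0, .ofNat 1, .ofNat 0, .ofNat 0, .ofNat 0, .negSucc 0, .negSucc 0, .negSucc 0, .ofNat 0, .ofNat 0, .ofNat 1, .ofNat 1, .ofNat 1, .ofNat 0, .ofNat 0, .negSucc 0, .ofNat 0, .ofNat 0, .ofNat 0, .ofNat 0, .ofNat 0, .ofNat 0, .negSucc 0, .ofNat 0, .ofNat 0, .ofNat 0, .negSucc 0, .ofNat 1, .ofNat 0, .ofNat 0, .ofNat 0, .negSucc 0, .ofNat 1, .ofNat 0, .ofNat 0, .ofNat 0, .ofNat 0, .ofNat 0, .ofNat 0],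
 [.ofNat 0, .ofNat 0, .ofNat 0, .ofNat 0, .ofNat 0, .ofNat 0, .negSucc 0, .ofNat 0, .ofNat 0, .ofNat 0, .ofNat 1, .negSucc 0, .ofNat 0, .ofNat 1, .ofNat 0, .ofNat 0, .ofNat 0, .ofNat 0, .ofNat 0, .ofNat 0, .ofNat 0, .ofNat 0, .ofNat 0, .ofNat 0, .ofNat 1, .ofNat 0, .ofNat 1, .ofNat 0, .ofNat 0, .ofNat 1, .negSucc 0, .ofNat 0, .negSucc 0, .ofNat 0, .ofNat 0, .ofNat 0, .negSucc 0, .negSucc 0, .ofNat 0, .ofNat 0, .ofNat 0, .ofNat 0, .ofNat 1, .ofNat 0, .negSucc 0, .negSucc 0, .ofNat 0, .ofNat 0, .ofNat 0, .ofNat 0, .negSucc 0, .negSucc 0, .ofNat 0, .ofNat 0, .ofNat 0, .ofNat 0],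
 [.ofNat 0, .ofNat 1, .ofNat 0, .ofNat 0, .ofNat 0, .ofNat 0, .negSucc 0, .ofNat 0, .ofNat 0, .ofNat 0, .negSucc 0, .negSucc 0, .ofNat 0, .ofNat 0, .ofNat 0, .ofNat 1, .ofNat 0, .ofNat 0, .ofNat 0, .ofNat 0, .ofNat 0, .ofNat 0, .ofNat 1, .ofNat 0, .ofNat 1, .ofNat 0, .ofNat 0, .negSucc 0, .ofNat 0, .ofNat 0, .negSucc 0, .ofNat 0, .ofNat 0, .ofNat 0, .ofNat 0, .negSucc 0, .ofNat 0, .ofNat 0, .ofNat 0, .ofNat 0, .ofNat 0, .negSucc 0, .ofNat 0, .ofNat 0, .ofNat 0, .negSucc 0, .ofNat 1, .ofNat 0, .ofNat 1, .ofNat 0, .ofNat 0, .ofNat 0, .ofNat 0, .ofNat 1, .ofNat 1, .ofNat 0],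
 [.ofNat 0, .negSucc 0, .ofNat 1, .ofNat 0, .ofNat 0, .ofNat 0, .negSucc 0, .ofNat 0, .ofNat 1, .ofNat 0, .ofNat 0, .ofNat 1, .ofNat 0, .ofNat 0, .ofNat 0, .ofNat 0, .ofNat 0, .ofNat 0, .negSucc 0, .ofNat 0, .ofNat 0, .ofNat 1, .ofNat 0, .ofNat 0, .ofNat 0, .negSucc 0, .ofNat 0, .ofNat 0, .ofNat 0, .ofNat 0, .ofNat 0, .ofNat 0, .ofNat 1, .ofNat 0, .ofNat 0, .ofNat 0, .ofNat 0, .negSucc 0, .ofNat 1, .ofNat 0, .ofNat 1, .ofNat 0, .ofNat 0, .ofNat 1, .ofNat 0, .ofNat 0, .ofNat 0, .ofNat 1, .ofNat 1, .ofNat 0, .ofNat 0, .ofNat 0, .ofNat 0, .ofNat 0, .ofNat 0, .negSucc 0],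
 [.ofNat 0, .ofNat 0, .ofNat 0, .ofNat 0, .negSucc 0, .ofNat 0, .ofNat 0, .negSucc 0, .ofNat 0, .ofNat 0, .ofNat 0, .ofNat 0, .negSucc 0, .ofNat 1, .ofNat 0, .ofNat 0, .ofNat 0, .ofNat 1, .ofNat 0, .ofNat 0, .ofNat 0, .ofNat 0, .ofNat 0, .ofNat 1, .ofNat 0, .ofNat 0, .ofNat 0, .ofNat 0, .ofNat 0, .ofNat 1, .ofNat 0, .ofNat 1, .ofNat 0, .negSucc 0, .ofNat 1, .ofNat 0, .negSucc 0, .ofNat 0, .ofNat 0, .ofNat 1, .ofNat 0, .ofNat 0, .ofNat 0, .ofNat 0, .negSucc 0, .ofNat 0, .ofNat 0, .ofNat 0, .ofNat 0, .negSucc 0, .ofNat 0, .ofNat 0, .ofNat 0, .negSucc 0, .ofNat 1, .ofNat 0],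
 [.ofNat 0, .ofNat 0, .ofNat 0, .ofNat 0, .ofNat 0, .ofNat 0, .ofNat 0, .negSucc 0, .ofNat 0, .ofNat 0, .ofNat 0, .ofNat 0, .negSucc 0, .ofNat 0, .negSucc 0, .ofNat 0, .negSucc 0, .ofNat 0, .ofNat 0, .ofNat 1, .ofNat 0, .ofNat 0, .negSucc 0, .ofNat 0, .ofNat 0, .ofNat 0, .ofNat 0, .ofNat 0, .ofNat 1, .ofNat 0, .negSucc 0, .ofNat 0, .ofNat 1, .ofNat 0, .ofNat 0, .ofNat 0, .ofNat 0, .negSucc 0, .ofNat 0, .ofNat 1, .ofNat 0, .ofNat 1, .ofNat 0, .negSucc 0, .ofNat 0, .ofNat 0, .ofNat 0, .ofNat 0, .ofNat 0, .ofNat 0, .ofNat 0, .ofNat 1, .ofNat 0, .ofNat 0, .ofNat 1, .ofNat 1],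
 [.ofNat 0, .ofNat 0, .ofNat 0, .ofNat 0, .ofNat 1, .ofNat 0, .negSucc 0, .ofNat 0, .ofNat 0, .ofNat 0, .ofNat 0, .ofNat 0, .ofNat 0, .ofNat 0, .negSucc 0, .ofNat 0, .ofNat 0, .ofNat 0, .ofNat 1, .ofNat 1, .ofNat 0, .ofNat 1, .ofNat 0, .ofNat 0, .ofNat 0, .ofNat 0, .ofNat 0, .ofNat 0, .ofNat 0, .ofNat 1, .ofNat 0, .ofNat 1, .ofNat 0, .negSucc 0, .ofNat 0, .negSucc 0, .ofNat 1, .ofNat 0, .ofNat 0, .negSucc 0, .ofNat 0, .ofNat 0, .ofNat 0, .negSucc 0, .ofNat 0, .ofNat 0, .ofNat 0, .ofNat 0, .ofNat 0, .ofNat 0, .ofNat 0, .ofNat 1, .ofNat 0, .ofNat 1, .ofNat 1, .ofNat 0],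
 [.ofNat 1, .ofNat 0, .ofNat 0, .ofNat 0, .ofNat 0, .ofNat 0, .ofNat 0, .ofNat 0, .ofNat 0, .ofNat 0, .negSucc 0, .ofNat 0, .ofNat 0, .ofNat 0, .negSucc 0, .ofNat 0, .ofNat 0, .ofNat 1, .ofNat 0, .ofNat 0, .negSucc 0, .ofNat 0, .negSucc 0, .ofNat 0, .ofNat 0, .negSucc 0, .negSucc 0, .ofNat 0, .ofNat 0, .ofNat 0, .negSucc 0, .ofNat 0, .negSucc 0, .negSucc 0, .ofNat 1, .ofNat 1, .ofNat 0, .ofNat 1, .ofNat 0, .ofNat 0, .ofNat 0, .ofNat 0, .ofNat 0, .ofNat 1, .negSucc 0, .ofNat 0, .ofNat 0, .ofNat 0, .ofNat 0, .ofNat 0, .ofNat 0, .ofNat 0, .ofNat 0, .ofNat 0, .ofNat 0, .ofNat 0],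
 [.ofNat 0, .ofNat 0, .ofNat 0, .ofNat 0, .ofNat 0, .ofNat 0, .ofNat 0, .negSucc 0, .ofNat 0, .ofNat 0, .ofNat 0, .ofNat 0, .ofNat 1, .ofNat 0, .negSucc 0, .ofNat 0, .ofNat 0, .negSucc 0, .ofNat 1, .ofNat 0, .ofNat 0, .ofNat 0, .negSucc 0, .ofNat 0, .ofNat 0, .ofNat 0, .ofNat 0, .ofNat 0, .ofNat 1, .ofNat 0, .ofNat 0, .ofNat 1, .ofNat 0, .ofNat 0, .negSucc 0, .ofNat 0, .ofNat 0, .ofNat 0, .ofNat 1, .ofNat 1, .ofNat 0, .ofNat 0, .ofNat 0, .ofNat 0, .ofNat 0, .ofNat 0, .ofNat 0, .ofNat 0, .negSucc 0, .ofNat 0, .ofNat 0, .ofNat 0, .negSucc 0, .ofNat 1, .ofNat 1, .negSucc 0],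
 [.ofNat 0, .negSucc 0, .ofNat 0, .ofNat 0, .ofNat 0, .ofNat 0, .ofNat 0, .negSucc 0, .ofNat 1, .ofNat 0, .ofNat 0, .ofNat 0, .ofNat 0, .ofNat 0, .ofNat 0, .ofNat 0, .ofNat 0, .ofNat 0, .ofNat 0, .ofNat 0, .ofNat 0, .ofNat 0, .negSucc 0, .ofNat 0, .ofNat 0, .ofNat 0, .ofNat 0, .ofNat 0, .ofNat 0, .ofNat 0, .ofNat 1, .ofNat 0, .ofNat 0, .ofNat 0, .ofNat 1, .ofNat 0, .ofNat 0, .negSucc 0, .ofNat 0, .ofNat 0, .ofNat 1, .ofNat 0, .negSucc 0, .ofNat 0, .ofNat 0, .negSucc 0, .ofNat 1, .ofNat 0, .ofNat 1, .ofNat 0, .ofNat 0, .ofNat 0, .negSucc 0, .negSucc 0, .ofNat 1, .ofNat 1],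
 [.ofNat 0, .ofNat 1, .negSucc 0, .ofNat 0, .ofNat 0, .ofNat 0, .negSucc 0, .ofNat 0, .ofNat 1, .ofNat 1, .ofNat 0, .ofNat 0, .ofNat 0, .ofNat 0, .ofNat 0, .ofNat 0, .ofNat 0, .ofNat 0, .ofNat 0, .ofNat 0, .negSucc 0, .ofNat 0, .ofNat 0, .ofNat 0, .ofNat 0, .ofNat 0, .ofNat 0, .ofNat 0, .ofNat 1, .ofNat 0, .ofNat 0, .ofNat 1, .ofNat 0, .negSucc 0, .ofNat 0, .ofNat 0, .ofNat 0, .ofNat 0, .ofNat 0, .ofNat 0, .ofNat 0, .ofNat 0, .ofNat 1, .ofNat 1, .negSucc 0, .ofNat 0, .negSucc 0, .ofNat 0, .ofNat 0, .ofNat 0, .ofNat 0, .negSucc 0, .ofNat 0, .negSucc 0, .ofNat 0, .ofNat 1],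
 [.negSucc 0, .ofNat 0, .ofNat 0, .ofNat 0, .ofNat 0, .ofNat 0, .ofNat 0, .ofNat 0, .ofNat 0, .ofNat 0, .ofNat 0, .ofNat 0, .ofNat 0, .ofNat 0, .negSucc 0, .ofNat 0, .ofNat 0, .ofNat 0, .ofNat 0, .ofNat 0, .ofNat 0, .ofNat 1, .ofNat 0, .ofNat 0, .ofNat 0, .ofNat 0, .ofNat 0, .negSucc 0, .ofNat 0, .ofNat 1, .ofNat 0, .ofNat 0, .negSucc 0, .ofNat 0, .ofNat 1, .ofNat 0, .ofNat 0, .ofNat 1, .negSucc 0, .ofNat 0, .ofNat 1, .ofNat 0, .ofNat 0, .ofNat 0, .negSucc 0, .negSucc 0, .ofNat 1, .ofNat 1, .ofNat 0, .ofNat 0, .negSucc 0, .ofNat 0, .ofNat 0, .ofNat 0, .ofNat 1, .ofNat 0],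
 [.ofNat 0, .ofNat 0, .ofNat 0, .ofNat 0, .ofNat 0, .ofNat 0, .ofNat 0, .ofNat 0, .ofNat 1, .ofNat 0, .ofNat 0, .ofNat 0, .ofNat 0, .ofNat 0, .ofNat 0, .ofNat 0, .ofNat 0, .negSucc 0, .ofNat 1, .ofNat 0, .ofNat 0, .ofNat 0, .ofNat 1, .ofNat 0, .negSucc 0, .negSucc 0, .ofNat 0, .ofNat 0, .ofNat 0, .ofNat 0, .negSucc 0, .negSucc 0, .ofNat 1, .ofNat 0, .ofNat 1, .ofNat 0, .ofNat 0, .ofNat 0, .ofNat 0, .ofNat 1, .ofNat 0, .ofNat 1, .ofNat 0, .negSucc 0, .negSucc 0, .ofNat 0, .ofNat 0, .negSucc 0, .ofNat 0, .ofNat 1, .ofNat 0, .ofNat 0, .ofNat 0, .ofNat 0, .ofNat 0, .ofNat 0],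
 [.negSucc 0, .ofNat 0, .ofNat 1, .ofNat 0, .ofNat 0, .ofNat 0, .ofNat 0, .negSucc 0, .ofNat 0, .ofNat 0, .ofNat 0, .ofNat 0, .negSucc 0, .ofNat 0, .ofNat 0, .ofNat 1, .ofNat 1, .ofNat 0, .ofNat 0, .negSucc 0, .negSucc 0, .negSucc 0, .ofNat 0, .ofNat 0, .negSucc 0, .ofNat 0, .ofNat 0, .ofNat 0, .ofNat 0, .ofNat 0, .ofNat 0, .ofNat 0, .negSucc 0, .ofNat 0, .ofNat 0, .ofNat 0, .ofNat 0, .negSucc 0, .ofNat 0, .ofNat 1, .ofNat 0, .negSucc 0, .negSucc 0, .ofNat 0, .ofNat 0, .ofNat 0, .ofNat 0, .ofNat 0, .ofNat 0, .ofNat 0, .ofNat 0, .ofNat 0, .ofNat 0, .negSucc 0, .ofNat 0, .ofNat 0],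
 [.ofNat 0, .ofNat 1, .ofNat 1, .ofNat 0, .ofNat 0, .ofNat 0, .ofNat 0, .ofNat 0, .ofNat 1, .ofNat 0, .negSucc 0, .ofNat 0, .ofNat 0, .ofNat 1, .ofNat 0, .ofNat 0, .ofNat 0, .ofNat 0, .ofNat 1, .ofNat 0, .ofNat 0, .negSucc 0, .ofNat 0, .ofNat 0, .ofNat 0, .ofNat 0, .ofNat 0, .negSucc 0, .ofNat 0, .ofNat 0, .ofNat 0, .ofNat 0, .ofNat 0, .ofNat 1, .ofNat 0, .negSucc 0, .ofNat 0, .ofNat 1, .ofNat 0, .ofNat 1, .ofNat 0, .ofNat 0, .ofNat 1, .ofNat 0, .ofNat 0, .ofNat 0, .ofNat 0, .negSucc 0, .negSucc 0, .ofNat 0, .ofNat 0, .ofNat 0, .ofNat 0, .ofNat 1, .ofNat 0, .ofNat 0],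
 [.ofNat 0, .ofNat 0, .ofNat 0, .ofNat 0, .ofNat 1, .ofNat 0, .negSucc 0, .negSucc 0, .ofNat 0, .ofNat 0, .ofNat 0, .negSucc 0, .ofNat 1, .ofNat 0, .ofNat 0, .ofNat 0, .ofNat 0, .ofNat 0, .ofNat 0, .ofNat 0, .ofNat 0, .ofNat 0, .ofNat 0, .ofNat 0, .negSucc 0, .ofNat 1, .ofNat 0, .negSucc 0, .ofNat 0, .ofNat 0, .ofNat 0, .ofNat 0, .ofNat 0, .negSucc 0, .ofNat 0, .ofNat 0, .negSucc 0, .negSucc 0, .negSucc 0, .ofNat 0, .ofNat 0, .ofNat 1, .ofNat 1, .ofNat 1, .ofNat 0, .ofNat 0, .ofNat 0, .ofNat 0, .ofNat 0, .ofNat 0, .ofNat 0, .ofNat 0, .ofNat 0, .ofNat 0, .negSucc 0, .ofNat 0],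
 [.ofNat 0, .ofNat 0, .ofNat 0, .ofNat 0, .ofNat 1, .ofNat 0, .negSucc 0, .negSucc 0, .ofNat 0, .ofNat 0, .ofNat 0, .negSucc 0, .negSucc 0, .ofNat 0, .ofNat 0, .ofNat 0, .ofNat 0, .ofNat 0, .ofNat 0, .ofNat 0, .ofNat 0, .ofNat 0, .ofNat 0, .ofNat 0, .ofNat 1, .negSucc 0, .ofNat 0, .ofNat 1, .ofNat 0, .ofNat 0, .ofNat 0, .ofNat 0, .ofNat 0, .negSucc 0, .ofNat 0, .ofNat 0, .negSucc 0, .negSucc 0, .negSucc 0, .ofNat 0, .ofNat 0, .negSucc 0, .negSucc 0, .negSucc 0, .ofNat 0, .ofNat 0, .ofNat 0, .ofNat 0, .ofNat 0, .ofNat 0, .ofNat 0, .ofNat 0, .ofNat 0, .ofNat 0, .ofNat 1, .ofNat 0],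
 [.ofNat 0, .ofNat 0, .ofNat 0, .ofNat 0, .ofNat 0, .ofNat 0, .ofNat 0, .ofNat 0, .ofNat 0, .ofNat 0, .negSucc 0, .ofNat 0, .ofNat 0, .ofNat 0, .ofNat 0, .ofNat 0, .ofNat 0, .negSucc 0, .ofNat 0, .ofNat 0, .ofNat 0, .ofNat 0, .ofNat 0, .ofNat 1, .negSucc 0, .ofNat 0, .ofNat 0, .ofNat 0, .ofNat 0, .ofNat 0, .ofNat 0, .ofNat 0, .ofNat 0, .ofNat 0, .ofNat 0, .ofNat 0, .ofNat 1, .negSucc 0, .ofNat 0, .ofNat 1, .ofNat 0, .ofNat 0, .ofNat 0, .ofNat 0, .negSucc 0, .ofNat 0, .negSucc 0, .negSucc 0, .ofNat 1, .negSucc 0, .negSucc 0, .ofNat 0, .ofNat 0, .negSucc 0, .ofNat 1, .ofNat 1],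
 [.negSucc 0, .ofNat 0, .ofNat 0, .ofNat 0, .ofNat 0, .ofNat 0, .ofNat 0, .ofNat 0, .ofNat 0, .ofNat 1, .negSucc 0, .ofNat 0, .ofNat 0, .ofNat 0, .negSucc 0, .ofNat 0, .ofNat 0, .ofNat 0, .negSucc 0, .negSucc 0, .ofNat 0, .ofNat 0, .ofNat 0, .ofNat 0, .ofNat 0, .ofNat 0, .ofNat 0, .ofNat 0, .ofNat 0, .ofNat 1, .ofNat 0, .ofNat 0, .ofNat 1, .ofNat 0, .ofNat 1, .ofNat 0, .ofNat 0, .ofNat 0, .ofNat 0, .ofNat 0, .ofNat 1, .ofNat 0, .ofNat 0, .ofNat 0, .ofNat 1, .negSucc 0, .ofNat 0, .ofNat 0, .ofNat 1, .ofNat 0, .ofNat 0, .negSucc 0, .negSucc 0, .ofNat 1, .ofNat 0, .ofNat 0],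
 [.negSucc 0, .ofNat 1, .ofNat 0, .ofNat 1, .ofNat 0, .ofNat 0, .ofNat 0, .ofNat 0, .ofNat 0, .ofNat 1, .ofNat 0, .ofNat 0, .ofNat 1, .ofNat 1, .negSucc 0, .ofNat 0, .negSucc 0, .ofNat 0, .ofNat 0, .ofNat 0, .ofNat 0, .ofNat 0, .ofNat 0, .ofNat 0, .ofNat 0, .ofNat 0, .ofNat 0, .ofNat 0, .ofNat 0, .ofNat 0, .ofNat 1, .ofNat 0, .ofNat 0, .ofNat 0, .ofNat 0, .ofNat 0, .ofNat 1, .ofNat 0, .ofNat 1, .ofNat 1, .ofNat 0, .ofNat 0, .ofNat 0, .ofNat 1, .ofNat 0, .negSucc 0, .negSucc 0, .negSucc 0, .ofNat 0, .ofNat 0, .ofNat 0, .ofNat 0, .ofNat 0, .ofNat 0, .ofNat 0, .ofNat 0],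
 [.ofNat 0, .ofNat 0, .negSucc 0, .ofNat 0, .ofNat 1, .negSucc 0, .ofNat 0, .ofNat 0, .negSucc 0, .ofNat 0, .ofNat 0, .ofNat 0, .ofNat 0, .ofNat 0, .ofNat 0, .ofNat 0, .ofNat 0, .ofNat 0, .ofNat 0, .ofNat 1, .ofNat 0, .ofNat 0, .ofNat 1, .ofNat 0, .ofNat 0, .negSucc 0, .ofNat 0, .negSucc 0, .ofNat 0, .ofNat 1, .ofNat 0, .ofNat 0, .ofNat 0, .ofNat 0, .ofNat 0, .ofNat 0, .ofNat 0, .ofNat 1, .ofNat 0, .ofNat 0, .ofNat 1, .ofNat 0, .ofNat 1, .ofNat 0, .ofNat 1, .ofNat 0, .ofNat 0, .ofNat 0, .ofNat 1, .ofNat 0, .ofNat 0, .ofNat 0, .negSucc 0, .ofNat 0, .ofNat 1, .ofNat 0],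
 [.ofNat 0, .negSucc 0, .ofNat 0, .ofNat 0, .ofNat 0, .ofNat 0, .ofNat 0, .ofNat 0, .ofNat 0, .ofNat 0, .ofNat 0, .ofNat 0, .ofNat 0, .ofNat 1, .ofNat 0, .ofNat 1, .ofNat 0, .ofNat 0, .ofNat 0, .ofNat 0, .ofNat 0, .ofNat 0, .negSucc 0, .ofNat 0, .ofNat 0, .ofNat 0, .ofNat 1, .negSucc 0, .ofNat 0, .ofNat 0, .ofNat 0, .ofNat 1, .ofNat 0, .negSucc 0, .ofNat 1, .ofNat 0, .ofNat 0, .ofNat 1, .ofNat 0, .negSucc 0, .ofNat 1, .ofNat 0, .negSucc 0, .ofNat 0, .negSucc 0, .ofNat 0, .ofNat 0, .negSucc 0, .ofNat 0, .ofNat 0, .ofNat 0, .ofNat 1, .ofNat 0, .ofNat 0, .ofNat 0, .ofNat 0],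
 [.ofNat 0, .ofNat 0, .ofNat 1, .negSucc 0, .ofNat 1, .ofNat 0, .negSucc 0, .ofNat 0, .ofNat 0, .ofNat 1, .negSucc 0, .ofNat 0, .ofNat 0, .ofNat 1, .ofNat 0, .negSucc 0, .ofNat 1, .ofNat 1, .ofNat 1, .ofNat 1, .ofNat 1, .ofNat 0, .ofNat 0, .negSucc 0, .negSucc 0, .ofNat 1, .ofNat 0, .ofNat 0, .ofNat 0, .ofNat 0, .ofNat 0, .ofNat 0, .ofNat 0, .ofNat 0, .ofNat 0, .ofNat 0, .ofNat 0, .ofNat 0, .ofNat 0, .ofNat 0, .ofNat 0, .ofNat 0, .ofNat 0, .ofNat 0, .ofNat 0, .ofNat 0, .ofNat 0, .ofNat 0, .ofNat 0, .ofNat 0, .ofNat 0, .ofNat 0, .ofNat 0, .ofNat 0, .ofNat 0, .ofNat 0],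
 [.ofNat 0, .ofNat 0, .ofNat 1, .ofNat 0, .ofNat 0, .ofNat 0, .negSucc 0, .ofNat 0, .ofNat 1, .ofNat 0, .ofNat 0, .ofNat 0, .ofNat 1, .ofNat 0, .negSucc 0, .ofNat 0, .ofNat 1, .ofNat 0, .ofNat 0, .ofNat 0, .ofNat 0, .ofNat 0, .ofNat 0, .ofNat 0, .negSucc 0, .ofNat 0, .negSucc 0, .ofNat 0, .ofNat 0, .negSucc 0, .ofNat 0, .ofNat 0, .ofNat 0, .ofNat 0, .ofNat 0, .negSucc 0, .ofNat 0, .negSucc 0, .ofNat 0, .ofNat 0, .ofNat 0, .ofNat 0, .ofNat 0, .ofNat 0, .ofNat 0, .ofNat 0, .ofNat 0, .ofNat 1, .ofNat 0, .negSucc 0, .ofNat 0, .negSucc 0, .ofNat 0, .negSucc 0, .ofNat 0, .ofNat 1],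
 [.ofNat 0, .ofNat 0, .ofNat 0, .ofNat 0, .ofNat 1, .ofNat 0, .ofNat 0, .ofNat 0, .ofNat 0, .ofNat 0, .ofNat 0, .negSucc 0, .ofNat 0, .ofNat 1, .negSucc 0, .ofNat 0, .ofNat 1, .ofNat 0, .ofNat 0, .ofNat 0, .ofNat 1, .ofNat 0, .ofNat 1, .ofNat 0, .ofNat 0, .ofNat 0, .negSucc 0, .ofNat 0, .negSucc 0, .negSucc 0, .ofNat 0, .ofNat 0, .ofNat 0, .negSucc 0, .ofNat 0, .ofNat 0, .ofNat 0, .negSucc 0, .ofNat 0, .ofNat 0, .ofNat 0, .ofNat 0, .ofNat 0, .ofNat 0, .ofNat 0, .ofNat 0, .ofNat 1, .ofNat 0, .ofNat 0, .negSucc 0, .ofNat 0, .ofNat 1, .ofNat 0, .ofNat 1, .ofNat 0, .ofNat 0],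
 [.negSucc 0, .ofNat 0, .ofNat 0, .ofNat 1, .ofNat 0, .ofNat 0, .negSucc 0, .ofNat 0, .ofNat 0, .ofNat 1, .ofNat 0, .ofNat 0, .ofNat 0, .ofNat 0, .ofNat 0, .ofNat 0, .ofNat 0, .negSucc 0, .negSucc 0, .ofNat 0, .ofNat 0, .ofNat 1, .ofNat 0, .negSucc 0, .ofNat 0, .ofNat 0, .ofNat 1, .negSucc 0, .ofNat 0, .ofNat 0, .ofNat 0, .ofNat 0, .ofNat 0, .ofNat 0, .ofNat 0, .negSucc 0, .ofNat 1, .ofNat 0, .ofNat 0, .ofNat 0, .ofNat 1, .ofNat 0, .negSucc 0, .ofNat 0, .ofNat 0, .ofNat 0, .ofNat 0, .ofNat 0, .ofNat 0, .ofNat 0, .ofNat 0, .ofNat 0, .ofNat 1, .ofNat 1, .ofNat 0, .ofNat 0],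
 [.ofNat 0, .ofNat 0, .ofNat 0, .negSucc 0, .ofNat 1, .ofNat 0, .ofNat 0, .ofNat 0, .ofNat 1, .ofNat 0, .negSucc 0, .ofNat 0, .ofNat 0, .ofNat 0, .ofNat 0, .ofNat 0, .ofNat 0, .ofNat 0, .ofNat 0, .ofNat 0, .ofNat 1, .ofNat 1, .ofNat 0, .ofNat 0, .ofNat 0, .ofNat 0, .ofNat 0, .ofNat 0, .ofNat 0, .ofNat 0, .ofNat 1, .ofNat 0, .ofNat 0, .negSucc 0, .ofNat 0, .ofNat 0, .ofNat 0, .ofNat 0, .ofNat 0, .ofNat 0, .ofNat 0, .ofNat 1, .ofNat 1, .ofNat 0, .ofNat 0, .negSucc 0, .ofNat 0, .ofNat 1, .ofNat 0, .ofNat 0, .negSucc 0, .ofNat 1, .ofNat 1, .ofNat 0, .ofNat 0, .negSucc 0],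
 [.ofNat 0, .ofNat 0, .ofNat 0, .ofNat 0, .ofNat 0, .ofNat 0, .negSucc 0, .ofNat 0, .ofNat 1, .ofNat 1, .negSucc 0, .negSucc 0, .ofNat 0, .ofNat 1, .ofNat 0, .ofNat 0, .ofNat 0, .ofNat 0, .ofNat 0, .ofNat 1, .negSucc 0, .ofNat 0, .ofNat 0, .ofNat 0, .ofNat 0, .ofNat 0, .ofNat 0, .ofNat 0, .ofNat 0, .negSucc 0, .negSucc 0, .ofNat 0, .negSucc 0, .ofNat 0, .ofNat 0, .ofNat 0, .ofNat 0, .ofNat 0, .ofNat 0, .ofNat 0, .ofNat 0, .ofNat 0, .ofNat 1, .ofNat 0, .ofNat 0, .ofNat 0, .ofNat 1, .ofNat 0, .ofNat 0, .negSucc 0, .ofNat 0, .ofNat 0, .negSucc 0, .ofNat 0, .negSucc 0, .ofNat 0],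
 [.negSucc 0, .negSucc 0, .ofNat 0, .ofNat 0, .ofNat 1, .ofNat 0, .ofNat 0, .ofNat 0, .ofNat 0, .ofNat 0, .ofNat 0, .ofNat 1, .ofNat 0, .ofNat 0, .ofNat 0, .ofNat 1, .negSucc 0, .ofNat 0, .ofNat 0, .ofNat 0, .ofNat 1, .negSucc 0, .ofNat 0, .ofNat 0, .ofNat 0, .ofNat 0, .ofNat 0, .ofNat 0, .ofNat 0, .ofNat 0, .ofNat 0, .ofNat 0, .ofNat 0, .negSucc 0, .ofNat 0, .ofNat 0, .ofNat 0, .ofNat 1, .ofNat 0, .ofNat 0, .ofNat 1, .ofNat 0, .ofNat 0, .ofNat 0, .ofNat 0, .ofNat 0, .ofNat 1, .ofNat 0, .ofNat 0, .ofNat 0, .negSucc 0, .negSucc 0, .negSucc 0, .ofNat 0, .ofNat 0, .ofNat 1],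
 [.ofNat 0, .negSucc 0, .ofNat 1, .ofNat 0, .ofNat 1, .ofNat 0, .ofNat 0, .ofNat 0, .ofNat 1, .ofNat 1, .ofNat 0, .ofNat 0, .ofNat 0, .ofNat 0, .negSucc 0, .ofNat 0, .ofNat 1, .ofNat 1, .ofNat 0, .ofNat 0, .ofNat 0, .ofNat 0, .ofNat 1, .ofNat 1, .ofNat 0, .ofNat 0, .ofNat 0, .ofNat 0, .ofNat 0, .ofNat 0, .ofNat 0, .ofNat 0, .ofNat 0, .ofNat 0, .negSucc 0, .ofNat 0, .ofNat 0, .ofNat 0, .ofNat 1, .negSucc 0, .ofNat 0, .ofNat 1, .ofNat 0, .ofNat 0, .ofNat 0, .ofNat 0, .ofNat 0, .ofNat 0, .ofNat 0, .ofNat 0, .ofNat 0, .ofNat 0, .ofNat 1, .ofNat 0, .ofNat 1, .ofNat 0]]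

/-- Packed columns. -/
def P0 : List ℤ :=
 [.negSucc 0x10000000000000000000000010000000000000000000000000000000000000000000000010000000100000000000000000000000000000000000000010000000000000000ffffffffffffffffffffffffffffffff0000000000000000000000000000000000000000000000000000000000000000000000000000000000000000fffffffffffffffffffffffffffffffffffffffffffffffffffffffffffffffffffffffffffffffffffffffffffffffffffffffffffffffefffffffffffffffefffffffffffffffffffffffeffffffffffffffffffffffff,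
 .negSucc 0x10000000100000000000000000000000000000000000000000000000000000000fffffffffffffffefffffffffffffffffffffffffffffffffffffffeffffffffffffffffffffffffffffffff00000001000000000000000000000000000000000000000000000000ffffffff00000000000000000000000100000000000000000000000100000000fffffffffffffffffffffffefffffffffffffffefffffffffffffffffffffffffffffffffffffffffffffffffffffffefffffffffffffffffffffffffffffffffffffffefffffffffffffffeffffffffffffffff,
 .ofNat 0x100000000000000000000000000000000000000000000000100000000ffffffffffffffff00000000000000000000000000000000000000000000000100000000ffffffffffffffffffffffff00000000000000000000000000000000000000000000000000000000ffffffffffffffffffffffffffffffff0000000100000000000000000000000000000000000000000000000000000000ffffffffffffffffffffffffffffffffffffffffffffffffffffffff000000000000000000000000fffffffffffffffefffffffffffffffeffffffffffffffffffffffff,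
 .negSucc 0xffffffff000000000000000000000000fffffffffffffffffffffffeffffffffffffffffffffffffffffffffffffffffffffffffffffffffffffffffffffffffffffffffffffffffffffffffffffffffffffffffffffffffffffffffffffffffffffffffffffffffffffffffffffffffffffffffffffffffffffffffffffffffffffffff000000000000000000000000000000000000000000000000000000000000000000000000fffffffffffffffefffffffffffffffefffffffffffffffefffffffffffffffeffffffffffffffff,
 .ofNat 0x10000000100000000000000010000000000000001000000000000000100000000000000010000000000000000000000000000000100000001000000000000000000000000000000000000000000000000000000000000000000000000fffffffffffffffeffffffffffffffffffffffffffffffffffffffff000000000000000000000000000000000000000000000000000000000000000000000000ffffffffffffffffffffffffffffffffffffffff00000000fffffffeffffffffffffffffffffffffffffffff0000000000000001000000000000000100000000,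
 .negSucc 0x1000000000000000000000000000000000000000000000000000000000000000000000000000000000000000000000000000000000000000000000000000000000000000000000000000000000000000100000000000000010000000000000001000000000000000000000001000000000000000000000000000000000000000100000000ffffffff00000000000000000000000000000001000000000000000000000001000000010000000000000000ffffffffffffffff,
 .negSucc 0x10000000000000001000000000000000100000001000000000000000000000000000000000000000000000001000000010000000000000000000000000000000000000001000000000000000000000000000000010000000000000000000000010000000100000000fffffffffffffffffffffffffffffffffffffffffffffffffffffffffffffffefffffffffffffffffffffffefffffffffffffffffffffffffffffffffffffffffffffffefffffffeffffffffffffffff00000000fffffffefffffffffffffffffffffffeffffffffffffffff,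
 .negSucc 0x1000000010000000000000001000000000000000000000000000000010000000100000000000000000000000100000001000000000000000000000000000000000000000000000000000000010000000000000001000000000000000000000000000000000000000000000000000000000000000000000000ffffffffffffffffffffffffffffffffffffffffffffffffffffffff0000000100000000000000000000000000000000,
 .ofNat 0x1000000000000000100000001000000000000000000000000ffffffffffffffffffffffff00000000000000000000000000000000000000000000000100000000000000010000000000000001000000010000000000000000000000000000000000000000000000010000000000000000000000000000000000000000000000010000000000000000000000000000000000000000000000010000000000000000fffffffeffffffff000000000000000000000000000000000000000000000000000000000000000000000000ffffffffffffffff0000000000000000,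
 .ofNat 0x10000000000000001000000000000000100000000000000000000000100000000000000000000000100000001000000000000000000000000000000000000000000000000000000000000000100000000000000000000000000000000000000000000000000000000000000000000000000000000fffffffffffffffffffffffffffffffeffffffff000000000000000100000000fffffffffffffffffffffffefffffffeffffffff00000000ffffffff0000000000000000ffffffffffffffff0000000000000000fffffffffffffffeffffffffffffffff00000000,
 .negSucc 0x100000001000000000000000000000000000000010000000000000000000000000000000100000001000000000000000000000001000000000000000000000000000000000000000000000000000000010000000000000000000000000000000000000000fffffffeffffffffffffffffffffffffffffffffffffffffffffffffffffffffffffffffffffffffffffffff0000000000000000000000010000000100000000000000000000000000000000fffffffffffffffffffffffefffffffffffffffffffffffffffffffffffffffeffffffff,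
 .ofNat 0xfffffffefffffffffffffffffffffffefffffffffffffffffffffffffffffffffffffffffffffffffffffffffffffffeffffffff000000000000000000000000000000000000000000000000000000000000000000000000000000000000000000000000fffffffefffffffeffffffffffffffffffffffffffffffffffffffffffffffffffffffffffffffff00000000000000010000000000000001000000000000000000000001000000010000000100000000000000000000000000000000ffffffffffffffff00000001000000010000000000000000,
 .ofNat 0x100000000000000000000000000000000ffffffffffffffffffffffff00000000ffffffffffffffff0000000000000000000000000000000000000000fffffffffffffffffffffffeffffffff000000000000000000000000000000010000000000000000000000010000000000000000000000000000000100000001000000000000000100000000000000000000000000000000000000000000000000000001000000000000000100000000000000000000000000000000000000000000000100000000,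
 .ofNat 0x10000000000000000000000010000000000000001000000010000000000000001000000000000000000000000000000000000000100000000000000000000000000000000000000000000000000000000000000000000000000000001000000000000000000000001000000000000000000000000ffffffffffffffffffffffffffffffffffffffffffffffffffffffffffffffffffffffffffffffff00000000ffffffffffffffff0000000100000000000000000000000000000000000000000000000000000000ffffffffffffffffffffffff,
 .negSucc 0x1000000000000000000000000000000000000000100000001000000000000000000000000000000010000000100000000000000000000000000000000000000000000000000000001000000000000000000000001000000010000000100000000fffffffffffffffffffffffffffffffffffffffffffffffeffffffff0000000100000000000000000000000000000000ffffffff00000000000000000000000000000000fffffffeffffffff00000000ffffffffffffffffffffffff00000000ffffffffffffffffffffffffffffffffffffffffffffffffffffffff,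
 .ofNat 0xffffffffffffffffffffffffffffffffffffffffffffffff00000001000000000000000000000000000000000000000000000000000000000000000100000000000000000000000000000000000000000000000000000000000000000000000000000000000000010000000000000000000000000000000000000000000000000000000000000000000000000000000000000000ffffffffffffffffffffffff00000000ffffffffffffffffffffffff0000000000000001000000000000000000000000fffffffeffffffff000000000000000100000000,
 .ofNat 0xffffffff000000000000000000000000000000010000000100000000ffffffffffffffffffffffff000000000000000000000000000000000000000000000000fffffffffffffffffffffffffffffffffffffffffffffffffffffffffffffffeffffffffffffffffffffffffffffffffffffffffffffffffffffffffffffffffffffffffffffffffffffffffffffffff000000010000000000000000fffffffefffffffffffffffffffffffffffffffffffffffefffffffefffffffefffffffffffffffffffffffeffffffffffffffffffffffff0000000000000000,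
 .ofNat 0xffffffffffffffffffffffffffffffff000000000000000000000000fffffffffffffffffffffffffffffffffffffffefffffffffffffffffffffffffffffffffffffffeffffffffffffffffffffffffffffffff00000001000000000000000000000000fffffffffffffffffffffffffffffffffffffffffffffffefffffffffffffffffffffffffffffffffffffffffffffffffffffffefffffffefffffffffffffffffffffffffffffffffffffffffffffffffffffffefffffffffffffffeffffffffffffffffffffffffffffffffffffffffffffffffffffffff,
 .negSucc 0xffffffffffffffffffffffff00000000000000000000000000000000fffffffffffffffffffffffffffffffefffffffffffffffefffffffffffffffffffffffffffffffeffffffffffffffff000000000000000000000000fffffffffffffffffffffffefffffffeffffffffffffffffffffffff00000000000000000000000000000000000000010000000000000000ffffffffffffffffffffffffffffffffffffffffffffffff00000000fffffffefffffffffffffffffffffffffffffffffffffffffffffffffffffffe,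
 .ofNat 0x100000000000000000000000000000000000000010000000000000000fffffffffffffffeffffffffffffffffffffffffffffffffffffffff000000000000000000000000000000000000000000000000000000010000000100000000000000000000000000000000000000000000000000000001000000000000000000000000fffffffffffffffefffffffffffffffefffffffffffffffefffffffffffffffffffffffeffffffffffffffff00000001000000000000000000000000000000000000000000000000000000000000000100000000,
 .ofNat 0xffffffff0000000100000000000000010000000000000000fffffffffffffffffffffffffffffffffffffffffffffffffffffffffffffffffffffffefffffffffffffffffffffffeffffffffffffffffffffffff000000000000000000000000000000000000000000000000000000000000000000000000000000000000000000000000000000000000000000000001000000000000000100000000ffffffffffffffffffffffff0000000000000000000000000000000000000000ffffffff000000000000000000000000000000000000000100000001,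
 .negSucc 0xfffffffffffffffeffffffff000000000000000000000000000000000000000000000000000000000000000000000000000000000000000100000000fffffffffffffffefffffffffffffffffffffffffffffffffffffffeffffffffffffffffffffffff0000000000000000000000000000000100000000000000000000000100000001000000000000000000000000000000000000000000000000ffffffffffffffffffffffffffffffffffffffff0000000000000000000000000000000000000000000000000000000000000000ffffffffffffffff,
 .ofNat 0x10000000000000000000000000000000000000000ffffffffffffffffffffffff000000010000000000000000000000000000000000000000000000000000000000000000fffffffffffffffffffffffefffffffefffffffeffffffffffffffff000000000000000000000000fffffffffffffffefffffffffffffffefffffffffffffffffffffffffffffffffffffffffffffffffffffffffffffffffffffffeffffffffffffffffffffffffffffffffffffffffffffffff000000000000000000000000000000000000000000000000000000000000000000000000,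
 .ofNat 0xfffffffffffffffffffffffffffffffeffffffffffffffffffffffff000000000000000000000000000000000000000100000000000000000000000000000000000000000000000000000000000000000000000000000000000000000000000000000000ffffffffffffffffffffffffffffffff00000000000000010000000000000000ffffffff0000000000000000fffffffffffffffffffffffeffffffffffffffffffffffffffffffffffffffffffffffffffffffffffffffff0000000000000000000000000000000100000001000000000000000000000000,
 .negSucc 0x1000000010000000000000000000000000000000000000000ffffffff00000001000000000000000100000000fffffffffffffffffffffffffffffffffffffffffffffffffffffffffffffffffffffffffffffffeffffffff0000000100000000fffffffeffffffff0000000000000000000000000000000000000001000000000000000100000000000000000000000000000000000000000000000000000000000000000000000100000000ffffffffffffffffffffffffffffffffffffffffffffffff,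
 .ofNat 0xfffffffffffffffeffffffffffffffffffffffffffffffff00000000fffffffffffffffffffffffefffffffffffffffffffffffffffffffffffffffeffffffffffffffffffffffffffffffff00000000000000000000000000000000000000000000000100000000ffffffff0000000000000000000000000000000000000000ffffffff000000000000000000000000fffffffefffffffffffffffffffffffeffffffff000000010000000000000000ffffffffffffffff0000000000000001,
 .ofNat 0xfffffffeffffffff0000000000000000ffffffffffffffffffffffffffffffffffffffffffffffffffffffffffffffffffffffffffffffffffffffffffffffffffffffffffffffff000000000000000000000000000000000000000000000000ffffffffffffffff0000000000000000000000000000000000000000000000000000000100000000000000000000000100000000ffffffff00000000000000000000000000000001000000000000000100000001000000000000000100000001000000010000000000000001,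
 .negSucc 0x10000000000000000000000000000000100000000ffffffffffffffffffffffffffffffff0000000100000001000000000000000000000001000000000000000000000000000000000000000000000000000000000000000000000000ffffffffffffffff0000000000000000fffffffffffffffffffffffefffffffffffffffffffffffffffffffffffffffffffffffefffffffffffffffffffffffffffffffffffffffffffffffffffffffeffffffff00000000ffffffffffffffffffffffff0000000000000000ffffffff,
 .negSucc 0xfffffffffffffffffffffffffffffffffffffffffffffffffffffffffffffffffffffffffffffffffffffffffffffffffffffffffffffffefffffffffffffffefffffffffffffffffffffffefffffffffffffffffffffffffffffffffffffffefffffffffffffffffffffffefffffffffffffffffffffffffffffffffffffffffffffffefffffffefffffffffffffffffffffffffffffffffffffffeffffffffffffffff00000000000000000000000000000000ffffffffffffffffffffffffffffffffffffffff,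
 .negSucc 0x100000000000000000000000100000000fffffffffffffffffffffffefffffffffffffffefffffffffffffffffffffffffffffffffffffffffffffffffffffffefffffffffffffffffffffffffffffffffffffffefffffffffffffffefffffffffffffffffffffffefffffffeffffffffffffffffffffffffffffffffffffffffffffffffffffffff0000000000000001000000000000000000000000000000000000000100000000000000000000000000000000fffffffeffffffffffffffffffffffffffffffffffffffffffffffff00000000,
 .negSucc 0xfffffffeffffffffffffffffffffffffffffffffffffffffffffffffffffffff00000000000000000000000000000000000000000000000000000000ffffffffffffffffffffffff000000000000000100000000000000010000000000000000000000010000000100000000000000000000000000000000000000000000000100000000ffffffffffffffff00000000000000000000000000000000000000000000000100000000ffffffffffffffffffffffff00000000000000000000000000000000000000000000000000000000ffffffff,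
 .ofNat 0xffffffffffffffffffffffffffffffffffffffffffffffffffffffffffffffffffffffff0000000000000001000000000000000100000000000000010000000000000001000000000000000000000000000000000000000000000000ffffffff000000000000000000000000ffffffffffffffffffffffff0000000000000000000000000000000000000000000000000000000000000000000000000000000000000000000000000000000000000000000000000000000000000000,
 .negSucc 0xffffffffffffffffffffffffffffffffffffffffffffffffffffffffffffffffffffffff0000000000000000000000000000000000000000ffffffff0000000100000000000000000000000000000000fffffffffffffffeffffffffffffffff00000000000000010000000100000000000000010000000000000001000000000000000100000000000000010000000000000000000000000000000100000001000000000000000000000000000000000000000000000000000000000000000000000000fffffffffffffffeffffffffffffffff,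
 .negSucc 0x100000000000000010000000000000001000000000000000000000001000000000000000000000000000000000000000100000000ffffffff00000000000000000000000000000001000000000000000000000001000000010000000000000000fffffffffffffffffffffffffffffffffffffffffffffffffffffffffffffffffffffffffffffffffffffffffffffffeffffffffffffffffffffffffffffffffffffffffffffffffffffffffffffffffffffffffffffffffffffffffffffffffffffffffffffffffffffffffffffffffffffffffffffffff,
 .negSucc 0xfffffffffffffffffffffffffffffffffffffffffffffffffffffffffffffffefffffffffffffffffffffffefffffffffffffffffffffffffffffffffffffffffffffffefffffffeffffffffffffffff00000000fffffffefffffffffffffffffffffffefffffffffffffffffffffffffffffffffffffffefffffffffffffffefffffffffffffffefffffffefffffffffffffffffffffffffffffffffffffffffffffffefffffffefffffffffffffffffffffffffffffffffffffffefffffffffffffffffffffffffffffffefffffffffffffffffffffffefffffffe,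
 .negSucc 0x10000000000000001000000000000000000000000000000000000000000000000000000000000000000000000ffffffffffffffffffffffffffffffffffffffffffffffffffffffff0000000100000000000000000000000000000000fffffffffffffffffffffffffffffffffffffffffffffffffffffffffffffffffffffffffffffffffffffffffffffffffffffffffffffffefffffffefffffffffffffffefffffffffffffffffffffffffffffffefffffffefffffffffffffffffffffffefffffffeffffffffffffffff,
 .ofNat 0x10000000000000000000000000000000000000000000000010000000000000000fffffffeffffffff000000000000000000000000000000000000000000000000000000000000000000000000fffffffffffffffefffffffffffffffffffffffefffffffffffffffefffffffeffffffffffffffffffffffff000000000000000000000000fffffffffffffffffffffffffffffffffffffffffffffffefffffffffffffffefffffffffffffffefffffffeffffffffffffffffffffffffffffffffffffffffffffffff00000000,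
 .ofNat 0xfffffffffffffffffffffffffffffffeffffffff000000000000000100000000fffffffffffffffffffffffefffffffeffffffff00000000ffffffff0000000000000000ffffffffffffffff0000000000000000fffffffffffffffefffffffffffffffefffffffffffffffefffffffffffffffefffffffffffffffefffffffffffffffffffffffefffffffffffffffffffffffefffffffeffffffffffffffffffffffffffffffffffffffffffffffffffffffffffffffff0000000000000000000000000000000000000000000000000000000000000000,
 .ofNat 0x100000000000000000000000000000000000000000000000000000000000000000000000000000000fffffffffffffffffffffffefffffffeffffffffffffffffffffffffffffffff00000000000000000000000100000000000000000000000000000000000000010000000000000000000000000000000100000001000000000000000000000000000000010000000000000000000000000000000100000001000000000000000000000001000000000000000000000000000000000000000000000000000000010000000000000000000000000000000000000001,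
 .negSucc 0x10000000000000000000000000000000000000000000000000000000000000000fffffffffffffffefffffffffffffffefffffffffffffffffffffffefffffffefffffffeffffffffffffffffffffffffffffffff0000000000000000fffffffeffffffff00000000000000000000000000000000fffffffefffffffffffffffffffffffefffffffffffffffffffffffffffffffffffffffffffffffffffffffffffffffeffffffff000000000000000000000000000000000000000000000000000000000000000000000000000000000000000000000000fffffffe,
 .ofNat 0x100000000000000000000000100000000000000000000000000000001000000010000000000000001000000000000000000000000000000000000000000000000000000010000000000000001000000000000000000000000000000000000000000000000fffffffffffffffffffffffffffffffffffffffffffffffffffffffffffffffeffffffffffffffffffffffffffffffff000000000000000000000000ffffffff0000000000000000ffffffffffffffffffffffffffffffffffffffff000000000000000000000001000000010000000000000000,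
 .ofNat 0x1000000000000000000000000ffffffffffffffffffffffffffffffffffffffffffffffffffffffffffffffffffffffffffffffff00000000ffffffffffffffff0000000100000000000000000000000000000000000000000000000000000000fffffffffffffffffffffffefffffffffffffffffffffffefffffffffffffffffffffffefffffffffffffffefffffffefffffffffffffffefffffffffffffffffffffffffffffffffffffffeffffffffffffffffffffffffffffffffffffffffffffffffffffffffffffffffffffffffffffffff0000000000000000,
 .ofNat 0x100000000fffffffeffffffffffffffffffffffffffffffff00000000ffffffffffffffffffffffffffffffff0000000100000000ffffffff000000000000000000000000ffffffff0000000000000000000000000000000000000000000000000000000000000001000000000000000000000000000000000000000100000001000000000000000000000000000000010000000100000000000000000000000000000000000000000000000000000001000000000000000000000001000000010000000100000001000000000000000000000000,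
 .ofNat 0xffffffffffffffffffffffff00000000ffffffffffffffffffffffff0000000000000001000000000000000000000000fffffffeffffffff0000000000000000ffffffffffffffffffffffff000000000000000000000000000000000000000000000000fffffffefffffffffffffffffffffffffffffffffffffffffffffffffffffffffffffffeffffffffffffffffffffffffffffffffffffffffffffffffffffffffffffffffffffffffffffffffffffffff,
 .negSucc 0xfffffffeffffffffffffffff0000000100000000000000000000000000000000000000010000000100000001000000000000000000000001000000000000000000000001000000000000000000000000ffffffff000000000000000000000000000000010000000100000000ffffffffffffffffffffffff000000000000000000000000000000000000000000000000fffffffffffffffffffffffffffffffffffffffffffffffffffffffffffffffeffffffffffffffffffffffff,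
 .negSucc 0x100000000000000000000000000000000000000000000000000000001000000010000000000000000000000000000000000000000000000000000000100000000000000010000000000000000000000000000000000000000000000000000000100000000ffffffffffffffffffffffffffffffff000000000000000000000000fffffffffffffffffffffffffffffffffffffffefffffffffffffffffffffffffffffffffffffffeffffffffffffffffffffffffffffffff00000001000000000000000000000000ffffffffffffffff,
 .ofNat 0x100000001000000000000000000000000fffffffffffffffffffffffffffffffffffffffeffffffffffffffff000000000000000000000000000000000000000000000000ffffffff00000001000000000000000000000000000000000000000000000000000000010000000000000000000000000000000000000000ffffffffffffffffffffffff00000000000000000000000000000000fffffffffffffffffffffffffffffffefffffffffffffffefffffffffffffffffffffffffffffffeffffffffffffffff00000000000000000000000100000000,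
 .ofNat 0x1000000000000000000000000fffffffffffffffefffffffffffffffefffffffffffffffefffffffffffffffffffffffeffffffffffffffff000000010000000000000000000000000000000000000000000000000000000000000000fffffffffffffffffffffffffffffffefffffffffffffffffffffffffffffffffffffffeffffffffffffffff00000000000000010000000000000000000000000000000000000000fffffffffffffffffffffffffffffffffffffffffffffffffffffffeffffffff000000000000000000000000,
 .ofNat 0x1000000000000000100000000ffffffffffffffffffffffff0000000000000000000000000000000000000000ffffffff000000000000000000000000000000000000000100000000ffffffffffffffff00000000fffffffefffffffffffffffeffffffffffffffff0000000000000000000000000000000000000000000000000000000000000000000000010000000000000000000000010000000000000000000000010000000000000000000000000000000000000000,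
 .negSucc 0x100000000000000000000000100000001000000000000000000000000000000000000000000000000ffffffffffffffffffffffffffffffffffffffff0000000000000000000000000000000000000000000000000000000000000000ffffffffffffffffffffffffffffffff000000000000000100000000fffffffffffffffffffffffffffffffffffffffffffffffffffffffffffffffffffffffffffffffffffffffeffffffff00000000000000010000000000000000000000000000000000000001000000000000000000000000ffffffff,
 .negSucc 0x10000000000000001000000000000000000000000000000000000000000000000000000000000000000000001000000000000000000000000000000000000000000000001000000000000000000000000000000000000000000000000000000000000000000000000000000010000000000000000000000000000000000000000ffffffffffffffffffffffff000000010000000000000000000000000000000000000000000000000000000000000000fffffffffffffffffffffffefffffffefffffffeffffffffffffffff000000000000000000000000,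
 .negSucc 0xfffffffffffffffeffffffffffffffff00000000ffffffffffffffff0000000000000000000000010000000000000000000000000000000000000000000000000000000000000000fffffffffffffffffffffffffffffffeffffffff00000000000000000000000000000000fffffffffffffffffffffffffffffffeffffffffffffffffffffffff000000000000000000000000000000000000000100000000000000000000000000000000000000000000000000000000000000000000000000000000000000000000000000000000ffffffffffffffff,
 .ofNat 0xfffffffeffffffff0000000100000000fffffffffffffffffffffffffffffffffffffffefffffffffffffffefffffffffffffffffffffffffffffffffffffffffffffffffffffffffffffffffffffffeffffffff00000000000000000000000000000000000000000000000000000000000000000000000000000000000000000000000000000001000000010000000000000000000000000000000000000000ffffffff00000001000000000000000100000000ffffffffffffffffffffffffffffffffffffffffffffffffffffffffffffffffffffffffffffffff,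
 .ofNat 0x100000000ffffffff0000000000000000000000000000000000000000ffffffff000000000000000000000000fffffffefffffffffffffffffffffffeffffffff000000010000000000000000ffffffffffffffff0000000000000000ffffffffffffffffffffffffffffffffffffffffffffffffffffffffffffffff000000000000000100000000000000000000000000000000ffffffff00000000000000000000000100000000000000000000000000000000000000010000000000000000000000000000000100000000,
 .ofNat 0xffffffffffffffff0000000000000000000000000000000000000000000000000000000100000000000000000000000100000000ffffffff00000000000000000000000000000001000000000000000100000001000000000000000100000001000000010000000000000000ffffffffffffffffffffffffffffffffffffffff0000000100000000ffffffffffffffff00000000000000000000000000000000000000000000000000000000000000000000000000000000000000000000000000000000000000010000000000000000000000000000000000000000,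
 .ofNat 0xffffffffffffffff0000000000000000000000010000000000000000000000000000000000000000000000010000000000000000000000000000000000000000000000000000000100000000ffffffff000000000000000000000000ffffffffffffffff0000000000000000000000000000000000000000000000010000000000000000000000000000000100000000ffffffffffffffffffffffffffffffff0000000100000001000000000000000000000001000000000000000000000000000000000000000000000000000000000000000000000001]

theorem chk0 : chkAut Y0 P0 [0] = true := by decide +kernel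

/-- The images of the basis under a generator. -/
def Y1 : List (List ℤ) :=
 [[.ofNat 0, .ofNat 0, .ofNat 0, .ofNat 1, .negSucc 0, .ofNat 0, .ofNat 0, .ofNat 0, .ofNat 0, .ofNat 0, .negSucc 0, .negSucc 0, .ofNat 0, .ofNat 0, .ofNat 0, .ofNat 0, .ofNat 1, .negSucc 0, .ofNat 0, .ofNat 0, .ofNat 1, .ofNat 0, .ofNat 0, .ofNat 0, .ofNat 0, .ofNat 0, .ofNat 0, .ofNat 1, .negSucc 0, .ofNat 0, .ofNat 0, .ofNat 0, .ofNat 0, .ofNat 0, .negSucc 0, .ofNat 0, .negSucc 0, .ofNat 1, .ofNat 0, .ofNat 0, .ofNat 1, .ofNat 0, .ofNat 0, .ofNat 1, .ofNat 0, .ofNat 0, .ofNat 0, .ofNat 0, .ofNat 0, .ofNat 1, .ofNat 0, .ofNat 0, .ofNat 0, .negSucc 0, .ofNat 0, .ofNat 0],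
 [.ofNat 0, .ofNat 0, .ofNat 0, .ofNat 0, .ofNat 0, .ofNat 1, .ofNat 1, .ofNat 0, .ofNat 0, .negSucc 0, .ofNat 0, .ofNat 1, .ofNat 0, .ofNat 0, .ofNat 1, .negSucc 0, .ofNat 1, .ofNat 0, .ofNat 0, .negSucc 0, .ofNat 0, .ofNat 0, .negSucc 0, .ofNat 0, .ofNat 0, .ofNat 1, .ofNat 0, .ofNat 0, .ofNat 1, .ofNat 0, .negSucc 0, .ofNat 0, .ofNat 0, .ofNat 0, .ofNat 0, .ofNat 0, .ofNat 0, .ofNat 0, .ofNat 0, .ofNat 0, .ofNat 1, .ofNat 1, .ofNat 0, .ofNat 0, .ofNat 0, .ofNat 0, .ofNat 0, .ofNat 0, .ofNat 0, .ofNat 0, .ofNat 0, .negSucc 0, .ofNat 1, .ofNat 0, .ofNat 0, .ofNat 0],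
 [.ofNat 0, .negSucc 0, .ofNat 0, .ofNat 0, .negSucc 0, .negSucc 0, .ofNat 1, .ofNat 0, .negSucc 0, .ofNat 0, .ofNat 0, .ofNat 0, .ofNat 0, .ofNat 0, .ofNat 0, .ofNat 0, .ofNat 0, .ofNat 0, .ofNat 0, .ofNat 0, .negSucc 0, .ofNat 1, .ofNat 0, .ofNat 1, .ofNat 0, .ofNat 0, .ofNat 0, .ofNat 0, .negSucc 0, .ofNat 0, .negSucc 0, .negSucc 0, .ofNat 0, .ofNat 0, .ofNat 0, .negSucc 0, .ofNat 0, .negSucc 0, .negSucc 0, .negSucc 0, .ofNat 0, .ofNat 0, .ofNat 0, .ofNat 0, .ofNat 0, .ofNat 0, .ofNat 0, .ofNat 0, .ofNat 0, .ofNat 0, .ofNat 1, .ofNat 0, .ofNat 0, .ofNat 0, .ofNat 0, .ofNat 0],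
 [.negSucc 0, .ofNat 1, .ofNat 0, .ofNat 0, .negSucc 0, .ofNat 0, .ofNat 0, .ofNat 1, .negSucc 0, .ofNat 1, .ofNat 0, .ofNat 0, .ofNat 0, .negSucc 0, .ofNat 0, .ofNat 0, .ofNat 1, .ofNat 0, .ofNat 1, .ofNat 0, .ofNat 0, .ofNat 0, .ofNat 0, .ofNat 0, .ofNat 1, .ofNat 0, .ofNat 0, .ofNat 0, .ofNat 0, .ofNat 0, .negSucc 0, .negSucc 0, .ofNat 0, .ofNat 0, .ofNat 0, .ofNat 0, .ofNat 0, .ofNat 0, .ofNat 0, .ofNat 0, .negSucc 0, .ofNat 0, .ofNat 0, .ofNat 0, .ofNat 0, .ofNat 0, .ofNat 0, .ofNat 0, .ofNat 0, .negSucc 0, .ofNat 1, .ofNat 0, .ofNat 0, .ofNat 0, .ofNat 1, .ofNat 0],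
 [.ofNat 0, .ofNat 1, .ofNat 0, .ofNat 1, .negSucc 0, .ofNat 0, .ofNat 1, .ofNat 0, .ofNat 0, .ofNat 0, .ofNat 1, .ofNat 0, .ofNat 0, .ofNat 0, .ofNat 0, .ofNat 1, .ofNat 1, .ofNat 0, .ofNat 0, .ofNat 0, .ofNat 0, .negSucc 0, .ofNat 0, .ofNat 0, .ofNat 0, .ofNat 0, .ofNat 0, .ofNat 0, .ofNat 0, .ofNat 0, .ofNat 0, .ofNat 0, .ofNat 0, .negSucc 0, .ofNat 0, .negSucc 0, .ofNat 0, .ofNat 1, .ofNat 0, .ofNat 0, .ofNat 0, .ofNat 0, .negSucc 0, .ofNat 0, .ofNat 0, .ofNat 1, .ofNat 0, .ofNat 0, .ofNat 0, .ofNat 0, .ofNat 0, .ofNat 1, .ofNat 0, .negSucc 0, .ofNat 1, .ofNat 0],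
 [.ofNat 0, .ofNat 0, .ofNat 0, .ofNat 0, .ofNat 0, .ofNat 1, .ofNat 1, .ofNat 0, .ofNat 0, .ofNat 0, .ofNat 0, .ofNat 0, .negSucc 0, .ofNat 1, .ofNat 0, .ofNat 0, .ofNat 0, .ofNat 1, .ofNat 0, .ofNat 0, .ofNat 0, .ofNat 0, .ofNat 0, .ofNat 1, .ofNat 0, .ofNat 0, .ofNat 0, .ofNat 0, .negSucc 0, .ofNat 0, .ofNat 1, .ofNat 0, .ofNat 0, .ofNat 0, .ofNat 0, .ofNat 0, .ofNat 0, .negSucc 0, .ofNat 0, .negSucc 0, .ofNat 0, .ofNat 0, .ofNat 1, .ofNat 1, .ofNat 0, .ofNat 0, .ofNat 1, .ofNat 0, .ofNat 0, .ofNat 0, .ofNat 1, .ofNat 0, .ofNat 0, .ofNat 0, .ofNat 1, .ofNat 1],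
 [.negSucc 0, .ofNat 1, .negSucc 0, .ofNat 0, .ofNat 1, .ofNat 0, .ofNat 0, .ofNat 0, .ofNat 0, .ofNat 0, .ofNat 0, .ofNat 0, .ofNat 0, .ofNat 0, .ofNat 0, .ofNat 0, .ofNat 1, .negSucc 0, .ofNat 0, .ofNat 1, .ofNat 0, .ofNat 0, .ofNat 0, .ofNat 0, .ofNat 0, .negSucc 0, .ofNat 0, .ofNat 0, .ofNat 0, .ofNat 0, .ofNat 0, .negSucc 0, .ofNat 0, .negSucc 0, .ofNat 1, .negSucc 0, .ofNat 0, .ofNat 0, .ofNat 0, .ofNat 0, .ofNat 0, .ofNat 0, .ofNat 0, .ofNat 0, .ofNat 0, .ofNat 0, .ofNat 1, .ofNat 0, .ofNat 0, .ofNat 0, .ofNat 0, .ofNat 0, .ofNat 1, .ofNat 0, .ofNat 1, .negSucc 0],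
 [.ofNat 0, .ofNat 0, .ofNat 0, .ofNat 0, .ofNat 0, .ofNat 1, .ofNat 0, .ofNat 0, .negSucc 0, .ofNat 0, .ofNat 0, .ofNat 0, .ofNat 1, .ofNat 0, .ofNat 0, .ofNat 0, .ofNat 1, .ofNat 1, .ofNat 0, .ofNat 0, .ofNat 0, .ofNat 1, .ofNat 0, .ofNat 0, .negSucc 0, .ofNat 1, .ofNat 0, .ofNat 0, .ofNat 0, .ofNat 0, .negSucc 0, .negSucc 0, .ofNat 0, .ofNat 0, .ofNat 0, .negSucc 0, .ofNat 0, .ofNat 0, .ofNat 0, .ofNat 1, .ofNat 0, .ofNat 0, .ofNat 1, .ofNat 0, .ofNat 0, .ofNat 0, .negSucc 0, .ofNat 1, .ofNat 0, .ofNat 0, .ofNat 1, .ofNat 0, .ofNat 0, .ofNat 0, .ofNat 0, .ofNat 0],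
 [.ofNat 0, .ofNat 0, .ofNat 0, .ofNat 0, .negSucc 0, .ofNat 0, .ofNat 1, .ofNat 0, .ofNat 0, .ofNat 0, .ofNat 0, .ofNat 0, .ofNat 0, .ofNat 0, .negSucc 0, .ofNat 0, .ofNat 1, .ofNat 1, .ofNat 0, .ofNat 0, .ofNat 0, .ofNat 1, .ofNat 0, .ofNat 0, .ofNat 0, .ofNat 0, .ofNat 0, .ofNat 0, .ofNat 0, .ofNat 0, .ofNat 1, .negSucc 0, .ofNat 0, .ofNat 0, .ofNat 0, .ofNat 0, .ofNat 0, .negSucc 0, .negSucc 0, .ofNat 0, .ofNat 1, .ofNat 0, .ofNat 0, .ofNat 0, .ofNat 0, .ofNat 0, .ofNat 1, .negSucc 0, .ofNat 0, .ofNat 0, .negSucc 0, .ofNat 0, .negSucc 0, .ofNat 1, .ofNat 0, .ofNat 0],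
 [.ofNat 0, .ofNat 0, .negSucc 0, .ofNat 1, .negSucc 0, .ofNat 0, .ofNat 1, .ofNat 0, .ofNat 0, .ofNat 0, .ofNat 0, .negSucc 0, .ofNat 0, .ofNat 1, .ofNat 0, .ofNat 1, .ofNat 0, .ofNat 1, .negSucc 0, .ofNat 0, .ofNat 0, .ofNat 1, .ofNat 0, .ofNat 0, .ofNat 0, .ofNat 0, .ofNat 0, .ofNat 0, .ofNat 0, .ofNat 0, .ofNat 0, .ofNat 0, .ofNat 0, .ofNat 0, .ofNat 0, .ofNat 0, .negSucc 0, .ofNat 0, .ofNat 0, .ofNat 0, .ofNat 0, .ofNat 0, .ofNat 0, .ofNat 0, .ofNat 1, .ofNat 0, .ofNat 0, .ofNat 1, .ofNat 0, .ofNat 0, .ofNat 1, .ofNat 0, .ofNat 1, .negSucc 0, .ofNat 0, .ofNat 0],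
 [.negSucc 0, .ofNat 0, .ofNat 0, .ofNat 0, .negSucc 0, .ofNat 0, .negSucc 0, .ofNat 0, .negSucc 0, .ofNat 0, .ofNat 0, .ofNat 1, .ofNat 0, .ofNat 0, .ofNat 0, .ofNat 0, .ofNat 0, .ofNat 0, .ofNat 0, .ofNat 0, .ofNat 0, .ofNat 1, .ofNat 0, .ofNat 0, .ofNat 0, .ofNat 0, .ofNat 0, .ofNat 0, .ofNat 0, .ofNat 0, .ofNat 1, .ofNat 0, .ofNat 0, .negSucc 0, .ofNat 0, .ofNat 1, .ofNat 0, .ofNat 0, .ofNat 0, .ofNat 0, .negSucc 0, .ofNat 1, .ofNat 0, .ofNat 0, .ofNat 0, .ofNat 0, .negSucc 0, .negSucc 0, .ofNat 0, .ofNat 0, .ofNat 0, .negSucc 0, .ofNat 0, .negSucc 0, .ofNat 1, .ofNat 0],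
 [.ofNat 0, .ofNat 0, .ofNat 0, .ofNat 0, .ofNat 0, .ofNat 0, .ofNat 0, .negSucc 0, .ofNat 0, .ofNat 0, .negSucc 0, .ofNat 0, .ofNat 0, .negSucc 0, .ofNat 0, .negSucc 0, .ofNat 0, .ofNat 0, .negSucc 0, .ofNat 0, .negSucc 0, .ofNat 1, .ofNat 0, .ofNat 0, .negSucc 0, .ofNat 0, .ofNat 0, .ofNat 0, .negSucc 0, .ofNat 0, .negSucc 0, .ofNat 0, .negSucc 0, .ofNat 0, .ofNat 0, .ofNat 0, .negSucc 0, .ofNat 0, .ofNat 0, .ofNat 0, .negSucc 0, .ofNat 0, .ofNat 1, .ofNat 0, .ofNat 0, .ofNat 1, .ofNat 0, .ofNat 0, .ofNat 0, .ofNat 0, .ofNat 0, .ofNat 0, .ofNat 0, .ofNat 1, .ofNat 0, .ofNat 0],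
 [.ofNat 0, .ofNat 0, .ofNat 0, .ofNat 1, .ofNat 0, .negSucc 0, .ofNat 0, .ofNat 0, .ofNat 0, .ofNat 0, .ofNat 0, .ofNat 0, .ofNat 0, .ofNat 0, .ofNat 0, .negSucc 0, .ofNat 0, .negSucc 0, .ofNat 0, .ofNat 1, .ofNat 1, .ofNat 0, .ofNat 1, .ofNat 0, .ofNat 0, .negSucc 0, .ofNat 0, .ofNat 0, .ofNat 0, .ofNat 0, .ofNat 1, .ofNat 0, .ofNat 1, .ofNat 0, .ofNat 0, .ofNat 0, .negSucc 0, .ofNat 0, .negSucc 0, .ofNat 0, .negSucc 0, .ofNat 0, .ofNat 0, .ofNat 0, .ofNat 0, .ofNat 0, .ofNat 0, .ofNat 0, .ofNat 0, .ofNat 1, .ofNat 0, .negSucc 0, .ofNat 0, .ofNat 0, .ofNat 1, .ofNat 0],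
 [.ofNat 1, .ofNat 1, .ofNat 0, .ofNat 0, .ofNat 0, .ofNat 0, .ofNat 1, .ofNat 0, .ofNat 1, .ofNat 1, .ofNat 0, .ofNat 0, .ofNat 0, .ofNat 0, .negSucc 0, .negSucc 0, .ofNat 0, .ofNat 0, .ofNat 0, .ofNat 0, .ofNat 0, .ofNat 1, .negSucc 0, .ofNat 0, .ofNat 1, .ofNat 0, .ofNat 0, .ofNat 0, .ofNat 0, .ofNat 0, .ofNat 1, .negSucc 0, .ofNat 0, .negSucc 0, .ofNat 0, .ofNat 0, .ofNat 0, .ofNat 0, .ofNat 0, .ofNat 0, .ofNat 0, .ofNat 0, .ofNat 0, .ofNat 0, .negSucc 0, .ofNat 0, .negSucc 0, .ofNat 0, .ofNat 0, .ofNat 0, .ofNat 0, .ofNat 0, .ofNat 0, .ofNat 0, .negSucc 0, .ofNat 0],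
 [.ofNat 0, .ofNat 0, .ofNat 0, .ofNat 0, .negSucc 0, .ofNat 0, .ofNat 0, .ofNat 0, .ofNat 0, .ofNat 0, .negSucc 0, .ofNat 0, .ofNat 0, .negSucc 0, .negSucc 0, .ofNat 0, .ofNat 1, .ofNat 0, .ofNat 0, .negSucc 0, .ofNat 0, .ofNat 0, .negSucc 0, .ofNat 0, .negSucc 0, .ofNat 0, .ofNat 0, .ofNat 0, .negSucc 0, .ofNat 0, .negSucc 0, .ofNat 0, .ofNat 0, .ofNat 0, .ofNat 0, .negSucc 0, .ofNat 1, .ofNat 0, .ofNat 0, .ofNat 0, .negSucc 0, .ofNat 0, .ofNat 0, .ofNat 1, .ofNat 0, .ofNat 0, .ofNat 0, .ofNat 0, .ofNat 0, .ofNat 0, .ofNat 0, .ofNat 1, .ofNat 0, .negSucc 0, .ofNat 0, .ofNat 0],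
 [.negSucc 0, .ofNat 0, .ofNat 1, .ofNat 0, .negSucc 0, .ofNat 0, .ofNat 0, .negSucc 0, .negSucc 0, .ofNat 1, .ofNat 0, .ofNat 0, .ofNat 0, .ofNat 0, .ofNat 0, .ofNat 0, .ofNat 1, .ofNat 0, .negSucc 0, .ofNat 0, .negSucc 0, .ofNat 0, .ofNat 0, .ofNat 0, .ofNat 0, .ofNat 0, .negSucc 0, .ofNat 0, .ofNat 0, .negSucc 0, .ofNat 0, .negSucc 0, .ofNat 0, .ofNat 0, .ofNat 0, .ofNat 0, .ofNat 0, .ofNat 0, .ofNat 0, .ofNat 0, .ofNat 0, .ofNat 0, .ofNat 1, .negSucc 0, .ofNat 0, .ofNat 0, .ofNat 0, .ofNat 0, .ofNat 0, .ofNat 0, .ofNat 0, .negSucc 0, .negSucc 0, .ofNat 0, .ofNat 0, .ofNat 0],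
 [.ofNat 0, .ofNat 0, .ofNat 0, .ofNat 1, .ofNat 0, .ofNat 1, .ofNat 0, .ofNat 0, .ofNat 1, .ofNat 0, .negSucc 0, .ofNat 0, .ofNat 0, .ofNat 0, .ofNat 0, .ofNat 1, .ofNat 1, .ofNat 0, .ofNat 0, .ofNat 0, .ofNat 0, .ofNat 1, .ofNat 1, .ofNat 0, .ofNat 0, .ofNat 0, .ofNat 0, .ofNat 0, .ofNat 0, .ofNat 0, .negSucc 0, .ofNat 0, .ofNat 1, .ofNat 0, .ofNat 0, .ofNat 0, .ofNat 0, .ofNat 0, .ofNat 0, .ofNat 0, .ofNat 1, .ofNat 0, .ofNat 0, .ofNat 0, .ofNat 0, .ofNat 0, .negSucc 0, .ofNat 0, .ofNat 1, .ofNat 0, .ofNat 0, .negSucc 0, .ofNat 1, .ofNat 0, .ofNat 0, .ofNat 1],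
 [.ofNat 0, .ofNat 1, .ofNat 0, .ofNat 0, .ofNat 0, .ofNat 0, .ofNat 0, .negSucc 0, .ofNat 1, .ofNat 0, .ofNat 0, .ofNat 0, .ofNat 0, .ofNat 0, .ofNat 0, .ofNat 0, .ofNat 0, .ofNat 0, .ofNat 0, .ofNat 0, .ofNat 0, .ofNat 0, .ofNat 1, .ofNat 0, .ofNat 0, .ofNat 0, .ofNat 0, .ofNat 0, .ofNat 0, .ofNat 0, .ofNat 0, .negSucc 0, .ofNat 1, .ofNat 0, .ofNat 0, .ofNat 0, .ofNat 0, .ofNat 0, .negSucc 0, .ofNat 0, .ofNat 1, .negSucc 0, .ofNat 1, .negSucc 0, .ofNat 1, .ofNat 0, .ofNat 0, .negSucc 0, .ofNat 0, .ofNat 0, .ofNat 0, .negSucc 0, .ofNat 0, .ofNat 0, .ofNat 1, .negSucc 0],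
 [.ofNat 0, .ofNat 1, .ofNat 0, .ofNat 0, .negSucc 0, .ofNat 0, .ofNat 0, .ofNat 0, .ofNat 0, .negSucc 0, .ofNat 0, .negSucc 0, .ofNat 0, .ofNat 0, .negSucc 0, .ofNat 1, .ofNat 0, .ofNat 0, .ofNat 0, .ofNat 0, .ofNat 0, .ofNat 0, .ofNat 1, .ofNat 0, .ofNat 1, .ofNat 0, .ofNat 0, .ofNat 0, .ofNat 0, .ofNat 0, .ofNat 0, .ofNat 1, .ofNat 0, .ofNat 0, .ofNat 0, .negSucc 0, .ofNat 0, .ofNat 0, .ofNat 0, .ofNat 0, .ofNat 1, .ofNat 1, .ofNat 0, .ofNat 0, .negSucc 0, .ofNat 0, .ofNat 0, .ofNat 1, .ofNat 0, .ofNat 0, .ofNat 0, .negSucc 0, .ofNat 0, .negSucc 0, .ofNat 0, .ofNat 0],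
 [.ofNat 0, .ofNat 0, .ofNat 0, .ofNat 1, .ofNat 0, .ofNat 0, .ofNat 0, .ofNat 0, .ofNat 0, .ofNat 0, .ofNat 0, .ofNat 0, .ofNat 0, .ofNat 1, .ofNat 1, .ofNat 0, .ofNat 0, .ofNat 0, .ofNat 0, .ofNat 0, .negSucc 0, .ofNat 1, .ofNat 0, .ofNat 0, .ofNat 0, .ofNat 1, .ofNat 0, .ofNat 0, .ofNat 0, .ofNat 0, .ofNat 1, .ofNat 0, .ofNat 0, .ofNat 0, .negSucc 0, .negSucc 0, .ofNat 1, .ofNat 0, .negSucc 0, .ofNat 0, .ofNat 0, .ofNat 0, .ofNat 0, .ofNat 0, .ofNat 0, .ofNat 1, .ofNat 0, .ofNat 1, .ofNat 0, .ofNat 0, .ofNat 1, .ofNat 1, .ofNat 0, .ofNat 0, .ofNat 1, .ofNat 0],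
 [.ofNat 1, .ofNat 0, .ofNat 0, .ofNat 1, .ofNat 0, .ofNat 0, .ofNat 1, .ofNat 0, .ofNat 0, .ofNat 0, .ofNat 1, .ofNat 1, .ofNat 0, .ofNat 0, .ofNat 0, .ofNat 0, .ofNat 0, .ofNat 0, .ofNat 0, .ofNat 0, .ofNat 1, .ofNat 0, .ofNat 0, .ofNat 0, .ofNat 1, .negSucc 0, .negSucc 0, .ofNat 1, .ofNat 0, .ofNat 0, .ofNat 0, .ofNat 0, .ofNat 0, .ofNat 0, .ofNat 0, .negSucc 0, .ofNat 0, .ofNat 0, .ofNat 0, .ofNat 0, .negSucc 0, .ofNat 0, .ofNat 1, .ofNat 0, .ofNat 0, .ofNat 1, .negSucc 0, .ofNat 0, .ofNat 0, .ofNat 0, .negSucc 0, .ofNat 0, .ofNat 0, .ofNat 0, .ofNat 0, .ofNat 0],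
 [.ofNat 1, .ofNat 0, .ofNat 0, .ofNat 0, .ofNat 0, .ofNat 0, .ofNat 1, .ofNat 0, .ofNat 0, .ofNat 1, .ofNat 0, .ofNat 1, .ofNat 1, .ofNat 0, .ofNat 0, .negSucc 0, .ofNat 1, .ofNat 1, .ofNat 0, .ofNat 0, .ofNat 0, .ofNat 0, .ofNat 0, .ofNat 0, .negSucc 0, .ofNat 0, .negSucc 0, .ofNat 0, .ofNat 0, .ofNat 0, .ofNat 0, .negSucc 0, .negSucc 0, .ofNat 0, .ofNat 0, .ofNat 0, .negSucc 0, .ofNat 0, .ofNat 1, .ofNat 0, .ofNat 0, .ofNat 0, .ofNat 0, .ofNat 0, .ofNat 0, .ofNat 0, .ofNat 0, .ofNat 0, .ofNat 0, .ofNat 0, .negSucc 0, .negSucc 0, .ofNat 0, .ofNat 0, .ofNat 0, .ofNat 0],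
 [.ofNat 0, .ofNat 0, .ofNat 0, .ofNat 1, .ofNat 0, .ofNat 0, .ofNat 0, .ofNat 0, .ofNat 1, .ofNat 1, .ofNat 0, .ofNat 0, .ofNat 1, .ofNat 0, .ofNat 0, .negSucc 0, .ofNat 0, .ofNat 0, .ofNat 0, .negSucc 0, .ofNat 0, .negSucc 0, .ofNat 0, .ofNat 0, .ofNat 0, .ofNat 0, .ofNat 0, .ofNat 1, .negSucc 0, .ofNat 0, .ofNat 0, .ofNat 0, .ofNat 0, .negSucc 0, .ofNat 0, .negSucc 0, .ofNat 0, .ofNat 0, .ofNat 1, .negSucc 0, .ofNat 0, .ofNat 0, .ofNat 0, .ofNat 0, .ofNat 0, .ofNat 0, .negSucc 0, .ofNat 0, .negSucc 0, .ofNat 0, .ofNat 0, .ofNat 0, .ofNat 0, .negSucc 0, .ofNat 0, .ofNat 0],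
 [.ofNat 0, .ofNat 0, .ofNat 0, .ofNat 1, .negSucc 0, .ofNat 0, .ofNat 0, .ofNat 0, .ofNat 1, .ofNat 0, .negSucc 0, .ofNat 0, .ofNat 0, .ofNat 0, .ofNat 0, .ofNat 0, .ofNat 0, .ofNat 0, .ofNat 0, .ofNat 0, .ofNat 0, .ofNat 0, .negSucc 0, .negSucc 0, .ofNat 0, .ofNat 0, .ofNat 0, .ofNat 0, .ofNat 1, .ofNat 0, .ofNat 0, .ofNat 0, .ofNat 0, .ofNat 0, .negSucc 0, .ofNat 0, .ofNat 0, .ofNat 1, .ofNat 0, .ofNat 1, .ofNat 1, .ofNat 0, .ofNat 0, .negSucc 0, .ofNat 1, .ofNat 1, .ofNat 0, .ofNat 0, .ofNat 0, .ofNat 0, .ofNat 0, .ofNat 0, .ofNat 1, .ofNat 0, .ofNat 1, .ofNat 0],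
 [.ofNat 0, .ofNat 1, .ofNat 0, .ofNat 1, .ofNat 0, .ofNat 0, .ofNat 1, .ofNat 1, .ofNat 0, .ofNat 0, .ofNat 1, .ofNat 0, .ofNat 0, .ofNat 0, .ofNat 1, .ofNat 0, .ofNat 0, .ofNat 0, .negSucc 0, .negSucc 0, .ofNat 1, .ofNat 0, .negSucc 0, .ofNat 0, .ofNat 0, .ofNat 0, .ofNat 0, .ofNat 0, .ofNat 0, .ofNat 0, .ofNat 0, .ofNat 0, .ofNat 1, .negSucc 0, .ofNat 0, .ofNat 0, .ofNat 0, .negSucc 0, .ofNat 0, .ofNat 0, .ofNat 0, .ofNat 0, .ofNat 0, .negSucc 0, .ofNat 0, .ofNat 0, .ofNat 0, .ofNat 0, .ofNat 0, .ofNat 0, .ofNat 0, .ofNat 0, .ofNat 0, .negSucc 0, .negSucc 0, .ofNat 0],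
 [.ofNat 1, .ofNat 0, .ofNat 0, .ofNat 1, .ofNat 0, .ofNat 1, .ofNat 0, .ofNat 0, .ofNat 0, .ofNat 0, .ofNat 0, .ofNat 0, .ofNat 0, .ofNat 0, .negSucc 0, .negSucc 0, .ofNat 1, .ofNat 0, .ofNat 1, .ofNat 0, .ofNat 0, .ofNat 0, .ofNat 0, .ofNat 1, .ofNat 0, .negSucc 0, .ofNat 0, .ofNat 1, .ofNat 0, .negSucc 0, .ofNat 1, .ofNat 0, .ofNat 0, .ofNat 0, .negSucc 0, .ofNat 0, .negSucc 0, .negSucc 0, .ofNat 0, .ofNat 0, .ofNat 0, .ofNat 0, .ofNat 0, .ofNat 0, .ofNat 0, .ofNat 0, .ofNat 0, .ofNat 0, .negSucc 0, .ofNat 0, .ofNat 0, .ofNat 0, .ofNat 0, .ofNat 0, .ofNat 0, .ofNat 0],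
 [.ofNat 0, .ofNat 0, .ofNat 0, .ofNat 0, .ofNat 0, .ofNat 1, .ofNat 0, .ofNat 0, .ofNat 0, .ofNat 0, .ofNat 0, .negSucc 0, .ofNat 1, .ofNat 0, .ofNat 0, .ofNat 0, .ofNat 0, .ofNat 0, .ofNat 0, .ofNat 0, .negSucc 0, .ofNat 1, .ofNat 1, .negSucc 0, .ofNat 0, .ofNat 0, .negSucc 0, .ofNat 0, .ofNat 1, .ofNat 1, .ofNat 0, .ofNat 0, .ofNat 1, .ofNat 0, .ofNat 0, .ofNat 0, .ofNat 0, .negSucc 0, .ofNat 0, .ofNat 0, .ofNat 0, .ofNat 0, .ofNat 0, .ofNat 1, .ofNat 0, .ofNat 1, .ofNat 0, .ofNat 1, .ofNat 0, .ofNat 0, .ofNat 0, .ofNat 0, .ofNat 0, .negSucc 0, .ofNat 0, .ofNat 0],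
 [.ofNat 0, .ofNat 1, .ofNat 0, .ofNat 1, .ofNat 0, .ofNat 0, .ofNat 0, .ofNat 0, .ofNat 0, .ofNat 0, .ofNat 1, .ofNat 0, .ofNat 0, .ofNat 0, .ofNat 1, .negSucc 0, .ofNat 0, .ofNat 1, .ofNat 0, .ofNat 0, .ofNat 0, .ofNat 0, .ofNat 0, .ofNat 0, .ofNat 0, .ofNat 0, .ofNat 0, .ofNat 0, .ofNat 1, .ofNat 0, .negSucc 0, .ofNat 0, .negSucc 0, .ofNat 0, .ofNat 0, .negSucc 0, .ofNat 0, .ofNat 0, .ofNat 0, .negSucc 0, .ofNat 0, .ofNat 0, .ofNat 0, .ofNat 0, .ofNat 0, .ofNat 0, .ofNat 0, .negSucc 0, .ofNat 0, .ofNat 1, .negSucc 0, .ofNat 0, .ofNat 0, .negSucc 0, .ofNat 0, .ofNat 1],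
 [.ofNat 1, .ofNat 0, .ofNat 0, .ofNat 0, .ofNat 0, .ofNat 0, .ofNat 1, .ofNat 0, .ofNat 1, .negSucc 0, .ofNat 0, .ofNat 0, .negSucc 0, .ofNat 0, .ofNat 0, .negSucc 0, .ofNat 0, .ofNat 0, .ofNat 0, .ofNat 0, .ofNat 0, .negSucc 0, .ofNat 0, .ofNat 0, .ofNat 0, .ofNat 1, .ofNat 0, .ofNat 0, .ofNat 0, .ofNat 0, .ofNat 0, .ofNat 1, .negSucc 0, .ofNat 0, .ofNat 0, .ofNat 0, .ofNat 0, .ofNat 0, .negSucc 0, .negSucc 0, .ofNat 0, .ofNat 0, .ofNat 0, .ofNat 0, .ofNat 1, .negSucc 0, .ofNat 0, .ofNat 0, .ofNat 1, .ofNat 0, .ofNat 0, .ofNat 0, .ofNat 0, .ofNat 0, .ofNat 0, .ofNat 1],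
 [.negSucc 0, .ofNat 0, .ofNat 1, .ofNat 0, .ofNat 0, .ofNat 0, .ofNat 0, .ofNat 0, .ofNat 0, .ofNat 0, .ofNat 0, .ofNat 0, .negSucc 0, .negSucc 0, .ofNat 0, .ofNat 0, .ofNat 0, .ofNat 0, .ofNat 0, .ofNat 0, .ofNat 0, .ofNat 0, .ofNat 0, .ofNat 1, .negSucc 0, .ofNat 0, .ofNat 0, .ofNat 0, .ofNat 0, .ofNat 0, .ofNat 0, .ofNat 0, .ofNat 0, .ofNat 1, .ofNat 1, .ofNat 0, .ofNat 0, .negSucc 0, .ofNat 0, .ofNat 1, .ofNat 0, .ofNat 0, .ofNat 1, .negSucc 0, .ofNat 1, .ofNat 0, .ofNat 0, .negSucc 0, .ofNat 0, .ofNat 0, .negSucc 0, .ofNat 0, .ofNat 0, .ofNat 1, .ofNat 0, .ofNat 0],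
 [.ofNat 1, .ofNat 0, .ofNat 1, .ofNat 1, .ofNat 0, .ofNat 0, .ofNat 0, .ofNat 1, .ofNat 0, .ofNat 1, .ofNat 1, .ofNat 1, .ofNat 0, .ofNat 0, .ofNat 0, .ofNat 0, .ofNat 0, .ofNat 0, .ofNat 0, .ofNat 0, .ofNat 0, .ofNat 0, .negSucc 0, .ofNat 0, .ofNat 0, .ofNat 0, .ofNat 0, .ofNat 0, .ofNat 0, .negSucc 0, .ofNat 0, .ofNat 0, .negSucc 0, .negSucc 0, .ofNat 1, .ofNat 0, .negSucc 0, .ofNat 0, .ofNat 0, .ofNat 0, .ofNat 0, .ofNat 0, .ofNat 0, .ofNat 0, .ofNat 0, .ofNat 0, .ofNat 0, .ofNat 0, .negSucc 0, .ofNat 1, .ofNat 0, .ofNat 1, .ofNat 0, .ofNat 0, .ofNat 0, .ofNat 0],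
 [.ofNat 0, .ofNat 0, .ofNat 1, .ofNat 1, .ofNat 0, .ofNat 0, .ofNat 0, .ofNat 0, .ofNat 0, .ofNat 0, .ofNat 0, .ofNat 0, .ofNat 1, .ofNat 0, .ofNat 0, .ofNat 0, .ofNat 0, .ofNat 0, .ofNat 0, .ofNat 0, .ofNat 0, .ofNat 1, .negSucc 0, .ofNat 0, .ofNat 0, .ofNat 0, .negSucc 0, .ofNat 0, .negSucc 0, .ofNat 1, .ofNat 0, .ofNat 0, .negSucc 0, .ofNat 0, .ofNat 0, .ofNat 1, .negSucc 0, .ofNat 1, .ofNat 0, .ofNat 0, .ofNat 0, .negSucc 0, .ofNat 0, .ofNat 0, .ofNat 1, .ofNat 0, .ofNat 1, .ofNat 0, .ofNat 0, .ofNat 0, .ofNat 0, .ofNat 0, .ofNat 1, .ofNat 0, .ofNat 0, .ofNat 0],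
 [.ofNat 0, .ofNat 0, .ofNat 0, .ofNat 0, .ofNat 0, .ofNat 1, .ofNat 0, .ofNat 1, .ofNat 0, .negSucc 0, .ofNat 0, .ofNat 0, .ofNat 0, .ofNat 0, .ofNat 1, .ofNat 0, .ofNat 0, .negSucc 0, .ofNat 0, .ofNat 0, .ofNat 0, .ofNat 0, .ofNat 0, .negSucc 0, .ofNat 0, .ofNat 1, .negSucc 0, .ofNat 0, .ofNat 0, .ofNat 1, .ofNat 0, .ofNat 1, .negSucc 0, .ofNat 0, .ofNat 1, .ofNat 0, .ofNat 0, .ofNat 0, .ofNat 1, .ofNat 0, .ofNat 0, .ofNat 0, .ofNat 0, .ofNat 1, .ofNat 1, .ofNat 0, .ofNat 0, .ofNat 0, .ofNat 0, .negSucc 0, .ofNat 0, .ofNat 0, .ofNat 0, .ofNat 0, .ofNat 0, .ofNat 0],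
 [.ofNat 1, .ofNat 0, .negSucc 0, .ofNat 0, .ofNat 0, .ofNat 0, .ofNat 0, .ofNat 0, .ofNat 0, .ofNat 1, .ofNat 0, .ofNat 1, .ofNat 0, .ofNat 0, .negSucc 0, .negSucc 0, .ofNat 0, .ofNat 0, .negSucc 0, .ofNat 0, .ofNat 0, .ofNat 0, .negSucc 0, .ofNat 0, .ofNat 0, .ofNat 0, .negSucc 0, .negSucc 0, .ofNat 0, .ofNat 0, .ofNat 0, .ofNat 0, .ofNat 0, .ofNat 1, .ofNat 1, .ofNat 0, .ofNat 0, .ofNat 0, .ofNat 0, .ofNat 0, .negSucc 0, .ofNat 1, .ofNat 0, .ofNat 0, .ofNat 0, .ofNat 1, .ofNat 0, .ofNat 0, .ofNat 0, .ofNat 0, .ofNat 0, .ofNat 1, .ofNat 0, .ofNat 0, .ofNat 0, .ofNat 0],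
 [.ofNat 0, .ofNat 0, .ofNat 0, .ofNat 1, .ofNat 0, .ofNat 1, .negSucc 0, .ofNat 1, .ofNat 0, .ofNat 0, .ofNat 0, .ofNat 0, .ofNat 0, .ofNat 0, .ofNat 0, .ofNat 0, .ofNat 0, .ofNat 0, .negSucc 0, .ofNat 0, .ofNat 0, .ofNat 0, .ofNat 0, .ofNat 0, .negSucc 0, .ofNat 0, .negSucc 0, .ofNat 1, .negSucc 0, .ofNat 1, .negSucc 0, .ofNat 0, .ofNat 1, .ofNat 0, .ofNat 0, .ofNat 0, .ofNat 0, .ofNat 0, .ofNat 0, .ofNat 0, .ofNat 0, .ofNat 0, .ofNat 0, .ofNat 0, .ofNat 1, .negSucc 0, .ofNat 0, .ofNat 1, .ofNat 0, .ofNat 0, .ofNat 0, .ofNat 0, .ofNat 0, .negSucc 0, .ofNat 0, .ofNat 0],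
 [.ofNat 0, .ofNat 0, .ofNat 1, .ofNat 1, .ofNat 0, .ofNat 0, .ofNat 0, .ofNat 1, .ofNat 0, .ofNat 0, .ofNat 0, .negSucc 0, .ofNat 0, .ofNat 0, .negSucc 0, .ofNat 0, .ofNat 0, .ofNat 0, .ofNat 1, .negSucc 0, .ofNat 0, .ofNat 0, .negSucc 0, .ofNat 0, .ofNat 0, .ofNat 0, .ofNat 0, .ofNat 0, .ofNat 0, .ofNat 0, .ofNat 0, .ofNat 0, .ofNat 0, .ofNat 1, .ofNat 0, .ofNat 0, .negSucc 0, .ofNat 0, .ofNat 0, .ofNat 0, .ofNat 1, .ofNat 0, .ofNat 0, .ofNat 0, .ofNat 1, .ofNat 1, .ofNat 0, .ofNat 0, .ofNat 0, .ofNat 1, .ofNat 0, .ofNat 0, .negSucc 0, .ofNat 1, .ofNat 0, .ofNat 0],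
 [.ofNat 0, .ofNat 0, .negSucc 0, .ofNat 1, .ofNat 0, .ofNat 0, .ofNat 0, .ofNat 0, .ofNat 0, .ofNat 1, .ofNat 1, .ofNat 0, .negSucc 0, .ofNat 0, .ofNat 0, .ofNat 0, .ofNat 0, .ofNat 0, .negSucc 0, .ofNat 1, .ofNat 0, .ofNat 0, .ofNat 1, .ofNat 0, .ofNat 1, .negSucc 0, .ofNat 0, .ofNat 0, .ofNat 0, .ofNat 0, .ofNat 0, .ofNat 0, .negSucc 0, .ofNat 0, .ofNat 1, .ofNat 0, .ofNat 0, .ofNat 0, .ofNat 0, .ofNat 0, .ofNat 0, .ofNat 0, .negSucc 0, .ofNat 0, .ofNat 1, .ofNat 1, .ofNat 0, .ofNat 0, .ofNat 0, .ofNat 1, .ofNat 0, .ofNat 0, .ofNat 0, .ofNat 0, .ofNat 0, .ofNat 0],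
 [.ofNat 0, .ofNat 0, .ofNat 0, .ofNat 0, .ofNat 0, .ofNat 0, .ofNat 0, .ofNat 0, .ofNat 1, .ofNat 0, .ofNat 0, .ofNat 0, .ofNat 0, .ofNat 0, .ofNat 0, .ofNat 0, .negSucc 0, .ofNat 0, .ofNat 0, .negSucc 0, .ofNat 0, .ofNat 0, .negSucc 0, .ofNat 0, .negSucc 0, .ofNat 1, .ofNat 0, .ofNat 0, .ofNat 0, .ofNat 0, .negSucc 0, .ofNat 1, .negSucc 0, .ofNat 0, .ofNat 1, .ofNat 0, .ofNat 0, .ofNat 0, .ofNat 0, .negSucc 0, .ofNat 0, .ofNat 1, .ofNat 0, .ofNat 1, .ofNat 0, .ofNat 1, .negSucc 0, .ofNat 0, .ofNat 0, .ofNat 1, .ofNat 0, .ofNat 0, .ofNat 0, .ofNat 0, .ofNat 0, .ofNat 0],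
 [.ofNat 0, .ofNat 0, .negSucc 0, .ofNat 0, .ofNat 0, .ofNat 1, .ofNat 0, .negSucc 0, .ofNat 0, .ofNat 0, .ofNat 0, .ofNat 0, .ofNat 1, .negSucc 0, .ofNat 0, .ofNat 0, .ofNat 0, .ofNat 0, .ofNat 1, .ofNat 1, .ofNat 0, .ofNat 0, .ofNat 0, .ofNat 1, .ofNat 0, .ofNat 1, .negSucc 0, .ofNat 0, .negSucc 0, .ofNat 0, .ofNat 0, .ofNat 0, .negSucc 0, .ofNat 0, .negSucc 0, .ofNat 0, .negSucc 0, .ofNat 0, .ofNat 0, .ofNat 1, .ofNat 0, .ofNat 0, .ofNat 0, .ofNat 0, .ofNat 0, .ofNat 0, .ofNat 0, .ofNat 0, .ofNat 0, .ofNat 1, .ofNat 0, .ofNat 0, .ofNat 0, .ofNat 0, .ofNat 0, .ofNat 0],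
 [.ofNat 1, .ofNat 0, .ofNat 1, .ofNat 0, .ofNat 1, .ofNat 0, .ofNat 0, .ofNat 0, .ofNat 1, .ofNat 0, .ofNat 0, .ofNat 0, .ofNat 1, .ofNat 0, .negSucc 0, .ofNat 0, .ofNat 0, .negSucc 0, .ofNat 0, .ofNat 0, .ofNat 0, .ofNat 0, .ofNat 0, .ofNat 0, .ofNat 0, .negSucc 0, .ofNat 0, .ofNat 0, .ofNat 0, .ofNat 0, .ofNat 0, .ofNat 0, .ofNat 0, .ofNat 0, .ofNat 0, .negSucc 0, .ofNat 0, .ofNat 0, .negSucc 0, .ofNat 0, .ofNat 0, .negSucc 0, .ofNat 0, .negSucc 0, .ofNat 0, .ofNat 0, .negSucc 0, .ofNat 0, .negSucc 0, .ofNat 1, .ofNat 0, .ofNat 0, .negSucc 0, .ofNat 0, .ofNat 0, .ofNat 0],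
 [.ofNat 0, .ofNat 0, .negSucc 0, .ofNat 0, .negSucc 0, .ofNat 0, .ofNat 0, .ofNat 0, .ofNat 1, .ofNat 0, .ofNat 1, .ofNat 0, .ofNat 1, .ofNat 0, .ofNat 0, .ofNat 0, .ofNat 0, .ofNat 0, .ofNat 0, .ofNat 0, .ofNat 0, .negSucc 0, .ofNat 0, .ofNat 1, .ofNat 0, .ofNat 0, .negSucc 0, .ofNat 0, .ofNat 0, .ofNat 0, .ofNat 0, .ofNat 1, .ofNat 0, .negSucc 0, .ofNat 0, .ofNat 0, .ofNat 0, .ofNat 0, .ofNat 0, .ofNat 0, .ofNat 0, .ofNat 0, .ofNat 0, .negSucc 0, .ofNat 0, .negSucc 0, .ofNat 0, .ofNat 1, .ofNat 1, .ofNat 0, .ofNat 1, .ofNat 0, .ofNat 0, .negSucc 0, .ofNat 0, .ofNat 0],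
 [.ofNat 0, .ofNat 0, .negSucc 0, .ofNat 1, .ofNat 0, .ofNat 1, .ofNat 0, .ofNat 0, .ofNat 0, .ofNat 0, .ofNat 0, .ofNat 0, .ofNat 0, .ofNat 0, .ofNat 0, .ofNat 0, .ofNat 1, .ofNat 0, .ofNat 1, .ofNat 0, .ofNat 0, .ofNat 0, .ofNat 0, .ofNat 0, .ofNat 0, .ofNat 0, .ofNat 1, .ofNat 0, .ofNat 1, .ofNat 1, .ofNat 0, .ofNat 0, .ofNat 0, .ofNat 0, .ofNat 1, .ofNat 0, .ofNat 1, .ofNat 1, .ofNat 0, .ofNat 0, .ofNat 0, .ofNat 0, .negSucc 0, .negSucc 0, .ofNat 0, .ofNat 0, .ofNat 0, .ofNat 0, .ofNat 0, .ofNat 1, .negSucc 0, .ofNat 0, .ofNat 1, .ofNat 0, .ofNat 0, .ofNat 0],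
 [.ofNat 1, .ofNat 0, .ofNat 1, .ofNat 0, .ofNat 0, .ofNat 0, .ofNat 0, .ofNat 1, .negSucc 0, .ofNat 0, .ofNat 0, .ofNat 0, .ofNat 1, .ofNat 0, .ofNat 0, .negSucc 0, .ofNat 0, .ofNat 0, .ofNat 0, .ofNat 0, .ofNat 0, .ofNat 0, .ofNat 0, .negSucc 0, .ofNat 0, .ofNat 1, .ofNat 0, .ofNat 0, .ofNat 0, .ofNat 0, .ofNat 0, .ofNat 0, .negSucc 0, .ofNat 0, .ofNat 0, .ofNat 0, .ofNat 0, .ofNat 0, .negSucc 0, .ofNat 0, .ofNat 0, .negSucc 0, .negSucc 0, .ofNat 0, .ofNat 1, .ofNat 0, .ofNat 0, .negSucc 0, .ofNat 0, .ofNat 0, .negSucc 0, .ofNat 0, .negSucc 0, .ofNat 0, .ofNat 0, .ofNat 0],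
 [.ofNat 0, .ofNat 1, .ofNat 0, .ofNat 1, .ofNat 0, .ofNat 0, .ofNat 0, .ofNat 0, .ofNat 0, .ofNat 0, .ofNat 0, .ofNat 0, .ofNat 0, .ofNat 0, .negSucc 0, .ofNat 1, .ofNat 0, .ofNat 0, .ofNat 0, .ofNat 0, .ofNat 0, .ofNat 0, .ofNat 0, .ofNat 1, .ofNat 1, .ofNat 0, .ofNat 0, .ofNat 0, .negSucc 0, .ofNat 0, .ofNat 1, .ofNat 0, .negSucc 0, .ofNat 0, .ofNat 0, .negSucc 0, .negSucc 0, .ofNat 1, .ofNat 0, .ofNat 0, .ofNat 0, .ofNat 0, .ofNat 0, .ofNat 0, .ofNat 1, .ofNat 0, .negSucc 0, .ofNat 0, .negSucc 0, .ofNat 0, .ofNat 0, .ofNat 0, .ofNat 0, .ofNat 0, .negSucc 0, .ofNat 0],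
 [.ofNat 0, .ofNat 0, .ofNat 1, .ofNat 0, .negSucc 0, .ofNat 0, .ofNat 0, .ofNat 0, .ofNat 0, .ofNat 0, .ofNat 0, .ofNat 0, .negSucc 0, .ofNat 0, .ofNat 0, .ofNat 0, .ofNat 0, .ofNat 0, .ofNat 1, .ofNat 0, .negSucc 0, .ofNat 0, .ofNat 0, .ofNat 1, .negSucc 0, .ofNat 0, .ofNat 0, .negSucc 0, .ofNat 0, .ofNat 0, .ofNat 0, .ofNat 1, .ofNat 0, .ofNat 1, .ofNat 0, .ofNat 0, .ofNat 1, .ofNat 0, .negSucc 0, .ofNat 0, .ofNat 0, .ofNat 0, .ofNat 0, .ofNat 1, .ofNat 1, .ofNat 0, .ofNat 0, .ofNat 0, .ofNat 0, .ofNat 1, .ofNat 1, .ofNat 0, .ofNat 0, .ofNat 0, .ofNat 0, .ofNat 0],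
 [.ofNat 0, .ofNat 0, .ofNat 0, .ofNat 1, .negSucc 0, .ofNat 0, .ofNat 0, .ofNat 0, .ofNat 0, .ofNat 0, .ofNat 1, .ofNat 0, .negSucc 0, .ofNat 1, .negSucc 0, .ofNat 1, .negSucc 0, .ofNat 0, .ofNat 0, .ofNat 1, .ofNat 0, .ofNat 0, .ofNat 0, .ofNat 1, .ofNat 0, .ofNat 0, .negSucc 0, .ofNat 1, .ofNat 0, .ofNat 1, .ofNat 0, .ofNat 0, .ofNat 0, .ofNat 0, .ofNat 0, .negSucc 0, .ofNat 1, .ofNat 0, .ofNat 0, .ofNat 0, .ofNat 0, .ofNat 0, .ofNat 0, .ofNat 0, .ofNat 0, .ofNat 0, .ofNat 0, .ofNat 0, .ofNat 0, .ofNat 0, .ofNat 1, .ofNat 0, .ofNat 0, .ofNat 0, .ofNat 0, .ofNat 0],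
 [.ofNat 0, .ofNat 0, .ofNat 0, .negSucc 0, .ofNat 0, .ofNat 0, .ofNat 0, .ofNat 1, .ofNat 0, .ofNat 0, .ofNat 0, .ofNat 0, .negSucc 0, .negSucc 0, .ofNat 0, .ofNat 0, .ofNat 1, .ofNat 0, .ofNat 0, .negSucc 0, .ofNat 0, .ofNat 0, .ofNat 0, .ofNat 1, .ofNat 0, .ofNat 1, .ofNat 0, .ofNat 0, .ofNat 0, .ofNat 1, .ofNat 0, .ofNat 0, .negSucc 0, .ofNat 0, .ofNat 0, .ofNat 0, .ofNat 0, .negSucc 0, .ofNat 0, .negSucc 0, .ofNat 0, .ofNat 0, .negSucc 0, .ofNat 1, .ofNat 0, .ofNat 0, .ofNat 0, .ofNat 0, .ofNat 0, .ofNat 0, .ofNat 1, .ofNat 0, .ofNat 1, .ofNat 0, .ofNat 0, .ofNat 0],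
 [.ofNat 0, .ofNat 0, .negSucc 0, .ofNat 0, .ofNat 0, .ofNat 0, .ofNat 1, .ofNat 1, .negSucc 0, .ofNat 0, .ofNat 1, .ofNat 0, .ofNat 0, .ofNat 0, .ofNat 0, .ofNat 0, .ofNat 0, .negSucc 0, .ofNat 0, .negSucc 0, .ofNat 0, .ofNat 0, .negSucc 0, .negSucc 0, .ofNat 0, .ofNat 0, .negSucc 0, .ofNat 0, .ofNat 0, .ofNat 0, .ofNat 0, .ofNat 1, .ofNat 0, .ofNat 0, .ofNat 0, .ofNat 0, .ofNat 0, .ofNat 0, .ofNat 0, .ofNat 0, .ofNat 0, .ofNat 1, .ofNat 1, .ofNat 0, .ofNat 0, .ofNat 0, .ofNat 0, .ofNat 0, .negSucc 0, .ofNat 1, .ofNat 0, .ofNat 0, .ofNat 0, .ofNat 1, .ofNat 0, .ofNat 0],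
 [.ofNat 0, .ofNat 0, .ofNat 0, .ofNat 0, .ofNat 0, .ofNat 0, .ofNat 0, .ofNat 1, .ofNat 0, .ofNat 0, .ofNat 0, .ofNat 0, .ofNat 1, .ofNat 0, .negSucc 0, .ofNat 0, .ofNat 0, .negSucc 0, .ofNat 1, .ofNat 0, .ofNat 0, .ofNat 0, .ofNat 1, .ofNat 0, .ofNat 0, .ofNat 0, .ofNat 0, .ofNat 0, .ofNat 1, .ofNat 0, .ofNat 0, .ofNat 1, .ofNat 0, .ofNat 0, .ofNat 1, .ofNat 0, .ofNat 0, .ofNat 0, .ofNat 1, .ofNat 1, .ofNat 0, .ofNat 0, .ofNat 0, .ofNat 0, .ofNat 0, .ofNat 0, .ofNat 0, .ofNat 0, .ofNat 1, .ofNat 0, .ofNat 0, .ofNat 0, .ofNat 1, .negSucc 0, .negSucc 0, .ofNat 1],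
 [.ofNat 0, .ofNat 0, .ofNat 0, .ofNat 1, .ofNat 1, .ofNat 0, .ofNat 0, .ofNat 0, .ofNat 1, .ofNat 0, .negSucc 0, .ofNat 0, .ofNat 0, .ofNat 0, .ofNat 0, .ofNat 0, .ofNat 0, .ofNat 0, .ofNat 0, .ofNat 0, .ofNat 0, .ofNat 0, .ofNat 1, .ofNat 1, .ofNat 0, .ofNat 0, .ofNat 0, .ofNat 0, .ofNat 1, .ofNat 0, .ofNat 0, .ofNat 0, .ofNat 0, .ofNat 0, .ofNat 1, .ofNat 0, .ofNat 0, .ofNat 1, .ofNat 0, .ofNat 1, .ofNat 1, .ofNat 0, .ofNat 0, .negSucc 0, .ofNat 1, .ofNat 1, .ofNat 0, .ofNat 0, .ofNat 0, .ofNat 0, .ofNat 0, .ofNat 0, .negSucc 0, .ofNat 0, .negSucc 0, .ofNat 0],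
 [.ofNat 1, .ofNat 0, .ofNat 0, .ofNat 0, .ofNat 0, .ofNat 1, .ofNat 0, .ofNat 1, .ofNat 0, .ofNat 0, .negSucc 0, .ofNat 1, .ofNat 0, .ofNat 0, .ofNat 0, .ofNat 0, .ofNat 0, .ofNat 0, .ofNat 1, .ofNat 0, .ofNat 1, .ofNat 0, .ofNat 0, .ofNat 0, .ofNat 0, .ofNat 1, .ofNat 0, .ofNat 0, .ofNat 0, .ofNat 0, .ofNat 0, .ofNat 1, .ofNat 0, .ofNat 0, .ofNat 0, .ofNat 0, .ofNat 1, .ofNat 1, .ofNat 0, .ofNat 0, .ofNat 1, .ofNat 0, .ofNat 0, .negSucc 0, .ofNat 0, .ofNat 0, .ofNat 0, .negSucc 0, .ofNat 0, .negSucc 0, .ofNat 0, .ofNat 0, .ofNat 0, .ofNat 0, .ofNat 0, .ofNat 1],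
 [.negSucc 0, .ofNat 0, .ofNat 0, .ofNat 0, .ofNat 0, .ofNat 0, .ofNat 1, .ofNat 0, .ofNat 0, .negSucc 0, .ofNat 0, .negSucc 0, .negSucc 0, .ofNat 0, .ofNat 0, .ofNat 1, .negSucc 0, .negSucc 0, .ofNat 0, .ofNat 0, .ofNat 0, .ofNat 0, .ofNat 0, .ofNat 0, .negSucc 0, .ofNat 0, .negSucc 0, .ofNat 0, .ofNat 0, .ofNat 0, .ofNat 0, .ofNat 1, .negSucc 0, .ofNat 0, .ofNat 0, .ofNat 0, .ofNat 1, .ofNat 0, .negSucc 0, .ofNat 0, .ofNat 0, .ofNat 0, .ofNat 0, .ofNat 0, .ofNat 0, .ofNat 0, .ofNat 0, .ofNat 0, .ofNat 0, .ofNat 0, .negSucc 0, .negSucc 0, .ofNat 0, .ofNat 0, .ofNat 0, .ofNat 0],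
 [.ofNat 0, .ofNat 0, .ofNat 0, .ofNat 0, .negSucc 0, .ofNat 1, .ofNat 0, .ofNat 0, .ofNat 0, .ofNat 1, .ofNat 0, .ofNat 0, .ofNat 0, .ofNat 0, .ofNat 0, .ofNat 1, .ofNat 0, .ofNat 0, .ofNat 0, .ofNat 0, .ofNat 0, .ofNat 0, .ofNat 0, .ofNat 0, .ofNat 0, .ofNat 1, .ofNat 1, .ofNat 0, .ofNat 0, .ofNat 1, .ofNat 0, .ofNat 1, .ofNat 0, .ofNat 0, .ofNat 1, .ofNat 1, .ofNat 0, .ofNat 0, .ofNat 1, .ofNat 0, .ofNat 0, .ofNat 0, .ofNat 1, .ofNat 0, .ofNat 0, .ofNat 0, .negSucc 0, .negSucc 0, .ofNat 1, .ofNat 0, .negSucc 0, .ofNat 0, .ofNat 0, .ofNat 0, .ofNat 0, .ofNat 0],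
 [.ofNat 0, .ofNat 1, .negSucc 0, .ofNat 0, .ofNat 0, .ofNat 0, .ofNat 1, .ofNat 0, .ofNat 1, .ofNat 1, .ofNat 0, .ofNat 0, .ofNat 0, .ofNat 0, .ofNat 0, .ofNat 0, .ofNat 0, .ofNat 0, .ofNat 0, .ofNat 0, .ofNat 1, .ofNat 0, .ofNat 0, .ofNat 0, .ofNat 0, .ofNat 0, .ofNat 0, .ofNat 0, .ofNat 1, .ofNat 0, .ofNat 0, .ofNat 1, .ofNat 0, .ofNat 1, .ofNat 0, .ofNat 0, .ofNat 0, .ofNat 0, .ofNat 0, .ofNat 0, .ofNat 0, .ofNat 0, .negSucc 0, .negSucc 0, .ofNat 1, .ofNat 0, .ofNat 1, .ofNat 0, .ofNat 0, .ofNat 0, .ofNat 0, .ofNat 1, .ofNat 0, .negSucc 0, .ofNat 0, .ofNat 1],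
 [.negSucc 0, .negSucc 0, .ofNat 0, .ofNat 0, .negSucc 0, .ofNat 0, .ofNat 0, .ofNat 0, .ofNat 0, .ofNat 1, .ofNat 0, .ofNat 0, .ofNat 0, .ofNat 0, .ofNat 0, .negSucc 0, .ofNat 0, .negSucc 0, .ofNat 0, .negSucc 0, .ofNat 0, .ofNat 0, .ofNat 0, .ofNat 0, .ofNat 0, .ofNat 1, .ofNat 0, .ofNat 0, .ofNat 0, .ofNat 0, .ofNat 0, .ofNat 0, .ofNat 0, .ofNat 1, .ofNat 0, .ofNat 0, .ofNat 0, .ofNat 0, .ofNat 0, .negSucc 0, .ofNat 1, .ofNat 0, .ofNat 0, .ofNat 0, .ofNat 0, .ofNat 0, .ofNat 0, .ofNat 0, .negSucc 0, .ofNat 1, .ofNat 1, .negSucc 0, .ofNat 0, .ofNat 0, .negSucc 0, .ofNat 0],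
 [.negSucc 0, .ofNat 0, .ofNat 1, .ofNat 0, .ofNat 1, .ofNat 0, .ofNat 0, .ofNat 1, .ofNat 0, .ofNat 0, .ofNat 0, .ofNat 1, .ofNat 0, .ofNat 0, .ofNat 0, .ofNat 0, .ofNat 0, .ofNat 0, .ofNat 0, .ofNat 1, .ofNat 0, .negSucc 0, .ofNat 1, .ofNat 0, .ofNat 0, .ofNat 1, .ofNat 0, .negSucc 0, .ofNat 0, .ofNat 1, .ofNat 0, .ofNat 1, .ofNat 0, .ofNat 0, .ofNat 0, .ofNat 0, .ofNat 0, .ofNat 0, .ofNat 1, .ofNat 0, .ofNat 0, .ofNat 0, .ofNat 1, .negSucc 0, .ofNat 0, .ofNat 1, .ofNat 0, .ofNat 0, .ofNat 0, .ofNat 0, .ofNat 0, .ofNat 0, .ofNat 0, .ofNat 0, .ofNat 0, .ofNat 0]]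

/-- Packed columns. -/
def P1 : List ℤ :=
 [.negSucc 0x100000001000000000000000000000000fffffffefffffffffffffffffffffffffffffffffffffffffffffffffffffffffffffffefffffffffffffffffffffffefffffffffffffffffffffffffffffffffffffffffffffffeffffffffffffffffffffffff00000000fffffffefffffffffffffffffffffffefffffffffffffffffffffffffffffffeffffffff0000000000000000000000000000000000000000ffffffffffffffff00000000000000000000000100000000000000000000000000000001000000000000000000000000ffffffffffffffffffffffff,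
 .negSucc 0xfffffffefffffffffffffffffffffffffffffffffffffffffffffffffffffffffffffffffffffffffffffffefffffffffffffffffffffffffffffffffffffffffffffffffffffffffffffffffffffffffffffffffffffffffffffffffffffffffffffffffffffffffffffffefffffffffffffffffffffffefffffffffffffffffffffffffffffffffffffffffffffffefffffffefffffffffffffffffffffffffffffffefffffffffffffffffffffffffffffffffffffffffffffffffffffffefffffffffffffffeffffffff00000000ffffffffffffffff,
 .ofNat 0xfffffffffffffffeffffffffffffffffffffffffffffffffffffffffffffffff0000000000000000000000010000000000000000fffffffeffffffff00000000fffffffeffffffffffffffff00000000ffffffffffffffff000000000000000100000001000000010000000000000000000000000000000000000000000000000000000000000000000000000000000000000000000000000000000000000000fffffffffffffffffffffffffffffffffffffffffffffffeffffffffffffffffffffffff000000000000000000000000000000000000000000000000,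
 .ofNat 0xffffffffffffffffffffffff00000001000000000000000100000000000000010000000000000000000000000000000000000001000000010000000100000000000000000000000100000001000000000000000000000001000000000000000100000001000000010000000100000000000000010000000100000000000000000000000100000000000000000000000000000001000000000000000000000001000000000000000000000000000000000000000100000000000000000000000000000001,
 .ofNat 0xfffffffeffffffffffffffff000000000000000000000000fffffffffffffffffffffffffffffffefffffffeffffffffffffffffffffffffffffffff00000000fffffffffffffffffffffffffffffffffffffffffffffffffffffffffffffffffffffffffffffffffffffffffffffffffffffffffffffffffffffffffffffffefffffffffffffffffffffffffffffffffffffffefffffffffffffffffffffffefffffffefffffffffffffffffffffffffffffffefffffffeffffffff0000000000000000fffffffffffffffefffffffefffffffeffffffffffffffff,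
 .ofNat 0x1000000000000000100000000000000000000000000000000000000000000000000000000000000000000000100000000000000000000000100000000000000000000000000000001000000000000000100000000000000000000000000000000000000000000000100000001000000000000000000000000000000000000000000000000000000000000000000000000ffffffffffffffffffffffffffffffff00000000000000000000000000000000000000010000000000000000ffffffffffffffffffffffff0000000100000000,
 .ofNat 0x1000000000000000100000000000000000000000000000000ffffffffffffffffffffffffffffffffffffffffffffffffffffffffffffffffffffffffffffffffffffffffffffffffffffffff000000000000000000000000000000000000000000000001000000000000000000000000000000010000000000000000000000010000000100000000000000000000000000000000000000000000000000000000ffffffffffffffffffffffff00000001000000010000000000000000000000010000000100000000000000010000000100000000,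
 .ofNat 0x100000000000000000000000000000000000000010000000000000001000000010000000100000000000000000000000000000000ffffffffffffffffffffffffffffffff0000000000000000000000010000000100000000000000010000000000000001000000000000000000000000000000000000000000000000fffffffffffffffffffffffffffffffffffffffffffffffffffffffefffffffffffffffeffffffffffffffffffffffffffffffff0000000000000000000000000000000000000000000000000000000000000001000000000000000000000000,
 .ofNat 0x100000000000000000000000000000000fffffffffffffffeffffffffffffffffffffffffffffffffffffffff0000000000000001000000010000000000000001000000000000000000000000000000000000000000000000000000000000000000000001000000000000000000000000000000000000000100000001000000000000000000000000000000000000000100000000ffffffff0000000000000000fffffffffffffffffffffffefffffffffffffffffffffffefffffffffffffffffffffffffffffffeffffffff0000000000000000,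
 .ofNat 0x10000000100000000ffffffff000000000000000000000000000000000000000000000000000000000000000000000000000000000000000000000000000000000000000000000001000000000000000000000000ffffffff0000000000000000ffffffffffffffff00000000000000000000000000000000000000000000000100000000ffffffffffffffffffffffff000000000000000000000001000000000000000100000000000000000000000000000000000000000000000000000000000000000000000000000000ffffffffffffffff00000000,
 .negSucc 0x100000000fffffffffffffffefffffffffffffffefffffffffffffffffffffffffffffffffffffffefffffffffffffffffffffffffffffffefffffffffffffffffffffffffffffffffffffffffffffffefffffffffffffffffffffffeffffffffffffffffffffffff00000000ffffffffffffffffffffffff000000000000000000000000000000010000000000000001000000000000000000000000ffffffffffffffffffffffffffffffffffffffffffffffffffffffff00000000000000000000000000000000,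
 .ofNat 0xffffffffffffffffffffffffffffffff00000000ffffffffffffffffffffffffffffffffffffffffffffffffffffffffffffffffffffffffffffffffffffffffffffffffffffffffffffffffffffffff0000000000000001000000000000000000000000ffffffffffffffffffffffffffffffff000000000000000000000000000000000000000100000000ffffffffffffffff0000000000000000000000000000000000000000000000000000000000000000ffffffff0000000000000000000000000000000000000000000000000000000000000000ffffffff,
 .negSucc 0xffffffffffffffffffffffff00000000000000010000000100000000fffffffffffffffefffffffffffffffefffffffeffffffff0000000000000000ffffffffffffffffffffffffffffffffffffffff000000000000000100000000fffffffffffffffefffffffffffffffffffffffffffffffefffffffeffffffffffffffffffffffffffffffffffffffffffffffffffffffffffffffffffffffffffffffffffffffffffffffffffffffffffffffff0000000000000000ffffffffffffffffffffffffffffffffffffffff,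
 .negSucc 0xffffffff00000000000000000000000000000000000000000000000000000001000000000000000000000000000000000000000000000000000000000000000000000000ffffffffffffffffffffffffffffffffffffffffffffffffffffffffffffffffffffffffffffffff0000000000000000000000000000000000000001000000000000000000000000fffffffffffffffeffffffffffffffffffffffffffffffff0000000000000000ffffffffffffffffffffffff,
 .negSucc 0x1000000000000000000000001000000000000000100000000000000000000000000000001000000000000000000000000000000010000000000000000fffffffeffffffffffffffffffffffffffffffffffffffff0000000000000000fffffffeffffffffffffffffffffffffffffffffffffffff0000000100000000000000000000000000000001000000010000000000000000000000000000000000000000fffffffffffffffffffffffffffffffffffffffffffffffffffffffeffffffff,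
 .negSucc 0xfffffffffffffffefffffffefffffffffffffffffffffffffffffffffffffffffffffffeffffffffffffffff00000001000000000000000000000000000000000000000000000000000000000000000000000001000000000000000000000000000000000000000100000001000000000000000100000000000000000000000100000000fffffffffffffffffffffffeffffffffffffffff0000000000000000000000010000000100000000fffffffffffffffeffffffffffffffffffffffffffffffffffffffff000000000000000000000000ffffffff,
 .negSucc 0xffffffffffffffffffffffffffffffffffffffff00000000ffffffffffffffffffffffffffffffff00000000000000000000000000000000fffffffffffffffffffffffffffffffffffffffffffffffffffffffffffffffffffffffffffffffffffffffffffffffefffffffffffffffffffffffffffffffefffffffffffffffffffffffffffffffffffffffefffffffefffffffefffffffffffffffffffffffffffffffffffffffffffffffefffffffefffffffefffffffffffffffefffffffefffffffffffffffefffffffe,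
 .negSucc 0x100000000000000000000000100000000000000000000000100000001000000000000000000000000000000000000000000000000000000000000000100000000000000000000000000000000000000000000000000000000fffffffffffffffffffffffffffffffffffffffeffffffffffffffffffffffffffffffffffffffffffffffff000000000000000000000000000000000000000000000000000000000000000000000000fffffffffffffffffffffffefffffffeffffffff00000000ffffffff0000000000000000000000000000000000000000,
 .ofNat 0x1000000000000000100000000000000000000000000000001000000000000000000000001000000000000000000000000ffffffffffffffff00000000fffffffeffffffff0000000000000000000000000000000000000000000000000000000000000000fffffffefffffffffffffffffffffffffffffffffffffffffffffffffffffffffffffffffffffffefffffffffffffffffffffffffffffffeffffffffffffffff000000000000000000000000000000000000000000000001000000000000000000000000,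
 .ofNat 0xfffffffefffffffffffffffffffffffffffffffffffffffffffffffffffffffeffffffff0000000100000000000000000000000000000000000000000000000000000000ffffffff00000000fffffffefffffffffffffffffffffffffffffffffffffffffffffffffffffffffffffffffffffffffffffffffffffffefffffffffffffffeffffffffffffffffffffffffffffffffffffffffffffffffffffffffffffffff0000000000000001000000000000000000000000000000000000000000000000ffffffffffffffffffffffffffffffffffffffff00000000,
 .ofNat 0x1000000000000000000000000fffffffffffffffffffffffffffffffffffffffffffffffeffffffffffffffffffffffffffffffffffffffffffffffffffffffffffffffffffffffffffffffffffffffffffffffffffffffffffffffffffffffffffffffffffffffffffffffff000000000000000100000000000000000000000000000000fffffffeffffffffffffffffffffffffffffffff000000000000000000000000fffffffeffffffffffffffffffffffffffffffffffffffffffffffffffffffffffffffffffffffff0000000000000001,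
 .negSucc 0x1000000000000000000000000000000000000000000000000000000000000000000000000000000000000000000000000000000000000000000000000ffffffffffffffffffffffffffffffffffffffffffffffffffffffffffffffffffffffff000000000000000000000000ffffffffffffffff00000000000000000000000000000000fffffffffffffffffffffffefffffffffffffffffffffffefffffffffffffffffffffffefffffffffffffffefffffffefffffffefffffffeffffffff000000000000000000000000fffffffffffffffeffffffffffffffff,
 .ofNat 0x100000000000000000000000000000000000000000000000100000000fffffffeffffffffffffffffffffffffffffffffffffffffffffffffffffffffffffffffffffffffffffffff00000000fffffffefffffffffffffffefffffffffffffffeffffffff00000000000000000000000000000000fffffffffffffffeffffffff00000000000000000000000000000000000000010000000100000000fffffffffffffffeffffffff00000000ffffffffffffffffffffffffffffffffffffffffffffffffffffffffffffffffffffffffffffffffffffffff00000000,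
 .ofNat 0xffffffffffffffff00000001000000010000000100000000ffffffff00000000000000010000000000000000ffffffffffffffffffffffffffffffffffffffffffffffff000000000000000000000000ffffffffffffffffffffffff00000000ffffffffffffffff0000000000000000000000000000000000000000000000000000000000000000000000000000000000000000000000000000000000000000000000000000000000000000000000010000000000000000000000010000000000000000,
 .negSucc 0x100000000000000000000000000000000000000000000000000000000ffffffff000000000000000000000000000000000000000000000000ffffffff000000000000000100000000000000000000000000000000000000010000000000000000000000000000000000000000000000000000000000000000fffffffeffffffffffffffff00000000000000000000000000000000ffffffff000000000000000100000000000000000000000000000000fffffffffffffffffffffffffffffffeffffffffffffffffffffffff,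
 .ofNat 0x100000001000000000000000100000000000000010000000000000000000000000000000100000000000000000000000000000000ffffffffffffffffffffffff0000000100000000ffffffff0000000000000000000000000000000100000000000000000000000000000000fffffffffffffffffffffffeffffffffffffffffffffffffffffffffffffffff00000000ffffffffffffffffffffffffffffffffffffffffffffffffffffffff0000000000000000000000000000000000000000ffffffff000000000000000000000000000000000000000100000000,
 .ofNat 0xfffffffefffffffffffffffffffffffffffffffeffffffffffffffff00000000000000000000000000000000fffffffefffffffffffffffefffffffffffffffffffffffffffffffefffffffefffffffefffffffefffffffffffffffffffffffffffffffffffffffefffffffffffffffffffffffffffffffffffffffefffffffeffffffffffffffffffffffffffffffffffffffff000000000000000000000000000000000000000000000000000000000000000000000000000000000000000000000000000000000000000000000000,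
 .negSucc 0xffffffffffffffffffffffffffffffffffffffffffffffffffffffffffffffffffffffffffffffff00000000ffffffffffffffffffffffffffffffffffffffffffffffffffffffffffffffffffffffffffffffff00000000fffffffffffffffffffffffffffffffffffffffffffffffffffffffffffffffefffffffffffffffffffffffefffffffffffffffefffffffffffffffffffffffffffffffffffffffffffffffffffffffffffffffffffffffffffffffffffffffffffffffffffffffffffffffffffffffffffffffffffffffffffffffffffffffffffffffe,
 .ofNat 0x10000000000000000000000000000000100000000ffffffffffffffffffffffffffffffffffffffff0000000000000000fffffffffffffffffffffffefffffffffffffffffffffffffffffffeffffffffffffffffffffffff0000000000000000000000000000000100000001000000000000000000000000fffffffefffffffffffffffffffffffffffffffffffffffffffffffffffffffffffffffefffffffffffffffffffffffefffffffffffffffffffffffffffffffffffffffffffffffeffffffffffffffffffffffff00000000ffffffff,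
 .ofNat 0x1000000000000000000000001000000000000000000000000000000000000000000000001000000010000000000000000000000000000000100000000000000000000000000000000000000000000000000000001000000000000000100000000ffffffff00000000000000000000000000000000fffffffeffffffffffffffffffffffffffffffffffffffffffffffffffffffffffffffffffffffffffffffff000000000000000000000000000000000000000000000000000000000000000000000000000000000000000000000000000000000000000000000000,
 .ofNat 0xfffffffffffffffffffffffffffffffffffffffffffffffefffffffffffffffffffffffeffffffffffffffffffffffffffffffffffffffffffffffffffffffff0000000000000001000000000000000000000000000000000000000000000000fffffffffffffffffffffffeffffffffffffffff0000000100000000ffffffff000000010000000000000000ffffffff0000000000000000fffffffffffffffefffffffeffffffff00000000,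
 .ofNat 0x1000000000000000100000001000000010000000100000000000000010000000100000000000000000000000100000000000000000000000000000001000000000000000000000001000000000000000000000000000000000000000100000000000000000000000000000000ffffffffffffffffffffffffffffffffffffffffffffffffffffffff000000000000000000000000fffffffefffffffffffffffefffffffffffffffefffffffffffffffffffffffffffffffffffffffefffffffefffffffefffffffffffffffffffffffeffffffff0000000000000000,
 .negSucc 0x1000000000000000000000000000000000000000100000000000000000000000100000001000000000000000000000000000000010000000100000000ffffffffffffffff00000000000000010000000100000001000000000000000100000000fffffffeffffffffffffffff000000000000000000000000fffffffffffffffffffffffffffffffefffffffeffffffffffffffffffffffffffffffff00000000ffffffffffffffffffffffffffffffffffffffffffffffffffffffffffffffffffffffffffffffffffffffff,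
 .ofNat 0x100000001000000000000000000000000000000000000000000000000000000000000000000000000ffffffffffffffffffffffffffffffff00000000000000000000000000000000000000010000000000000000ffffffffffffffffffffffff00000000fffffffffffffffffffffffffffffffffffffffefffffffffffffffefffffffffffffffffffffffffffffffffffffffffffffffffffffffffffffffffffffffefffffffffffffffffffffffefffffffffffffffffffffffffffffffeffffffffffffffff00000000000000000000000000000000,
 .ofNat 0x10000000000000000000000010000000100000000000000000000000000000000000000000000000000000000ffffffffffffffffffffffff000000010000000100000000000000000000000100000001000000000000000100000000fffffffffffffffffffffffffffffffefffffffffffffffeffffffffffffffffffffffffffffffff00000000000000000000000000000000000000000000000000000000000000000000000000000000000000000000000000000000ffffffffffffffffffffffffffffffffffffffffffffffff,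
 .ofNat 0xfffffffffffffffffffffffffffffffffffffffffffffffffffffffefffffffffffffffeffffffffffffffffffffffffffffffff0000000000000000000000000000000000000000000000000000000000000000fffffffffffffffffffffffffffffffefffffffffffffffffffffffffffffffffffffffefffffffffffffffefffffffefffffffeffffffffffffffffffffffffffffffff00000000000000000000000000000000fffffffffffffffffffffffefffffffefffffffffffffffeffffffffffffffff0000000000000000,
 .ofNat 0x100000001000000000000000000000000000000000000000100000000ffffffff0000000000000000fffffffffffffffffffffffefffffffffffffffffffffffefffffffffffffffffffffffffffffffefffffffefffffffffffffffffffffffffffffffffffffffeffffffffffffffffffffffffffffffff00000000000000010000000000000000000000000000000000000000fffffffffffffffefffffffefffffffffffffffeffffffffffffffffffffffffffffffffffffffffffffffffffffffffffffffffffffffff,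
 .ofNat 0x100000000ffffffffffffffffffffffff000000000000000000000001000000000000000100000000000000000000000000000000000000000000000000000000000000000000000000000000fffffffffffffffefffffffffffffffffffffffefffffffeffffffff00000000fffffffffffffffffffffffffffffffffffffffffffffffffffffffffffffffffffffffffffffffffffffffffffffffffffffffffffffffffffffffeffffffffffffffffffffffff00000000ffffffffffffffff0000000000000001,
 .ofNat 0x1000000000000000000000000ffffffff000000000000000000000000fffffffffffffffffffffffffffffffefffffffffffffffeffffffffffffffffffffffff00000000000000000000000000000000000000000000000000000000ffffffffffffffffffffffffffffffff00000000000000000000000000000000000000000000000100000000fffffffffffffffefffffffffffffffefffffffffffffffffffffffffffffffffffffffefffffffffffffffffffffffffffffffeffffffffffffffffffffffffffffffffffffffffffffffff0000000000000000,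
 .negSucc 0xfffffffffffffffffffffffffffffffffffffffeffffffff0000000000000000ffffffffffffffffffffffffffffffffffffffffffffffffffffffffffffffff00000000ffffffffffffffffffffffffffffffffffffffffffffffffffffffffffffffff0000000100000000ffffffffffffffffffffffffffffffff00000000ffffffffffffffffffffffffffffffffffffffffffffffffffffffffffffffffffffffffffffffffffffffffffffffffffffffffffffffffffffffff0000000000000001000000000000000000000000ffffffffffffffff,
 .ofNat 0x100000000000000000000000000000001000000010000000000000000000000000000000000000000000000000000000000000000000000000000000000000000000000000000000000000000ffffffffffffffff00000000000000000000000000000000000000000000000000000000000000000000000000000000ffffffffffffffffffffffff00000000000000010000000100000000fffffffffffffffefffffffffffffffefffffffeffffffff0000000000000000ffffffffffffffffffffffffffffffffffffffff000000000000000100000001,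
 .ofNat 0xfffffffffffffffffffffffffffffffffffffffeffffffffffffffffffffffff000000000000000100000000000000000000000000000000ffffffffffffffff00000000000000000000000000000000000000000000000000000000000000000000000000000000000000000000000000000000ffffffff0000000000000000000000000000000000000000000000000000000100000000000000000000000000000000000000000000000000000000000000000000000100000000,
 .ofNat 0xffffffffffffffff000000010000000000000000000000000000000000000000fffffffefffffffffffffffffffffffffffffffefffffffeffffffffffffffffffffffffffffffffffffffff00000000000000000000000000000000000000000000000000000001000000000000000000000000000000000000000000000000000000000000000000000001000000000000000000000001000000000000000100000000000000000000000000000001000000000000000000000000000000010000000000000000ffffffff00000000000000000000000000000000,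
 .negSucc 0x1000000000000000100000000000000000000000100000000fffffffffffffffffffffffeffffffffffffffff0000000000000000000000010000000100000000fffffffffffffffeffffffffffffffffffffffffffffffffffffffff000000000000000000000000ffffffffffffffffffffffff0000000000000001000000010000000000000000000000000000000000000000000000010000000000000000fffffffefffffffffffffffffffffffffffffffffffffffffffffffffffffffffffffffffffffffefffffffffffffffffffffffffffffffffffffffe,
 .ofNat 0x1000000000000000000000000000000010000000000000000000000000000000000000001000000010000000100000000000000000000000000000000000000000000000100000001000000010000000000000001000000010000000000000001000000010000000000000000000000000000000000000000ffffffffffffffffffffffffffffffffffffffff00000000ffffffffffffffffffffffffffffffff00000000000000000000000000000001000000000000000000000000000000000000000000000000000000000000000000000000,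
 .ofNat 0x1000000000000000000000000000000000000000000000000ffffffffffffffffffffffffffffffffffffffffffffffffffffffffffffffffffffffff0000000000000000000000010000000100000000ffffffff00000000ffffffffffffffffffffffffffffffffffffffff00000000000000010000000000000000000000010000000000000000000000010000000100000000000000000000000000000000000000000000000000000000000000010000000000000000000000000000000000000000000000000000000100000000000000000000000000000000,
 .ofNat 0xfffffffefffffffffffffffffffffffffffffffffffffffffffffffffffffffffffffffffffffffefffffffffffffffffffffffffffffffeffffffffffffffff000000000000000000000000000000000000000000000000fffffffffffffffffffffffffffffffffffffffffffffffffffffffffffffffffffffffefffffffffffffffefffffffffffffffffffffffffffffffefffffffffffffffffffffffeffffffffffffffffffffffff0000000000000000ffffffff00000001000000010000000000000000000000000000000000000000,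
 .negSucc 0x100000000000000010000000000000000000000000000000000000000000000000000000000000000fffffffffffffffeffffffffffffffffffffffffffffffffffffffffffffffff00000000000000000000000000000000000000010000000000000000fffffffefffffffffffffffffffffffffffffffffffffffffffffffffffffffeffffffff0000000100000000000000000000000000000000000000000000000000000000ffffffff00000000fffffffeffffffffffffffffffffffffffffffffffffffffffffffffffffffff,
 .negSucc 0xfffffffffffffffeffffffffffffffffffffffffffffffff0000000100000000000000000000000000000000ffffffffffffffffffffffff00000001000000000000000000000000000000000000000000000000000000000000000000000000ffffffffffffffff000000000000000000000001000000000000000000000000fffffffffffffffffffffffffffffffffffffffffffffffeffffffffffffffffffffffffffffffffffffffffffffffffffffffffffffffffffffffffffffffffffffffffffffffffffffffffffffffffffffffffffffffff,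
 .ofNat 0xffffffffffffffffffffffffffffffff000000000000000000000001000000000000000000000001000000000000000000000001000000000000000100000001000000010000000100000000ffffffffffffffffffffffff0000000000000001000000000000000000000001000000000000000000000000000000000000000000000000000000000000000000000000000000000000000000000000000000000000000000000000ffffffffffffffffffffffffffffffffffffffffffffffffffffffffffffffffffffffff000000000000000000000001,
 .ofNat 0xfffffffffffffffeffffffff00000000000000000000000000000000000000010000000100000000fffffffffffffffeffffffff00000000fffffffffffffffffffffffffffffffffffffffffffffffffffffffffffffffffffffffffffffffffffffffefffffffffffffffefffffffffffffffffffffffffffffffffffffffffffffffeffffffff0000000100000000000000000000000000000000000000000000000000000000000000000000000000000000ffffffff0000000100000000000000010000000000000001000000010000000000000000,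
 .negSucc 0xffffffff0000000000000000fffffffffffffffffffffffffffffffffffffffffffffffffffffffffffffffffffffffffffffffffffffffffffffffffffffffffffffffffffffffffffffffffffffffffffffffeffffffffffffffffffffffff000000000000000000000000000000000000000000000000000000000000000000000000ffffffffffffffff00000001000000010000000100000000ffffffff00000000000000010000000000000000ffffffffffffffffffffffffffffffffffffffffffffffff000000000000000000000000ffffffff,
 .negSucc 0xfffffffeffffffffffffffff00000000000000000000000000000000ffffffff000000000000000100000000000000000000000000000000fffffffffffffffffffffffffffffffefffffffffffffffffffffffffffffffffffffffffffffffffffffffffffffffeffffffffffffffffffffffffffffffffffffffffffffffffffffffff00000000ffffffffffffffffffffffffffffffffffffffffffffffff00000000fffffffffffffffefffffffffffffffffffffffffffffffffffffffeffffffff,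
 .negSucc 0x10000000000000000000000000000000000000000ffffffff00000000000000000000000000000000000000000000000000000000ffffffffffffffffffffffffffffffffffffffff00000000ffffffffffffffffffffffffffffffffffffffff000000000000000100000001000000000000000100000000000000010000000000000000000000000000000100000000000000000000000000000000ffffffffffffffffffffffff0000000100000000ffffffff0000000000000000000000000000000100000000000000000000000000000000,
 .negSucc 0x1000000000000000000000000000000000000000100000001000000000000000000000000000000000000000100000000000000000000000000000000000000000000000000000000000000000000000000000000000000000000000000000000000000000000000000000000000000000000000000000000fffffffefffffffffffffffffffffffffffffffeffffffffffffffff00000000000000000000000000000000fffffffefffffffffffffffefffffffffffffffffffffffffffffffefffffffefffffffefffffffeffffffffffffffffffffffff,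
 .ofNat 0x10000000000000000000000010000000000000001000000000000000000000000000000000000000000000000000000000000000000000000000000000000000000000000000000000000000000000000000000000000000000000000000000000000000100000000ffffffffffffffffffffffffffffffffffffffffffffffffffffffffffffffffffffffffffffffff00000000ffffffffffffffffffffffffffffffffffffffffffffffffffffffffffffffffffffffffffffffff000000010000000000000000000000000000000000000000]

theorem chk1 : chkAut Y1 P1 [2] = true := by decide +kernel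

/-- The base. -/
def FF : List ℕ := [52, 55, 1399, 56, 59, 1398, 3287, 86, 454, 950, 1026, 1912, 3817, 3349, 3610, 2798, 1535, 708, 3746, 2910, 2856, 667, 60, 3316, 1966, 1669, 758, 2344, 241, 3245, 204, 121, 2805, 1563, 3100, 218]

/-- The numbers of the basis vectors. -/
def BI : List ℕ := [1026, 454, 1912, 950, 3817, 3349, 3610, 2798, 1535, 708, 3746, 2910, 2856, 667, 60, 3316, 1966, 1669, 758, 2344, 241, 3245, 204, 121, 2805, 1563, 3100, 218]

open ModelRu in
theorem reps : Reps 4060 ruPt (⊤ : Subgroup fourRu) ns G_ss0 :=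
  Reps.cons (rep_of_chkAut (Y := Y0) (P := P0) List.mem_cons_self (by decide +kernel) chk0)
    (Reps.cons (rep_of_chkAut (Y := Y1) (P := P1) (List.mem_cons_of_mem _ List.mem_cons_self)
      (by decide +kernel) chk1) Reps.nil)

/-! ### The upper bound -/

/-- The colours with respect to the point `b`. -/
noncomputable def pls (b : ℕ) : List ℕ :=
  Sl.rec (motive := fun _ => List ℕ) (fun _ _ a2 a3 => Sl.rec (motive := fun _ => List ℕ)
    (fun _ _ b2 b3 => [a2, a3, b2, b3]) (ipP (gI • v b))) (ipP (v b))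

theorem cells_eq : cells (getL 0 CP 0) pls FF [] = 35942400 := by decide +kernel

theorem FF_chk : and' (allL FF fun b => and' (Nat.blt b 4096) (tb (getL 0 CP 0) b))
    (allLT 28 fun t => and' (anyL FF (Nat.beq (getL 0 BI t)))
      (decide (v (getL 0 BI t) = bv t))) = true := by decide +kernel

theorem pl_chk : getL 0 SP 0 = 1 ∧ getL 0 CP 28 = 0 ∧ getL 0 SP 28 = 0 ∧
    tb (getL 0 CP 0) 0 = false := by decide +kernel

theorem co_v (j : ℕ) : co (v j) 28 = 0 ∧ 0 ≤ co (v j) 0 ∧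
    (co (v j) 0 = 1 ↔ (getL 0 CP 0).testBit j = true) := by
  obtain ⟨a, b, c, d⟩ := pl_chk
  rw [v, co_ofF _ (by norm_num), co_ofF _ (by norm_num), testBit_gath, testBit_gath, testBit_gath,
    testBit_gath, ← getL_eq, ← getL_eq, ← getL_eq, ← getL_eq, a, b, c]
  rw [tb_eq] at d
  generalize getL 0 CP 0 = D at d
  by_cases h : j = 0
  · rw [h, d]; decide
  · rw [show Nat.testBit 1 j = false from by
      rw [← Nat.pow_zero 2, Nat.testBit_two_pow]; simp [Ne.symm h], Nat.zero_testBit]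
    cases D.testBit j <;> decide

theorem dot_v_zero (x : RuVec) : dot x (v 0) = 4 * co x 0 := by
  rw [v_eq_ev (by norm_num), dot, sum_eq_single_of_mem 0 (mem_range.2 (by norm_num))]
  · rw [ev, co_ofF _ (by norm_num), if_pos rfl, mul_comm]
  · intro j hj hn
    rw [ev, co_ofF _ (mem_range.1 hj), if_neg hn, mul_zero]

theorem card_stab : Finite (MulAction.stabilizer fourRu (V 0)) ∧
    Nat.card (MulAction.stabilizer fourRu (V 0)) ≤ 35942400 := by
  have hF := FF_chk
  simp only [and'_eq_true, allL_iff, allLT_iff, anyL_iff, blt_iff, tb_eq, beq_iff,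
    decide_eq_true_eq] at hF
  rw [← cells_eq]
  refine card_le_cells V _ pls _ ?_ ?_ FF (fun b hb => mem_mset.2 (hF.1 b hb)) [] _ le_rfl
    (fun _ _ _ _ _ _ h => absurd h List.not_mem_nil) ?_
  · intro f hf i hi
    have hi' : i < 4060 := by
      by_contra h
      have : getL 0 CP 0 >>> 4060 = 0 := by decide +kernel
      have h1 := (mem_mset.1 hi).2
      rw [show i = 4060 + (i - 4060) by omega, ← Nat.testBit_shiftRight, this] at h1
      exact absurd h1 (by simp)
    obtain ⟨j, hj, a, ha, e⟩ := exists_smul_V f hi'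
    have h1 := dot_smul f (V i) (V 0)
    rw [show f • V 0 = V 0 from hf, e, coe_iota_pow] at h1
    change dot (gI ^ a • v j) (v 0) = dot (v i) (v 0) at h1
    rw [dot_v_zero, dot_v_zero, (co_v i).2.2.2 (mem_mset.1 hi).2] at h1
    obtain ⟨b1, b2, b3⟩ := co_v j
    interval_cases a
    · rw [pow_zero, one_smul] at h1 e
      exact ⟨j, mem_mset.2 ⟨by omega, b3.1 (by omega)⟩, e⟩
    · rw [pow_one, co_I _ (by norm_num), if_pos (by norm_num), zero_add] at h1; omega
    · rw [pow_two, mul_smul, I_I, co_neg] at h1; omega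
    · rw [pow_succ, pow_two, mul_smul, mul_smul, I_I, co_neg, co_I _ (by norm_num),
        if_pos (by norm_num), zero_add] at h1
      omega
  · intro f _ b hb i j e m hm
    have h1 := dot_smul f (V i) (V b)
    have h2 := dot_smul_I f (V i) (V b)
    rw [hb, e] at h1 h2
    have h3 : (ipP (v b)).at i = (ipP (v b)).at j := by
      rw [at_ipP, at_ipP]; exact congrArg (· % 16) h1.symm
    have h4 : (ipP (gI • v b)).at i = (ipP (gI • v b)).at j := by
      rw [at_ipP, at_ipP]; exact congrArg (· % 16) h2.symm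
    rw [pls] at hm
    generalize ipP (v b) = s at h3 hm
    generalize ipP (gI • v b) = t at h4 hm
    have h5 : m ∈ [s.a2, s.a3, t.a2, t.a3] := hm
    simp only [List.mem_cons, List.not_mem_nil, or_false] at h5
    rcases h5 with rfl | rfl | rfl | rfl
    exacts [(n4_inj h3).1, (n4_inj h3).2, (n4_inj h4).1, (n4_inj h4).2]
  · intro f _ h
    have h1 : ∀ (t : ℕ) (ht : t < 28), f • BB ⟨t, by omega⟩ = BB ⟨t, by omega⟩ := by
      intro t ht
      obtain ⟨⟨b, hb, e⟩, e'⟩ := hF.2 t ht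
      have : BB ⟨t, by omega⟩ = V b := Subtype.ext (by rw [← e]; exact e'.symm)
      rw [this]; exact h b hb
    refine Subtype.ext (Equiv.ext (hom_ext (f := AddMonoidHom.mk' (f • ·) (smul_add' f))
      (g := AddMonoidHom.id _) fun t => ?_))
    obtain ⟨t, ht⟩ := t
    by_cases h2 : t < 28
    · exact h1 t h2
    · obtain ⟨s, rfl⟩ : ∃ s, t = s + 28 := ⟨t - 28, by omega⟩
      have e : BB ⟨s + 28, ht⟩ = ruI (BB ⟨s, by omega⟩) := Subtype.ext (bv_I (by omega))
      change f • BB ⟨s + 28, ht⟩ = BB ⟨s + 28, ht⟩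
      rw [e]
      exact (f.2.2.1 _).trans (congrArg ruI (h1 s (by omega)))

theorem card_le : Finite fourRu ∧ Nat.card fourRu ≤ 16240 * 35942400 := by
  classical
  obtain ⟨a, b⟩ := card_stab
  rw [← top_inf_eq (MulAction.stabilizer fourRu (V 0))] at a b
  obtain ⟨T, hc, hT⟩ := exists_finset 4060 4
  obtain ⟨c, d⟩ := card_le_of_orbit ⊤ (V 0) T (fun f _ => by
      obtain ⟨j, hj, a, ha, e⟩ := exists_smul_V f (show 0 < 4060 by norm_num)
      exact e ▸ hT j hj a ha) a
  exact ⟨Finite.of_equiv _ Subgroup.topEquiv.toEquiv, Subgroup.card_top.ge.trans (d.trans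
    (Nat.mul_le_mul hc b))⟩

instance finite_fourRu : Finite fourRu := card_le.1

theorem card_ZZ : Nat.card ZZ = 4 := (Nat.card_zpowers iota).trans orderOf_iota

end Cfsg.Agent.Spor.RuL

namespace Cfsg.Agent.Spor.ModelRu

open Cfsg.Spor Cfsg.Agent.Comp RuL
open scoped Pointwise

theorem exists_hom : ∃ φ : fourRu →* gen ns G_ss0, Function.Surjective φ ∧ φ.ker = ZZ ∧
    ∀ g, RepBy 4060 ruPt g (φ g : Equiv.Perm ℕ) :=
  reps.exists_surj (MonoidHom.id _) ruPt_inj (fun g _ => ⟨g, rfl⟩) ZZ (fun z hz i _ => by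
    obtain ⟨a, rfl⟩ := exists_pow hz
    exact smul_pt rfl) (by rw [card_ZZ, G_card]; exact card_le.2)

/-- The action of the automorphism group of the lattice on the minimal lines. -/
noncomputable def hom : fourRu →* gen ns G_ss0 := Classical.choose exists_hom

theorem hom_surj : Function.Surjective hom := (Classical.choose_spec exists_hom).1

theorem hom_rep (g : fourRu) : RepBy 4060 ruPt g (hom g : Equiv.Perm ℕ) :=
  (Classical.choose_spec exists_hom).2.2 g

theorem center_eq : Subgroup.center fourRu = ZZ := by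
  refine le_antisymm (fun z hz => ?_) ZZ_le_center
  rw [← (Classical.choose_spec exists_hom).2.1]
  have := isSimple
  have h1 : Subgroup.center (gen ns G_ss0) = ⊥ := by
    refine (Subgroup.Normal.eq_bot_or_eq_top inferInstance).resolve_right fun h => ?_
    let _ : CommGroup (gen ns G_ss0) := Group.commGroupOfCenterEqTop h
    have := finite_gen ctx.ok G_ss0
    have hp := IsSimpleGroup.prime_card (α := gen ns G_ss0)
    rw [G_card] at hp
    exact absurd (hp.eq_one_or_self_of_dvd 2 (by norm_num)) (by norm_num)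
  change hom z = 1
  rw [← Subgroup.mem_bot, ← h1, Subgroup.mem_center_iff]
  intro g
  obtain ⟨x, rfl⟩ := hom_surj g
  rw [← map_mul, ← map_mul, Subgroup.mem_center_iff.1 hz]

theorem hom_ker : hom.ker = Subgroup.center fourRu :=
  (Classical.choose_spec exists_hom).2.1.trans center_eq.symm

theorem card_center : Nat.card (Subgroup.center fourRu) = 4 := by rw [center_eq, card_ZZ]

/-- The permutation model of the Rudvalis group on 4060 points. -/
noncomputable def equiv : Ru ≃* gen ns G_ss0 :=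
  (QuotientGroup.quotientMulEquivOfEq hom_ker.symm).trans
    (QuotientGroup.quotientKerEquivOfSurjective hom hom_surj)

theorem equiv_mk (g : fourRu) : equiv (g : Ru) = hom g := rfl

theorem card_Ru : Nat.card Ru = 145926144000 := (Nat.card_congr equiv.toEquiv).trans G_card

theorem isSimpleGroup_Ru : IsSimpleGroup Ru :=
  haveI := isSimple
  equiv.isSimpleGroup

end Cfsg.Agent.Spor.ModelRu
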