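import Cfsg.Agent.KSG.MultH
import Cfsg.Agent.Spor.ModelM11

set_option autoImplicit false
set_option maxRecDepth 4096

namespace Cfsg.Agent.Spor.MultM11

open Cfsg Cfsg.Agent.Comp Cfsg.Agent.KSG.Pc

noncomputable def ns_2 : Net :=
 (Net.cons (nat_lit 16) 10640
 (Net.cons (nat_lit 8) (nat_lit 0x5400be)
 (Net.cons (nat_lit 4) (nat_lit 0x9080004)
 (Net.cons (nat_lit 2) (nat_lit 0x1221202)
 (Net.cons (nat_lit 1) (nat_lit 0x50004044)
 (Net.cons (nat_lit 2) 8194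
 (Net.cons (nat_lit 4) (nat_lit 0x8000004)
 (Net.cons (nat_lit 8) (nat_lit 0x5400bc)
 (Net.cons (nat_lit 16) 10544
 Net.nil)))))))))

noncomputable def ns_3 : Net :=
 (Net.cons (nat_lit 16) 12532
 (Net.cons (nat_lit 8) (nat_lit 0x220060)
 (Net.cons (nat_lit 4) (nat_lit 0x2040c0c)
 (Net.cons (nat_lit 2) (nat_lit 0x312010)
 (Net.cons (nat_lit 1) (nat_lit 0x10004040)
 (Net.cons (nat_lit 4) 525316
 (Net.cons (nat_lit 8) (nat_lit 0x120020)
 (Net.cons (nat_lit 16) 12392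
 Net.nil))))))))

noncomputable def ns_4 : Net :=
 (Net.cons (nat_lit 16) 46076
 (Net.cons (nat_lit 8) (nat_lit 0xa100c0)
 (Net.cons (nat_lit 4) (nat_lit 0xa0d0008)
 (Net.cons (nat_lit 2) (nat_lit 0x2320030)
 (Net.cons (nat_lit 1) (nat_lit 0x10404410)
 (Net.cons (nat_lit 2) (nat_lit 0x200000)
 (Net.cons (nat_lit 4) (nat_lit 0x80a0008)
 (Net.cons (nat_lit 8) (nat_lit 0x1200c0)
 (Net.cons (nat_lit 16) 45948
 Net.nil)))))))))

noncomputable def ns_5 : Net :=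
 (Net.cons (nat_lit 16) 2500
 (Net.cons (nat_lit 8) (nat_lit 0x650050)
 (Net.cons (nat_lit 4) (nat_lit 0xc0a0c0e)
 (Net.cons (nat_lit 2) (nat_lit 0x21000012)
 (Net.cons (nat_lit 1) (nat_lit 0x100440)
 (Net.cons (nat_lit 2) (nat_lit 0x200000)
 (Net.cons (nat_lit 4) (nat_lit 0x802080e)
 (Net.cons (nat_lit 8) (nat_lit 0x640000)
 (Net.cons (nat_lit 16) 2500
 Net.nil)))))))))

noncomputable def ns_6 : Net :=
 (Net.cons (nat_lit 16) 17172
 (Net.cons (nat_lit 8) (nat_lit 0x190030)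
 (Net.cons (nat_lit 4) (nat_lit 0xb0c0008)
 (Net.cons (nat_lit 2) 131120
 (Net.cons (nat_lit 1) (nat_lit 0x50041410)
 (Net.cons (nat_lit 2) 8224
 (Net.cons (nat_lit 4) (nat_lit 0xa0c000c)
 (Net.cons (nat_lit 8) (nat_lit 0x180030)
 (Net.cons (nat_lit 16) 17332
 Net.nil)))))))))

noncomputable def ns_7 : Net :=
 (Net.cons (nat_lit 16) 27066
 (Net.cons (nat_lit 8) (nat_lit 0x110094)
 (Net.cons (nat_lit 4) (nat_lit 0x9020002)
 (Net.cons (nat_lit 2) (nat_lit 0x10032012)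
 (Net.cons (nat_lit 1) (nat_lit 0x10011044)
 (Net.cons (nat_lit 2) (nat_lit 0x20002000)
 (Net.cons (nat_lit 4) (nat_lit 0x80a000c)
 (Net.cons (nat_lit 8) (nat_lit 0x700094)
 (Net.cons (nat_lit 16) 27090
 Net.nil)))))))))

noncomputable def ns_8 : Net :=
 (Net.cons (nat_lit 16) 30600
 (Net.cons (nat_lit 8) (nat_lit 0xdb0000)
 (Net.cons (nat_lit 4) (nat_lit 0x6010800)
 (Net.cons (nat_lit 2) (nat_lit 0x13010020)
 (Net.cons (nat_lit 1) (nat_lit 0x41010040)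
 (Net.cons (nat_lit 2) (nat_lit 0x2000000)
 (Net.cons (nat_lit 4) 393224
 (Net.cons (nat_lit 8) (nat_lit 0xbc0000)
 (Net.cons (nat_lit 16) 30656
 Net.nil)))))))))

noncomputable def ns_9 : Net :=
 (Net.cons (nat_lit 16) 29560
 (Net.cons (nat_lit 8) (nat_lit 0x2500c0)
 (Net.cons (nat_lit 4) (nat_lit 0x302040a)
 (Net.cons (nat_lit 2) (nat_lit 0x13300022)
 (Net.cons (nat_lit 1) (nat_lit 0x14014010)
 (Net.cons (nat_lit 2) (nat_lit 0x2000020)
 (Net.cons (nat_lit 4) (nat_lit 0x4020802)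
 (Net.cons (nat_lit 8) (nat_lit 0x3400c0)
 (Net.cons (nat_lit 16) 29560
 Net.nil)))))))))

noncomputable def ns_10 : Net :=
 (Net.cons (nat_lit 16) 47088
 (Net.cons (nat_lit 8) (nat_lit 0xd40070)
 (Net.cons (nat_lit 4) (nat_lit 0x30b0800)
 (Net.cons (nat_lit 2) (nat_lit 0x2003000)
 (Net.cons (nat_lit 1) (nat_lit 0x4044040)
 (Net.cons (nat_lit 2) (nat_lit 0x2000000)
 (Net.cons (nat_lit 4) (nat_lit 0x4000800)
 (Net.cons (nat_lit 8) (nat_lit 0x440070)
 (Net.cons (nat_lit 16) 47088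
 Net.nil)))))))))

noncomputable def ns_11 : Net :=
 (Net.cons (nat_lit 16) 43264
 (Net.cons (nat_lit 8) (nat_lit 0xf100d0)
 (Net.cons (nat_lit 4) (nat_lit 0x80c0400)
 (Net.cons (nat_lit 2) (nat_lit 0x200200)
 (Net.cons (nat_lit 1) (nat_lit 0x50404400)
 (Net.cons (nat_lit 2) (nat_lit 0x200200)
 (Net.cons (nat_lit 4) (nat_lit 0x8040400)
 (Net.cons (nat_lit 8) (nat_lit 0xf000c0)
 (Net.cons (nat_lit 16) 43264
 Net.nil)))))))))

noncomputable def ns : List Net := [ModelM11.ns_0, ModelM11.ns_1, ns_2, ns_3, ns_4, ns_5, ns_6, ns_7, ns_8, ns_9, ns_10, ns_11]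

theorem ctx : Ctx 32 5 ns := ctx_of (by decide +kernel)

theorem lctx : LCtx 32 5 8 31 trN5 ns := lctx_of ctx trOK5 (by decide +kernel)

noncomputable def E : List ℕ → ℕ → ℕ := pfW0 32 5 8 31 trN5 ns

theorem hE : Evl 32 ns E := evl_pfW0 lctx

theorem geq : gen ModelM11.ns ModelM11.G_ss0 = gen ns [[0], [2]] :=
  gen_eq_of_take (ns := ModelM11.ns) (ns' := ns) (k := 2) rfl (ws := ModelM11.G_ss0) (by decide +kernel)

theorem hn : Nat.card (gen ns [[0], [2]]) = 7920 :=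
  geq ▸ ModelM11.G_card

theorem kn_0 : Known ns (gen ns [[0], [2]]) 3 :=
  known_gen (by decide +kernel)

noncomputable def A_S5 : List SD :=
  []

noncomputable def A_d4 : SD :=
  ⟨4, 1, [22], lab 1 1 0, 1⟩

noncomputable def A_S4 : List SD :=
  A_d4 :: A_S5

noncomputable def A_d3 : SD :=
  ⟨5, 1, [18, 20, 22], lab 3 7 (nat_lit 0x400010000000000000), 2⟩

noncomputable def A_S3 : List SD :=
  A_d3 :: A_S4

noncomputable def A_d2 : SD :=
  ⟨3, 1, [12, 14, 16, 18, 20, 22], lab 4 15 (nat_lit 0x3008100a500060000), 2⟩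

noncomputable def A_S2 : List SD :=
  A_d2 :: A_S3

noncomputable def A_d1 : SD :=
  ⟨2, 1, [6, 8, 10, 12, 14, 16, 18, 20, 22], lab 5 31 (nat_lit 0x140400001001ab0080400000), 2⟩

noncomputable def A_S1 : List SD :=
  A_d1 :: A_S2

noncomputable def A_d0 : SD :=
  ⟨1, 1, [0, 2, 4, 6, 8, 10, 12, 14, 16, 18, 20, 22], lab 5 31 (nat_lit 0x3415000e0002630100a28800), 2⟩

noncomputable def A_S0 : List SD :=
  A_d0 :: A_S1

theorem kn_1 : Known ns (gen ns [[0], [2]]) 4095 :=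
  kn_0.steps ctx (es := [(2, [0, 2, 0]),
 (3, [4, 3, 5, 3, 3, 5, 3, 1, 3, 0, 3]),
 (4, [5, 2, 4]),
 (5, [7, 8, 7, 7, 8, 8]),
 (6, [6, 10, 9, 11, 7]),
 (7, [7, 10, 6, 10, 7]),
 (8, [14, 13]),
 (9, [13, 16, 15, 12, 12, 12]),
 (10, [13, 13, 14, 12, 17, 14, 16, 13, 13, 17]),
 (11, [19, 20, 18, 20, 19, 20, 20, 18])]) (by decide +kernel)

theorem A_ex : Exact 32 ns A_S0 ∧ gen ns (sTop A_S0) = gen ns [[0], [2]] ∧ gen ns [[0], [2]] = gen ns [[0], [2]] :=
  exact_of_known ctx hn (le_rfl) kn_1 (by decide +kernel)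

theorem hbase : IsBase 32 (gen ns [[0], [2]]) [1, 2, 3, 5, 4] :=
  isBase_of_exact A_ex (by decide +kernel)

noncomputable def m2_P : Pd :=
  ⟨3, 2, 1, nat_lit 0x88008c808c60,
  nat_lit 0xffffffffffff000000000000000000000000ffffffffffffffffffffffff, 25, 2, 20,
  nat_lit 0x30000000200010000⟩

noncomputable def m2_aws : List (List ℕ) :=
  [[22, 12, 18], [10, 12], [17, 6, 12, 12, 18, 22], [8, 17, 20, 18, 22], [19, 7, 17, 20, 22], [0]]

theorem m2_mem : ∀ u ∈ m2_aws, wp ns u ∈ gen ns [[0], [2]] :=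
  kn_1.words (by decide +kernel)

noncomputable def m2_prs : Prs :=
  [(4, 1, 8), (5, 2, 4), (5, 8, 8), (5, 4, 2)]

noncomputable def m2_rels : List Rel :=
  [.fus 4 [0, 0] [] [1, 3841],
  .con 2 1 1 [1793],
  .con 4 2 2 [2817],
  .fus 5 [1, 1] [2] [1281, 2561, 4609],
  .con 4 0 0 [769, 3841],
  .con 4 1 1 [1793, 2817, 3841],
  .con 2 0 0 [513, 2561, 3841],
  .con 2 0 1 [769, 1537, 2561, 2817, 3841],
  .fus 5 [3, 1] [1, 3, 2] [3841, 4609]]

noncomputable def m2_ys : List (List ℕ) :=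
  [[],
  [],
  [257],
  [2561]]

noncomputable def m2_ss : List (List ℕ × ℕ × ℕ) :=
  []

noncomputable def m2_cs : List (List ℕ) :=
  [[(nat_lit 0x10000010101)],
  [0, (nat_lit 0x10000010001010100)],
  [(nat_lit 0x1010000010100), (nat_lit 0x100000100010000), 0],
  [(nat_lit 0x10100010100), 256, 65536, (nat_lit 0x10000010100)]]

noncomputable def m2_B : List (ℕ × ℕ × List (List ℕ)) :=
  [(2, 1, [[3], [2], [1], [0]]),
  (3, 1, [[0]])]

theorem m2_row0 : AllIn (fun j => m2_P.chkRow (eqB (Comp.evL E) [1, 2, 3, 5, 4] m2_aws) j = true) 0 4 :=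
  allIn_of_allFrom (a := 0) (n := 4) (by decide +kernel)

theorem m2_pr0 : AllIn (fun j => m2_P.chkPr (eqB (Comp.evL E) [1, 2, 3, 5, 4] m2_aws) (m2_prs.get j) = true) 0 4 :=
  allIn_of_allFrom (a := 0) (n := 4) (by decide +kernel)

theorem m2_rel0 : AllIn (fun k => m2_P.chkRel m2_prs (getL (Rel.con 0 0 0 []) m2_rels k) = true) 0 9 :=
  allIn_of_allFrom (a := 0) (n := 9) (by decide +kernel)

theorem m2_lin : m2_P.chkLin 0 m2_rels m2_ys m2_ss m2_cs = true :=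
  by decide +kernel

theorem m2_bound : MultBound 2 0 (gen ns [[0], [2]]) :=
  multBound_net ctx m2_mem hn (P := m2_P) (B := m2_B) (by norm_num [m2_P])
    (GOK.of_rows (eSound_eqB (evl_evL ctx.ok hE) hbase m2_mem) m2_row0 m2_pr0 (by decide +kernel))
    (rels_of_allIn m2_rel0 (by decide +kernel)) m2_lin (by decide +kernel) (by decide +kernel)

noncomputable def m3_P : Pd :=
  ⟨1, 3, 2, 64,
  0, 12, 3, 8,
  nat_lit 0x10000000100000000⟩

noncomputable def m3_aws : List (List ℕ) :=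
  [[6, 6, 22, 12], [17, 6, 22, 12, 18, 22], [17, 6, 20, 12, 20, 18, 22], [0]]

theorem m3_mem : ∀ u ∈ m3_aws, wp ns u ∈ gen ns [[0], [2]] :=
  kn_1.words (by decide +kernel)

noncomputable def m3_prs : Prs :=
  [(2, 1, 2), (2, 4, 8), (3, 4, 6), (3, 1, 2)]

noncomputable def m3_rels : List Rel :=
  [.fus 2 [0, 0, 0] [] [1],
  .fus 2 [1, 1, 1] [] [769],
  .fus 3 [2, 3] [3, 2] [257]]

noncomputable def m3_ys : List (List ℕ) :=
  [[],
  []]

noncomputable def m3_ss : List (List ℕ × ℕ × ℕ) :=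
  []

noncomputable def m3_cs : List (List ℕ) :=
  [[2],
  [131072, 512]]

noncomputable def m3_B : List (ℕ × ℕ × List (List ℕ)) :=
  [(2, 1, [[1], [1], [0], [0]])]

theorem m3_row0 : AllIn (fun j => m3_P.chkRow (eqB (Comp.evL E) [1, 2, 3, 5, 4] m3_aws) j = true) 0 2 :=
  allIn_of_allFrom (a := 0) (n := 2) (by decide +kernel)

theorem m3_pr0 : AllIn (fun j => m3_P.chkPr (eqB (Comp.evL E) [1, 2, 3, 5, 4] m3_aws) (m3_prs.get j) = true) 0 4 :=
  allIn_of_allFrom (a := 0) (n := 4) (by decide +kernel)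

theorem m3_rel0 : AllIn (fun k => m3_P.chkRel m3_prs (getL (Rel.con 0 0 0 []) m3_rels k) = true) 0 3 :=
  allIn_of_allFrom (a := 0) (n := 3) (by decide +kernel)

theorem m3_lin : m3_P.chkLin 0 m3_rels m3_ys m3_ss m3_cs = true :=
  by decide +kernel

theorem m3_bound : MultBound 3 0 (gen ns [[0], [2]]) :=
  multBound_net ctx m3_mem hn (P := m3_P) (B := m3_B) (by norm_num [m3_P])
    (GOK.of_rows (eSound_eqB (evl_evL ctx.ok hE) hbase m3_mem) m3_row0 m3_pr0 (by decide +kernel))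
    (rels_of_allIn m3_rel0 (by decide +kernel)) m3_lin (by decide +kernel) (by decide +kernel)

theorem bounds : ∀ x ∈ ([(2, 0), (3, 0)] : List (ℕ × ℕ)), MultBound x.1 x.2 (gen ns [[0], [2]]) :=
  List.forall_mem_cons.2 ⟨m2_bound, List.forall_mem_cons.2 ⟨m3_bound, fun _ h => absurd h List.not_mem_nil⟩⟩

theorem mult_of : ∀ {A : Type} [CommGroup A], Nat.card A = 1 → MultOnto (gen ModelM11.ns ModelM11.G_ss0) A →
    HasSchurMultiplier (gen ModelM11.ns ModelM11.G_ss0) A :=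
  fun ha h => hasMult_of_list ModelM11.G_card ha (geq ▸ bounds) (by decide +kernel) h

end Cfsg.Agent.Spor.MultM11
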