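import Cfsg.Agent.Spor.M24Sub
import Cfsg.Agent.Comp.OrbDec
import Cfsg.Prelude.Def_SporadicCombinatorics

/-!
Sextets and trios: numbers, transitivity of `M24`, enumeration by trees, intersection invariants.
-/

set_option autoImplicit false
set_option maxRecDepth 100000

namespace Cfsg.Agent.Spor.M24C

open Cfsg Cfsg.Agent.Comp Cfsg.Agent.Spor
open scoped Pointwise

theorem card_famOf {k x : ℕ} (h : ∀ i < k, ∀ j < k, mem24 x i = mem24 x j → i = j) :
    (famOf k x).card = k := by
  have : famOf k x = (Finset.range k).image fun j => setOf' (mem24 x j) := by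
    ext s; simp [mem_famOf]
  rw [this, Finset.card_image_of_injOn, Finset.card_range]
  intro i hi j hj e
  exact h i (Finset.mem_range.1 hi) j (Finset.mem_range.1 hj)
    (setOf'_inj (mem24_lt _ _) (mem24_lt _ _) e)

theorem smul_mem_sextets (g : M24) {S : Finset (Finset GolayPt)} (hS : S ∈ sextets) :
    g • S ∈ sextets := by
  refine ⟨by rw [Finset.card_smul_finset]; exact hS.1, fun t ht => ?_, fun t ht u hu hne => ?_⟩
  · obtain ⟨t, ht', rfl⟩ := Finset.mem_smul_finset.1 ht
    rw [Finset.card_smul_finset]; exact hS.2.1 t ht'
  · obtain ⟨t, ht', rfl⟩ := Finset.mem_smul_finset.1 ht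
    obtain ⟨u, hu', rfl⟩ := Finset.mem_smul_finset.1 hu
    rw [← Finset.smul_finset_union, smul_mem_octads_iff]
    exact hS.2.2 t ht' u hu' fun e => hne (by rw [e])

theorem smul_mem_sextets_iff (g : M24) {S : Finset (Finset GolayPt)} :
    g • S ∈ sextets ↔ S ∈ sextets :=
  ⟨fun h => by rw [← inv_smul_smul g S]; exact smul_mem_sextets _ h, smul_mem_sextets g⟩

theorem smul_mem_trios (g : M24) {S : Finset (Finset GolayPt)} (hS : S ∈ trios) :
    g • S ∈ trios := by
  refine ⟨by rw [Finset.card_smul_finset]; exact hS.1, fun t ht => ?_, fun t ht u hu hne => ?_⟩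
  · obtain ⟨t, ht', rfl⟩ := Finset.mem_smul_finset.1 ht
    exact (smul_mem_octads_iff g).2 (hS.2.1 t ht')
  · obtain ⟨t, ht', rfl⟩ := Finset.mem_smul_finset.1 ht
    obtain ⟨u, hu', rfl⟩ := Finset.mem_smul_finset.1 hu
    rw [Finset.disjoint_iff_inter_eq_empty, ← Finset.smul_finset_inter, Finset.smul_finset_eq_empty,
      ← Finset.disjoint_iff_inter_eq_empty]
    exact hS.2.2 t ht' u hu' fun e => hne (by rw [e])

theorem smul_mem_trios_iff (g : M24) {S : Finset (Finset GolayPt)} :
    g • S ∈ trios ↔ S ∈ trios :=
  ⟨fun h => by rw [← inv_smul_smul g S]; exact smul_mem_trios _ h, smul_mem_trios g⟩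

/-- The packed family `x` is a sextet. -/
noncomputable def sexOK (x : ℕ) : Bool :=
  allLT 6 fun i => and' (Nat.beq (pop 24 (mem24 x i)) 4) (allLT 6 fun j => or' (Nat.beq i j)
    (force (Nat.lor (mem24 x i) (mem24 x j)) fun m => and' (isCW m) (Nat.beq (pop 24 m) 8)))

theorem famOf_mem_sextets {x : ℕ} (h : sexOK x = true) : famOf 6 x ∈ sextets := by
  simp only [sexOK, allLT_iff, and'_eq_true, or'_eq_true, beq_iff, force_eq] at h
  refine ⟨card_famOf fun i hi j hj e => ?_, forall_mem_famOf.2 fun j hj => ?_,
    forall_mem_famOf.2 fun i hi => forall_mem_famOf.2 fun j hj hne => ?_⟩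
  · rcases (h i hi).2 j hj with h1 | h1
    · exact h1
    · have h2 := (h i hi).1
      have h3 : Nat.lor (mem24 x i) (mem24 x j) = mem24 x i := by rw [← e]; exact Nat.or_self _
      rw [h3] at h1
      omega
  · rw [card_setOf', (h j hj).1]
  · rcases (h i hi).2 j hj with h1 | h1
    · exact absurd (by rw [h1]) hne
    · rw [← setOf'_lor]
      exact ⟨setOf'_mem_codeSets h1.1, by rw [card_setOf']; exact h1.2⟩

/-- The packed family `x` is a trio. -/
noncomputable def trioOK (x : ℕ) : Bool :=
  allLT 3 fun i => and' (and' (isCW (mem24 x i)) (Nat.beq (pop 24 (mem24 x i)) 8))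
    (allLT 3 fun j => or' (Nat.beq i j) (Nat.beq (Nat.land (mem24 x i) (mem24 x j)) 0))

theorem disjoint_setOf' {a b : ℕ} (h : a &&& b = 0) : Disjoint (setOf' a) (setOf' b) := by
  rw [Finset.disjoint_iff_inter_eq_empty, ← setOf'_land, h, setOf'_zero]

theorem famOf_mem_trios {x : ℕ} (h : trioOK x = true) : famOf 3 x ∈ trios := by
  simp only [trioOK, allLT_iff, or'_eq_true, beq_iff, and'_eq_true] at h
  refine ⟨card_famOf fun i hi j hj e => ?_, forall_mem_famOf.2 fun j hj => ?_,
    forall_mem_famOf.2 fun i hi => forall_mem_famOf.2 fun j hj hne => ?_⟩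
  · rcases (h i hi).2 j hj with h1 | h1
    · exact h1
    · have h2 := (h i hi).1.2
      have h3 : Nat.land (mem24 x i) (mem24 x j) = mem24 x i := by rw [← e]; exact Nat.and_self _
      rw [h3] at h1
      rw [h1] at h2
      exact absurd h2 (by decide +kernel)
  · exact ⟨setOf'_mem_codeSets (h j hj).1.1, by rw [card_setOf', (h j hj).1.2]⟩
  · rcases (h i hi).2 j hj with h1 | h1
    · exact absurd (by rw [h1]) hne
    · exact disjoint_setOf' h1

/-- The standard sextet, with tetrad masks `[15, 5264, 622848, 3416064, 4196928, 8536096]`. -/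
def sx0 : ℕ := 0x824020400a4034200009810000149000000f
/-- The standard trio, with octad masks `[5279, 8077824, 8694112]`. -/
def tr0 : ℕ := 0x84a9607b420000149f

theorem sx0_mem : famOf 6 sx0 ∈ sextets := famOf_mem_sextets (by decide +kernel)

theorem tr0_mem : famOf 3 tr0 ∈ trios := famOf_mem_trios (by decide +kernel)

theorem disjoint_of_mem_sextet {S : Finset (Finset GolayPt)} (hS : S ∈ sextets)
    {t u : Finset GolayPt} (ht : t ∈ S) (hu : u ∈ S) (hne : t ≠ u) : Disjoint t u := by
  have h1 : (t ∪ u).card = 8 := (hS.2.2 t ht u hu hne).2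
  have h2 := Finset.card_union_add_card_inter t u
  rw [h1, hS.2.1 t ht, hS.2.1 u hu] at h2
  rw [Finset.disjoint_iff_inter_eq_empty, ← Finset.card_eq_zero]
  omega

theorem sextet_eq_sx0 {S : Finset (Finset GolayPt)} (hS : S ∈ sextets) (h : setOf' 15 ∈ S) :
    S = famOf 6 sx0 := by
  have key : ∀ o ∈ codeSets, o.card = 8 → setOf' 15 ⊆ o → symmDiff o (setOf' 15) ∈ famOf 6 sx0 := by
    have : allB 4096 (fun a => force (enc a) fun m => or' (not' (Nat.beq (pop 24 m) 8))
      (or' (not' (Nat.beq (Nat.land 15 m) 15))
        (anyLT 6 fun j => Nat.beq (mem24 sx0 j) (Nat.xor m 15)))) = true := by decide +kernel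
    simp only [allB_iff, force_eq, or'_eq_true, not'_eq_true, beq_iff, anyLT_iff] at this
    apply forall_codeSets
    intro a ha h1 h2
    rw [card_setOf'] at h1
    rw [setOf'_subset_iff (by norm_num)] at h2
    rw [← setOf'_xor, setOf'_mem_famOf_iff (Nat.xor_lt_two_pow (enc_lt ha) (by norm_num))]
    exact ((this a ha).resolve_left (not_not.2 h1)).resolve_left (not_not.2 h2)
  refine Finset.eq_of_subset_of_card_le (fun u hu => ?_) (by rw [hS.1, sx0_mem.1])
  by_cases e : setOf' 15 = u
  · rw [← e, setOf'_mem_famOf_iff (by norm_num)]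
    exact ⟨0, by norm_num, by decide +kernel⟩
  · have h1 := hS.2.2 _ h u hu e
    have h2 := key _ h1.1 h1.2 Finset.subset_union_left
    have h3 := disjoint_of_mem_sextet hS h hu e
    convert h2 using 1
    ext p
    have : p ∈ setOf' 15 → p ∉ u := fun h => Finset.disjoint_left.1 h3 h
    simp only [Finset.mem_symmDiff, Finset.mem_union]
    tauto

theorem existsUnique_sextet {t : Finset GolayPt} (ht : t.card = 4) : ∃! S, S ∈ sextets ∧ t ∈ S := by
  obtain ⟨g, rfl⟩ := exists_smul_finset (s := setOf' 15) (t := t) (by decide +kernel)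
    (by rw [ht]; decide +kernel)
  refine ⟨g • famOf 6 sx0, ⟨smul_mem_sextets g sx0_mem, Finset.smul_mem_smul_finset ?_⟩, ?_⟩
  · rw [setOf'_mem_famOf_iff (by norm_num)]
    exact ⟨0, by norm_num, by decide +kernel⟩
  · rintro S ⟨hS, h⟩
    rw [← sextet_eq_sx0 (smul_mem_sextets g⁻¹ hS) (by
      rw [← inv_smul_smul g (setOf' 15)]; exact Finset.smul_mem_smul_finset h), smul_inv_smul]

theorem sextet_eq_of_mem {S S' : Finset (Finset GolayPt)} (hS : S ∈ sextets) (hS' : S' ∈ sextets)
    {t : Finset GolayPt} (h : t ∈ S) (h' : t ∈ S') : S = S' :=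
  (existsUnique_sextet (hS.2.1 t h)).unique ⟨hS, h⟩ ⟨hS', h'⟩

theorem exists_smul_sextet_tetrad {S S' : Finset (Finset GolayPt)} (hS : S ∈ sextets)
    (hS' : S' ∈ sextets) {t t' : Finset GolayPt} (ht : t ∈ S) (ht' : t' ∈ S') :
    ∃ g : M24, g • t = t' ∧ g • S = S' := by
  obtain ⟨g, rfl⟩ := exists_smul_finset (s := t) (t := t') (by rw [hS.2.1 t ht]; norm_num)
    (by rw [hS.2.1 t ht, hS'.2.1 t' ht'])
  exact ⟨g, rfl, sextet_eq_of_mem (smul_mem_sextets g hS) hS' (Finset.smul_mem_smul_finset ht) ht'⟩

theorem exists_smul_sextet {S S' : Finset (Finset GolayPt)} (hS : S ∈ sextets)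
    (hS' : S' ∈ sextets) : ∃ g : M24, g • S = S' := by
  obtain ⟨t, ht⟩ := Finset.card_pos.1 (show 0 < S.card by rw [hS.1]; norm_num)
  obtain ⟨t', ht'⟩ := Finset.card_pos.1 (show 0 < S'.card by rw [hS'.1]; norm_num)
  obtain ⟨g, -, h⟩ := exists_smul_sextet_tetrad hS hS' ht ht'
  exact ⟨g, h⟩

theorem ncard_sextets : sextets.ncard = 1771 := by
  classical
  have hfin : sextets.Finite := Set.toFinite _
  have h1 : (Finset.univ : Finset GolayPt).powersetCard 4 = hfin.toFinset.biUnion id := by
    ext t
    simp only [Finset.mem_powersetCard, Finset.subset_univ, true_and, Finset.mem_biUnion,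
      Set.Finite.mem_toFinset, id]
    exact ⟨fun h => (existsUnique_sextet h).exists, fun ⟨S, hS, h⟩ => hS.2.1 t h⟩
  have h2 := congrArg Finset.card h1
  rw [Finset.card_powersetCard, Finset.card_univ, card_golayPt, Finset.card_biUnion,
    Finset.sum_const_nat (m := 6) fun S hS => ((Set.Finite.mem_toFinset _).1 hS).1,
    ← Set.ncard_eq_toFinset_card _ hfin, show Nat.choose 24 4 = 10626 by decide +kernel] at h2
  · omega
  · intro S hS S' hS' hne
    rw [Function.onFun, id, id, Finset.disjoint_left]
    intro t h h'
    exact hne (sextet_eq_of_mem ((Set.Finite.mem_toFinset _).1 hS)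
      ((Set.Finite.mem_toFinset _).1 hS') h h')

theorem orbit_sextet {S : Finset (Finset GolayPt)} (hS : S ∈ sextets) :
    MulAction.orbit M24 S = sextets := by
  ext s
  exact ⟨fun ⟨g, hg⟩ => hg ▸ smul_mem_sextets g hS, fun hs => exists_smul_sextet hS hs⟩

theorem card_stabilizer_sextet {S : Finset (Finset GolayPt)} (hS : S ∈ sextets) :
    Nat.card (MulAction.stabilizer M24 S) = 138240 :=
  card_stabilizer_of_orbit S (by rw [orbit_sextet hS, ncard_sextets]) (by norm_num) (by norm_num)

theorem trio_eq {T : Finset (Finset GolayPt)} (hT : T ∈ trios) {o o' : Finset GolayPt}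
    (ho : o ∈ T) (ho' : o' ∈ T) (hne : o ≠ o') : T = {o, o', (o ∪ o')ᶜ} := by
  refine Finset.eq_of_subset_of_card_le (fun u hu => ?_) (by rw [hT.1]; exact Finset.card_le_three)
  simp only [Finset.mem_insert, Finset.mem_singleton]
  by_cases h1 : u = o
  · exact Or.inl h1
  by_cases h2 : u = o'
  · exact Or.inr (Or.inl h2)
  refine Or.inr (Or.inr (Finset.eq_of_subset_of_card_le ?_ ?_))
  · rw [Finset.subset_compl_iff_disjoint_right, Finset.disjoint_union_right]
    exact ⟨hT.2.2 u hu o ho h1, hT.2.2 u hu o' ho' h2⟩
  · rw [Finset.card_compl, Finset.card_union_of_disjoint (hT.2.2 o ho o' ho' hne), card_golayPt,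
      (hT.2.1 o ho).2, (hT.2.1 o' ho').2, (hT.2.1 u hu).2]

theorem exists_ne_mem_trio {T : Finset (Finset GolayPt)} (hT : T ∈ trios) (o : Finset GolayPt) :
    ∃ o' ∈ T, o ≠ o' := by
  obtain ⟨a, ha, b, hb, hab⟩ := Finset.one_lt_card.1 (show 1 < T.card by rw [hT.1]; norm_num)
  by_cases h : o = a
  · exact ⟨b, hb, h ▸ hab⟩
  · exact ⟨a, ha, h⟩

/-- The fifteen trios through the standard octad. -/
def tri15 : List ℕ := [0x84a9607b420000149f, 0x8bc120742a4000149f, 0x97824068692000149f, 0x98ea0067016000149f, 0xa54b005aa06000149f, 0xaa234055c82000149f, 0xb66020498b4000149f, 0xb9086046e30000149f, 0xc24a603da10000149f, 0xcd222032c94000149f, 0xd161402e8a2000149f, 0xde090021e26000149f, 0xe3a8001c436000149f, 0xecc040132b2000149f, 0xf083200f684000149f]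

theorem famOf_three (x : ℕ) :
    famOf 3 x = {setOf' (mem24 x 0), setOf' (mem24 x 1), setOf' (mem24 x 2)} := by
  ext s
  simp only [mem_famOf, Finset.mem_insert, Finset.mem_singleton, Nat.exists_lt_succ_right,
    Nat.not_lt_zero, false_and, exists_false, false_or, or_assoc, eq_comm]

theorem enum_tri15 : Enumerates (famOf 3) tri15 {T | T ∈ trios ∧ setOf' 5279 ∈ T} := by
  have h1 : allL tri15 (fun x => and' (trioOK x) (Nat.beq (mem24 x 0) 5279)) = true := by
    decide +kernel
  simp only [allL_iff, and'_eq_true, beq_iff] at h1
  have h2 : allB 4096 (fun a => force (enc a) fun m => or' (not' (Nat.beq (pop 24 m) 8))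
      (or' (not' (Nat.beq (Nat.land 5279 m) 0))
        (anyL tri15 fun x => anyLT 3 fun j => Nat.beq (mem24 x j) m))) = true := by decide +kernel
  simp only [allB_iff, force_eq, or'_eq_true, not'_eq_true, beq_iff, anyLT_iff, anyL_iff] at h2
  have h3 : (tri15.map (keyF 3)).Nodup := by decide +kernel
  have hm : ∀ x ∈ tri15, setOf' 5279 ∈ famOf 3 x := fun x hx =>
    (setOf'_mem_famOf_iff (by norm_num)).2 ⟨0, by norm_num, (h1 x hx).2⟩
  refine ⟨?_, fun T => ⟨?_, ?_⟩⟩
  · apply List.Nodup.of_map famKey
    rw [List.map_map]
    convert h3 using 2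
    funext x
    exact (keyF_eq 3 x).symm
  · rintro ⟨hT, ho⟩
    obtain ⟨o', ho', hne⟩ := exists_ne_mem_trio hT (setOf' 5279)
    obtain ⟨a, ha, rfl⟩ := (mem_codeSets_iff_enc o').1 (hT.2.1 o' ho').1
    have h4 : pop 24 (enc a) = 8 := by rw [← card_setOf']; exact (hT.2.1 _ ho').2
    have h5 : Nat.land 5279 (enc a) = 0 := by
      apply setOf'_inj (Nat.and_lt_two_pow _ (enc_lt ha)) (by norm_num)
      rw [setOf'_land, setOf'_zero, ← Finset.disjoint_iff_inter_eq_empty]
      exact hT.2.2 _ ho _ ho' hne
    obtain ⟨x, hx, hj⟩ := ((h2 a ha).resolve_left (not_not.2 h4)).resolve_left (not_not.2 h5)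
    refine ⟨x, hx, ?_⟩
    rw [trio_eq hT ho ho' hne, trio_eq (famOf_mem_trios (h1 x hx).1) (hm x hx)
      ((setOf'_mem_famOf_iff (enc_lt ha)).2 hj) hne]
  · rintro ⟨x, hx, rfl⟩
    exact ⟨famOf_mem_trios (h1 x hx).1, hm x hx⟩

theorem _root_.Cfsg.Agent.Comp.Enumerates.ncard_eq {α : Type*} {val : ℕ → α} {l : List ℕ}
    {S : Set α} (h : Enumerates val l S) : S.ncard = l.length := by
  have := h.ncard_sep (fun _ => True) (fun _ => true) (fun _ _ => by simp)
  simpa using this

theorem ncard_trios_mem {o : Finset GolayPt} (ho : o ∈ octads) :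
    {T | T ∈ trios ∧ o ∈ T}.ncard = 15 := by
  obtain ⟨g, rfl⟩ := exists_smul_octad o0_mem ho
  rw [ncard_eq_of_smul g (P := fun T => T ∈ trios ∧ setOf' 5279 ∈ T)
    (fun T => by rw [smul_mem_trios_iff, Finset.smul_mem_smul_finset_iff]), enum_tri15.ncard_eq]
  rfl

theorem ncard_trios : trios.ncard = 3795 := by
  classical
  have hfin : trios.Finite := Set.toFinite _
  have hfin' : octads.Finite := Set.toFinite _
  have := Finset.card_mul_eq_card_mul (s := hfin.toFinset) (t := hfin'.toFinset)
    (fun T o => o ∈ T) (m := 3) (n := 15) (fun T hT => by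
      rw [Set.Finite.mem_toFinset] at hT
      rw [← hT.1]
      congr 1
      ext o
      simp only [Finset.bipartiteAbove, Finset.mem_filter, Set.Finite.mem_toFinset]
      exact ⟨fun h => h.2, fun h => ⟨hT.2.1 o h, h⟩⟩) (fun o ho => by
      rw [Set.Finite.mem_toFinset] at ho
      rw [← ncard_trios_mem ho, ← Set.ncard_coe_finset]
      congr 1
      ext T
      simp [Finset.bipartiteBelow])
  rw [← Set.ncard_eq_toFinset_card _ hfin, ← Set.ncard_eq_toFinset_card _ hfin', ncard_octads]
    at this
  omega

/-- Codes of the three standard generators. -/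
def cT : ℕ := 956302485175575353788796878166559809
/-- Codes of the three standard generators. -/
def cP : ℕ := 1795248432537898728475572672376535
/-- Codes of the three standard generators. -/
def cC : ℕ := 974380510768821363662145534143076928

theorem okM_cT : okM cT = true := by decide +kernel
theorem okM_cP : okM cP = true := by decide +kernel
theorem okM_cC : okM cC = true := by decide +kernel

open Cfsg.Agent.Comp.T3 in
local notation "E" => T3.N T3.L T3.L T3.L

open Cfsg.Agent.Comp.T3 in
/-- A spanning tree of the trios. -/
def trioTree : T3 := (N (N (N (N (N (N (N L L (N (N (N E L E) (N E L L) L) L L)) (N (N L (N L L (N (N L E E) L L)) (N L L (N E L E))) L (N (N E (N (N L L E) L E) E) L (N L L (N E L L)))) (N (N (N L E (N (N E L L) L (N E L L))) (N (N E E L) L L) (N (N E L L) L L)) L (N (N (N E L E) L L) L (N L L (N E L L))))) (N (N (N (N (N (N L E L) (N L L E) (N E L L)) L (N L L (N L L E))) E L) (N L L E) E) L (N (N L (N (N L E (N L L E)) L (N (N L E L) L L)) E) L L)) (N (N L (N (N (N L E L) L (N L L E)) L (N (N E L E) L (N L L (N L L E)))) (N (N (N L (N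 E L L) L) E E) L (N (N L (N E L L) L) L (N E L E)))) L L)) (N (N (N (N (N (N E L E) (N E L L) L) L L) (N (N (N E L L) E L) L (N (N (N L L E) L (N E L L)) L (N E L L))) (N (N E L E) L (N (N (N L L E) (N E L L) L) L (N E L E)))) (N L L (N E L (N L L (N (N L E L) L L)))) (N E L (N (N L (N (N L E E) L L) E) L (N (N E E (N E L L)) L L)))) L (N (N (N L (N (N (N E E L) L E) L (N E L E)) (N E L E)) (N L L (N (N L L (N E L L)) L (N L L E))) (N L L (N (N L (N E L E) E) L (N L L E)))) L (N (N E (N (N E L E) L (N L L E)) (N E L E)) L (N (N (N (N L E L) L L) E (N L L E)) L (N (N (N L L E) (N L L E) (N E L L)) L L))))) (N (N (N E (N L L (N (N L E E) L L)) (N (N E (N E L (N L L E)) (N L L E)) L L)) (N (N (N (N L (N L L E) E) L L) (N L L E) (N E L (N E L E))) L (N L L (N (N L E L) L L))) (N (N (N (N L E L) (N L L E) E) (N (N L E L) L E) (N (N E E L) L L)) L (N (N (N L E E) E E) L (N E L E)))) L (N (N (N (N E (N (N E L E) L E) (N E L (N E L L))) (N L L (N (N L E L) L E)) (N E L E)) (N (N (N E L L) (N L L E) (N L L (N E L E))) L (N (N E (N E L L) L) L L)) (N (N L (N L L E) E) L L))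 L (N (N L (N (N L E L) L (N E L L)) (N (N (N L (N L L E) E) L L) L L)) L (N (N (N E L E) (N E L L) L) L L))))) (N (N (N (N (N (N (N L L E) E L) (N L L (N E L L)) (N L L (N E L L))) L (N (N E L L) L (N (N E E L) L E))) (N (N (N (N L L E) L E) (N L L (N E L L)) (N (N E L L) L E)) L (N (N (N L E L) L E) L (N E L E))) (N (N (N (N L L E) L (N E L L)) L (N (N E L L) L (N E L L))) L (N (N (N L (N L L E) E) (N E L E) E) L E))) (N L L (N (N L (N (N E L L) L L) (N L L (N E L E))) L (N (N E (N L L E) (N (N L E L) L E)) L (N E L L)))) (N (N (N (N (N L (N L L E) E) L (N L L E)) (N L L E) (N E L (N (N E L L) L (N L L E)))) (N (N (N E L L) E (N L L E)) L (N L L E)) (N (N (N L L E) E (N (N L E L) L L)) L E)) L (N (N (N (N L L E) L (N (N E L L) L L)) (N (N E L L) L (N L L (N (N L E L) L L))) (N (N E (N E L L) (N L L E)) L (N (N E L L) L E))) L (N (N E E L) L L)))) L (N (N (N (N (N (N E L (N E L L)) (N (N L L E) L E) E) (N L L (N E L E)) (N L L (N L L E))) (N E L E) (N (N (N L L E) (N L L (N (N E L L) L E)) (N L L E)) L (N (N L L E) L (N L L E)))) (N (N L L (N L L (N E L L))) L (N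 (N E L E) L (N E L L))) (N (N (N L (N E L L) L) (N (N E L (N E L L)) L L) E) L (N (N L L E) L L))) L (N (N (N (N E (N L L (N L L E)) (N E L (N L L E))) (N E L (N L L E)) (N L L (N L L (N L L E)))) (N (N L E (N L L E)) L (N (N L E L) L E)) (N (N (N L L E) L (N E L L)) L (N (N E E (N E L L)) L L))) L (N (N (N (N E E E) E E) (N (N (N E L L) E L) L E) (N (N E L L) L L)) L E)))) (N (N (N (N L (N (N L (N L L (N E L L)) E) L (N L L E)) (N (N (N E E L) (N E L L) L) L (N (N L L (N E L L)) L (N L L E)))) (N (N (N L L (N L L E)) L (N (N L E L) L (N L L E))) L (N (N (N L (N E L L) E) (N E L E) (N E L L)) L (N (N L L E) L E))) (N (N (N L (N E L L) L) (N (N L L E) L L) (N (N L E E) L E)) L (N (N E L L) L (N (N L E E) L L)))) (N L L (N (N (N (N L E E) (N L L E) (N L L (N E L L))) (N (N L E E) L E) E) L (N (N (N L (N L L E) (N E L E)) (N E L L) E) L (N L L E)))) (N (N (N (N (N E E L) E L) E (N L L (N L L E))) (N (N L L (N E L (N L L E))) L (N (N E L E) L (N L L E))) (N (N (N L E L) (N E L (N E L L)) (N L L E)) L (N (N L (N E L L) E) L E))) L (N (N (N (N E L L) (N E L L) L) (N (N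 E E L) L E) (N (N (N L E L) E L) L L)) L (N (N E L E) L (N E L L))))) L (N (N (N (N (N L E L) (N (N E L E) L L) E) (N (N E L L) L E) (N (N E E L) L L)) (N (N (N L (N E L E) E) E L) L (N (N L L (N L L E)) L (N (N L (N L L E) E) L L))) (N (N (N L L (N (N E L L) L L)) (N E L (N L L (N E L L))) (N (N L E L) L E)) L (N (N (N E L E) E L) L (N L L E)))) L (N (N (N (N L (N (N L L E) L L) L) (N L L (N (N L E L) L L)) (N (N E L L) L E)) L (N (N (N (N L L E) L L) L L) L (N E L E))) L (N (N (N (N L L E) E L) L (N E L (N (N L E L) L E))) L L))))) (N (N (N (N (N (N E L (N (N L L E) L (N L L (N L L E)))) (N (N (N (N L L E) E E) E L) L (N (N E E L) L L)) (N (N E L L) L (N L L (N L L E)))) (N (N (N (N L E L) E L) (N L L (N E L E)) (N L L (N E L L))) L (N (N E L E) L (N (N L L (N E L L)) L E))) (N (N (N L E (N E L E)) E (N E L E)) L (N (N E L L) L E))) (N (N (N (N L (N E L L) L) (N (N E L E) L E) (N L L (N E L E))) (N L L (N L L E)) (N (N (N L E L) L L) L E)) L (N L L (N L L (N L L (N E L L))))) (N (N (N L L (N L L (N L L E))) (N L L (N L L (N L L E))) (N (N (N L L E) (N E L L) L)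 L (N E L (N E L E)))) L (N (N (N (N (N L E E) E L) L (N E L E)) L (N (N L L E) L L)) L L))) (N L L (N L L (N (N (N (N L L (N E L L)) E E) E L) L (N E L (N (N L (N L L E) E) L L))))) (N (N (N (N (N (N L L (N L L E)) L E) L (N (N E L L) L L)) (N (N (N L L E) E L) L (N L L E)) (N (N (N E L E) L L) L (N (N E L L) L L))) (N (N (N (N L E E) L E) L (N L L (N L L E))) L (N E L L)) (N (N L L E) L (N (N (N E (N L L E) (N E L L)) (N L L (N E L L)) E) L (N L L E)))) L (N (N (N (N (N (N L E L) L E) E (N E L E)) (N L L (N L L (N L L E))) (N (N L (N E L L) L) L (N L L E))) L (N (N L (N L L E) (N E L E)) L (N (N E L L) L L))) L (N (N (N (N E E E) E E) (N E L E) (N (N L L E) L (N (N L E L) L L))) L (N (N E E L) L L))))) L (N (N (N (N (N L (N E L (N E L L)) (N E L (N L L (N L L E)))) (N (N L L (N (N L E L) L (N L L E))) L (N (N L L E) L L)) (N (N (N (N E L L) L L) L L) L L)) (N (N L E L) L (N L L (N (N E L E) L (N (N L L E) L E)))) (N (N (N (N L (N L L E) E) (N (N E L E) L L) (N L L (N E L L))) (N (N L L E) L L) L) L (N (N (N E E L) (N E L L) (N L L E)) L (N L L (N E L L))))) (N (N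 (N (N (N E L L) L (N L L E)) L (N (N L L E) L E)) (N L L (N (N (N L L E) E E) L E)) (N (N (N L L (N E L L)) L E) L (N L L (N E L L)))) L (N (N E L (N (N L E E) L (N L L E))) L (N (N L (N L L E) (N L L E)) L (N (N L L E) L (N E L L))))) (N (N (N (N L L (N E L L)) (N E L (N L L E)) (N (N (N E L L) L E) L E)) (N (N (N L (N L L E) E) L L) L (N (N L E E) L L)) E) L (N (N (N L L (N L L E)) (N (N E L E) L L) L) L (N (N (N E E L) L (N E L E)) L (N E L L))))) L (N (N (N (N L L (N (N L E L) L (N L L E))) (N (N (N (N E E L) E E) E E) L (N E L L)) (N (N (N L E L) E (N L L E)) L (N (N L L (N L L E)) L L))) E (N L L (N (N (N E L L) (N L L E) (N E L L)) L (N L L E)))) L (N (N (N (N (N L L E) E E) (N (N E E L) L (N (N L L E) L L)) (N (N E L L) L E)) (N (N L L E) L (N E L L)) (N (N L E (N E L L)) L L)) L (N (N (N (N (N L L E) L E) (N E L L) L) (N (N E L L) L (N (N E L L) L L)) E) L L))))) (N (N (N (N (N L (N (N E L L) L (N (N (N L E L) L E) L (N E L L))) (N (N E (N L L E) E) L (N E L L))) (N (N (N E L E) (N L L E) (N (N E (N E L L) L) L L)) L L) (N (N E E (N (N L L (N L L E)) L E))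 L (N (N L E L) L L))) (N (N (N (N (N E L E) (N L L E) E) (N (N L E L) L E) (N E L L)) E (N (N L L (N E L L)) L L)) L (N (N (N E L E) E E) L (N L L (N (N E E L) L E)))) (N (N (N (N L E L) (N E L L) (N L L E)) (N (N L E L) L (N (N L L E) L L)) (N (N (N L E L) (N E L L) (N L L E)) L L)) L (N (N L (N (N L E L) L (N E L L)) (N L L (N L L E))) L (N (N (N E E E) L (N L L E)) L E)))) (N (N (N (N (N L (N E L L) L) (N (N L L E) L E) (N (N L L (N E L E)) L L)) (N (N E E (N (N L L E) L L)) L E) (N (N L (N E L L) (N E L L)) L E)) (N L L (N (N L (N L L E) (N L L E)) L E)) (N (N (N E (N L L E) (N L L E)) (N E L E) (N (N (N L L E) L L) L L)) L (N (N L L (N L L E)) L L))) L (N (N (N (N (N L L E) (N E L E) (N E L (N E L L))) (N L L E) (N (N (N L E L) E E) L L)) E (N (N (N L E L) L E) L L)) L (N (N (N L (N L L E) (N E L L)) (N (N E L L) L L) (N L L E)) L L))) (N (N (N (N (N (N (N L E L) L (N E L L)) E (N (N E L L) L L)) (N (N E L E) L E) (N (N (N L L E) L L) L L)) (N (N L L (N E L E)) L (N (N (N L L E) E L) L (N E L E))) (N (N L L E) L (N E L E))) (N (N L L (N L L (N E L L))) L (N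 (N E (N L L E) (N E L L)) L (N (N (N L L E) E L) L L))) (N (N (N L L (N (N L L E) L L)) (N (N E L L) L E) (N E L L)) L (N (N (N E L E) (N E L L) L) L (N E L E)))) L (N (N (N (N L E E) L E) (N E L E) (N (N L E L) L L)) L L))) L (N (N (N (N (N (N (N L (N L L E) E) E L) E L) (N (N L (N L L E) E) L (N (N L E E) L (N (N L L E) L E))) (N (N L L E) L (N L L (N L L E)))) (N L L (N (N (N E L L) L (N L L E)) L (N (N E E L) L L))) (N (N L (N L L (N E L L)) (N E L (N E L E))) L (N L L (N L L E)))) (N (N (N E L (N (N E L L) L (N L L E))) (N L L E) (N (N L (N (N E L L) L E) E) L L)) L (N E L (N (N E E E) L (N E L L)))) (N (N (N E (N (N L L (N E L L)) L L) E) (N (N E L L) L L) L) L (N (N (N E L L) L L) L (N (N (N L E (N L L E)) L L) L L)))) L (N (N (N (N (N (N L L E) (N L L E) E) (N E L (N (N E L L) L L)) E) (N (N E (N L L E) E) L E) E) (N (N L (N L L E) (N (N L E L) L L)) L (N (N L E E) L (N (N L L E) L E))) (N (N L (N E L L) L) L (N (N L E L) L (N (N L (N E L L) L) L L)))) L (N (N (N (N (N E L L) L (N L L E)) L (N E L E)) (N (N E L (N (N L E E) L E)) L (N L L E)) (N (N (N E L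 L) (N E L E) (N (N L L E) L L)) L (N (N E L L) L L))) L L))))) (N (N (N (N (N (N (N (N (N E L L) L E) (N (N L L E) L E) (N (N L L E) L E)) (N (N L E L) L E) (N (N L (N (N L E L) L L) E) L L)) (N (N L L (N E L (N L L (N E L L)))) L (N E L E)) (N (N (N L E L) (N (N L L E) L L) (N L L E)) L (N (N (N (N L E L) L E) E L) L (N E L E)))) (N (N (N L (N L L (N L L E)) (N L L (N L L E))) (N L L (N E L E)) (N L L E)) L (N (N (N E L L) (N L L (N E L L)) (N (N (N L L E) (N E L L) L) L L)) L (N (N E L (N E L L)) L (N (N L L (N L L E)) L E)))) (N (N L (N L L (N (N L L E) L E)) (N (N L L E) L E)) L (N (N L (N E L (N E L L)) (N E L L)) L (N (N E L E) L (N (N E L L) L L))))) (N (N (N (N (N L L (N E L L)) (N E L (N E L (N L L E))) (N L L (N L L E))) (N (N (N L L E) E L) L (N L L E)) (N (N E L E) L (N E L L))) E L) L (N (N (N L L E) (N (N (N L L E) E E) L (N (N L L E) L E)) (N (N (N E L E) L E) L (N (N L L E) L (N L L E)))) L (N (N L (N (N E E L) L E) (N E L L)) L (N (N E E E) L (N (N E L L) L L))))) (N (N (N (N E (N (N E L L) L (N E L L)) (N (N L E E) L E)) (N L L (N (N E E E) L (N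 L L (N L L E)))) (N E L (N (N E L L) L (N L L E)))) L (N L L (N (N (N L L E) (N L L E) (N L L E)) L E))) L (N (N (N (N L E L) L E) (N (N (N L L E) E L) L L) (N (N (N L L E) L L) L (N (N L L E) L L))) L (N (N (N L L E) (N (N L E L) L (N E L E)) (N (N E L L) L E)) L (N (N (N E L L) L E) L L))))) (N (N (N (N L (N E L (N (N L E E) L L)) (N (N L L E) L (N L L (N L L E)))) (N (N (N (N L E L) L E) (N L L (N L L E)) (N L L E)) L (N (N L L (N L L E)) L (N (N L E L) L L))) (N (N (N (N (N L L E) E L) (N E L E) E) E (N E L L)) L (N E L L))) (N L L (N (N (N (N L L (N L L E)) (N E L L) L) E L) L (N (N (N L L E) L L) L (N (N E L L) L E)))) (N (N (N (N (N L E E) E E) (N E L L) L) (N (N L (N L L E) (N E L E)) L (N (N L L E) L (N E L L))) (N (N (N E L L) L L) L (N L L E))) L (N L L (N E L E)))) L (N (N (N (N (N L E L) L L) (N E L E) E) (N (N L (N L L E) E) L (N (N (N E E L) L E) L (N L L (N L L E)))) (N (N (N (N E E L) (N E L E) E) E E) L (N (N L L E) L (N E L E)))) L (N (N (N (N E L L) (N L L (N L L E)) (N L L E)) L (N (N L E L) L L)) L (N (N (N L (N L L E) (N (N E L L) L L)) L (N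 (N L L E) L E)) L (N (N (N L E L) (N E L L) E) L L))))) (N (N (N (N (N L (N (N L L E) L (N E L E)) (N L L E)) (N L L E) (N (N E E L) L (N L L E))) (N (N (N (N L E E) (N E L L) E) E L) L (N (N L E L) L (N L L (N E L L)))) (N (N E (N E L (N E L L)) (N (N L L E) L (N E L L))) L (N (N (N E L L) E L) L E))) (N (N (N E E L) (N L L (N (N L E L) L E)) (N L L E)) L (N (N (N L (N E L L) L) (N E L (N E L L)) E) L (N (N (N L (N E L L) L) (N (N L L E) L L) (N L L E)) L E))) (N L L (N (N (N L (N L L E) (N E L L)) E E) L (N (N L L (N L L E)) L L)))) L (N (N (N (N L (N (N E L E) L E) E) E (N L L (N (N L L E) L L))) (N (N (N L L E) E E) L (N (N L L (N E L L)) L L)) (N (N (N L L E) (N L L (N E L L)) (N (N L E L) L L)) L L)) L (N (N (N (N E (N L L (N E L L)) (N L L E)) E (N L L (N E L L))) (N (N E L (N E L L)) L (N (N L E L) L L)) (N (N (N L E E) L E) L (N L L (N E L L)))) L (N (N E (N (N L E (N L L E)) L L) (N L L E)) L L))))) L (N (N (N (N (N (N (N E L (N E L L)) (N (N (N L E L) L L) L (N E L L)) (N E L L)) (N (N E E (N (N E L L) L L)) L E) (N (N L E (N E L L)) L (N (N L L (N L L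 E)) L E))) (N (N (N (N L L E) E (N L L E)) E L) L (N (N E E (N (N E L L) L (N E L L))) L E)) (N (N (N (N E L L) E E) L L) L (N (N E (N E L L) L) L L))) (N (N (N (N E L E) L (N (N E L L) L L)) E L) L (N (N (N L (N L L E) E) (N E L (N E L L)) (N (N E L L) L L)) L (N (N L L E) L L))) (N (N L (N (N L L (N E L L)) L (N (N E L L) L E)) (N (N L L (N L L E)) L (N L L (N E L L)))) L (N (N L (N E L L) L) L L))) (N (N (N (N (N L (N L L E) (N E L L)) E L) (N (N L E (N L L (N L L E))) L (N (N L L E) L L)) (N (N L L E) L L)) E (N (N (N E (N E L L) L) E (N E L L)) L (N (N L E L) L E))) L (N (N (N L (N E L (N L L E)) (N (N E L L) L E)) (N L L (N L L (N E L E))) (N L L (N (N L L E) L E))) L L)) (N (N (N (N L E L) (N (N E (N L L E) E) L (N L L E)) (N L L (N (N L E L) L L))) (N (N (N L L (N (N L E L) L E)) L (N L L (N E L L))) L (N E L L)) (N (N (N (N L E E) L E) (N L L E) (N (N E L L) L L)) L (N (N L E (N L L (N L L E))) L E))) L (N (N (N (N L L (N E L E)) (N L L (N L L E)) (N L L E)) L L) L (N (N (N (N E L L) (N E L L) (N E L L)) (N E L L) L) L (N (N L E L) L L))))) L (N (N (N (N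 (N E (N L L E) (N E L L)) (N (N E E L) L E) (N (N L E L) L L)) L (N (N (N L L E) L (N E L L)) L (N E L L))) (N (N (N E (N L L E) (N L L E)) L E) L (N L L (N L L (N L L (N E L L))))) (N (N L (N L L (N (N (N L E L) L E) L E)) (N L L E)) L (N (N (N E (N L L E) E) L (N E L L)) L (N (N L E L) L (N (N L L E) L L))))) L (N (N (N (N (N E (N L L E) (N L L E)) E L) (N (N (N L E L) L E) L (N L L (N L L E))) (N L L (N (N E E L) L (N E L E)))) (N (N L (N L L (N L L E)) (N E L E)) L (N (N E L E) L L)) (N (N (N E E L) E L) L (N (N L E L) L L))) L (N (N (N (N E L (N L L E)) (N E L (N L L (N L L E))) (N E L (N E L E))) (N E L (N L L E)) (N (N (N E L L) E E) L E)) L L))))) (N (N (N (N (N (N (N (N (N E L L) (N (N L L E) L L) L) (N L L (N E L L)) (N (N E L L) L L)) L (N (N L L E) L E)) (N (N (N (N L L E) L (N E L L)) L (N L L (N L L E))) L (N (N L (N L L E) (N E L E)) L E)) (N (N (N L L E) (N L L (N E L L)) (N L L E)) L (N E L L))) (N (N (N L (N (N E L L) L L) (N L L E)) E E) L (N (N (N (N L E L) L (N E L L)) E L) L (N (N (N E L L) E L) L (N L L (N (N E L L) L L))))) (N (N (N (N L L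 (N L L E)) (N E L E) (N E L L)) (N (N (N E L E) L L) L (N (N L L E) L E)) (N (N L (N E L L) L) L (N E L E))) L (N (N E E (N E L (N E L L))) L (N L L (N (N L E L) L L))))) (N (N (N (N (N E L E) L (N (N E L L) L L)) (N (N (N L L E) E E) L (N (N L E L) L E)) (N (N L L E) L (N E L L))) (N L L (N (N E E L) L (N (N L E E) L (N E L E)))) (N (N (N L L E) L E) L (N (N L L E) L (N L L E)))) L (N (N (N L (N (N L E L) L (N L L E)) (N (N L L E) L (N E L L))) (N E L (N E L L)) (N (N L E E) L E)) L (N (N (N L E L) (N E L E) (N L L E)) L (N E L E)))) (N (N L (N (N (N E L (N (N E L L) L L)) L L) L (N (N L L (N L L E)) L L)) (N (N E (N L L E) (N (N L E E) L (N L L E))) L L)) L (N (N (N L (N (N E E L) L L) E) (N (N (N L E L) E L) L L) (N (N (N E E E) L L) L E)) L (N (N (N L (N (N E L L) L L) L) (N L L E) E) L (N (N (N L E E) (N E L L) (N L L E)) L L))))) (N (N (N (N (N L (N E L L) L) (N (N (N E L E) L L) L L) (N L L E)) (N E L (N (N L L E) L (N (N L E L) L L))) (N (N L L (N (N E E L) L E)) L (N (N L L E) L L))) (N L L (N (N L (N L L E) E) L E)) (N (N L L (N (N E E E) L (N E L E)))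 L (N (N L E L) L (N L L E)))) L (N (N (N (N L (N (N L L E) L L) L) (N (N (N L L (N L L E)) L E) L (N (N E L E) L (N L L E))) (N (N E L E) L (N E L (N E L L)))) (N (N (N (N (N L L E) L L) L L) (N L L (N L L E)) (N L L E)) L (N L L (N L L E))) (N L L (N (N L L (N (N L E L) L L)) L E))) L (N (N (N (N E (N E L L) E) E (N L L (N E L L))) (N (N L L E) L E) (N (N L E L) L L)) L (N (N (N (N L E L) L L) (N (N L E L) L L) L) L E)))) (N (N (N (N (N (N (N E L L) L L) (N (N E E L) L L) (N L L E)) (N (N E (N L L E) (N L L E)) L L) L) (N (N E E (N (N E L L) L E)) L (N L L (N (N L L E) L E))) (N (N (N (N E E L) L E) (N E L L) E) L (N (N (N (N L E L) E E) L E) L (N E L L)))) (N (N (N L L (N E L L)) L (N E L L)) L (N (N (N E E (N L L E)) (N (N E L L) L E) (N E L L)) L (N (N (N E L L) L E) L L))) (N (N (N (N (N L E L) L L) E E) L (N (N L E L) L E)) L (N (N (N E (N E L E) (N E L L)) L L) L L))) L (N (N (N (N (N (N E L E) L L) E E) (N L L (N E L L)) (N L L (N L L E))) (N (N L E L) L (N L L (N E L (N L L E)))) (N (N (N (N L L E) L E) (N E L E) (N E L E)) L (N L L (N (N E L L) L (N E L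 L))))) L (N (N (N (N (N E E L) L E) (N L L (N E L L)) (N E L E)) (N (N E E L) L L) (N L L E)) L E)))) L (N (N (N (N (N (N L (N E L (N E L L)) E) (N (N L L E) L (N L L E)) (N (N (N E E L) E (N E L L)) L (N (N L E L) L (N L L E)))) (N L L (N (N E L L) L E)) (N (N L L (N L L E)) L (N (N L E L) L L))) (N (N (N (N (N E E E) L E) L E) (N L L E) (N (N E L (N E L L)) L L)) L (N (N (N (N E E L) L L) L (N L L E)) L L)) (N (N (N (N L L (N E L L)) L (N (N L L E) L E)) (N (N L L (N E L L)) L (N L L E)) (N (N L (N L L E) E) L (N (N L L (N L L E)) L L))) L L)) (N (N (N (N (N L E E) E L) (N (N L E L) L (N E L E)) (N L L (N L L (N (N E L L) L E)))) (N L L (N L L E)) (N (N (N L L (N L L E)) E L) L E)) L (N (N (N (N L L E) (N (N E L L) L L) L) (N (N E E E) L (N (N E L L) L E)) (N (N L (N E L L) L) L (N E L L))) L (N L L (N (N E E (N E L L)) L L)))) (N (N (N (N L (N E L E) (N (N L L E) L L)) (N (N L E L) L L) (N (N (N L E L) L E) L E)) (N (N (N L L (N L L E)) L (N (N L E L) L E)) L (N (N E L L) L (N (N L E L) L L))) (N (N (N L L E) L E) L (N (N E L E) L L))) L (N (N (N (N E (N E L E)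 (N E L L)) (N L L E) (N (N L E L) L L)) (N L L (N E L L)) (N (N (N E L E) (N E L E) E) L (N E L E))) L (N (N (N L E L) E E) L L)))) L (N (N (N L (N (N L E L) L (N L L (N L L E))) (N (N (N L L E) E L) L (N (N L L E) L E))) (N (N (N L (N L L (N L L E)) (N E L (N E L L))) (N L L E) E) L (N (N E L (N E L E)) L L)) (N (N (N (N E L E) L (N (N L L E) L (N L L E))) (N L L (N (N E L L) L L)) (N L L (N E L L))) L L)) L (N (N (N (N L (N E L E) E) (N (N L L E) L L) (N E L L)) (N L L (N L L (N E L (N E L E)))) (N (N (N E L L) E (N E L (N E L L))) L (N L L (N L L E)))) L L)))))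

open Cfsg.Agent.Comp.T3 in
/-- A spanning tree of the sextets. -/
def sextetTree : T3 := (N (N (N (N (N L (N (N (N (N L (N E L L) L) (N L L E) (N L L (N E L L))) L (N (N L E (N E L L)) L L)) L (N (N (N L E E) L L) L (N (N L L E) L (N L L E)))) (N (N (N (N (N E L L) E L) E E) (N (N (N E E L) E E) L L) (N (N (N L E L) L E) L E)) L (N (N (N L E E) E L) L (N E L E)))) (N (N (N (N (N L E L) L (N L L E)) (N (N E (N L L E) (N L L E)) L L) (N (N L L E) L (N E L E))) (N L L (N E L L)) (N (N (N E L E) (N E L L) (N L L E)) L (N L L E))) L (N (N (N (N E L E) L (N E L L)) (N (N E L (N L L E)) L L) L) L (N (N (N E E E) (N (N L L E) L (N E L L)) E) L (N (N L E L) L L)))) (N (N (N (N (N (N L E L) L L) (N E L E) (N E L L)) (N E L E) (N E L L)) (N (N L E L) L (N L L (N L L E))) (N (N (N E E L) L E) L (N (N (N L E L) E L) L (N (N L L E) L E)))) L (N (N (N (N L E L) (N (N L E L) L L) L) (N E L (N L L E)) (N E L (N E L L))) L (N (N (N E E E) E (N E L L)) L L)))) (N (N (N (N (N (N E L L) (N L L (N E L L)) (N E L L)) (N L L (N L L (N E L L))) (N (N E E (N L L E)) L (N L L E))) (N (N (N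 (N L L E) L L) L (N L L (N E L L))) L (N L L E)) (N (N (N L L (N L L E)) E L) L (N (N (N L E L) (N L L (N L L E)) (N E L E)) L L))) (N L L (N L L (N (N L (N E L L) L) L E))) (N (N L (N (N L L E) L (N L L E)) (N L L (N E L E))) L (N (N (N E E L) E L) L E))) L (N (N (N (N (N L L (N L L E)) (N L L E) (N L L E)) (N (N L E L) L (N L L E)) (N (N L E E) L (N E L E))) (N (N (N L E L) (N L L E) E) L (N L L (N (N L E L) L E))) (N (N (N E E L) L (N (N L L E) L (N E L L))) L (N L L (N (N E L L) L E)))) L (N (N (N L L (N E L E)) (N (N E E L) L L) L) L (N (N E L L) L (N (N L (N E L L) E) L L))))) (N (N (N (N L (N (N L E L) L (N L L (N E L L))) (N (N E (N E L L) L) L (N E L L))) (N L L (N (N L L E) L (N E L L))) (N (N L L (N L L (N E L L))) L (N E L (N L L (N E L L))))) (N (N (N (N L L E) L L) (N L L (N E L E)) (N (N (N E L L) E E) L (N (N E L L) L E))) L (N L L (N L L (N E L E)))) (N (N (N (N L E E) (N L L E) (N E L E)) L (N L L (N (N E L L) L L))) L (N (N (N E L E) L E) L (N (N L E L) L E)))) L (N (N (N (N E (N E L E) E) E L) (N (N (N L E L) L E) L (N (N E L L) L (N L L E)))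 (N (N (N L E L) E (N L L E)) L (N (N E E L) L (N E L L)))) L (N (N (N (N E L E) E L) (N E L (N (N E L L) L E)) (N L L (N E L E))) L (N (N (N L L E) (N E L L) L) L L))))) (N (N (N (N (N (N L E L) E (N L L (N L L E))) (N (N L L E) L (N (N E L L) L E)) (N (N E E (N L L E)) L (N (N L L E) L E))) (N L L (N (N L E L) L (N E L L))) (N (N (N (N E E E) (N E L L) L) (N (N E L L) L L) L) L (N (N (N E L L) (N E L E) (N L L E)) L (N (N E E L) L L)))) (N L L (N (N (N (N L (N L L E) (N E L E)) E L) L L) L (N E L E))) (N (N (N E L (N L L E)) L (N (N E L E) L (N (N E L L) L L))) L (N (N (N L E L) E L) L (N (N E (N E L L) L) L L)))) L (N L L (N (N (N (N (N E L E) (N E L L) L) (N (N L E L) L (N E L L)) (N (N L E L) L L)) (N (N E L (N L L E)) L (N L L E)) (N L L (N (N E L E) L (N (N E E L) L E)))) L (N (N L (N (N L (N L L E) E) L (N E L L)) (N (N L L E) L L)) L (N (N L (N E L E) E) L L))))) (N (N (N (N (N (N L L (N L L E)) (N (N (N E L L) E (N L L E)) L E) E) (N (N (N L E L) E E) L (N (N (N L L E) E L) L (N E L L))) (N (N (N E L (N L L E)) L E) L (N (N L E L) L L))) (N (N (N L (N L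 L E) (N E L L)) (N L L (N E L L)) (N L L E)) L (N L L E)) (N (N (N L (N E L E) (N E L L)) (N L L (N L L E)) (N E L (N (N E L L) L E))) L (N (N E E E) L E))) (N (N (N E (N L L (N E L L)) E) (N L L (N (N L L (N L L E)) L L)) (N (N E L L) L (N L L E))) L (N (N (N L L (N L L E)) (N (N L L E) L L) L) L (N (N (N L E (N L L E)) (N E L L) (N (N L E E) L L)) L (N (N E L L) L (N E L L))))) (N L L (N (N (N E (N E L L) E) (N L L E) (N (N L L E) L (N L L E))) L (N (N (N L E E) (N E L L) L) L E)))) L (N (N (N (N (N L L E) (N (N E L E) L (N E L L)) E) (N (N L (N L L E) E) L (N (N E (N L L E) E) L (N L L E))) (N (N E L E) L (N (N L L E) L E))) (N (N L (N L L (N L L E)) (N (N E L E) L E)) L (N (N E E L) L (N E L (N E L L)))) (N (N L (N L L (N L L E)) (N E L (N (N E L L) L L))) L (N (N (N (N L E L) L L) L (N E L L)) L (N L L E)))) L (N (N L (N (N E E (N L L E)) L L) L) L (N (N (N (N (N L L E) L L) L L) (N L L E) E) L L))))) (N (N (N (N (N (N (N L (N E L L) E) (N (N L E L) L L) L) (N (N (N L E L) L E) L (N E L L)) (N (N (N L L E) L E) L L)) (N (N (N L E (N L L E)) E (N E L (N L L E)))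 L (N (N L E E) L (N E L (N L L E)))) (N (N (N (N L L E) L L) (N L L (N E L L)) E) L (N (N L L E) L (N (N E L L) L (N E L L))))) (N (N L (N L L (N (N E L L) L L)) (N (N (N E L E) E L) L E)) L (N (N (N E L L) (N (N L L E) L (N (N L L E) L L)) (N (N E L E) L L)) L (N L L (N (N E L L) L (N E L L))))) (N (N L (N (N L L E) L L) E) L (N (N (N (N L E L) L E) (N E L (N E L E)) (N (N L L E) L E)) L (N (N (N L E L) E L) L (N (N L L E) L L))))) (N (N (N (N (N (N E L E) E L) (N (N E L L) L E) E) (N E L (N (N L E L) L E)) (N (N L L (N (N L E L) L L)) L (N (N L L (N L L E)) L E))) (N L L (N (N L E E) L (N L L E))) (N (N (N L (N (N L L E) L L) (N (N L L E) L E)) E L) L (N (N (N L L E) E E) L E))) L (N (N (N (N L L (N E L L)) (N (N (N E L L) L L) L L) (N (N E E L) L E)) (N (N E L L) L E) (N (N L (N E L L) E) L (N (N L E L) L L))) L (N (N (N L (N E L E) E) (N (N L L E) L E) (N (N E L L) L E)) L (N (N L E E) L E)))) (N (N (N L (N (N L E E) L L) L) (N (N (N (N L E L) E L) L (N E L E)) L (N (N E (N E L L) L) L L)) (N (N (N E (N E L L) L) L E) L L)) L (N (N (N (N (N E L L) L L) (N (N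 (N L L E) L E) L (N L L E)) (N L L (N E L E))) (N (N (N E L (N E L L)) L L) L (N (N L E L) L L)) (N L L (N L L E))) L (N (N (N L E L) (N (N L (N L L E) (N E L L)) L E) E) L (N E L L))))) L (N (N (N (N L (N L L (N L L (N E L L))) (N L L (N (N E L L) L (N E L L)))) (N (N (N (N E L E) (N L L E) (N L L E)) E L) L (N (N L (N L L E) (N L L E)) L E)) (N (N (N (N E L E) (N E L L) E) (N E L L) L) L (N (N (N E L L) E L) L (N L L E)))) (N (N (N (N E (N L L E) (N L L E)) (N (N L L E) L (N E L L)) E) (N L L (N (N E L L) L (N L L E))) (N (N L L E) L (N E L (N E L L)))) L (N (N (N L (N L L E) E) (N L L (N E L L)) (N (N L E E) L L)) L (N (N E E E) L E))) (N (N (N L L (N L L E)) (N (N (N L L E) L L) L (N L L (N L L E))) (N (N (N L E L) (N E L E) (N L L E)) L (N (N L E L) L (N E L L)))) L (N (N (N L L (N L L (N E L L))) (N L L E) (N E L (N E L L))) L (N L L E)))) L (N (N (N (N (N L L E) (N (N L L E) L L) (N (N L L E) L E)) (N L L (N L L (N L L E))) (N (N L (N L L E) E) L (N E L (N E L L)))) (N (N (N (N (N E L L) E L) E L) (N L L (N E L L)) (N L L E)) L (N (N (N E L (N E L L)) L E)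 L (N E L E))) (N (N (N (N E L L) E E) (N (N L E L) L (N E L E)) (N (N L L E) L E)) L (N (N (N L E E) L L) L E))) L (N (N (N E (N L L E) (N L L E)) (N L L (N L L (N E L L))) (N (N (N L L E) L E) L E)) L E)))) (N (N (N (N (N (N (N E L L) E (N E L L)) (N L L (N (N L E L) L (N L L E))) (N (N (N L E L) L L) L (N (N L E L) L (N L L E)))) (N (N (N L (N L L E) (N E L L)) (N L L (N L L E)) (N L L (N L L E))) L (N (N (N E E L) L E) L E)) (N (N L (N (N E L L) L E) (N L L (N E L L))) L (N (N E E L) L (N E L E)))) (N (N (N (N (N E L L) E E) L (N L L (N E L L))) E (N (N E E L) L (N E L L))) L (N (N (N E L L) (N (N E L L) L E) (N (N L E L) L L)) L E)) (N (N L (N L L E) (N (N L L (N E L E)) L (N (N L E L) L E))) L (N (N (N L E E) (N (N E E L) L L) (N E L (N L L E))) L E))) (N (N (N L (N E L (N E L E)) (N (N (N E E L) L E) L E)) (N L L (N (N (N L E L) L L) L (N E L L))) (N (N (N L L E) (N (N L L E) L L) L) L (N E L (N (N L L E) L L)))) L (N (N (N (N (N L E L) (N E L L) L) (N (N E L E) L E) (N (N L L E) L E)) E (N L L (N E L L))) L (N (N L (N (N L E E) L E) E) L (N E L (N E L L)))))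 (N (N (N (N L E L) (N (N L L E) L L) (N (N L E L) L L)) (N (N (N (N L L E) L E) E (N (N E E L) L L)) L (N E L (N L L E))) (N (N L (N (N E L L) L L) L) L (N L L (N E L L)))) L (N (N (N (N E E L) (N L L (N L L E)) (N L L (N E L L))) (N L L (N E L L)) E) L (N E L (N (N L (N E L L) L) L L))))) L (N (N (N (N (N (N E L E) (N E L L) L) (N L L (N E L E)) (N (N L L (N L L E)) L (N E L L))) (N (N (N E L L) (N L L E) E) L (N (N L E L) L E)) (N (N (N E E L) (N L L E) E) L E)) (N (N (N E (N (N E L L) L E) (N (N L L E) L L)) (N L L (N (N L E L) L (N L L E))) (N E L (N L L E))) L (N (N E E L) L (N (N E L L) L (N E L L)))) (N (N L L (N (N (N E L L) (N E L L) L) L (N E L (N L L E)))) L (N (N (N E E E) (N E L L) (N L L E)) L (N (N L E L) L (N E L L))))) L (N (N (N (N L L (N (N E L L) L L)) (N (N L E L) L E) (N (N E L (N E L L)) L (N E L (N E L L)))) (N (N (N L L E) (N L L (N E L L)) E) L (N (N (N E L L) L E) L (N (N L E L) L E))) (N (N (N L E L) L L) L (N L L (N L L E)))) L (N (N (N E (N (N E L L) L L) L) (N E L L) (N (N (N L E L) E L) L E)) L L)))))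

theorem orbit_top_subset {α : Type*} [MulAction M24 α] {x y : α}
    (h : y ∈ MulAction.orbit (⊤ : Subgroup M24) x) : y ∈ MulAction.orbit M24 x := by
  obtain ⟨g, hg⟩ := h
  exact ⟨g, hg⟩

theorem trioList_mem : ∀ y ∈ T3.list (imgF 3 cT) (imgF 3 cP) (imgF 3 cC) trioTree tr0,
    famOf 3 y ∈ MulAction.orbit M24 (famOf 3 tr0) := fun y hy =>
  orbit_top_subset (fam_mem_orbit ⊤ okM_cT okM_cP okM_cC trivial trivial trivial 3 _ _ y hy)

theorem sextetList_mem : ∀ y ∈ T3.list (imgF 6 cT) (imgF 6 cP) (imgF 6 cC) sextetTree sx0,
    famOf 6 y ∈ MulAction.orbit M24 (famOf 6 sx0) := fun y hy =>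
  orbit_top_subset (fam_mem_orbit ⊤ okM_cT okM_cP okM_cC trivial trivial trivial 6 _ _ y hy)

theorem enum_trios : Enumerates (famOf 3)
    (T3.list (imgF 3 cT) (imgF 3 cP) (imgF 3 cC) trioTree tr0) trios := by
  refine T3.enumerates (famOf 3) (fun s => (hsh 0x1d0000001f0002000000030007001200050003000000190010000c000d000500060002006e000a002601bb0137000c006400100001000500f400060000000e0019000400020000000500050004002100220007000000050020000000100000011e0019000b0000001e000b001100030003001600000000000f00020000000b00090004000500050000005f0000002100000019000500000012000e00c5001200050000000100e100120015001100060051000000080022000900030000002c02150005000b001c0000002600330004000c000d000f00030004002b00020002000d0008001f0004000b001b0002000b002200000023000800020002000500aa000000100000000000170001000400010018000e000b0018000f004a000d0000000100060032000700240019000b0002002b00000029000300f501110004000500010000001100000009000300020004000b000500010013000c0001019400030009000000160003000200260001000200130026005800170004003b000000030195000b00040001009900230003004e000f001000000001000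2002400010002000100430079005100bc0000000000060002000a0001005e0000000b000f000f001000140007000000000000000b001700010009000100340003000100070022002c0000000b000d0004000000b30000000200320005000000380002004200060004000001f9002500030007001600010012006c000a0008000c010a0002000000010016009c00060003009c001a000000040007000e002e0009001e000c001f0015002c016500010074000b0045002200750008000800010002000100150052004b000100010065000300200008001a0014000b0002000c0007001400000003000100010000001f0001003900130005001300000007001a0005003700020000001d00020013001a004700000000000800210001001500090028002400190000017000120001000a000800000003004a00000000001300140001001e005900000007001300000000000a000100000001000b0006008701c0000000070003000d000000030002000000660001001a0001000e000d0003003100090016000300010001000501a700120004001d0005000600b2000d00010004003500050083000c000000090006028f00010000000300280001002200140028000e0029000b000a0011000300280001001b0006000100da000e0001000100050000000e000c003800c500200031000c001000030039011600000002000800140000000d00040000001800000004001700040000000202360000003100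0f000f0000000e001400010001000a0000000d0000000400290044002c0006001a000d0000009000080002000000060007001200040039001a00f10000006700000005015d00050014000200010001000900010002000200110003000f005c000f00ab0004003d002f0000000c00000025000600020000001800020000008b00040007000e0000000000000000003a00220010000700020000000a00020001000100080003003400000009001b0017000000020001000c000301210000003600910003001400c7000b0000000400000000005d0000002000290003000500050000000101ae0155000500060108000000040071000600020101000100410000003a000000360000001e000100ff00f8000b00000001000200070002000700030001000000180000005300020000000f0040000800bd000a001e000200120005000000220001000f000a000c000200000096000f000200150000000700100021001200010002003b01420007001000000095000000060052001100110000001e0017000200080052004500020003002e0000000000bc0110000000000003001600480009000b000a0001000a000700150002000000100012003b000b0070000001470002000300170006000000ae000000580001001c0003000e000200c30000002d002500020002000200050001000500070009001400d102130001002000020007000100720000000701270000000000050013000e0001000700090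0110008000b000001430000004e0004000200170000000e00100005000b0007000f0000000500de000000030002001c000c002a000300940052002d00100009000000000025000a00040006005900030050000f0010000b000100000018000500010041000b00000010000300000000000100190000000000140001000d0000002e000500080009000100050011000300dc0001000000160008000100120000000f0000002b000100150000000700010005000700010002001000180000000200010017001300a9000b0000000000050003000600590000000b0009000f0025001d00040024001b000000080000000000f3000c000c0000000300040037000100030000000000000000000000f400000001000b0049000400000000000d00000000000b0002014300010019000d0001000800000003000200000000000e001b0050002a0001001b000a0000000900070001000e0001002c0000000f000300000137000600000000000b005e0032000100000000000200060001000c01e90000000500010014003500030006000000070007000e0001000e0000001f00380000001202730000004c0016000a0000000d00350000010200080012000b0002001b0041000e0005000300150016000f000000770009003a008e000000020000007c001700010009000000460027006f000400020007000b0083000c001e000700070000000300000000013c003d00000002009b0011000a00c70005004d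0026000500560004000000080005003c0066000300050007000000000000001f0017000000000020004b000000030016000000000024012f003200bd0021000600000000000400010000004700040001006f006300140018001b000e00000002001c0000002e0000001600000000000301a80002000300000000001800010001000500440002000000050000001e001b003f00010000001000130000000600260032001c0000000100060007000a000200020024000b000800030055000300000009000200db001100070097008b0001002c000000330007003e00020004000c004200030023002900060009000300020001002300000000000a00000013000200060000000c00000005000900000002001700100002000100e30008000b000a000100070019000300110000010f008d00010002002600000000001500400052000502080000000000150003000200450016000000fc0000009f000a00070000000000020085000e0008004e0000006c000000080000000000250005000c00000001000800000085000400000007007d001e0009000d0006000400020001010600020006000b00050000000c000e00210065008b000f0018000e0008001c000400140000000b0007006700040000003800080004001e0000000800150000000400080013001f001a000100a600040002000000050000000600000020000000020000000d00000004000300040000 1277 1583497 4096) (famKey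 s))
    (fun y => (hsh 0x1d0000001f0002000000030007001200050003000000190010000c000d000500060002006e000a002601bb0137000c006400100001000500f400060000000e0019000400020000000500050004002100220007000000050020000000100000011e0019000b0000001e000b001100030003001600000000000f00020000000b00090004000500050000005f0000002100000019000500000012000e00c5001200050000000100e100120015001100060051000000080022000900030000002c02150005000b001c0000002600330004000c000d000f00030004002b00020002000d0008001f0004000b001b0002000b002200000023000800020002000500aa000000100000000000170001000400010018000e000b0018000f004a000d0000000100060032000700240019000b0002002b00000029000300f501110004000500010000001100000009000300020004000b000500010013000c0001019400030009000000160003000200260001000200130026005800170004003b000000030195000b00040001009900230003004e000f0010000000010002002400010002000100430079005100bc0000000000060002000a0001005e0000000b000f000f001000140007000000000000000b001700010009000100340003000100070022002c0000000b000d0004000000b30000000200320005000000380002004200060004000001f90025000300070016000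10012006c000a0008000c010a0002000000010016009c00060003009c001a000000040007000e002e0009001e000c001f0015002c016500010074000b0045002200750008000800010002000100150052004b000100010065000300200008001a0014000b0002000c0007001400000003000100010000001f0001003900130005001300000007001a0005003700020000001d00020013001a004700000000000800210001001500090028002400190000017000120001000a000800000003004a00000000001300140001001e005900000007001300000000000a000100000001000b0006008701c0000000070003000d000000030002000000660001001a0001000e000d0003003100090016000300010001000501a700120004001d0005000600b2000d00010004003500050083000c000000090006028f00010000000300280001002200140028000e0029000b000a0011000300280001001b0006000100da000e0001000100050000000e000c003800c500200031000c001000030039011600000002000800140000000d000400000018000000040017000400000002023600000031000f000f0000000e001400010001000a0000000d0000000400290044002c0006001a000d0000009000080002000000060007001200040039001a00f10000006700000005015d00050014000200010001000900010002000200110003000f005c000f00ab0004003d002f0000000c000000250006000200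00001800020000008b00040007000e0000000000000000003a00220010000700020000000a00020001000100080003003400000009001b0017000000020001000c000301210000003600910003001400c7000b0000000400000000005d0000002000290003000500050000000101ae0155000500060108000000040071000600020101000100410000003a000000360000001e000100ff00f8000b00000001000200070002000700030001000000180000005300020000000f0040000800bd000a001e000200120005000000220001000f000a000c000200000096000f000200150000000700100021001200010002003b01420007001000000095000000060052001100110000001e0017000200080052004500020003002e0000000000bc0110000000000003001600480009000b000a0001000a000700150002000000100012003b000b0070000001470002000300170006000000ae000000580001001c0003000e000200c30000002d002500020002000200050001000500070009001400d102130001002000020007000100720000000701270000000000050013000e00010007000900110008000b000001430000004e0004000200170000000e00100005000b0007000f0000000500de000000030002001c000c002a000300940052002d00100009000000000025000a00040006005900030050000f0010000b000100000018000500010041000b000000100003000000000001001900000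00000140001000d0000002e000500080009000100050011000300dc0001000000160008000100120000000f0000002b000100150000000700010005000700010002001000180000000200010017001300a9000b0000000000050003000600590000000b0009000f0025001d00040024001b000000080000000000f3000c000c0000000300040037000100030000000000000000000000f400000001000b0049000400000000000d00000000000b0002014300010019000d0001000800000003000200000000000e001b0050002a0001001b000a0000000900070001000e0001002c0000000f000300000137000600000000000b005e0032000100000000000200060001000c01e90000000500010014003500030006000000070007000e0001000e0000001f00380000001202730000004c0016000a0000000d00350000010200080012000b0002001b0041000e0005000300150016000f000000770009003a008e000000020000007c001700010009000000460027006f000400020007000b0083000c001e000700070000000300000000013c003d00000002009b0011000a00c70005004d0026000500560004000000080005003c0066000300050007000000000000001f0017000000000020004b000000030016000000000024012f003200bd0021000600000000000400010000004700040001006f006300140018001b000e00000002001c0000002e0000001600000000000301a800020003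00000000001800010001000500440002000000050000001e001b003f00010000001000130000000600260032001c0000000100060007000a000200020024000b000800030055000300000009000200db001100070097008b0001002c000000330007003e00020004000c004200030023002900060009000300020001002300000000000a00000013000200060000000c00000005000900000002001700100002000100e30008000b000a000100070019000300110000010f008d00010002002600000000001500400052000502080000000000150003000200450016000000fc0000009f000a00070000000000020085000e0008004e0000006c000000080000000000250005000c00000001000800000085000400000007007d001e0009000d0006000400020001010600020006000b00050000000c000e00210065008b000f0018000e0008001c000400140000000b0007006700040000003800080004001e0000000800150000000400080013001f001a000100a600040002000000050000000600000020000000020000000d00000004000300040000 1277 1583497 4096) (keyF 3 y)) 12 trioTree tr0 (Set.toFinite _) ncard_trios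
    (fun y hy => ⟨?_, by rw [keyF_eq]⟩) (by decide +kernel) (by decide +kernel)
  obtain ⟨g, hg⟩ := trioList_mem y hy
  rw [← hg]
  exact smul_mem_trios g tr0_mem

theorem enum_sextets : Enumerates (famOf 6)
    (T3.list (imgF 6 cT) (imgF 6 cP) (imgF 6 cC) sextetTree sx0) sextets := by
  refine T3.enumerates (famOf 6) (fun s => (hsh 0x6000400050016000f000300020003000700090028000000000000000f000c002b000f000000000026000c0004000c0008000300050001002b0004001e000000040003000100000001005e0000000b000400120000004e0001000a00000003002100050000000d00070001001a005f00140003001300000017000200220001001500170004000000000000000100010006000300060010001300000001000100010002000000000006000200010016000000070004000700010008001200000010000200070003000200030002000800000003003000000009001300140000000700000000000400180000000a00010009003700130000000400200002002a00020055001200580001000500030001004d0010000000010002000800000000004a00180038009b0003000800040006000500240008000f00000000000e0009001100010014002200050002001c000e0041000700000002000a00000003000d000000180000000500000009002b000700070003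000300090004000700000018000f00030018000000150004000800230010001e000300110002001000090002000200060011000100010007000700020004000700090019001f003400040006000100010004001c0001000f0006000200000002000000000000000000370001001b0002000e0032000d000000000000000a0002000e001a00050000001500070002000000250000002a00030001000500200003000c00170002000b000800190035001b000e0009003a000300010000000e003400790018000200020001000d000000160000000a00140037002b00010000000000030000000000000019000000040004000c003f000000040023000c00030001000000020017000a000b0000000200100000000700110015001400010000001f0004000200130019000400010005000b0009001f000100010001000b00000004000200020004001a00030001000400060001000f000f00020006000d000000240000002d000000010007000100010007000000320000000f0011001a00040001000c0016000d00060003000e0001000000000000000d00180010000c00060000000900060045000500270000000a0009002600160000000b000c000c0000001200010001000200000012000600040002001c002d002800040035000500090026004400000004000e00c6000700050005000000170001000200030003000200000000003700170002000100060000003600110004000c00000000000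1000100280003000300000000000e0007000a002300160044000000000006002000000001001700220000000e0042001200280005000c001700000003000000080015000d0001000000040002000f0000000000000002000000040008001d00040003003000010003000100090000000400000000000b0001004400090000000a0017006b0007000b0001000b00000009000800080000002a002200000003000000050001000200260000000000080000002e0000004a00030001003d001200000002000100050003000e0005000000000016000000110006000e0001000100000000000000020021002d000000040031000500150059000000010005000d000000290017000000000005002200000003000b 593 1844707 2048) (famKey s))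
    (fun y => (hsh 0x6000400050016000f000300020003000700090028000000000000000f000c002b000f000000000026000c0004000c0008000300050001002b0004001e000000040003000100000001005e0000000b000400120000004e0001000a00000003002100050000000d00070001001a005f00140003001300000017000200220001001500170004000000000000000100010006000300060010001300000001000100010002000000000006000200010016000000070004000700010008001200000010000200070003000200030002000800000003003000000009001300140000000700000000000400180000000a00010009003700130000000400200002002a00020055001200580001000500030001004d0010000000010002000800000000004a00180038009b0003000800040006000500240008000f00000000000e0009001100010014002200050002001c000e0041000700000002000a00000003000d000000180000000500000009002b000700070003000300090004000700000018000f00030018000000150004000800230010001e000300110002001000090002000200060011000100010007000700020004000700090019001f003400040006000100010004001c0001000f0006000200000002000000000000000000370001001b0002000e0032000d000000000000000a0002000e001a00050000001500070002000000250000002a0003000100050020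0003000c00170002000b000800190035001b000e0009003a000300010000000e003400790018000200020001000d000000160000000a00140037002b00010000000000030000000000000019000000040004000c003f000000040023000c00030001000000020017000a000b0000000200100000000700110015001400010000001f0004000200130019000400010005000b0009001f000100010001000b00000004000200020004001a00030001000400060001000f000f00020006000d000000240000002d000000010007000100010007000000320000000f0011001a00040001000c0016000d00060003000e0001000000000000000d00180010000c00060000000900060045000500270000000a0009002600160000000b000c000c0000001200010001000200000012000600040002001c002d002800040035000500090026004400000004000e00c6000700050005000000170001000200030003000200000000003700170002000100060000003600110004000c000000000001000100280003000300000000000e0007000a002300160044000000000006002000000001001700220000000e0042001200280005000c001700000003000000080015000d0001000000040002000f0000000000000002000000040008001d00040003003000010003000100090000000400000000000b0001004400090000000a0017006b0007000b0001000b00000009000800080000002a002200000003000000050001000200260000000000080000002e0000004a00030001003d001200000002000100050003000e0005000000000016000000110006000e0001000100000000000000020021002d000000040031000500150059000000010005000d000000290017000000000005002200000003000b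 593 1844707 2048) (keyF 6 y)) 11 sextetTree sx0 (Set.toFinite _) ncard_sextets
    (fun y hy => ⟨?_, by rw [keyF_eq]⟩) (by decide +kernel) (by decide +kernel)
  obtain ⟨g, hg⟩ := sextetList_mem y hy
  rw [← hg]
  exact smul_mem_sextets g sx0_mem

theorem orbit_trio {T : Finset (Finset GolayPt)} (hT : T ∈ trios) :
    MulAction.orbit M24 T = trios := by
  have key : ∀ T ∈ trios, T ∈ MulAction.orbit M24 (famOf 3 tr0) := enum_trios.forall trioList_mem
  rw [MulAction.orbit_eq_iff.2 (key T hT)]
  ext s
  exact ⟨fun ⟨g, hg⟩ => hg ▸ smul_mem_trios g tr0_mem, key s⟩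

theorem exists_smul_trio {T T' : Finset (Finset GolayPt)} (hT : T ∈ trios) (hT' : T' ∈ trios) :
    ∃ g : M24, g • T = T' := by
  rw [← orbit_trio hT] at hT'
  exact hT'

theorem card_stabilizer_trio {T : Finset (Finset GolayPt)} (hT : T ∈ trios) :
    Nat.card (MulAction.stabilizer M24 T) = 64512 :=
  card_stabilizer_of_orbit T (by rw [orbit_trio hT, ncard_trios]) (by norm_num) (by norm_num)

/-- Counting trios. -/
theorem ncard_trios_sep (Q : Finset (Finset GolayPt) → Prop) (p : ℕ → Bool)
    (hp : ∀ y, famOf 3 y ∈ trios → (p y = true ↔ Q (famOf 3 y))) :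
    {T | T ∈ trios ∧ Q T}.ncard = T3.cnt (imgF 3 cT) (imgF 3 cP) (imgF 3 cC) p trioTree tr0 := by
  rw [T3.cnt_eq]
  exact enum_trios.ncard_sep Q p fun y hy => hp y ((enum_trios.2 _).2 ⟨y, hy, rfl⟩)

/-- Counting sextets. -/
theorem ncard_sextets_sep (Q : Finset (Finset GolayPt) → Prop) (p : ℕ → Bool)
    (hp : ∀ y, famOf 6 y ∈ sextets → (p y = true ↔ Q (famOf 6 y))) :
    {T | T ∈ sextets ∧ Q T}.ncard =
      T3.cnt (imgF 6 cT) (imgF 6 cP) (imgF 6 cC) p sextetTree sx0 := by
  rw [T3.cnt_eq]
  exact enum_sextets.ncard_sep Q p fun y hy => hp y ((enum_sextets.2 _).2 ⟨y, hy, rfl⟩)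

/-! ### Intersection invariants -/

/-- The sizes of the intersections of members of two families. -/
def interSet (A B : Finset (Finset GolayPt)) : Set ℕ := {n | ∃ a ∈ A, ∃ b ∈ B, (a ∩ b).card = n}

theorem interSet_smul (g : M24) (A B : Finset (Finset GolayPt)) :
    interSet (g • A) (g • B) = interSet A B := by
  ext n
  constructor
  · rintro ⟨a, ha, b, hb, rfl⟩
    obtain ⟨a, ha', rfl⟩ := Finset.mem_smul_finset.1 ha
    obtain ⟨b, hb', rfl⟩ := Finset.mem_smul_finset.1 hb
    exact ⟨a, ha', b, hb', (card_smul_inter g a b).symm⟩
  · rintro ⟨a, ha, b, hb, rfl⟩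
    exact ⟨_, Finset.smul_mem_smul_finset ha, _, Finset.smul_mem_smul_finset hb,
      card_smul_inter g a b⟩

/-- The mask of `interSet`. -/
noncomputable def interC (k x l y : ℕ) : ℕ :=
  orLT k fun i => orLT l fun j => Nat.shiftLeft 1 (pop 24 (Nat.land (mem24 x i) (mem24 y j)))

theorem interSet_famOf (k x l y : ℕ) :
    interSet (famOf k x) (famOf l y) = {n | (interC k x l y).testBit n = true} := by
  ext n
  simp only [interSet, interC, Set.mem_ofPred_eq, testBit_orLT, shiftLeft_one,
    Nat.testBit_two_pow, decide_eq_true_eq, mem_famOf]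
  constructor
  · rintro ⟨_, ⟨i, hi, rfl⟩, _, ⟨j, hj, rfl⟩, h⟩
    exact ⟨i, hi, j, hj, by rw [← h, ← setOf'_land, card_setOf']; rfl⟩
  · rintro ⟨i, hi, j, hj, h⟩
    exact ⟨_, ⟨i, hi, rfl⟩, _, ⟨j, hj, rfl⟩, by rw [← h, ← setOf'_land, card_setOf']; rfl⟩

theorem interC_eq_of_interSet {k x l y z : ℕ}
    (h : interSet (famOf k x) (famOf l y) = interSet (famOf k x) (famOf l z)) :
    interC k x l y = interC k x l z := by
  rw [interSet_famOf, interSet_famOf] at h
  apply Nat.eq_of_testBit_eq
  intro n
  rw [Bool.eq_iff_iff]
  exact Set.ext_iff.1 h n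

theorem famOf_one {m : ℕ} (hm : m < 2 ^ 24) : famOf 1 m = {setOf' m} := by
  ext s
  simp only [mem_famOf, Nat.lt_one_iff, exists_eq_left, Finset.mem_singleton, mem24_eq, pow_zero,
    Nat.div_one]
  rw [Nat.mod_eq_of_lt (show m < 16777216 from hm), eq_comm]

/-- Orbits on a set of families, separated by the intersection sizes with a fixed family. -/
theorem orbDec_fam (H : Subgroup M24) {Ω : Set (Finset (Finset GolayPt))}
    (hΩ : ∀ g : M24, ∀ a ∈ Ω, g • a ∈ Ω) (k x : ℕ) (hA : ∀ g ∈ H, g • famOf k x = famOf k x)
    (l : ℕ) {r : ℕ} (y : Fin r → ℕ) (hy : ∀ i, famOf l (y i) ∈ Ω)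
    (hinj : Function.Injective fun i => interC k x l (y i)) (n : Fin r → ℕ)
    (hn : ∀ i, n i ≤ (MulAction.orbit H (famOf l (y i))).ncard) (hsum : ∑ i, n i = Ω.ncard) :
    OrbDec H Ω n :=
  ⟨_, orbDecAt_of_inv H Ω (Set.toFinite _) (fun g _ => hΩ g) (interSet (famOf k x))
    (fun g hg a _ => by conv_lhs => rw [← hA g hg, interSet_smul]) _ hy
    (fun _ _ h => hinj (interC_eq_of_interSet h)) n hn hsum⟩

/-- Orbits on a set of sets, separated by the intersection sizes with a fixed family. -/
theorem orbDec_set (H : Subgroup M24) {Ω : Set (Finset GolayPt)}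
    (hΩ : ∀ g : M24, ∀ a ∈ Ω, g • a ∈ Ω) (k x : ℕ) (hA : ∀ g ∈ H, g • famOf k x = famOf k x)
    {r : ℕ} (y : Fin r → ℕ) (hlt : ∀ i, y i < 2 ^ 24) (hy : ∀ i, setOf' (y i) ∈ Ω)
    (hinj : Function.Injective fun i => interC k x 1 (y i)) (n : Fin r → ℕ)
    (hn : ∀ i, n i ≤ (MulAction.orbit H (setOf' (y i))).ncard) (hsum : ∑ i, n i = Ω.ncard) :
    OrbDec H Ω n :=
  ⟨_, orbDecAt_of_inv H Ω (Set.toFinite _) (fun g _ => hΩ g)
    (fun s => interSet (famOf k x) {s})
    (fun g hg a _ => by
      conv_lhs => rw [← hA g hg, ← Finset.smul_finset_singleton, interSet_smul]) _ hy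
    (fun i j h => hinj (interC_eq_of_interSet (by
      rw [famOf_one (hlt i), famOf_one (hlt j)]; exact h))) n hn hsum⟩

theorem smul_famOf_one {m : ℕ} (hm : m < 2 ^ 24) :
    ∀ g ∈ MulAction.stabilizer M24 (setOf' m), g • famOf 1 m = famOf 1 m := by
  intro g hg
  rw [famOf_one hm, Finset.smul_finset_singleton, MulAction.mem_stabilizer_iff.1 hg]

attribute [irreducible] sexOK trioOK sx0 tr0 tri15 cT cP cC trioTree sextetTree interC

end Cfsg.Agent.Spor.M24C
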