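import Cfsg.Agent.Mont.Cent
import Cfsg.Agent.XSC.Co1Row

set_option autoImplicit false
set_option maxRecDepth 4096

namespace Cfsg.Agent.Spor.Co1Frames

open Cfsg.Agent.Comp

noncomputable def ns_0 : Net :=
 (Net.cons (nat_lit 128) (nat_lit 0x3203e38000420000d30982040002000)
 (Net.cons (nat_lit 64) (nat_lit 0x900ac00000400640000000000000000860d05cf105d4e8a)
 (Net.cons (nat_lit 32) (nat_lit 0x22082200000000005303820000000002ba9899a00000000fb4d48f4)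
 (Net.cons (nat_lit 16) (nat_lit 0x800000082400000000000000126000005820000dc3f0000f7de0000447a)
 (Net.cons (nat_lit 8) (nat_lit 0x18006000200000000000440035008d005000180091000a00a700840082)
 (Net.cons (nat_lit 4) (nat_lit 0x8000e0000040000040000060a0008060c0a0a050d0d04040b0c000f0d04)
 (Net.cons (nat_lit 2) (nat_lit 0x200002000020000020000012210020032121020130120112202330011222)
 (Net.cons (nat_lit 1) (nat_lit 0x101004000040000040000004111015441444404115400004104410140414)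
 (Net.cons (nat_lit 2) (nat_lit 0x200000000020000020000002200020202020000020000000002220200000)
 (Net.cons (nat_lit 4) (nat_lit 0x8000c0000040000040000000a000404040e0804000c0408080200020c02)
 (Net.cons (nat_lit 8) (nat_lit 0x600000000000000044002400680090007a0082000a000c00900086)
 (Net.cons (nat_lit 16) (nat_lit 0x8000000804000000000000001260000040c00001af00000f75e00009076)
 (Net.cons (nat_lit 32) (nat_lit 0x22082200000000005303820000000008933891800000000cf0f0ae0)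
 (Net.cons (nat_lit 64) (nat_lit 0x800a400000420640000000000000000b649458b38d78692)
 (Net.cons (nat_lit 128) (nat_lit 0x3203e38000420000d30982040002000)
 Net.nil)))))))))))))))

noncomputable def ns_1 : Net :=
 (Net.cons (nat_lit 128) (nat_lit 0xc06aa607af50a3f0867aa7b49a37a408)
 (Net.cons (nat_lit 64) (nat_lit 0x806a80023750a2a400000000000000004695013150e61d31)
 (Net.cons (nat_lit 32) (nat_lit 0x5812213400000000af54013200000000780440400000000063384002)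
 (Net.cons (nat_lit 16) (nat_lit 0x3f280000e204000029f600002561000051010000799b0000456000003f5c)
 (Net.cons (nat_lit 8) (nat_lit 0x30009000a000400022004c0076006a00800049004b006800b1007e00140027)
 (Net.cons (nat_lit 4) (nat_lit 0xd00000300020c00040e04020e0006030000000c030c080c0a03010400040700)
 (Net.cons (nat_lit 2) (nat_lit 0x1220002100220000003203020303200030000003301120220211001000301003)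
 (Net.cons (nat_lit 1) (nat_lit 0x1040001100040400405044041104441010000001404050014101110404141014)
 (Net.cons (nat_lit 2) (nat_lit 0x20002000020200200022000202200020000002200000020000000000220022)
 (Net.cons (nat_lit 4) (nat_lit 0xc00000a00000c00040e00000e02000200000004020808080a02000000040200)
 (Net.cons (nat_lit 8) (nat_lit 0x10008800a000000000004e0076006a008000480042002800d80066001c0022)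
 (Net.cons (nat_lit 16) (nat_lit 0xbf08000062040000adc00000213000005100000071920000444000002dd8)
 (Net.cons (nat_lit 32) (nat_lit 0xd8122130000000002f44a59200000000780508400000000072b81002)
 (Net.cons (nat_lit 64) (nat_lit 0x600202b55082b400000000000000004e145179506e453a)
 (Net.cons (nat_lit 128) (nat_lit 0xc06aa607af50a3f0867aa7b49a37a464)
 Net.nil)))))))))))))))

noncomputable def ns : List Net := [ns_0, ns_1]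

theorem ctx : Ctx 256 8 ns := ctx_of (by decide +kernel)

open Cfsg Cfsg.Spor Cfsg.Agent.Spor.Leech MulAction
open scoped Pointwise
open Cfsg.Agent.Mont Cfsg.Agent.XSC.C1 Subgroup

noncomputable def P : ℕ :=
  nat_lit 0x66e783e9a390eabf69c42dceb8a05dc4770000000000000000000000000000000a93b027232e079cc76a4b3e2b3c9c386c00000000000000000000000000000043adf4f827caca1dbe72eba6a44570ba96000000000000000000000000000000270f138d0549897bb15b9974314b49e1e20000000000000000000000000000002db77c0db1caa8cc77a72de12344d304400000000000000000000000000000000d81e1e74ccbfe49628a70a5b2f18867820000000000000000000000000000001737ba567655330da85acdc85b8520b1440000000000000000000000000000002ff63891c199e33db2301e09641d4c743c00000000000000000000000000000008d2f4bb537d4c6d02fd78d66c6503481000000000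000000000000000000000007398e67f848dffea476c430a0fe1282200000000000000000000000000000001fce914ab285594bab314ab50ed325249a0000000000000000000000000000007c7e27ffffe3e3f801f803fc021008200000000000000000000000000000000000000000000000000000000000000000000000000000000000000000000000007c7e27ffffe3e3f801f803fc0210082000000000000000000000000000000000000000000000000000000000000000000000000000000000000000000000000000000000000000000000000000000000000000000000000000000000000000007c7e27ffffe3e3f801f803fc0210082000000000000000000000000000000000000000000000000000000000000000000000000000000000000000000000000000000000000000000000000000000000000000000000000000000000000000007c7e27ffffe3e3f801f803fc02100820000000000000000000000000000000007c7e27ffffe3e3f801f803fc02100820000000000000000000000000000000007c7e27ffffe3e3f801f803fc02100820000000000000000000000000000000007c7e27ffffe3e3f801f803fc02100820000000000000000000000000000000007c7e27ffffe3e3f801f803fc0210082000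

noncomputable def X : List (List ℤ) :=
  [[-1, 0, 0, 0, 0, 0, 0, 0, 0, 0, 0, 0, 0, 0, 1, 0, 1, 1, 1, 0, 0, 0, 1, -2],
  [0, -1, 0, 0, 0, 0, 0, 0, 0, 0, 0, 0, 0, 1, 1, 1, 1, 0, 0, 1, 0, 0, 1, -3],
  [0, 0, -1, 0, 0, 0, 0, 0, 0, 0, 0, 0, 0, 1, 0, 1, 0, 0, 1, 0, 1, 0, 1, -2],
  [0, 0, 0, -1, 0, 0, 0, 0, 0, 0, 0, 0, 0, 1, 0, 0, 0, 1, 1, 1, 0, 1, 1, -3],
  [0, 0, 0, 0, -1, 0, 0, 0, 0, 0, 0, 0, 0, 1, 0, 0, 1, 1, 0, 1, 1, 0, 0, -2],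
  [0, 0, 0, 0, 0, 1, 0, 0, 0, 0, 0, 0, 0, 0, 0, 0, 0, 0, 0, 0, 0, 0, 0, 0],
  [0, 0, 0, 0, 0, 0, 1, 0, 0, 0, 0, 0, 0, 0, 0, 0, 0, 0, 0, 0, 0, 0, 0, 0],
  [0, 0, 0, 0, 0, 0, 0, -1, 0, 0, 0, 0, 0, 0, 1, 1, 0, 1, 1, 1, 1, 0, 0, -3],
  [0, 0, 0, 0, 0, 0, 0, 0, 1, 0, 0, 0, 0, 0, 0, 0, 0, 0, 0, 0, 0, 0, 0, 0],
  [0, 0, 0, 0, 0, 0, 0, 0, 0, 1, 0, 0, 0, 0, 0, 0, 0, 0, 0, 0, 0, 0, 0, 0],
  [0, 0, 0, 0, 0, 0, 0, 0, 0, 0, -1, 0, 0, 0, 1, 1, 1, 0, 0, 0, 1, 1, 0, -2],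
  [-1, -1, -1, -1, -1, 0, 0, -1, 0, 0, -1, 1, 3, 2, 2, 2, 2, 2, 2, 2, 2, 1, 2, -10],
  [0, 0, 0, 0, 0, 0, 0, 0, 0, 0, 0, 0, -1, 0, 0, 0, 0, 0, 0, 0, 0, 0, 0, 1],
  [0, 0, 0, 0, 0, 0, 0, 0, 0, 0, 0, 0, 0, 1, 0, 0, 0, 0, 0, 0, 0, 0, 0, 0],
  [0, 0, 0, 0, 0, 0, 0, 0, 0, 0, 0, 0, 0, 0, 1, 0, 0, 0, 0, 0, 0, 0, 0, 0],
  [0, 0, 0, 0, 0, 0, 0, 0, 0, 0, 0, 0, 0, 0, 0, 1, 0, 0, 0, 0, 0, 0, 0, 0],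
  [0, 0, 0, 0, 0, 0, 0, 0, 0, 0, 0, 0, 0, 0, 0, 0, 1, 0, 0, 0, 0, 0, 0, 0],
  [0, 0, 0, 0, 0, 0, 0, 0, 0, 0, 0, 0, 0, 0, 0, 0, 0, 1, 0, 0, 0, 0, 0, 0],
  [0, 0, 0, 0, 0, 0, 0, 0, 0, 0, 0, 0, 0, 0, 0, 0, 0, 0, 1, 0, 0, 0, 0, 0],
  [0, 0, 0, 0, 0, 0, 0, 0, 0, 0, 0, 0, 0, 0, 0, 0, 0, 0, 0, 1, 0, 0, 0, 0],
  [0, 0, 0, 0, 0, 0, 0, 0, 0, 0, 0, 0, 0, 0, 0, 0, 0, 0, 0, 0, 1, 0, 0, 0],
  [0, 0, 0, 0, 0, 0, 0, 0, 0, 0, 0, 0, 0, 0, 0, 0, 0, 0, 0, 0, 0, 1, 0, 0],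
  [0, 0, 0, 0, 0, 0, 0, 0, 0, 0, 0, 0, 0, 0, 0, 0, 0, 0, 0, 0, 0, 0, 1, 0],
  [0, 0, 0, 0, 0, 0, 0, 0, 0, 0, 0, 0, 0, 0, 0, 0, 0, 0, 0, 0, 0, 0, 0, 1]]

noncomputable def X' : List (List ℤ) :=
  [[2, 1, 1, 1, 1, 2, 2, 1, 1, 2, 1, 0, 0, 1, 2, 1, 2, 2, 2, 1, 1, 1, 2, 2],
  [1, 2, 1, 1, 1, 1, 2, 1, 2, 2, 1, 1, -1, 1, 1, 1, 1, 0, 0, 1, 0, 0, 1, 0],
  [1, 1, 2, 1, 1, 2, 2, 1, 2, 1, 1, 0, 0, 2, 1, 2, 1, 1, 2, 1, 2, 1, 2, 2],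
  [1, 1, 1, 2, 1, 2, 2, 1, 2, 2, 0, 1, -1, 1, 0, 0, 0, 1, 1, 1, 0, 1, 1, 0],
  [1, 1, 1, 1, 2, 2, 1, 1, 2, 2, 1, 0, 0, 2, 1, 1, 2, 2, 1, 2, 2, 1, 1, 2],
  [2, 1, 2, 2, 2, 4, 2, 2, 2, 2, 2, 1, 1, 2, 2, 1, 1, 2, 2, 1, 2, 2, 1, 2],
  [2, 2, 2, 2, 1, 2, 4, 2, 2, 2, 2, 1, 1, 1, 2, 2, 1, 1, 2, 2, 1, 2, 2, 2],
  [1, 1, 1, 1, 1, 2, 2, 2, 2, 2, 1, 1, -1, 0, 1, 1, 0, 1, 1, 1, 1, 0, 0, 0],
  [1, 2, 2, 2, 2, 2, 2, 2, 4, 2, 2, 2, 0, 1, 0, 1, 1, 0, 1, 1, 1, 1, 0, 0],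
  [2, 2, 1, 2, 2, 2, 2, 2, 2, 4, 2, 2, 0, 0, 1, 0, 1, 1, 0, 1, 1, 1, 1, 0],
  [1, 1, 1, 0, 1, 2, 2, 1, 2, 2, 2, 0, 0, 1, 2, 2, 2, 1, 1, 1, 2, 2, 1, 2],
  [0, 1, 0, 1, 0, 1, 1, 1, 2, 2, 0, 2, -2, -1, -1, -1, -1, -1, -1, -1, -1, -1, -1, -3],
  [0, -1, 0, -1, 0, 1, 1, -1, 0, 0, 0, -2, 0, 2, 2, 2, 2, 2, 2, 2, 2, 2, 2, 4],
  [1, 1, 2, 1, 2, 2, 1, 0, 1, 0, 1, -1, 2, 4, 2, 2, 2, 2, 2, 2, 2, 2, 2, 4],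
  [2, 1, 1, 0, 1, 2, 2, 1, 0, 1, 2, -1, 2, 2, 4, 2, 2, 2, 2, 2, 2, 2, 2, 4],
  [1, 1, 2, 0, 1, 1, 2, 1, 1, 0, 2, -1, 2, 2, 2, 4, 2, 2, 2, 2, 2, 2, 2, 4],
  [2, 1, 1, 0, 2, 1, 1, 0, 1, 1, 2, -1, 2, 2, 2, 2, 4, 2, 2, 2, 2, 2, 2, 4],
  [2, 0, 1, 1, 2, 2, 1, 1, 0, 1, 1, -1, 2, 2, 2, 2, 2, 4, 2, 2, 2, 2, 2, 4],
  [2, 0, 2, 1, 1, 2, 2, 1, 1, 0, 1, -1, 2, 2, 2, 2, 2, 2, 4, 2, 2, 2, 2, 4],
  [1, 1, 1, 1, 2, 1, 2, 1, 1, 1, 1, -1, 2, 2, 2, 2, 2, 2, 2, 4, 2, 2, 2, 4],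
  [1, 0, 2, 0, 2, 2, 1, 1, 1, 1, 2, -1, 2, 2, 2, 2, 2, 2, 2, 2, 4, 2, 2, 4],
  [1, 0, 1, 1, 1, 2, 2, 0, 1, 1, 2, -1, 2, 2, 2, 2, 2, 2, 2, 2, 2, 4, 2, 4],
  [2, 1, 2, 1, 1, 1, 2, 0, 0, 1, 1, -1, 2, 2, 2, 2, 2, 2, 2, 2, 2, 2, 4, 4],
  [2, 0, 2, 0, 2, 2, 2, 0, 0, 0, 2, -3, 4, 4, 4, 4, 4, 4, 4, 4, 4, 4, 4, 8]]

theorem isoX : chkIso X X' = true :=
  by decide +kernel

theorem eX : sgn _ o0_GC = elt X X' isoX :=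
  sgn_eq_elt (m := 5279) (by decide +kernel) isoX (by decide +kernel)

noncomputable def C0 : List (List ℤ) :=
  [[0, 0, -1, 0, 0, 0, 0, 0, -1, 1, 0, 0, 1, 1, 0, 1, 0, 0, 1, 0, 0, 0, 0, -2],
  [0, 0, 0, 0, -1, 0, 0, 0, -1, 0, 0, 0, 1, 1, 0, 0, 1, 1, 1, 1, 1, 1, 0, -4],
  [0, 0, 0, 1, 0, 0, 0, 0, -1, 1, 0, 0, 0, 0, 0, 0, 0, -1, 0, 0, 0, 0, -1, 1],
  [0, 1, 0, 0, 0, 0, 0, 0, -1, 0, 0, 0, 0, 0, 0, 0, 0, 0, 1, 0, 0, 1, 0, -1],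
  [1, 0, 0, 0, 0, 0, 0, 0, 0, 1, 0, 0, 0, 0, -1, 0, -1, -1, 0, 0, -1, 0, -1, 2],
  [0, 0, 0, 0, 0, 0, 0, 0, 0, 1, 0, 0, 0, 0, 0, 0, -1, 0, 0, 0, -1, 0, 0, 1],
  [0, 0, 0, 0, 0, 0, 0, 0, -1, 1, 0, 0, 0, 1, 0, 0, 0, 0, 1, 0, 0, 0, 0, -1],
  [0, 0, 0, 0, 0, 0, 0, 1, 0, 0, 0, 0, 0, 0, 0, -1, 0, 0, 0, 0, -1, 0, 0, 1],
  [0, 0, 0, 0, 0, 0, 1, 0, 0, 0, 0, 0, 0, 0, 0, -1, 0, 0, 0, 0, 0, 0, 0, 0],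
  [1, 1, 1, 1, 1, 1, 1, 1, 0, 1, 1, -2, -3, -2, -3, -2, -2, -2, -2, -2, -3, -2, -2, 10],
  [0, 0, 0, 0, 0, 0, 0, 0, 0, 1, 1, 0, 0, 0, -1, -1, -1, 0, 0, 0, -1, -1, 0, 2],
  [1, 1, 0, 1, 0, 1, 1, 1, 0, -1, 1, -1, -2, -1, -2, -2, -1, -1, -2, -1, -1, -1, -1, 6],
  [0, 0, 0, 0, 0, 0, 0, 0, 0, 2, 0, 0, 1, 0, -1, 0, -1, -1, 0, -1, -1, -1, -1, 3],
  [0, 0, 0, 0, 0, 0, 0, 0, 0, 2, 0, 0, 0, 0, -1, 0, -1, -1, 0, -1, -1, 0, -1, 3],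
  [0, 0, 0, 0, 0, 0, 0, 0, 0, 2, 0, 0, 0, 0, -1, 0, -1, 0, 0, -1, -1, -1, -1, 3],
  [0, 0, 0, 0, 0, 0, 0, 0, 0, 2, 0, 0, 0, 0, -1, -1, -1, -1, 0, -1, -1, -1, -1, 4],
  [0, 0, 0, 0, 0, 0, 0, 0, 0, 2, 0, 0, 0, 0, -1, 0, -1, -1, 0, -1, -1, -1, -1, 3],
  [0, 0, 0, 0, 0, 0, 0, 0, 0, 2, 0, 0, 0, 0, -1, 0, -1, -1, 0, -1, -2, -1, -1, 4],
  [0, 0, 0, 0, 0, 0, 0, 0, 0, 2, 0, 0, 0, 0, 0, 0, -1, -1, 0, -1, -1, -1, -1, 3],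
  [0, 0, 0, 0, 0, 0, 0, 0, 0, 2, 0, 0, 0, 0, -1, 0, -1, -1, 1, -1, -1, -1, -1, 3],
  [0, 0, 0, 0, 0, 0, 0, 0, 0, 2, 0, 0, 0, 0, -1, 0, -1, -1, 0, 0, -1, -1, -1, 3],
  [0, 0, 0, 0, 0, 0, 0, 0, 0, 2, 0, 0, 0, 0, -1, 0, -1, -1, 0, -1, -1, -1, 0, 3],
  [0, 0, 0, 0, 0, 0, 0, 0, -2, 2, 0, 0, 0, 1, -1, 1, 0, -1, 1, 0, 0, 0, -1, 0],
  [0, 0, 0, 0, 0, 0, 0, 0, 0, 4, 0, 0, 0, 0, -2, 0, -2, -2, 0, -2, -2, -2, -2, 7]]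

noncomputable def W0 : List (List ℤ) :=
  [[1, 1, -1, 1, 0, 0, 0, 1, -1, 1, 0, 1, 0, -1, 0, -1, -1, 0, -1, -1, -2, -1, -1, -2],
  [1, 0, 0, 2, 0, 1, 0, 1, 0, 1, 0, 1, 0, -1, -1, -2, -1, 0, 0, -1, -1, 0, -1, -2],
  [1, 1, 0, 2, 1, 1, 1, 1, 0, 2, 1, 1, 1, 0, 1, -1, 0, 0, 0, 1, 0, 1, 0, 0],
  [2, 2, 1, 2, 0, 1, 2, 1, 0, 1, 1, 1, 1, 0, 1, 0, 0, 0, 1, 0, -1, 1, 1, 0],
  [1, 1, 0, 2, 0, 0, 1, 1, 1, 1, 0, 2, 0, -1, -1, -1, -1, -1, 0, 0, -2, 0, -1, -2],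
  [1, 1, 0, 2, 0, 1, 2, 1, 0, 2, 0, 1, 0, 0, 1, 0, -1, 1, 0, 1, -1, 1, 1, 0],
  [2, 1, 1, 2, 1, 2, 1, 1, 0, 2, 0, 1, 0, 1, 1, -1, 0, 1, 1, 0, 0, 0, 1, 0],
  [2, 1, 0, 2, 1, 1, 1, 2, 0, 1, 0, 1, 1, 0, 1, -1, 0, 1, 1, 1, -1, 0, 0, 0],
  [1, 1, 0, 2, 0, 1, 2, 1, 1, 2, 0, 2, -1, -1, 0, -2, -1, -1, 0, 0, -1, 0, 0, -2],
  [1, 1, 0, 2, 0, 0, 1, 1, 0, 1, -1, 1, -1, -1, -1, -1, -1, 0, 0, 0, -2, -1, 0, -2],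
  [1, 1, 0, 2, 1, 0, 0, 1, 0, 2, 0, 2, 0, -1, -1, -2, -1, 0, -1, 0, -1, -1, 0, -2],
  [1, 1, 0, 2, 0, 1, 1, 1, 0, 0, 0, 1, 0, 0, 0, -1, -1, 0, 0, 0, -1, 0, 0, -1],
  [1, 1, 1, 1, 1, 0, 0, 1, 0, 1, 1, 1, 2, 0, 0, 0, 0, 0, 0, 0, 0, 0, 0, 0],
  [0, 0, 0, 1, 0, 1, 1, 0, 1, 2, 1, 1, 0, 0, 0, 0, 0, 0, 0, 0, 0, 2, 0, 0],
  [1, 0, 0, 1, 1, 1, 0, 1, 0, 2, 0, 1, 0, 0, 0, 0, 0, 2, 0, 0, 0, 0, 0, 0],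
  [0, -1, -1, 0, 0, 0, -1, -1, -1, 1, -1, 0, 0, 0, 0, -2, 0, 0, 0, 0, 0, 0, 0, 0],
  [-1, 0, -1, 0, -1, -1, -1, 0, 0, 1, -1, 2, -2, -2, -2, -2, -2, -2, -2, -2, -2, -2, -2, -4],
  [0, 0, -1, 0, -1, -1, 0, -1, -1, 0, -1, 0, 0, 0, 0, 0, 0, 0, 0, 0, -2, 0, 0, 0],
  [1, 1, 0, 0, 0, 1, 1, 1, 0, 2, 1, 1, 0, 0, 2, 0, 0, 0, 0, 0, 0, 0, 0, 0],
  [1, 0, 1, 1, 0, 1, 1, 1, 1, 1, 0, 1, 0, 0, 0, 0, 0, 0, 2, 0, 0, 0, 0, 0],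
  [0, 1, 0, 1, 1, 0, 1, 1, 1, 2, 0, 1, 0, 0, 0, 0, 0, 0, 0, 2, 0, 0, 0, 0],
  [1, 1, 1, 1, 0, 0, 1, 0, 0, 2, 0, 1, 0, 0, 0, 0, 0, 0, 0, 0, 0, 0, 2, 0],
  [0, 0, 0, 0, 0, 0, 0, 0, -1, 1, 0, 0, 0, 0, 0, 0, 0, 0, 0, 0, 0, 0, 0, 0],
  [0, 0, 0, 0, 0, 0, 0, 0, 0, 2, 0, 1, 0, 0, 0, 0, 0, 0, 0, 0, 0, 0, 0, 0]]

theorem iso0 : chkIso C0 W0 = true :=
  by decide +kernel

theorem rep0 : ∃ g ∈ centralizer ({sgn _ o0_GC} : Set Co0), RepBy 135 (lpt 256 P []) g (wp ns [0]) :=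
  ⟨elt C0 W0 iso0, mem_centralizer_singleton_iff.2
    (eX ▸ elt_mul_eq iso0 isoX isoX iso0 (by decide +kernel)),
    repBy_of_chkRep ctx iso0 (l0 := 0) (by decide +kernel)⟩

noncomputable def C1 : List (List ℤ) :=
  [[2, 1, 1, 2, 1, 1, 1, 2, 1, 1, 1, -3, -4, -3, -4, -3, -3, -4, -4, -4, -3, -3, -3, 16],
  [1, 0, 0, 0, 0, 0, 0, 1, 1, 0, 0, -1, -1, 0, -1, -1, -1, -1, -1, -1, -1, -1, 0, 4],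
  [1, 0, 0, 1, 1, 1, 0, 1, 1, -1, 0, -1, -2, -2, -1, -1, -1, -2, -2, -1, -1, -1, 0, 6],
  [1, 0, 0, 1, 0, 0, 0, 0, 1, 0, 0, -1, -1, -1, 0, -1, -1, -1, -1, -1, 0, -1, -1, 4],
  [2, 0, 1, 1, 1, 0, 1, 1, 1, 0, 1, -2, -3, -2, -2, -2, -2, -2, -3, -2, -2, -2, -2, 10],
  [1, 1, 1, 1, 1, 1, 1, 1, 1, 0, 1, -2, -3, -3, -3, -3, -2, -2, -3, -3, -2, -2, -2, 12],
  [1, 1, 1, 1, 1, 1, 0, 1, 2, 1, 1, -2, -3, -3, -3, -3, -3, -3, -3, -3, -3, -3, -2, 14],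
  [1, 0, 0, 1, 1, 1, 1, 1, 2, 0, 1, -2, -2, -2, -2, -2, -2, -2, -3, -3, -2, -3, -1, 10],
  [0, 0, 0, 0, 0, -1, 0, 0, 1, -1, 0, 0, 0, 0, 1, -1, 0, 1, 0, 0, 1, 0, 1, -1],
  [1, 1, 1, 1, 1, 0, 0, 1, 1, 1, 1, -2, -3, -2, -2, -2, -3, -2, -2, -3, -2, -2, -2, 11],
  [2, 1, 0, 1, 1, 1, 1, 1, 1, 1, 1, -2, -3, -2, -4, -2, -3, -3, -3, -3, -2, -3, -2, 13],
  [0, -1, -1, 0, -1, -1, -1, 0, 0, -1, 0, 1, 1, 2, 2, 1, 1, 1, 1, 1, 2, 1, 2, -6],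
  [2, 0, 0, 1, 1, 1, 1, 1, 1, 1, 0, -2, -2, -2, -3, -1, -2, -3, -3, -2, -2, -2, -2, 10],
  [1, 1, 1, 1, 1, 1, 1, 1, 1, 0, 1, -2, -3, -3, -3, -3, -2, -2, -3, -2, -3, -2, -2, 12],
  [2, 2, 2, 2, 2, 2, 2, 2, 2, 2, 2, -4, -6, -5, -7, -5, -5, -5, -6, -6, -6, -5, -5, 26],
  [1, 1, 1, 1, 1, 2, 1, 1, 2, 1, 1, -2, -3, -4, -4, -3, -3, -3, -4, -3, -4, -4, -2, 16],
  [1, 1, 1, 1, 1, 0, 1, 1, 0, 1, 1, -2, -3, -2, -3, -2, -2, -2, -2, -2, -2, -2, -2, 10],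
  [2, 2, 2, 2, 2, 2, 2, 2, 2, 2, 2, -4, -6, -6, -6, -5, -5, -5, -6, -6, -6, -5, -5, 26],
  [1, 1, 1, 1, 1, 1, 1, 1, 1, 0, 1, -2, -3, -3, -3, -3, -2, -2, -3, -2, -2, -2, -2, 11],
  [1, 1, 1, 1, 1, 0, 1, 1, 2, 1, 1, -2, -3, -3, -3, -3, -3, -2, -3, -3, -3, -3, -3, 14],
  [1, 1, 1, 1, 1, 1, 1, 1, 1, 0, 1, -2, -3, -3, -3, -2, -2, -2, -3, -2, -2, -2, -2, 11],
  [1, 1, 1, 1, 1, 1, 1, 1, 1, 2, 1, -2, -3, -3, -4, -3, -3, -3, -3, -3, -3, -3, -3, 15],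
  [1, 1, 1, 1, 1, 1, 0, 1, 1, 1, 1, -2, -3, -3, -3, -2, -3, -3, -2, -2, -3, -2, -2, 12],
  [2, 2, 2, 2, 2, 2, 2, 2, 2, 2, 2, -4, -6, -6, -7, -5, -5, -5, -6, -5, -6, -5, -5, 26]]

noncomputable def W1 : List (List ℤ) :=
  [[0, -1, 0, 0, -1, -1, -1, 0, -1, -1, -1, -1, 0, -1, -1, -1, -1, -1, 0, -1, 0, -1, 0, -1],
  [0, -1, 0, -1, -1, -1, -1, -1, -1, -2, -2, -2, 0, 1, 0, 0, 0, 0, 1, 0, 0, -1, 1, 1],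
  [0, -1, 0, 0, 0, 0, 0, 0, 0, -1, -1, -1, 0, 0, 0, 0, 0, 0, 1, 1, 1, 0, 1, 1],
  [0, -2, -1, -1, -1, 0, -1, -1, -1, -1, -1, -2, 0, 0, 1, -1, 0, 0, 1, 0, 1, 0, 0, 1],
  [1, -1, 0, -1, 0, -1, 0, 0, -1, -1, 0, -2, 1, 0, 1, 1, 1, 1, 1, 1, 1, 0, 1, 2],
  [0, -2, 0, -1, 0, 0, -1, -1, -1, -1, 0, -2, 1, 0, 0, 0, 1, 1, 1, 0, 2, 1, 1, 2],
  [-1, -1, 0, -1, 0, -1, -2, -1, 0, -1, -1, -1, 0, 0, -1, -1, 0, -1, 0, 0, 1, -1, 0, 0],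
  [0, -1, 0, -1, 0, 0, -1, 0, 0, -1, 0, -1, 0, 0, 0, 0, 0, 0, 0, -1, 1, -1, 0, 0],
  [1, 0, 1, 0, 1, 0, 0, 0, 0, 0, 0, -1, 1, 1, 1, 0, 1, 1, 1, 1, 2, 0, 2, 2],
  [0, -1, 1, -1, 0, 0, -1, 0, -1, -1, 0, -2, 1, 1, 1, 1, 0, 1, 1, 0, 2, 0, 1, 2],
  [1, 0, 1, 0, 1, 0, 0, 0, 0, 0, 0, -1, 1, 1, 0, 1, 1, 1, 1, 1, 2, 0, 2, 2],
  [0, -1, 0, -1, -1, 0, -1, -1, -1, -1, 0, -1, 0, 1, 1, 0, 0, 0, 0, -1, 1, 0, 1, 1],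
  [0, -1, -1, 0, 0, -1, 0, 0, 0, 0, -1, -1, 0, -1, -1, 0, 0, 0, 0, 1, 0, 0, 0, 0],
  [0, -1, -1, 0, 0, -1, 0, -1, -1, -1, -1, -2, 1, 0, 0, 0, 1, 1, 1, 2, 0, 1, 1, 2],
  [-1, -1, 0, 0, 0, -1, -1, -1, 0, -1, -1, -1, 0, 0, -2, 0, 0, 0, 0, 0, 0, 0, 0, 0],
  [0, 0, 0, 0, 0, -1, 0, 0, 0, 0, -1, 0, 0, -1, -1, 0, 0, 0, 0, 1, 0, -1, 1, 0],
  [0, 0, 0, 0, 0, -2, 0, 0, -1, 0, -1, -1, 0, -1, -1, 0, 0, 0, 0, 1, 0, -1, 1, 0],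
  [0, -1, -1, -1, -1, -1, 0, 0, -1, 0, 0, -1, 0, -2, 0, 0, 0, 0, 0, 0, 0, 0, 0, 0],
  [-1, -1, -1, 0, 0, -1, -1, 0, 0, 0, -1, 0, -1, -2, -2, -2, -1, -1, -1, 0, 0, -1, -1, -2],
  [-1, -1, -1, -1, 0, -2, -1, 0, 0, -1, -1, -1, 0, -1, -1, 0, 0, 0, 0, 1, 0, -1, -1, 0],
  [0, 0, 1, 0, 1, 0, 1, 1, 1, 0, 1, -1, 1, 0, 0, 2, 1, 1, 1, 2, 2, 1, 1, 2],
  [0, -1, 0, 0, 1, 0, 0, 0, 0, 1, 0, -1, 1, 0, 0, 0, 1, 1, 1, 2, 2, 1, 1, 2],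
  [-1, -1, 0, 0, -1, -1, 0, 0, 0, -1, -1, -1, 0, -1, -1, 0, -1, -1, 1, 1, 0, 0, 0, 0],
  [-1, -1, -1, 0, 0, -2, 0, 0, 0, 0, -1, -1, 0, -2, -2, 0, 0, 0, 0, 2, 0, 0, 0, 0]]

theorem iso1 : chkIso C1 W1 = true :=
  by decide +kernel

theorem rep1 : ∃ g ∈ centralizer ({sgn _ o0_GC} : Set Co0), RepBy 135 (lpt 256 P []) g (wp ns [2]) :=
  ⟨elt C1 W1 iso1, mem_centralizer_singleton_iff.2
    (eX ▸ elt_mul_eq iso1 isoX isoX iso1 (by decide +kernel)),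
    repBy_of_chkRep ctx iso1 (l0 := 0) (by decide +kernel)⟩

theorem reps : Reps 135 (lpt 256 P []) (centralizer ({sgn _ o0_GC} : Set Co0)) ns [[0], [2]] :=
  Reps.cons rep0 (Reps.cons rep1 Reps.nil)

theorem hinj : chkInj 256 135 ns P [] [[0], [2]] [0] 7 = true :=
  by decide +kernel

theorem pt0 : lpt 256 P [] 0 = fr :=
  by
  rw [lpt_eq_of_chkPtv [] (x := [0, 0, 0, 0, 0, 0, 0, 0, 0, 0, 0, 0, 0, 0, 0, 0, 0, 0, 0, 0, 0, 0, 0, 1]) (by decide +kernel), emb_nil, fr]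
  exact congrArg _ (Subtype.ext (funext fun p => by rw [emb_toF]; revert p; decide +kernel))

theorem le_frOrb : 135 ≤ (frOrb (sgn _ o0_GC)).ncard :=
  by
  obtain ⟨gs, a, -⟩ := reps.forall₂
  have inj := inj_of_chkInj ctx a hinj
  have h := hinj
  simp only [chkInj, and'_eq_true, beq_iff] at h
  have h1 : lpt 256 P [] '' Set.Iio 135 ⊆ frOrb (sgn _ o0_GC) := by
    rintro _ ⟨i, hi, rfl⟩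
    have b := congrArg (·.testBit i) h.2.2
    change (grow ns _ _ _ &&& ones 135).testBit i = _ at b
    rw [Nat.testBit_and, testBit_ones, decide_eq_true (Set.mem_Iio.1 hi), Bool.and_true] at b
    obtain ⟨j, -, hj, g, hg, e⟩ := reach_grow ctx.ok (fun u hu => wp_mem_gen ns hu) _ _ i
      ((Set.mem_Iio.1 hi).trans (by norm_num)) b
    obtain ⟨p, hp, d⟩ := (testBit_orL _ _ _).1 hj
    obtain rfl := List.mem_singleton.1 hp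
    have e1 : Nat.shiftLeft 1 0 = 2 ^ 0 := rfl
    rw [e1, Nat.testBit_two_pow] at d
    obtain rfl := of_decide_eq_true d
    obtain ⟨g', a1, a2⟩ := reps.of_mem hg
    exact ⟨g', a1, by rw [← pt0, a2.2 0 (by norm_num), e]⟩
  have h2 : (lpt 256 P [] '' Set.Iio 135).ncard = 135 := by
    rw [Set.InjOn.ncard_image (s := Set.Iio 135) fun i hi j hj => inj i hi j hj, ← Finset.coe_Iio,
      Set.ncard_coe_finset, Nat.card_Iio]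
  have := LES.Co.finite_Co0
  exact h2 ▸ Set.ncard_le_ncard h1 ((Set.finite_range fun g : Co0 => g • fr).subset
    fun _ ⟨g, _, e⟩ => ⟨g, e⟩)

end Cfsg.Agent.Spor.Co1Frames
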