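import Cfsg.Agent.Comp.MatClass

set_option autoImplicit false
set_option maxRecDepth 4096

namespace Cfsg.Agent.Spor.ModelSp62

open Cfsg.Agent.Comp

noncomputable def ns_0 : Net :=
 (Net.cons (nat_lit 32) (nat_lit 0x9d07b888)
 (Net.cons (nat_lit 16) (nat_lit 0x659000005412)
 (Net.cons (nat_lit 8) (nat_lit 0x200a5001200a8)
 (Net.cons (nat_lit 4) (nat_lit 0x3020d0706030206)
 (Net.cons (nat_lit 2) (nat_lit 0x3001330303311101)
 (Net.cons (nat_lit 1) (nat_lit 0x1510145415140050)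
 (Net.cons (nat_lit 2) (nat_lit 0x20000200200000)
 (Net.cons (nat_lit 4) (nat_lit 0x20204060c0006)
 (Net.cons (nat_lit 8) (nat_lit 0x9000e4001200a0)
 (Net.cons (nat_lit 16) (nat_lit 0x49000005400)
 (Net.cons (nat_lit 32) (nat_lit 0x9d02b888)
 Net.nil)))))))))))

noncomputable def ns_1 : Net :=
 (Net.cons (nat_lit 32) (nat_lit 0xba117026)
 (Net.cons (nat_lit 16) (nat_lit 0xda9500008765)
 (Net.cons (nat_lit 8) (nat_lit 0xa500680061008a)
 (Net.cons (nat_lit 4) (nat_lit 0x60f02020908060f)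
 (Net.cons (nat_lit 2) (nat_lit 0x1133230223302100)
 (Net.cons (nat_lit 1) (nat_lit 0x414115001155140)
 (Net.cons (nat_lit 2) (nat_lit 0x200000000000020)
 (Net.cons (nat_lit 4) (nat_lit 0xc020408060c0008)
 (Net.cons (nat_lit 8) (nat_lit 0x4000c2003000b0)
 (Net.cons (nat_lit 16) (nat_lit 0xb9a00000d018)
 (Net.cons (nat_lit 32) (nat_lit 0xa370f170)
 Net.nil)))))))))))

noncomputable def ns_2 : Net :=
 (Net.cons (nat_lit 32) (nat_lit 0x6b79cf1c)
 (Net.cons (nat_lit 16) (nat_lit 0xc93800006164)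
 (Net.cons (nat_lit 8) (nat_lit 0xcf00b300a10072)
 (Net.cons (nat_lit 4) (nat_lit 0x309090c0d090a08)
 (Net.cons (nat_lit 2) (nat_lit 0x1210233230132010)
 (Net.cons (nat_lit 1) (nat_lit 0x4414014440144544)
 (Net.cons (nat_lit 2) (nat_lit 0x2000000220202020)
 (Net.cons (nat_lit 4) (nat_lit 0x80e040804040402)
 (Net.cons (nat_lit 8) (nat_lit 0x4008c00440030)
 (Net.cons (nat_lit 16) (nat_lit 0x928400004394)
 (Net.cons (nat_lit 32) (nat_lit 0x1433d40)
 Net.nil)))))))))))

noncomputable def ns_3 : Net :=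
 (Net.cons (nat_lit 32) (nat_lit 0x93930e40)
 (Net.cons (nat_lit 16) (nat_lit 0xb44600003012)
 (Net.cons (nat_lit 8) (nat_lit 0xbf002d000800b2)
 (Net.cons (nat_lit 4) (nat_lit 0x30305020d0e010c)
 (Net.cons (nat_lit 2) (nat_lit 0x2302321201210030)
 (Net.cons (nat_lit 1) (nat_lit 0x5445011041545404)
 (Net.cons (nat_lit 2) (nat_lit 0x20020020020002)
 (Net.cons (nat_lit 4) (nat_lit 0x40e0a0c080200)
 (Net.cons (nat_lit 8) (nat_lit 0x62006c004200e2)
 (Net.cons (nat_lit 16) (nat_lit 0x9be200004980)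
 (Net.cons (nat_lit 32) (nat_lit 0x940ac432)
 Net.nil)))))))))))

noncomputable def ns_4 : Net :=
 (Net.cons (nat_lit 32) (nat_lit 0x16641239)
 (Net.cons (nat_lit 16) (nat_lit 0x15d0000016bf)
 (Net.cons (nat_lit 8) (nat_lit 0xda006b00150089)
 (Net.cons (nat_lit 4) (nat_lit 0xc0e0f090c0b0601)
 (Net.cons (nat_lit 2) (nat_lit 0x1333231033323010)
 (Net.cons (nat_lit 1) (nat_lit 0x5104140414145141)
 (Net.cons (nat_lit 2) (nat_lit 0x202020220000000)
 (Net.cons (nat_lit 4) (nat_lit 0x808040e04060800)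
 (Net.cons (nat_lit 8) (nat_lit 0xd0000800ae00e4)
 (Net.cons (nat_lit 16) (nat_lit 0x59d000005e5c)
 (Net.cons (nat_lit 32) (nat_lit 0x46428fe4)
 Net.nil)))))))))))

noncomputable def ns_5 : Net :=
 (Net.cons (nat_lit 32) (nat_lit 0xced09c72)
 (Net.cons (nat_lit 16) (nat_lit 0xc6650000ca42)
 (Net.cons (nat_lit 8) (nat_lit 0x20042009d00f8)
 (Net.cons (nat_lit 4) (nat_lit 0x8050b0f0e06)
 (Net.cons (nat_lit 2) (nat_lit 0x230112030201002)
 (Net.cons (nat_lit 1) (nat_lit 0x1411444111141104)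
 (Net.cons (nat_lit 2) (nat_lit 0x220000000220002)
 (Net.cons (nat_lit 4) (nat_lit 0xa000600020004)
 (Net.cons (nat_lit 8) (nat_lit 0x5800d6008e00b6)
 (Net.cons (nat_lit 16) (nat_lit 0xddb0000088da)
 (Net.cons (nat_lit 32) (nat_lit 0xf3f3cec2)
 Net.nil)))))))))))

noncomputable def ns_6 : Net :=
 (Net.cons (nat_lit 32) (nat_lit 0xc3c0836a)
 (Net.cons (nat_lit 16) (nat_lit 0x10e7000064d6)
 (Net.cons (nat_lit 8) (nat_lit 0x11009f00b3000a)
 (Net.cons (nat_lit 4) (nat_lit 0xb0e080d010c0708)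
 (Net.cons (nat_lit 2) (nat_lit 0x2311021131013022)
 (Net.cons (nat_lit 1) (nat_lit 0x1045144105104514)
 (Net.cons (nat_lit 2) (nat_lit 0x2000202000200020)
 (Net.cons (nat_lit 4) (nat_lit 0x402080a0c0c000a)
 (Net.cons (nat_lit 8) (nat_lit 0x2400dc0096004a)
 (Net.cons (nat_lit 16) (nat_lit 0xc6e00007fd6)
 (Net.cons (nat_lit 32) (nat_lit 0xc761e452)
 Net.nil)))))))))))

noncomputable def ns_7 : Net :=
 (Net.cons (nat_lit 32) (nat_lit 0x20264e00)
 (Net.cons (nat_lit 16) (nat_lit 0x7848000026a0)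
 (Net.cons (nat_lit 8) (nat_lit 0xe0005000c800d8)
 (Net.cons (nat_lit 4) (nat_lit 0x80600080c00040c)
 (Net.cons (nat_lit 2) (nat_lit 0x22100002022022)
 (Net.cons (nat_lit 1) (nat_lit 0x1044004000111410)
 (Net.cons (nat_lit 2) (nat_lit 0x22000000022020)
 (Net.cons (nat_lit 4) (nat_lit 0x808000408)
 (Net.cons (nat_lit 8) (nat_lit 0xe0005000c800d8)
 (Net.cons (nat_lit 16) (nat_lit 0x7848000006a0)
 (Net.cons (nat_lit 32) (nat_lit 0x20264e00)
 Net.nil)))))))))))

noncomputable def ns_8 : Net :=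
 (Net.cons (nat_lit 32) (nat_lit 0x98c3086)
 (Net.cons (nat_lit 16) (nat_lit 0xc89400009064)
 (Net.cons (nat_lit 8) (nat_lit 0xb7000a00500030)
 (Net.cons (nat_lit 4) (nat_lit 0xb0d040b0809080c)
 (Net.cons (nat_lit 2) (nat_lit 0x2010023031130022)
 (Net.cons (nat_lit 1) (nat_lit 0x1144111410410414)
 (Net.cons (nat_lit 2) (nat_lit 0x2200022220000200)
 (Net.cons (nat_lit 4) (nat_lit 0x208000c08020800)
 (Net.cons (nat_lit 8) (nat_lit 0x14002200000050)
 (Net.cons (nat_lit 16) (nat_lit 0xc9440000ca28)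
 (Net.cons (nat_lit 32) (nat_lit 0x1382836)
 Net.nil)))))))))))

noncomputable def ns_9 : Net :=
 (Net.cons (nat_lit 32) (nat_lit 0xdd0cb210)
 (Net.cons (nat_lit 16) (nat_lit 0xf59e00000724)
 (Net.cons (nat_lit 8) (nat_lit 0xe00f200740038)
 (Net.cons (nat_lit 4) (nat_lit 0xa0c080a090900)
 (Net.cons (nat_lit 2) (nat_lit 0x333303330202130)
 (Net.cons (nat_lit 1) (nat_lit 0x1510040510141410)
 (Net.cons (nat_lit 2) (nat_lit 0x20000020222000)
 (Net.cons (nat_lit 4) (nat_lit 0x40808000004)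
 (Net.cons (nat_lit 8) (nat_lit 0x6008a00260040)
 (Net.cons (nat_lit 16) (nat_lit 0xf0340000453c)
 (Net.cons (nat_lit 32) (nat_lit 0x8549b410)
 Net.nil)))))))))))

noncomputable def ns_10 : Net :=
 (Net.cons (nat_lit 32) (nat_lit 0xe4481c00)
 (Net.cons (nat_lit 16) (nat_lit 0x933400002430)
 (Net.cons (nat_lit 8) (nat_lit 0x8000600680020)
 (Net.cons (nat_lit 4) (nat_lit 0x402090004040800)
 (Net.cons (nat_lit 2) (nat_lit 0x210002100012000)
 (Net.cons (nat_lit 1) (nat_lit 0x4100044000000010)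
 (Net.cons (nat_lit 2) (nat_lit 0x200002000000000)
 (Net.cons (nat_lit 4) (nat_lit 0x400080000040800)
 (Net.cons (nat_lit 8) (nat_lit 0x8000400400020)
 (Net.cons (nat_lit 16) (nat_lit 0x933400002430)
 (Net.cons (nat_lit 32) (nat_lit 0xe4480c00)
 Net.nil)))))))))))

noncomputable def ns_11 : Net :=
 (Net.cons (nat_lit 32) (nat_lit 0x7981480)
 (Net.cons (nat_lit 16) (nat_lit 0x6a8400001f60)
 (Net.cons (nat_lit 8) (nat_lit 0x26008a009800a0)
 (Net.cons (nat_lit 4) (nat_lit 0x804020800)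
 (Net.cons (nat_lit 2) (nat_lit 0x201020200022310)
 (Net.cons (nat_lit 1) (nat_lit 0x410414440144000)
 (Net.cons (nat_lit 2) (nat_lit 0x200020200022000)
 (Net.cons (nat_lit 4) (nat_lit 0x40800020800)
 (Net.cons (nat_lit 8) (nat_lit 0x26008a009000a0)
 (Net.cons (nat_lit 16) (nat_lit 0x6a8400001f60)
 (Net.cons (nat_lit 32) (nat_lit 0x47181080)
 Net.nil)))))))))))

noncomputable def ns_12 : Net :=
 (Net.cons (nat_lit 32) (nat_lit 0x40884010)
 (Net.cons (nat_lit 16) (nat_lit 0xe82c00003800)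
 (Net.cons (nat_lit 8) (nat_lit 0xc8006000300000)
 (Net.cons (nat_lit 4) (nat_lit 0xc0a080c080a0000)
 (Net.cons (nat_lit 2) (nat_lit 0x1003200302030000)
 (Net.cons (nat_lit 1) (nat_lit 0x445000000150000)
 (Net.cons (nat_lit 4) (nat_lit 0xc0a080c080a0000)
 (Net.cons (nat_lit 8) (nat_lit 0xc8006000300000)
 (Net.cons (nat_lit 16) (nat_lit 0xc82400003000)
 (Net.cons (nat_lit 32) (nat_lit 0x40884000)
 Net.nil))))))))))

noncomputable def ns : List Net := [ns_0, ns_1, ns_2, ns_3, ns_4, ns_5, ns_6, ns_7, ns_8, ns_9, ns_10, ns_11, ns_12]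

theorem ctx : Ctx 64 6 ns := ctx_of (by decide +kernel)

open Cfsg Cfsg.Agent.Comp.Kron Cfsg.Agent.Class
open scoped MatrixGroups

noncomputable def G_C6 : List Lvl :=
  []

noncomputable def G_ss5 : List (List ℕ) :=
  [[24]]

noncomputable def G_D5 : ℕ :=
  nat_lit 0x1000000010

noncomputable def G_l5 : Lvl :=
  ⟨4, [[24]],
  tabA [(36, 1024)], 1⟩

noncomputable def G_C5 : List Lvl :=
  G_l5 :: G_C6

noncomputable def G_ss4 : List (List ℕ) :=
  [[20], [22]]

noncomputable def G_D4 : ℕ :=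
  270368

noncomputable def G_l4 : Lvl :=
  ⟨5, [[20], [22], [24]],
  tabA [(13, 1280), (18, 1282)], 1⟩

noncomputable def G_C4 : List Lvl :=
  G_l4 :: G_C5

noncomputable def G_ss3 : List (List ℕ) :=
  [[16], [18]]

noncomputable def G_D3 : ℕ :=
  nat_lit 0x120000063028

noncomputable def G_l3 : Lvl :=
  ⟨3, [[16], [18], [20], [22], [24]],
  tabA [(17, 768), (12, 769), (44, 771), (5, 4352), (13, 3074), (18, 11265), (41, 1282)], 3⟩

noncomputable def G_C3 : List Lvl :=
  G_l3 :: G_C4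

noncomputable def G_ss2 : List (List ℕ) :=
  [[10], [12]]

noncomputable def G_D2 : ℕ :=
  nat_lit 0x40c016000087302c

noncomputable def G_l2 : Lvl :=
  ⟨2, [[10], [12], [16], [18], [20], [22], [24]],
  tabC 14 16383 [nat_lit 0x3603000000000000000000000d81420000000000000000000000000000000002a030000201400000000000000000000000000000000000000000000000000000000000000d81000000000000000d0cd8082020000000d800d03000000000000000000000a80400034080000000000], 3⟩

noncomputable def G_C2 : List Lvl :=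
  G_l2 :: G_C3

noncomputable def G_ss1 : List (List ℕ) :=
  [[4], [6]]

noncomputable def G_D1 : ℕ :=
  nat_lit 0x60c87e1008f7f8fe

noncomputable def G_l1 : Lvl :=
  ⟨1, [[4], [6], [14], [10], [12], [16], [18], [20], [22], [24]],
  tabC 14 16383 [nat_lit 0x2a0aac20000000000000000001422a0e0000000040800000000000000103f808c0630101011430000000000000033080000000000000000000000000000a80c0000000000301cc00cc06e0000033023026a0d0412b093020100cc000000000000cc1f309300960c302aa060000000], 3⟩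

noncomputable def G_C1 : List Lvl :=
  G_l1 :: G_C2

noncomputable def G_ss0 : List (List ℕ) :=
  [[0], [2]]

noncomputable def G_D0 : ℕ :=
  nat_lit 0x7fffffffffffffff

noncomputable def G_l0 : Lvl :=
  ⟨0, [[0], [2], [8], [4], [6], [14], [10], [12], [16], [18], [20], [22], [24]],
  tabC 14 16383 [nat_lit 0x2d091825a0ea037102c44280cf42640aa04070318115051001104a03e40d00151161847d04b418602ac08704c4240031012405b4168099003d0268268061040603cc128121028413184c605a052d0200104076800610101910e1831a056c09102181c0004430002182a4061008000], 3⟩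

noncomputable def G_C0 : List Lvl :=
  G_l0 :: G_C1

theorem G_lb6 : 1 ≤ Nat.card (cgrp ns G_C6) :=
  lb_nil _

theorem G_le5 : gen ns G_l5.ws ≤ gen ns G_ss5 :=
  gen_le_step ctx (tgt := [])
  (es := []) (le_refl (gen _ [])) (by decide +kernel)

theorem G_lv5 : chkLvl 64 ns G_l5 G_C6 G_D5 1 = true :=
  by decide +kernel

theorem G_lb5 : 2 ≤ Nat.card (cgrp ns G_C5) :=
  lb_step ctx G_lv5 G_lb6 (by decide +kernel)

theorem G_le4 : gen ns G_l4.ws ≤ gen ns G_ss4 :=
  gen_le_step ctx (tgt := [[24]])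
  (es := [([24], [3, 0, 2])]) G_le5 (by decide +kernel)

theorem G_lv4 : chkLvl 64 ns G_l4 G_C5 G_D4 1 = true :=
  by decide +kernel

theorem G_lb4 : 6 ≤ Nat.card (cgrp ns G_C4) :=
  lb_step ctx G_lv4 G_lb5 (by decide +kernel)

theorem G_le3 : gen ns G_l3.ws ≤ gen ns G_ss3 :=
  gen_le_step ctx (tgt := [[20], [22]])
  (es := [([20], [1, 2]), ([22], [4, 4, 2, 2, 5, 2, 2, 2])]) G_le4 (by decide +kernel)

theorem G_lv3 : chkLvl 64 ns G_l3 G_C4 G_D3 2 = true :=
  by decide +kernel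

theorem G_lb3 : 48 ≤ Nat.card (cgrp ns G_C3) :=
  lb_step ctx G_lv3 G_lb4 (by decide +kernel)

theorem G_le2 : gen ns G_l2.ws ≤ gen ns G_ss2 :=
  gen_le_step ctx (tgt := [[16], [18]])
  (es := [([16], [0, 0, 2, 2]), ([18], [3, 5, 3, 3, 3])]) G_le3 (by decide +kernel)

theorem G_lv2 : chkLvl 64 ns G_l2 G_C3 G_D2 2 = true :=
  by decide +kernel

theorem G_lb2 : 720 ≤ Nat.card (cgrp ns G_C2) :=
  lb_step ctx G_lv2 G_lb3 (by decide +kernel)

theorem G_le1 : gen ns G_l1.ws ≤ gen ns G_ss1 :=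
  gen_le_step ctx (tgt := [[10], [12], [14]])
  (es := [([10], [1, 1, 1, 1, 2, 1]), ([12], [3, 3, 4, 3, 4, 2, 4, 4, 4]), ([14], [5, 5, 5])]) G_le2 (by decide +kernel)

theorem G_lv1 : chkLvl 64 ns G_l1 G_C2 G_D1 1 = true :=
  by decide +kernel

theorem G_lb1 : 23040 ≤ Nat.card (cgrp ns G_C1) :=
  lb_step ctx G_lv1 G_lb2 (by decide +kernel)

theorem G_le0 : gen ns G_l0.ws ≤ gen ns G_ss0 :=
  gen_le_step ctx (tgt := [[4], [6], [8]])
  (es := [([4], [1, 2, 1, 3, 3, 3, 0, 2, 0, 3]), ([6], [4, 4, 2, 2, 4, 3, 4, 4]), ([8], [5, 7, 7, 5])]) G_le1 (by decide +kernel)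

theorem G_lv0 : chkLvl 64 ns G_l0 G_C1 G_D0 2 = true :=
  by decide +kernel

theorem G_lb0 : 1451520 ≤ Nat.card (cgrp ns G_C0) :=
  lb_step ctx G_lv0 G_lb1 (by decide +kernel)

theorem G_lb : 1451520 ≤ Nat.card (gen ns G_ss0) :=
  lb_of_le ctx G_le0 G_lb0

/-- enumeration of the coordinates -/
def ix (i : ℕ) : Fin 3 ⊕ Fin 3 := ([.inl 0, .inl 1, .inl 2, .inr 0, .inr 1, .inr 2] : List (Fin 3 ⊕ Fin 3)).getD i (.inl 0)

/-- its inverse -/
def qx : Fin 3 ⊕ Fin 3 → ℕ := Sum.elim (fun i => i.val) fun i => i.val + 3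

theorem hq : ∀ a, qx a < 6 ∧ ix (qx a) = a :=
  by decide

theorem all2ix : ∀ {P : Fin 3 ⊕ Fin 3 → Fin 3 ⊕ Fin 3 → Prop}, (∀ a < 6, ∀ b < 6, P (ix a) (ix b)) → ∀ a b, P a b :=
  fun h a b => by simpa only [(hq a).2, (hq b).2] using h _ (hq a).1 _ (hq b).1

noncomputable def MASK : ℕ :=
  nat_lit 0x100000100000100000100000100000100000010000010000010000010000010000010000001000001000001000001000001000001000000100000100000100000100000100000100000010000010000010000010000010000010000001000001000001000001000001000001000000000000000000000000000000000000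

noncomputable def MOD : ℕ :=
  nat_lit 0xffffffffffffffffffffffffffffffffffff

noncomputable def DW : ℕ :=
  nat_lit 0x1000000000000000000000000000000000001000000000000000000000000000000000001000000000000000000000000000000000001000000000000000000000000000000000001000000000000000000000000000000000001000000000000000000000000000000000000

noncomputable def Cw : ℕ :=
  nat_lit 0x100000010000001000000100000010000001

noncomputable def op : ℕ → ℕ → ℕ :=
  raw MASK MOD

theorem X : Kron.Ctx ix (1 : ZMod 2) 4 6 1 6 2 op DW :=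
  ctx_two (isEnum_of qx hq (by decide)) (isBase_zmod 2) Cw (by decide +kernel)

noncomputable def o : ℕ :=
  nat_lit 0x100000010000001000000100000010000001

theorem ho : matB 4 6 1 6 2 oneCode o = true :=
  by decide +kernel

noncomputable def S : ℕ → ℕ :=
  tabC 24 (ones 24) [nat_lit 0x1001011010000111010010010111100101010000001110101010000010110000001000010100010001100011110011011000001010111000101110111101011100100001100010010101000110101011100110010110110010110111000011100111110100000101011111100100010011110001111010111100111001001101110110001011111111011110101100111110011011101111001111100000000100110101011101101001001100111011101000011001101101000001]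

noncomputable def Z : ℕ :=
  nat_lit 0x100000010000001000000100000010000001

theorem hZ : matB 4 6 1 6 2 (scalCode (fun t => getL 0 [1, 0] t)) Z = true :=
  by decide +kernel

theorem hS : validT 4 6 6 2 63 S = true :=
  by decide +kernel

/-- the points -/
noncomputable def pt : ℕ → Sub (Fin 3 ⊕ Fin 3) (ZMod 2) := subPt ix (1 : ZMod 2) 4 6 6 S

noncomputable def C0 : ℕ :=
  nat_lit 0x100000010010001000001100000010101001

theorem act0 : ∀ g : GL (Fin 3 ⊕ Fin 3) (ZMod 2), RepE ix (1 : ZMod 2) 4 6 6 2 C0 g → RepBy 63 pt g (wp ns [0]) :=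
  fun _ hg => X.repBy_of_chkLine ctx hS hZ hg (t := 1) (by decide +kernel)

theorem rep0 : ∃ g ∈ (Kron.spGL (Fin 3) (ZMod 2)).range, RepBy 63 pt g (wp ns [0]) :=
  by
  obtain ⟨g, hg⟩ := X.exists_repE' ho (C := C0) (nat_lit 0x100000010010001000001100000010101001) (by decide +kernel)
  have hm := X.coe_eq_matS hq hg
  exact ⟨g, mem_spGL_range hm (all2ix (by decide +kernel)), act0 g hg⟩

noncomputable def C1 : ℕ :=
  nat_lit 0x110001101100101011011000100000111011

theorem act1 : ∀ g : GL (Fin 3 ⊕ Fin 3) (ZMod 2), RepE ix (1 : ZMod 2) 4 6 6 2 C1 g → RepBy 63 pt g (wp ns [2]) :=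
  fun _ hg => X.repBy_of_chkLine ctx hS hZ hg (t := 1) (by decide +kernel)

theorem rep1 : ∃ g ∈ (Kron.spGL (Fin 3) (ZMod 2)).range, RepBy 63 pt g (wp ns [2]) :=
  by
  obtain ⟨g, hg⟩ := X.exists_repE' ho (C := C1) (nat_lit 0x10001001001101011111101100101011) (by decide +kernel)
  have hm := X.coe_eq_matS hq hg
  exact ⟨g, mem_spGL_range hm (all2ix (by decide +kernel)), act1 g hg⟩

noncomputable def ls : List (List ℕ) :=
  [[0], [2]]

theorem repsL : Reps 63 pt (Kron.spGL (Fin 3) (ZMod 2)).range ns ls :=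
  Reps.cons rep0 (Reps.cons rep1 (Reps.nil))

theorem sep0 : Sep 63 pt 0 :=
  X.sep_of_chkSepSub hS (P := 1) (by decide +kernel)

theorem inj : ∀ i < 63, ∀ j < 63, pt i = pt j → i = j :=
  repsL.inj ctx (ps := [0]) 7 (List.forall_mem_cons.2 ⟨sep0, fun _ h => absurd h List.not_mem_nil⟩) (by decide +kernel)

theorem card : Nat.card (Matrix.symplecticGroup (Fin 3) (ZMod 2)) = 1451520 :=
  by
  rw [Sp.card_Sp, Nat.card_zmod]; decide +kernel

theorem model : ∃ e : Matrix.symplecticGroup (Fin 3) (ZMod 2) ≃* gen ns G_ss0,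
    ∀ g : Matrix.symplecticGroup (Fin 3) (ZMod 2), RepBy 63 pt (Kron.spGL (Fin 3) (ZMod 2) g) (e g : Equiv.Perm ℕ) :=
  Reps.exists_equiv (ws := G_ss0) _ inj repsL le_rfl (card.trans_le G_lb)

noncomputable def equiv : Matrix.symplecticGroup (Fin 3) (ZMod 2) ≃* gen ns G_ss0 :=
  Classical.choose model

theorem equiv_rep : ∀ g : Matrix.symplecticGroup (Fin 3) (ZMod 2), RepBy 63 pt (Kron.spGL (Fin 3) (ZMod 2) g) (equiv g : Equiv.Perm ℕ) :=
  Classical.choose_spec model

theorem G_card : Nat.card (gen ns G_ss0) = 1451520 :=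
  (Nat.card_congr equiv.toEquiv).symm.trans card

theorem G_eq : gen ns G_ss0 = cgrp ns G_C0 :=
  eq_of_le_of_lb ctx G_le0 G_card G_lb0

theorem G_card0 : Nat.card (cgrp ns G_C0) = 1451520 :=
  G_eq ▸ G_card

theorem G_st0 : IsStab 64 (gen ns G_l0.ws) (cgrp ns G_C1) G_l0.b G_D0 :=
  isStab_known ctx G_card0 G_lb1 G_lv0 (by decide +kernel)

theorem G_card1 : Nat.card (cgrp ns G_C1) = 23040 :=
  card_step ctx G_st0 G_card0 (by decide +kernel)

theorem G_st1 : IsStab 64 (gen ns G_l1.ws) (cgrp ns G_C2) G_l1.b G_D1 :=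
  isStab_known ctx G_card1 G_lb2 G_lv1 (by decide +kernel)

theorem G_card2 : Nat.card (cgrp ns G_C2) = 720 :=
  card_step ctx G_st1 G_card1 (by decide +kernel)

theorem G_st2 : IsStab 64 (gen ns G_l2.ws) (cgrp ns G_C3) G_l2.b G_D2 :=
  isStab_known ctx G_card2 G_lb3 G_lv2 (by decide +kernel)

theorem G_card3 : Nat.card (cgrp ns G_C3) = 48 :=
  card_step ctx G_st2 G_card2 (by decide +kernel)

theorem G_st3 : IsStab 64 (gen ns G_l3.ws) (cgrp ns G_C4) G_l3.b G_D3 :=
  isStab_known ctx G_card3 G_lb4 G_lv3 (by decide +kernel)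

theorem G_card4 : Nat.card (cgrp ns G_C4) = 6 :=
  card_step ctx G_st3 G_card3 (by decide +kernel)

theorem G_st4 : IsStab 64 (gen ns G_l4.ws) (cgrp ns G_C5) G_l4.b G_D4 :=
  isStab_known ctx G_card4 G_lb5 G_lv4 (by decide +kernel)

theorem G_card5 : Nat.card (cgrp ns G_C5) = 2 :=
  card_step ctx G_st4 G_card4 (by decide +kernel)

theorem G_st5 : IsStab 64 (gen ns G_l5.ws) (cgrp ns G_C6) G_l5.b G_D5 :=
  isStab_known ctx G_card5 G_lb6 G_lv5 (by decide +kernel)

theorem G_ver6 : Ver ns G_C6 1 :=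
  ver_nil _

theorem G_ver5 : Ver ns G_C5 2 :=
  G_ver6.cons ctx G_st5 (by decide +kernel)

theorem G_ver4 : Ver ns G_C4 6 :=
  G_ver5.cons ctx G_st4 (by decide +kernel)

theorem G_ver3 : Ver ns G_C3 48 :=
  G_ver4.cons ctx G_st3 (by decide +kernel)

theorem G_ver2 : Ver ns G_C2 720 :=
  G_ver3.cons ctx G_st2 (by decide +kernel)

theorem G_ver1 : Ver ns G_C1 23040 :=
  G_ver2.cons ctx G_st1 (by decide +kernel)

theorem G_ver0 : Ver ns G_C0 1451520 :=
  G_ver1.cons ctx G_st0 (by decide +kernel)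

theorem G_supp : gen ns G_ss0 ≤ suppSub 63 :=
  gen_le_supp_of_suppW ctx (by decide +kernel)

end Cfsg.Agent.Spor.ModelSp62
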