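import Cfsg.Agent.Spor.MixCo2a

set_option autoImplicit false
set_option Elab.async false
set_option maxRecDepth 4096

namespace Cfsg.Agent.Spor.MixCo2

open Cfsg.Agent.Comp

open Cfsg.Agent.K Cfsg.Agent.Comp.IC

instance fin : Finite Cfsg.Spor.Co2 := mb.m.finite equiv

noncomputable def top : List ℕ := [88, 90, 92, 94, 96, 98, 100, 102, 104, 106, 108, 110, 112, 114, 116, 118, 120, 82]

noncomputable def ts : List (List ℕ) := [[82], [84], [86]]

theorem nc : Nc (ev equiv ns) top :=
  (mb.wm equiv).nc (hs := [([104, 114, 118, 82], [[90, 98, 100, 104, 106, 108, 110, 112, 116, 118, 82], [92, 98, 100, 106, 108, 110, 112, 116, 118, 120], [94, 98, 100, 102, 112, 120], [96, 98, 102, 110, 112, 114, 116, 82], [98, 108, 110, 114, 118, 82], [100, 106, 116, 120], [102, 106, 112, 114, 120, 82], [104], [106, 114, 118, 120, 82], [108, 112, 120, 82], [110, 116, 118, 82], [112], [114, 120, 82], [116, 118, 120, 82], [118, 120, 82], [120], [82]]),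
 ([106, 108, 110, 112, 114, 82], [[92, 98, 100, 104, 106, 108, 110, 116, 82], [94, 98, 100, 104, 106, 112, 114, 116, 118, 82], [96, 98, 100, 104, 106, 108, 112, 114, 116, 118, 120], [98, 106, 108, 110, 116, 118, 82], [100, 114, 82], [102, 110, 114, 116, 82], [104, 106, 108, 110, 112, 118, 82], [106, 110, 118, 120, 82], [108, 110, 120, 82], [110, 118, 82], [112, 118, 82], [114, 118, 82], [116, 120], [118], [120, 82], [82]]),
 ([98, 100, 104, 118, 120], [[94, 100, 102, 106, 116, 120], [96, 100, 102, 106, 108, 112, 116, 120, 82], [98, 108, 112, 116, 120, 82], [100, 106, 110, 114, 116, 82], [102, 106, 112, 116, 120], [104, 106, 108, 110, 112, 114, 118, 120], [106, 110, 118, 82], [108, 110, 112, 114, 118, 120], [110, 116, 118, 82], [112, 118], [114, 118, 120, 82], [116, 120], [118, 120], [120, 82], [82]]),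
 ([98, 100, 104, 108, 112, 114, 118], [[96, 100, 102, 112, 114, 120], [98, 106, 108, 110, 116, 118, 120, 82], [100, 106, 110, 114, 120], [102, 106, 110, 112, 120, 82], [104, 108, 112, 120, 82], [106, 110, 118, 82], [108, 112, 114, 120], [110, 116], [112, 116], [114, 118, 120, 82], [116], [118, 120], [120, 82], [82]]),
 ([98, 102, 104, 106, 108, 110, 112, 114, 118], [[98, 108, 110, 112, 114, 118, 82], [100, 106, 110, 116], [102, 106, 112, 114, 116, 118, 120, 82], [104, 106, 108, 110, 112, 114], [106, 110, 118, 120, 82], [108, 110, 112, 114], [110, 116, 118, 120, 82], [112, 120], [114, 118, 120, 82], [116, 120], [118, 120], [120, 82], [82]]),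
 ([110, 112, 114, 118, 82], [[100, 110, 114, 116, 118, 120], [102, 110, 114, 118, 120], [104, 112, 116, 118, 82], [106, 116, 118], [108, 116, 118, 120], [110, 118], [112, 118, 120], [114, 120, 82], [116, 120], [118, 82], [120], [82]]),
 ([118], [[102, 120, 82], [104, 114], [106, 120, 82], [108, 120], [110, 82], [112, 118, 82], [114], [116], [118], [120], [82]]),
 ([120], [[104, 114, 118, 120], [106, 118], [108], [110], [112, 118, 120], [114], [116, 82], [118], [120], [82]]),
 ([114, 118], [[106], [108, 82], [110, 118], [112], [114], [116, 120, 82], [118], [120], [82]]),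
 ([], [[108, 118, 120, 82], [110], [112, 120, 82], [114], [116], [118], [120], [82]]),
 ([118, 120, 82], [[110, 82], [112, 120], [114], [116, 82], [118], [120], [82]]),
 ([], [[112, 82], [114], [116], [118], [120], [82]]),
 ([82], [[114], [116], [118], [120], [82]]),
 ([], [[116], [118], [120], [82]]),
 ([], [[118], [120], [82]]),
 ([], [[120], [82]]),
 ([], [[82]]),
 ([], [])]) (by decide +kernel)

theorem lb : 2 ^ top.length ≤ Nat.card (sg (ev equiv ns) top) :=
  le_card_sg mb.m equiv [(0, 4, [[88, 90, 106, 114, 116, 118], [90, 98, 104, 108, 112, 116, 118], [88, 90, 94, 96, 102, 112, 114, 118], [88, 92, 94, 102, 106, 114, 118], [], [], [90, 92, 94, 96, 104, 106, 108, 110, 112, 82]]),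
 (1, 3, [[90, 98, 104, 108, 112, 116, 118], [88, 90, 94, 96, 102, 112, 114, 118], [88, 92, 94, 102, 106, 114, 118], [], [], [90, 92, 94, 96, 104, 106, 108, 110, 112, 82]]),
 (3, 1, [[], [], [90, 92, 94, 96, 104, 106, 108, 110, 112, 82]])] (by decide +kernel)

theorem ser : Ser (ev equiv ns) top := nc.ser lb

noncomputable def cv1c : CT :=
  (.two (.two (.two (.two (.two (.two (.two (.two (.two (.two (.two (.two (.two (.two (.two (.two (.two .triv
 (.lf [] [82]))
 (.one [90] [] (.lf [51, 7, 2, 12, 10, 43, 20, 26, 26, 34, 62, 56, 76, 72, 80] [84])))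
 (.one [92] [] (.one [98] [] (.lf [29, 18, 1, 17, 28, 31, 35, 42, 64, 52, 66, 76, 72] [84]))))
 (.one [88] [120, 82] (.one [90] [] (.one [102] [] (.lf [24, 8, 12, 38, 11, 29, 21, 70, 26, 37, 54, 52, 76] [84])))))
 (.two (.one [90] [82] (.one [88] [82] (.two (.lf [36, 8, 0, 21, 13, 13, 21, 26, 31, 26, 61, 58, 66, 72] [84])
 (.lf [46, 11, 0, 17, 32, 20, 51, 26, 35, 40, 42, 52, 52, 66, 72, 80] [82]))))
 (.one [88] [] (.one [104] [82] (.one [98] [] (.lf [22, 6, 1, 12, 45, 12, 21, 30, 26, 37, 38, 60, 58, 80] [86]))))))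
 (.two (.one [94] [] (.one [92] [] (.one [96] [] (.one [110] [] (.no [])))))
 (.one [94] [118, 120, 82] (.one [96] [82] (.one [108] [] (.one [110] [] (.no [])))))))
 (.two (.two (.one [94] [] (.one [98] [] (.one [92, 96] [82] (.one [100] [] (.lf [41, 8, 0, 13, 14, 44, 21, 76, 26, 37, 40, 42, 54, 80] [84])))))
 (.one [96] [] (.one [104] [] (.one [98, 104] [] (.one [100] [] (.lf [61, 3, 29, 14, 10, 20, 43, 26, 35, 42, 38, 53, 72, 80] [86]))))))
 (.two (.one [92] [82] (.one [100] [] (.one [98] [] (.one [110] [] (.lf [2, 26, 1, 39, 11, 28, 31, 37, 52, 52, 76, 72, 80] [86])))))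
 (.one [96] [120] (.one [100] [] (.one [106] [82] (.one [98] [] (.lf [37, 1, 30, 11, 80, 20, 26, 34, 56, 66, 76, 80] [84]))))))))
 (.one [90] [120, 82] (.one [88] [120, 82] (.one [88, 94] [120, 82] (.one [92, 96] [] (.one [106] [120, 82] (.no [120, 82])))))))
 (.two (.one [92] [118, 82] (.two (.one [88] [118, 120, 82] (.one [98] [118] (.one [102] [] (.one [100] [82] (.two (.lf [28, 0, 35, 12, 78, 20, 30, 27, 35, 38, 61, 54, 66, 72] [84])
 (.lf [43, 7, 3, 15, 18, 59, 20, 46, 26, 35, 42, 38, 61, 58, 76, 80] [86]))))))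
 (.one [88] [118, 120, 82] (.one [98] [120] (.one [100] [120] (.one [102] [] (.no [])))))))
 (.one [94] [112, 114, 118, 120] (.one [88] [114, 118] (.two (.two (.one [102] [] (.one [98] [82] (.one [100] [] (.lf [31, 2, 13, 14, 34, 20, 30, 26, 34, 40, 42, 53, 66, 76] [86]))))
 (.one [102] [82] (.one [104] [] (.one [98] [] (.no [])))))
 (.two (.one [102] [] (.one [102, 108] [82] (.one [100] [] (.lf [28, 13, 0, 18, 13, 30, 25, 31, 27, 37, 42, 80] [84]))))
 (.one [102] [82] (.one [90] [] (.one [100] [] (.no []))))))))))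
 (.one [96] [108, 110, 112, 114] (.one [94] [112, 120, 82] (.two (.one [98] [116, 118, 82] (.one [100] [] (.no [118])))
 (.one [98] [116] (.one [100] [82] (.no [])))))))
 (.two (.one [92] [112, 116, 120] (.two (.one [90] [114, 116, 82] (.two (.one [104] [118, 120] (.one [90, 98] [118, 120] (.one [106] [] (.one [100] [82] (.no [])))))
 (.one [104] [118, 120] (.one [90, 98] [118] (.one [100] [120] (.no [82]))))))
 (.one [88, 96] [120] (.two (.one [90] [116, 120] (.one [90, 104] [82] (.one [112] [] (.no [82]))))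
 (.one [104] [118, 120, 82] (.one [90, 104] [118] (.one [100] [] (.one [108] [] (.two (.lf [4, 7, 54, 12, 10, 30, 20, 31, 28, 34, 42, 38, 61] [84])
 (.lf [50, 18, 0, 19, 17, 27, 24, 55, 26, 37, 38, 61, 54] [86]))))))))))
 (.one [88] [112, 114, 120, 82] (.one [96] [110, 116, 118] (.one [92, 96] [112, 116, 118, 120] (.two (.one [100] [120, 82] (.two (.one [106] [] (.one [116] [] (.one [108] [] (.lf [21, 6, 18, 21, 11, 21, 36, 27, 40, 42, 38, 61, 52] [86]))))
 (.one [106] [] (.one [116] [] (.no [])))))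
 (.one [102] [] (.one [90, 94, 98] [120] (.one [110] [82] (.no [120, 82]))))))))))
 (.two (.two (.one [88] [116, 120] (.two (.one [98] [114, 116, 118, 120] (.two (.one [104] [] (.one [94, 96, 98] [118] (.one [112] [82] (.no []))))
 (.one [104] [] (.two (.one [100] [82] (.two (.one [90, 104] [] (.lf [41, 14, 0, 42, 16, 27, 24, 80, 26, 35, 38, 61, 58] [86]))
 (.two (.lf [6, 6, 41, 12, 65, 20, 37, 26, 37, 61, 58, 66] [82])
 (.lf [40, 9, 0, 18, 17, 10, 36, 20, 28, 26, 35, 42, 38, 61, 66, 72] [84]))))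
 (.one [102] [] (.one [88, 96, 98, 112] [] (.one [108] [] (.lf [4, 19, 1, 10, 16, 12, 27, 21, 46, 26, 34, 42, 38, 76] [86]))))))))
 (.one [98] [114] (.two (.one [104] [82] (.two (.one [106] [] (.one [100] [] (.one [116] [] (.no []))))
 (.one [106] [] (.one [100] [] (.one [116] [] (.lf [5, 31, 0, 38, 15, 37, 20, 29, 38, 52, 52, 66, 76, 72] [86]))))))
 (.one [104] [82] (.one [94, 96, 104] [120] (.one [102] [82] (.no [120, 82]))))))))
 (.one [88] [116, 82] (.one [92] [112, 116] (.one [98] [112, 114, 118] (.two (.one [100] [] (.two (.one [110] [82] (.one [106] [82] (.two (.lf [1, 8, 0, 13, 18, 46, 20, 70, 26, 42, 54, 66, 72] [84])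
 (.lf [42, 12, 0, 19, 15, 10, 42, 20, 38, 26, 42, 58] [86]))))
 (.one [110] [82] (.one [108] [] (.no [82])))))
 (.one [104] [] (.one [90, 94] [118, 120, 82] (.one [110] [] (.no [])))))))))
 (.two (.two (.two (.one [90] [116] (.one [88] [114, 116, 118] (.two (.one [98] [82] (.one [104] [120] (.no [82])))
 (.one [98] [120] (.one [104] [120] (.no [82]))))))
 (.two (.two (.one [88] [116, 118, 82] (.one [90] [120, 82] (.one [94] [] (.one [108] [] (.one [96] [] (.lf [17, 2, 1, 65, 17, 10, 25, 55, 26, 34, 56, 80] [86]))))))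
 (.one [88] [116, 118, 82] (.one [94] [118] (.one [100] [] (.one [96] [82] (.one [110] [] (.lf [13, 17, 0, 18, 11, 36, 27, 34, 42, 61, 56, 66, 80] [86])))))))
 (.two (.one [88] [] (.one [94] [118] (.two (.one [98] [] (.one [92, 96] [] (.lf [10, 1, 28, 15, 20, 43, 26, 35, 38, 61] [86])))
 (.one [98] [82] (.two (.lf [9, 6, 31, 17, 10, 21, 28, 39, 26, 35, 42, 65, 66, 76] [84])
 (.lf [29, 7, 1, 29, 27, 10, 31, 20, 26, 37, 61, 54, 66, 76, 80] [82]))))))
 (.one [88] [] (.one [92] [120] (.one [94] [] (.one [104] [82] (.one [108] [] (.no [])))))))))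
 (.two (.one [94] [112, 114, 120] (.one [88] [116] (.one [88, 96] [116, 118, 120] (.one [90] [118, 120, 82] (.one [98] [82] (.one [102, 108] [] (.no [])))))))
 (.one [94] [120] (.two (.two (.one [88] [82] (.one [108] [82] (.one [100] [] (.two (.lf [55, 21, 0, 32, 10, 34, 20, 27, 27, 40, 42, 38, 55, 52, 66] [86])
 (.lf [62, 8, 0, 61, 16, 21, 34, 26, 37, 38, 60, 54, 66, 72, 80] [84])))))
 (.one [98] [] (.one [108] [82] (.one [100] [] (.two (.lf [74, 1, 17, 41, 10, 23, 20, 37, 26, 64, 52, 80] [82])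
 (.lf [66, 27, 1, 28, 10, 10, 34, 20, 41, 28, 37, 42, 38, 60] [86]))))))
 (.two (.one [88] [82] (.one [100] [120, 82] (.one [112] [] (.no [82]))))
 (.one [88] [120] (.one [100] [120, 82] (.one [112] [] (.no [82])))))))))
 (.one [92] [108, 118] (.one [94] [114, 118, 82] (.two (.one [90, 96] [116] (.one [100] [120, 82] (.no [118, 120, 82])))
 (.one [98] [120] (.one [100] [120] (.no [120])))))))))
 (.two (.two (.two (.one [90] [108, 110, 116, 118, 82] (.one [88] [110, 114, 118, 82] (.one [102] [114, 82] (.no [112, 114, 118, 82]))))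
 (.one [96] [] (.one [88] [110, 114] (.one [102] [120, 82] (.no [116, 120, 82])))))
 (.two (.one [90] [108, 114, 82] (.one [94] [112, 116, 118, 120] (.one [100] [114, 116] (.one [104] [114, 116, 120] (.no [118, 120, 82])))))
 (.one [88] [108, 110, 112, 118] (.two (.one [102] [120, 82] (.one [104] [114, 116, 82] (.two (.one [94] [120] (.no []))
 (.one [106] [82] (.no [120, 82])))))
 (.one [102] [120] (.one [90] [114, 118] (.two (.one [108] [118, 120] (.two (.one [112] [82] (.one [92] [] (.lf [31, 6, 13, 14, 34, 20, 26, 26, 35, 66, 72, 80] [86])))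
 (.one [92] [82] (.one [116] [] (.no [])))))
 (.one [90, 104] [] (.one [92] [120] (.one [112] [82] (.no [82])))))))))))
 (.two (.two (.one [92] [108, 110, 112, 114] (.one [94] [114, 116, 120] (.one [102] [114, 120, 82] (.one [104] [114, 116, 118, 120] (.no [116, 120])))))
 (.one [88] [108, 110, 114, 116, 118, 82] (.two (.one [102] [82] (.one [98, 102] [114] (.two (.one [108] [118] (.two (.one [112] [] (.one [116] [] (.no [])))
 (.one [112] [] (.one [92] [] (.lf [9, 29, 14, 10, 51, 26, 38, 55, 76, 72, 80] [84])))))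
 (.one [108] [118] (.one [92] [] (.one [112] [] (.no [])))))))
 (.one [102] [] (.one [96] [114, 116, 118] (.two (.one [106] [82] (.no [120]))
 (.one [94] [120] (.no [82]))))))))
 (.two (.one [90] [108] (.one [96] [118, 120, 82] (.one [100] [114, 116, 82] (.no [112, 114, 116, 120]))))
 (.one [92] [112, 116, 118, 82] (.one [88] [110, 112, 116, 118] (.one [102] [82] (.no []))))))))
 (.one [88] [102, 110, 112, 114, 116, 82] (.no [102, 104, 106, 108, 110, 112, 114, 118])))
 (.two (.one [88] [100, 102, 112, 120] (.no [100, 104, 108, 112, 114, 118]))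
 (.two (.one [96] [102] (.one [88, 96] [108, 110, 112, 116] (.two (.one [104] [112, 120, 82] (.no [112, 114, 118, 120, 82]))
 (.one [98] [112, 82] (.two (.one [100] [118, 82] (.two (.two (.one [106] [82] (.one [90, 104] [82] (.one [102] [] (.no []))))
 (.one [106] [82] (.two (.one [102] [] (.one [110] [] (.no [])))
 (.one [102] [] (.one [110] [] (.lf [4, 15, 0, 29, 24, 11, 28, 31, 35, 42, 38, 61, 54, 66] [86]))))))
 (.two (.one [106] [120] (.no []))
 (.one [106] [120] (.no [120, 82])))))
 (.one [108] [118] (.no [])))))))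
 (.one [88] [110, 114, 82] (.one [88, 96] [108, 112, 114, 116, 118, 82] (.two (.one [104] [82] (.two (.one [108] [116, 82] (.no [116, 118, 120]))
 (.one [102] [118, 120] (.two (.two (.one [100] [118, 120] (.two (.two (.one [92, 108] [] (.lf [66, 41, 0, 19, 15, 46, 20, 27, 35, 38, 64, 62] [86]))
 (.two (.lf [15, 7, 70, 17, 78, 20, 43, 27, 37, 42, 38, 60, 58, 76, 72] [82])
 (.lf [41, 0, 13, 14, 10, 32, 20, 43, 26, 35, 38, 59, 52, 66, 76, 80] [84])))
 (.one [92, 108] [82] (.one [98, 104] [] (.lf [22, 19, 1, 11, 21, 10, 37, 20, 32, 26, 37, 38, 59, 72, 80] [86])))))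
 (.one [100] [118, 120] (.one [92, 108] [120] (.one [98, 104] [82] (.two (.lf [13, 72, 1, 20, 12, 30, 20, 76, 26, 42, 58] [84])
 (.lf [78, 17, 1, 14, 34, 10, 58, 20, 26, 26, 61, 56, 72, 80] [86]))))))
 (.two (.one [100] [120, 82] (.no [118, 120, 82]))
 (.one [100] [120, 82] (.no [118, 120, 82])))))))
 (.one [104] [82] (.no [110, 114, 116, 120, 82]))))))))
 (.two (.two (.one [90] [100, 104, 106, 108, 110, 116, 82] (.no [100, 104, 118, 120]))
 (.two (.one [88] [102, 116, 120, 82] (.two (.two (.one [94] [110, 116] (.one [88, 94, 96, 100, 102] [110, 112, 114, 116, 118, 120, 82] (.one [102] [114, 82] (.no [114, 120, 82]))))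
 (.one [94] [108, 110, 112, 116, 118] (.two (.one [100] [116, 118] (.no [112, 114, 116, 120]))
 (.one [102] [120] (.no [112, 114, 118, 120, 82])))))
 (.two (.one [88, 96] [108, 110, 112, 114, 120, 82] (.two (.one [90] [114, 82] (.one [104] [116, 118] (.two (.one [106] [82] (.two (.one [110] [82] (.one [118] [] (.lf [59, 5, 68, 10, 27, 24, 39, 26, 35, 38, 61, 52, 72] [86])))
 (.one [110] [82] (.one [118] [] (.no [])))))
 (.one [106] [82] (.one [90, 102] [82] (.one [110] [82] (.no [82])))))))
 (.one [102] [114] (.one [104] [116, 118, 120] (.one [90] [120, 82] (.one [108] [] (.no [118, 120])))))))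
 (.one [90] [108, 112, 114, 82] (.one [94] [116, 118] (.one [102] [120, 82] (.one [104] [116, 118, 120, 82] (.no [114, 116]))))))))
 (.one [92] [102, 106, 116] (.two (.two (.one [90] [108, 110, 118, 120, 82] (.one [94] [116, 118, 120] (.two (.one [92, 96] [] (.one [104] [] (.two (.one [100] [82] (.no [120]))
 (.one [100] [82] (.no [82])))))
 (.one [98] [120] (.one [104] [118] (.two (.one [100] [] (.one [116] [82] (.one [112] [] (.lf [0, 42, 0, 19, 42, 10, 29, 21, 34, 26, 60, 80] [86]))))
 (.one [100] [] (.one [116] [82] (.no [82])))))))))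
 (.two (.two (.two (.one [90] [118, 120] (.one [102] [] (.one [98] [120, 82] (.one [108] [120, 82] (.one [110] [] (.no []))))))
 (.one [94] [] (.one [102] [] (.one [98] [118, 120, 82] (.one [108] [120] (.one [110] [] (.one [112] [] (.lf [28, 5, 0, 13, 54, 12, 37, 22, 29, 32, 26, 35, 38, 80] [86]))))))))
 (.one [90] [112, 118, 120] (.two (.one [102] [] (.one [94, 104] [118, 120, 82] (.one [98] [] (.one [112] [] (.no [])))))
 (.one [94] [82] (.two (.one [106] [] (.one [98] [] (.one [116] [] (.no []))))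
 (.one [106] [] (.one [110] [] (.one [116] [] (.lf [56, 2, 1, 62, 11, 28, 20, 31, 26, 37, 40, 42, 62, 56] [86])))))))))
 (.two (.one [90] [112, 120, 82] (.two (.one [104] [] (.one [90, 94] [118, 120] (.one [98] [120, 82] (.one [110] [] (.no [])))))
 (.one [104] [] (.two (.one [88, 94, 96, 100, 102, 104] [120] (.one [108] [] (.one [98] [] (.lf [16, 3, 16, 12, 12, 45, 20, 27, 28, 52, 52, 72, 80] [86]))))
 (.two (.one [98] [82] (.two (.lf [23, 44, 0, 31, 12, 12, 34, 20, 46, 26, 35, 38, 62, 58, 66, 72, 80] [84])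
 (.lf [8, 6, 0, 17, 78, 10, 46, 20, 26, 35, 40, 42, 54, 52, 80] [82])))
 (.one [98] [] (.one [98, 112] [] (.lf [13, 17, 1, 31, 11, 36, 20, 55, 26, 40, 42, 38, 52, 52, 76] [86]))))))))
 (.one [94] [114, 116, 118, 120, 82] (.one [90] [120] (.one [100] [118] (.one [98] [82] (.one [106] [120, 82] (.no [82])))))))))
 (.two (.one [90] [108, 114, 116, 120] (.two (.one [98] [112, 114, 118, 120] (.two (.one [88, 94, 96, 100, 102] [82] (.two (.one [106] [] (.one [116] [] (.no [])))
 (.one [106] [] (.one [116] [] (.one [102, 112] [] (.lf [4, 0, 78, 10, 29, 21, 39, 26, 37, 38, 76, 80] [86]))))))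
 (.one [88, 94, 96, 100, 102] [116, 118, 120] (.one [90, 94, 98] [120] (.one [108] [] (.no [82]))))))
 (.one [98] [112, 114, 116, 120, 82] (.two (.two (.two (.one [100] [] (.one [106] [82] (.no [82])))
 (.one [100] [] (.one [106] [82] (.two (.lf [32, 8, 0, 14, 19, 44, 21, 31, 28, 38, 62, 54, 76] [86])
 (.lf [26, 13, 1, 66, 21, 10, 60, 20, 43, 27, 38, 62, 56, 66] [84])))))
 (.two (.one [100] [] (.one [106] [82] (.no [82])))
 (.one [100] [] (.one [106] [82] (.two (.lf [56, 3, 76, 18, 15, 21, 32, 20, 70, 26, 37, 60, 56] [82])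
 (.lf [70, 0, 11, 21, 10, 26, 20, 28, 26, 37, 42, 62, 55, 76, 80] [86]))))))
 (.two (.one [90, 94] [120] (.one [108] [] (.no [120])))
 (.one [90, 94] [82] (.one [108] [] (.no [120]))))))))
 (.one [94] [110, 116, 120] (.two (.one [92, 96] [116] (.one [90, 98] [] (.one [102] [] (.no []))))
 (.one [98] [114] (.one [90] [114, 116, 118] (.one [102] [] (.no [])))))))))))
 (.two (.two (.one [92] [102, 106, 116, 120] (.no [102, 106, 108, 110, 112, 114, 118]))
 (.one [92] [102, 106, 108, 112, 118, 120] (.no [102, 108, 110, 114, 116, 118, 120, 82])))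
 (.one [88] [112, 116, 118, 120, 82] (.no [100, 104, 106, 108, 114, 118, 120])))))
 (.two (.two (.two (.one [92] [100, 104, 106, 108, 110, 116] (.two (.two (.two (.one [98] [108, 110, 116, 120] (.no [108, 110, 112, 114, 82]))
 (.one [104] [108, 110, 112] (.two (.one [102] [116, 120] (.one [92, 96] [114, 120, 82] (.two (.one [102, 108] [82] (.one [100] [] (.two (.one [110] [] (.lf [62, 17, 2, 55, 15, 23, 20, 31, 26, 37, 56, 66, 76] [84]))
 (.one [110] [] (.no [])))))
 (.one [102, 108] [82] (.one [100] [] (.no [82]))))))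
 (.one [106] [82] (.no [118])))))
 (.two (.one [98] [108, 114, 116, 82] (.no [108, 112, 116, 82]))
 (.one [94, 96] [108, 112, 114] (.two (.one [98, 104] [] (.no [116, 118]))
 (.one [108] [120] (.one [92, 96, 108] [116, 118] (.one [88, 92, 98, 100, 104, 110, 114, 116, 120] [120, 82] (.one [102, 108] [82] (.no [])))))))))
 (.two (.two (.one [98] [108, 114, 118] (.no [108, 110, 112, 82]))
 (.one [98] [108, 112, 114, 116] (.two (.one [108] [] (.one [88, 96, 108] [118, 82] (.two (.one [102, 108] [] (.one [100] [] (.no [82])))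
 (.one [102, 108] [] (.one [100] [] (.two (.one [120] [] (.lf [24, 20, 1, 40, 19, 80, 20, 41, 28, 37, 62, 59, 76, 72] [86]))
 (.one [120] [] (.no []))))))))
 (.one [102] [116] (.no [120])))))
 (.two (.one [98] [108, 110, 118, 120] (.no [108, 112, 114, 116, 120, 82]))
 (.one [90] [108, 112, 116, 120] (.two (.one [108] [] (.no [116, 120, 82]))
 (.one [108] [82] (.one [88, 96] [120, 82] (.one [88, 92, 98, 100, 104, 110, 114, 118, 82] [118, 120] (.one [102, 108] [] (.no [118])))))))))))
 (.one [92] [102, 104, 114, 116, 120, 82] (.one [94, 96] [102, 108, 110, 116] (.no [102, 106, 108, 110, 112, 114, 116, 120]))))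
 (.two (.one [92] [102, 104, 108, 116] (.one [90, 96] [102, 108, 116, 118, 120] (.one [88] [104, 106, 108, 116, 118] (.two (.one [100] [82] (.two (.one [108] [112, 114] (.no [112, 114, 118]))
 (.one [108] [112, 114, 120, 82] (.two (.two (.one [110] [118, 120] (.two (.one [106] [82] (.no [82]))
 (.one [106] [82] (.two (.lf [31, 2, 1, 40, 17, 10, 36, 20, 32, 26, 35, 40, 42, 38, 55] [86])
 (.lf [19, 17, 0, 40, 18, 26, 20, 40, 42, 38, 62, 56] [84])))))
 (.one [98] [118] (.two (.one [106] [82] (.one [98, 112, 118] [] (.lf [42, 3, 37, 23, 10, 23, 26, 35, 40, 42, 56] [86])))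
 (.one [106] [82] (.no [82])))))
 (.two (.one [98] [82] (.no [118, 120, 82]))
 (.one [98] [120] (.no [118])))))))
 (.one [104] [120] (.no [110, 112, 82]))))))
 (.one [88] [104, 106, 114, 116, 118, 120] (.one [92, 96] [102, 108, 110, 112, 116, 118] (.one [88, 96] [106, 110, 114, 116, 120, 82] (.two (.two (.one [90] [120] (.one [102] [116, 120] (.no [120, 82])))
 (.one [104] [120] (.one [100] [118] (.two (.two (.one [100, 106] [82] (.no [118, 120, 82]))
 (.one [100, 106] [82] (.no [])))
 (.two (.one [98, 104] [] (.one [108] [120, 82] (.two (.one [118] [] (.no []))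
 (.one [118] [] (.lf [19, 11, 0, 41, 17, 21, 32, 20, 76, 26, 35, 55, 52] [86])))))
 (.one [112] [118, 120, 82] (.one [90, 104] [] (.no [120]))))))))
 (.one [90] [110, 112, 118, 120] (.one [104] [118] (.no [110, 114, 120, 82])))))))))
 (.two (.two (.one [96] [102, 104, 110, 112, 116, 82] (.one [92, 96] [102, 106, 108, 110, 112, 118] (.two (.one [88] [112, 116, 120, 82] (.one [100] [116] (.two (.one [94, 96] [114, 116, 118, 120, 82] (.one [108] [114] (.no [114, 116, 118, 82])))
 (.two (.one [108] [114, 120] (.one [104] [] (.one [110] [120, 82] (.no [120, 82]))))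
 (.one [108] [114, 120] (.one [104] [118] (.one [110] [120, 82] (.two (.one [112] [] (.one [112, 118] [] (.lf [56, 4, 27, 15, 13, 65, 21, 76, 26, 35, 38, 62, 58, 72] [86])))
 (.one [112] [] (.no [82]))))))))))
 (.one [88] [106, 116, 120, 82] (.one [100] [116, 118, 120] (.no [116, 82]))))))
 (.one [92] [102, 104, 112, 120] (.one [94, 96] [102, 110, 112, 118, 120] (.two (.two (.one [98] [108, 110, 112, 116, 118] (.no [108, 112, 116]))
 (.one [98] [108, 110, 118, 120] (.two (.one [108] [116, 120] (.no [112, 118]))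
 (.one [100] [114, 116] (.one [92, 96] [114, 116] (.no [116]))))))
 (.two (.one [98] [108, 112, 114, 116] (.no [108, 112, 82]))
 (.one [90] [108, 112, 114, 82] (.two (.one [100] [114, 116] (.no [112, 114, 116, 118, 120, 82]))
 (.one [106] [116, 82] (.one [90, 104] [114, 116, 118, 120] (.no [114, 120]))))))))))
 (.two (.one [96] [100, 104, 114, 118, 82] (.one [94, 96] [102, 114] (.no [102, 108, 112, 114, 120, 82])))
 (.one [92] [100, 104, 106, 110, 114] (.one [88] [104, 106, 108, 110, 120] (.two (.two (.one [102] [112] (.no [110, 114, 118, 120]))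
 (.one [90, 96] [] (.two (.one [108] [112, 114, 116, 118] (.no [112, 114, 120, 82]))
 (.one [108] [112, 114, 116, 118, 120] (.two (.two (.one [106] [120] (.no []))
 (.one [106] [120] (.no [])))
 (.two (.one [106] [82] (.two (.one [98] [] (.two (.lf [74, 8, 3, 26, 14, 21, 41, 26, 42, 38, 60, 56, 76] [86])
 (.lf [28, 3, 20, 17, 46, 20, 28, 34, 42, 38, 58, 80] [82])))
 (.one [118] [] (.no []))))
 (.one [106] [82] (.two (.one [118] [] (.one [98] [] (.lf [25, 5, 44, 17, 20, 27, 27, 34, 62, 55, 76] [86])))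
 (.one [118] [] (.no []))))))))))
 (.two (.one [102] [112, 120] (.two (.one [94, 96] [116, 118] (.no [112, 114, 118]))
 (.one [98] [112, 114, 116, 120, 82] (.two (.two (.one [106] [118] (.no [118, 120]))
 (.one [106] [118] (.no [118, 120])))
 (.two (.one [110] [118, 82] (.two (.one [116] [] (.no []))
 (.one [116] [] (.one [90, 96, 118] [] (.lf [19, 46, 0, 24, 26, 10, 24, 30, 26, 37, 42, 52, 66, 80] [86])))))
 (.one [110] [118, 82] (.two (.one [116] [] (.no []))
 (.one [116] [] (.two (.lf [25, 6, 0, 17, 20, 10, 32, 20, 43, 27, 38, 72, 80] [86])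
 (.lf [42, 5, 0, 22, 41, 10, 24, 34, 59, 66, 76, 80] [84]))))))))))
 (.one [100] [110, 120, 82] (.no [110, 118, 120, 82]))))))))))

theorem cv1 : Cv (ev equiv ns) ts [90, 92, 94, 96, 98, 100, 102, 104, 106, 108, 110, 112, 114, 116, 118, 120, 82] [] :=
  ser.cv' (mb.wm equiv) cv1c 0 (p := 88) (by decide +kernel)

noncomputable def cv2c : CT :=
  (.two (.two (.two (.two (.one [90] [100, 104, 116, 118, 82] (.one [92, 96] [102, 112, 114, 116, 118, 120] (.one [92, 94, 98, 100, 104, 106, 108, 116, 118, 120, 82] [106, 108, 114, 82] (.one [90, 92, 98, 102, 104, 106, 108, 116, 118] [106, 108, 110, 112, 114, 116, 120] (.no [114, 118, 82])))))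
 (.one [94] [106, 108, 110, 114, 82] (.two (.one [94, 96] [108, 110, 112, 114, 118, 120] (.two (.one [90] [108, 110, 112, 114] (.no [108, 112, 118, 82]))
 (.one [104] [108, 110, 116, 120, 82] (.two (.one [100] [116, 118] (.no [112, 114, 116, 118]))
 (.one [90] [114, 120, 82] (.one [98] [116, 118, 82] (.no [118, 82])))))))
 (.one [94, 96] [108, 112, 118, 82] (.two (.one [90] [108, 110, 112, 118] (.no [108, 110, 112, 114, 116, 120, 82]))
 (.one [88, 96] [108, 114, 120] (.two (.one [98] [112, 114, 116] (.one [98, 108] [82] (.no [114, 120])))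
 (.one [90] [118, 120, 82] (.no [112, 116])))))))))
 (.two (.one [88] [100, 102, 112, 120] (.one [92, 96] [102, 106, 116] (.one [94, 96] [108, 110, 114, 118] (.no [106, 108, 116, 120, 82]))))
 (.one [94] [112, 118, 82] (.one [88] [108, 110, 114, 120, 82] (.no [104, 108, 110, 120, 82])))))
 (.two (.two (.one [96] [100, 110, 112, 120] (.one [94, 96] [110, 112, 114, 118] (.two (.two (.one [90] [108, 110, 118, 120] (.no [108, 110, 118, 120]))
 (.one [104] [108, 110, 116, 120, 82] (.two (.one [108] [114, 116] (.one [90] [118, 120, 82] (.one [102] [116, 120] (.no [116, 118, 120]))))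
 (.one [108] [114, 116] (.no [82])))))
 (.two (.one [90] [108, 114, 116, 120, 82] (.no [108, 110, 116, 120, 82]))
 (.one [92, 96] [108, 110] (.two (.one [100] [114, 116, 82] (.one [98] [118, 120] (.one [102] [116, 120, 82] (.two (.one [116] [120] (.two (.one [110] [] (.no []))
 (.one [110] [] (.lf [6, 35, 0, 61, 10, 10, 24, 55, 26, 42, 38, 66] [86]))))
 (.one [116] [120] (.no [120, 82]))))))
 (.one [108] [114, 116, 82] (.no [114, 116, 118, 120, 82]))))))))
 (.one [90] [100, 104, 110, 118, 82] (.one [88] [102, 116, 120, 82] (.no [102, 104, 110, 112, 114, 116, 118, 120, 82]))))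
 (.two (.one [90] [100, 104, 108, 118, 120] (.one [90, 96] [102, 104, 106, 108, 110, 112, 114, 116, 118] (.no [104, 106, 108, 110, 112, 114, 116])))
 (.one [88] [112, 116, 118, 120, 82] (.one [92, 96] [102, 106, 116] (.no [108]))))))
 (.two (.two (.two (.one [90] [100, 104, 112, 114, 120] (.no [100, 106, 108, 110]))
 (.two (.one [96] [102, 104, 106, 108, 116] (.one [94, 96] [114, 116] (.two (.one [90] [108, 110, 116, 82] (.two (.one [88, 96] [112, 116, 82] (.two (.one [106] [] (.two (.one [102] [] (.no [120]))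
 (.one [102] [82] (.one [110] [82] (.two (.lf [15, 6, 3, 54, 12, 36, 20, 27, 28, 35, 42, 38, 62, 59, 66] [84])
 (.lf [61, 9, 0, 34, 16, 24, 20, 37, 26, 35, 54, 52, 76, 80] [86]))))))
 (.one [104] [118, 82] (.two (.one [100] [82] (.one [102] [] (.no [])))
 (.one [100] [82] (.no []))))))
 (.two (.one [90, 98] [114, 120, 82] (.one [104] [118] (.no [118, 82])))
 (.one [88, 96] [114] (.one [104] [] (.no [118, 120, 82]))))))
 (.one [88, 96] [108, 112, 118] (.two (.two (.one [90] [116, 120] (.one [100] [] (.two (.one [112] [82] (.no [120, 82]))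
 (.one [112] [82] (.one [104, 108] [] (.no []))))))
 (.one [90] [116, 118, 120] (.one [106] [] (.two (.one [112] [] (.one [110, 116] [] (.one [112, 116] [] (.lf [36, 8, 1, 19, 29, 10, 46, 20, 28, 26, 34, 38, 61, 52] [86]))))
 (.one [112] [] (.no [82]))))))
 (.one [90] [112, 116, 120, 82] (.two (.one [100] [120] (.no [118, 82]))
 (.one [102] [118] (.no [120, 82])))))))))
 (.one [92] [102, 104, 106, 118] (.one [94, 96] [106, 110, 120] (.two (.one [98] [108, 112, 114, 118] (.no [108, 110]))
 (.one [98] [108, 114, 116, 82] (.no [108, 110, 112, 116])))))))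
 (.two (.two (.one [92] [102, 104, 112, 114, 120] (.one [94] [104, 114, 120] (.no [108, 110, 112, 114])))
 (.one [92] [102, 104, 108, 112, 114, 116, 118] (.one [88] [104, 106, 112] (.no [118, 120, 82]))))
 (.one [88] [104, 106, 114, 116, 118, 120] (.no [106, 108, 114, 118, 120]))))
 (.two (.two (.two (.one [94] [104, 118, 120] (.two (.one [92] [112, 118] (.one [98] [108, 110, 112, 82] (.two (.two (.two (.one [108] [] (.no [118, 82]))
 (.one [106] [] (.no [118, 82])))
 (.two (.one [108] [82] (.no [118, 82]))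
 (.one [100] [] (.no [118]))))
 (.one [88, 96] [118] (.two (.one [104] [] (.two (.one [106, 108] [] (.one [112] [82] (.no [])))
 (.one [116] [120, 82] (.no [82]))))
 (.one [104] [] (.two (.one [116] [120, 82] (.one [112] [82] (.one [100, 108] [] (.lf [14, 19, 0, 29, 27, 10, 22, 27, 28, 34, 42, 61, 56, 76, 80] [86]))))
 (.one [106, 108] [] (.no [120, 82])))))))))
 (.one [88] [106, 116, 120, 82] (.one [90] [108, 112, 82] (.two (.two (.two (.one [108] [] (.two (.one [104] [120, 82] (.two (.two (.lf [8, 22, 3, 16, 16, 65, 20, 43, 26, 42, 60, 58, 66, 76, 72, 80] [84])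
 (.lf [18, 7, 0, 20, 14, 10, 20, 41, 26, 37, 42, 62, 54, 66, 80] [82]))
 (.one [88, 96, 116] [] (.lf [4, 20, 1, 40, 21, 10, 27, 27, 35, 40, 42, 61, 72, 80] [86]))))
 (.one [104] [] (.no [120, 82]))))
 (.one [100] [120] (.two (.one [104] [120, 82] (.no [120]))
 (.one [104] [] (.one [102, 108] [82] (.one [110] [] (.no [])))))))
 (.two (.one [108] [82] (.two (.one [112] [120] (.one [104] [82] (.one [88, 96] [] (.lf [42, 16, 0, 13, 21, 10, 20, 40, 27, 35, 40, 42, 56, 72] [86]))))
 (.one [112] [120] (.no [120, 82]))))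
 (.one [102] [82] (.two (.one [112] [120] (.no [120, 82]))
 (.one [112] [120] (.one [102, 108] [] (.one [110] [] (.lf [2, 0, 14, 21, 10, 59, 20, 28, 31, 42, 59, 72] [86]))))))))
 (.one [88, 96] [114, 116, 120] (.two (.one [106] [] (.no [118, 120, 82]))
 (.one [100] [] (.no [120, 82])))))))))
 (.one [94] [104, 106, 108, 112, 114, 116, 118, 82] (.two (.one [92] [108, 112, 82] (.one [98] [108, 110, 112] (.no [108, 82])))
 (.one [88] [106, 108, 110, 112, 114] (.one [92, 96] [108, 114, 120] (.no [108, 110, 118, 120, 82]))))))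
 (.one [88] [102, 104, 106, 108, 112, 120] (.no [102, 106, 108, 110, 112, 116, 120, 82])))
 (.two (.one [88] [100, 102, 104, 108, 112, 114, 118] (.no [108, 110, 114, 120]))
 (.two (.one [88] [104, 106, 108, 110, 120] (.no [106, 108, 112, 114, 116]))
 (.one [88] [104, 106, 110, 112] (.no [106, 110, 112, 118, 82])))))))

theorem cv2 : Cv (ev equiv ns) ts [90, 92, 94, 96, 98, 100, 102, 104, 106, 108, 110, 112, 114, 116, 118, 120, 82] [88] :=
  ser.cv' (mb.wm equiv) cv2c 0 (p := 88) (by decide +kernel)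

theorem cv0 : Cv (ev equiv ns) ts [88, 90, 92, 94, 96, 98, 100, 102, 104, 106, 108, 110, 112, 114, 116, 118, 120, 82] [] :=
  ser.two (mb.wm equiv) 0 (by decide +kernel) cv1 cv2

theorem Ca_mix : MixG (Subgroup.centralizer ({ev equiv ns [82]} : Set Cfsg.Spor.Co2)) :=
  mb.mix_pe' equiv Ca Cay 56 7 2 2 18 [2, 3, 5, 7] [(0, 4, [[146], [157, 160, 163, 159, 152, 159, 161, 157, 158, 156, 159, 159, 152, 148, 156, 155, 148], [151, 158, 151, 162, 158, 157, 160, 160, 157, 158, 157, 159, 157, 155, 156, 156, 156, 155, 150]])]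
    (by norm_num) (fun h => absurd rfl h)
    (by decide +kernel) (by decide +kernel) (by decide +kernel)

theorem Cb_mix : MixG (Subgroup.centralizer ({ev equiv ns [84]} : Set Cfsg.Spor.Co2)) :=
  mb.mix_pe' equiv Cb Cby 28 7 2 2 17 [2, 3, 5, 7] [(0, 4, [[196], [211, 209, 211, 202, 208, 206, 200, 203, 207, 200, 204, 204, 198, 204, 203, 198, 202, 202, 200], [203, 204, 206, 210, 210, 204, 208, 207, 209, 198, 202, 205, 206, 206, 203, 203, 205, 202, 205, 198, 202, 202, 202, 200, 198]]),
 (1, 1, [[203, 204, 206, 210, 210, 204, 208, 207, 209, 198, 202, 205, 206, 206, 203, 203, 205, 202, 205, 198, 202, 202, 202, 200, 198]])]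
    (by norm_num) (fun h => absurd rfl h)
    (by decide +kernel) (by decide +kernel) (by decide +kernel)

theorem Cc_mix : MixG (Subgroup.centralizer ({ev equiv ns [86]} : Set Cfsg.Spor.Co2)) :=
  mb.mix_pe' equiv Cc Ccy 40 5 2 2 15 [2, 3, 5] [(0, 2, [[236], [253, 245, 252, 240, 238, 251, 246, 249, 245, 249, 244, 246, 241, 241, 238, 241, 241], [246, 245, 248, 252, 242, 250, 238, 250, 247, 247, 248, 248, 240, 240, 245, 240, 238], [247, 240, 252, 252, 248, 247, 248, 250, 238, 248, 240, 249, 240, 246, 242, 245, 240, 240]])]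
    (by norm_num) (fun h => absurd rfl h)
    (by decide +kernel) (by decide +kernel) (by decide +kernel)

theorem invMix : InvMix Cfsg.Spor.Co2 :=
  mb.invMix equiv hn nc lb (by decide +kernel) cv0 (List.forall_mem_cons.2 ⟨Ca_mix, List.forall_mem_cons.2 ⟨Cb_mix, List.forall_mem_cons.2 ⟨Cc_mix, fun _ h => absurd h List.not_mem_nil⟩⟩⟩)

end Cfsg.Agent.Spor.MixCo2
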