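import Cfsg.Agent.K.InvMo2
import Cfsg.Agent.Comp.LookT
import Cfsg.Agent.Spor.ModelM12

set_option autoImplicit false
set_option Elab.async false
set_option maxRecDepth 4096

namespace Cfsg.Agent.Spor.MixM12

open Cfsg.Agent.Comp

noncomputable def ns_2 : Net :=
 (Net.cons (nat_lit 16) 51844
 (Net.cons (nat_lit 8) (nat_lit 0x4a00a1)
 (Net.cons (nat_lit 4) (nat_lit 0x80d0500)
 (Net.cons (nat_lit 2) (nat_lit 0x2302010)
 (Net.cons (nat_lit 1) (nat_lit 0x154014)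
 (Net.cons (nat_lit 2) 2
 (Net.cons (nat_lit 4) 918528
 (Net.cons (nat_lit 8) 655520
 (Net.cons (nat_lit 16) 51844
 Net.nil)))))))))

noncomputable def ns_3 : Net :=
 (Net.cons (nat_lit 16) 12638
 (Net.cons (nat_lit 8) (nat_lit 0x330058)
 (Net.cons (nat_lit 4) 134154
 (Net.cons (nat_lit 2) (nat_lit 0x101022)
 (Net.cons (nat_lit 1) (nat_lit 0x1014040)
 (Net.cons (nat_lit 2) 131072
 (Net.cons (nat_lit 4) 396288
 (Net.cons (nat_lit 8) (nat_lit 0x2200d0)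
 (Net.cons (nat_lit 16) 12762
 Net.nil)))))))))

noncomputable def ns_4 : Net :=
 (Net.cons (nat_lit 16) 19944
 (Net.cons (nat_lit 8) (nat_lit 0xc10080)
 (Net.cons (nat_lit 4) (nat_lit 0xc0e0204)
 (Net.cons (nat_lit 2) (nat_lit 0x320002)
 (Net.cons (nat_lit 1) (nat_lit 0x40141014)
 (Net.cons (nat_lit 2) (nat_lit 0x220002)
 (Net.cons (nat_lit 4) 786438
 (Net.cons (nat_lit 8) (nat_lit 0xc40000)
 (Net.cons (nat_lit 16) 19900
 Net.nil)))))))))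

noncomputable def ns_5 : Net :=
 (Net.cons (nat_lit 16) 192
 (Net.cons (nat_lit 8) 26
 (Net.cons (nat_lit 4) 790024
 (Net.cons (nat_lit 2) 208898
 (Net.cons (nat_lit 1) (nat_lit 0x401544)
 (Net.cons (nat_lit 2) 8226
 (Net.cons (nat_lit 4) 524808
 (Net.cons (nat_lit 8) 200
 (Net.cons (nat_lit 16) 168
 Net.nil)))))))))

noncomputable def ns_6 : Net :=
 (Net.cons (nat_lit 16) 46682
 (Net.cons (nat_lit 8) (nat_lit 0xd20064)
 (Net.cons (nat_lit 4) (nat_lit 0x203000e)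
 (Net.cons (nat_lit 2) (nat_lit 0x12022100)
 (Net.cons (nat_lit 1) (nat_lit 0x4144014)
 (Net.cons (nat_lit 2) (nat_lit 0x2002020)
 (Net.cons (nat_lit 4) (nat_lit 0x6020006)
 (Net.cons (nat_lit 8) (nat_lit 0x66006c)
 (Net.cons (nat_lit 16) 46842
 Net.nil)))))))))

noncomputable def ns_7 : Net :=
 (Net.cons (nat_lit 16) 47592
 (Net.cons (nat_lit 8) (nat_lit 0x810004)
 (Net.cons (nat_lit 4) (nat_lit 0x30a0000)
 (Net.cons (nat_lit 2) (nat_lit 0x230230)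
 (Net.cons (nat_lit 1) (nat_lit 0x1100450)
 (Net.cons (nat_lit 2) (nat_lit 0x200200)
 (Net.cons (nat_lit 4) (nat_lit 0x20c000c)
 (Net.cons (nat_lit 8) 524356
 (Net.cons (nat_lit 16) 47572
 Net.nil)))))))))

noncomputable def ns_8 : Net :=
 (Net.cons (nat_lit 16) 9178
 (Net.cons (nat_lit 8) (nat_lit 0xed008c)
 (Net.cons (nat_lit 4) (nat_lit 0x4010400)
 (Net.cons (nat_lit 2) (nat_lit 0x21001012)
 (Net.cons (nat_lit 1) (nat_lit 0x1100440)
 (Net.cons (nat_lit 2) (nat_lit 0x2000020)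
 (Net.cons (nat_lit 4) 1030
 (Net.cons (nat_lit 8) (nat_lit 0xec0044)
 (Net.cons (nat_lit 16) 9050
 Net.nil)))))))))

noncomputable def ns_9 : Net :=
 (Net.cons (nat_lit 16) 8946
 (Net.cons (nat_lit 8) (nat_lit 0x22003c)
 (Net.cons (nat_lit 4) 983300
 (Net.cons (nat_lit 2) (nat_lit 0x310202)
 (Net.cons (nat_lit 1) (nat_lit 0x114144)
 (Net.cons (nat_lit 2) (nat_lit 0x202202)
 (Net.cons (nat_lit 4) 524300
 (Net.cons (nat_lit 8) (nat_lit 0x22003c)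
 (Net.cons (nat_lit 16) 8778
 Net.nil)))))))))

noncomputable def ns_10 : Net :=
 (Net.cons (nat_lit 16) 64672
 (Net.cons (nat_lit 8) (nat_lit 0x3e0018)
 (Net.cons (nat_lit 4) (nat_lit 0x4010300)
 (Net.cons (nat_lit 2) (nat_lit 0x30300220)
 (Net.cons (nat_lit 1) (nat_lit 0x40441100)
 (Net.cons (nat_lit 2) (nat_lit 0x200200)
 (Net.cons (nat_lit 4) (nat_lit 0xe0c0200)
 (Net.cons (nat_lit 8) (nat_lit 0xe20018)
 (Net.cons (nat_lit 16) 64672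
 Net.nil)))))))))

noncomputable def ns_11 : Net :=
 (Net.cons (nat_lit 16) 44026
 (Net.cons (nat_lit 8) (nat_lit 0xd500a0)
 (Net.cons (nat_lit 4) (nat_lit 0x702000a)
 (Net.cons (nat_lit 2) (nat_lit 0x23022000)
 (Net.cons (nat_lit 1) (nat_lit 0x4014050)
 (Net.cons (nat_lit 2) (nat_lit 0x2000000)
 (Net.cons (nat_lit 4) (nat_lit 0x802040a)
 (Net.cons (nat_lit 8) (nat_lit 0x7c00a0)
 (Net.cons (nat_lit 16) 43866
 Net.nil)))))))))

noncomputable def ns_12 : Net :=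
 (Net.cons (nat_lit 16) 29688
 (Net.cons (nat_lit 8) (nat_lit 0x5200b0)
 (Net.cons (nat_lit 4) (nat_lit 0x4050408)
 (Net.cons (nat_lit 2) (nat_lit 0x3313000)
 (Net.cons (nat_lit 1) (nat_lit 0x14014040)
 (Net.cons (nat_lit 2) (nat_lit 0x2000000)
 (Net.cons (nat_lit 4) (nat_lit 0x4000400)
 (Net.cons (nat_lit 8) 184
 (Net.cons (nat_lit 16) 29528
 Net.nil)))))))))

noncomputable def ns_13 : Net :=
 (Net.cons (nat_lit 16) 47088
 (Net.cons (nat_lit 8) (nat_lit 0xd40070)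
 (Net.cons (nat_lit 4) (nat_lit 0x30b0800)
 (Net.cons (nat_lit 2) (nat_lit 0x2003000)
 (Net.cons (nat_lit 1) (nat_lit 0x4044040)
 (Net.cons (nat_lit 2) (nat_lit 0x2000000)
 (Net.cons (nat_lit 4) (nat_lit 0x4000800)
 (Net.cons (nat_lit 8) (nat_lit 0x440070)
 (Net.cons (nat_lit 16) 47088
 Net.nil)))))))))

noncomputable def ns_14 : Net :=
 (Net.cons (nat_lit 16) 43264
 (Net.cons (nat_lit 8) (nat_lit 0xf100d0)
 (Net.cons (nat_lit 4) (nat_lit 0x80c0400)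
 (Net.cons (nat_lit 2) (nat_lit 0x200200)
 (Net.cons (nat_lit 1) (nat_lit 0x50404400)
 (Net.cons (nat_lit 2) (nat_lit 0x200200)
 (Net.cons (nat_lit 4) (nat_lit 0x8040400)
 (Net.cons (nat_lit 8) (nat_lit 0xf000c0)
 (Net.cons (nat_lit 16) 43264
 Net.nil)))))))))

noncomputable def ns_15 : Net :=
 (Net.cons (nat_lit 16) 144
 (Net.cons (nat_lit 8) 56
 (Net.cons (nat_lit 4) 328713
 (Net.cons (nat_lit 2) (nat_lit 0x200220)
 (Net.cons (nat_lit 1) 262208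
 (Net.cons (nat_lit 2) 32
 (Net.cons (nat_lit 4) 262144
 (Net.cons (nat_lit 8) 56
 (Net.cons (nat_lit 16) 144
 Net.nil)))))))))

noncomputable def ns_16 : Net :=
 (Net.cons (nat_lit 16) 2368
 (Net.cons (nat_lit 8) 589956
 (Net.cons (nat_lit 4) 393224
 (Net.cons (nat_lit 2) (nat_lit 0x200230)
 (Net.cons (nat_lit 1) (nat_lit 0x105455)
 (Net.cons (nat_lit 2) (nat_lit 0x200200)
 (Net.cons (nat_lit 4) 8
 (Net.cons (nat_lit 8) 132
 (Net.cons (nat_lit 16) 2368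
 Net.nil)))))))))

noncomputable def ns_17 : Net :=
 (Net.cons (nat_lit 16) 10324
 (Net.cons (nat_lit 8) (nat_lit 0x900008)
 (Net.cons (nat_lit 4) (nat_lit 0x80c0000)
 (Net.cons (nat_lit 2) (nat_lit 0x210200)
 (Net.cons (nat_lit 1) (nat_lit 0x10000050)
 (Net.cons (nat_lit 4) 786432
 (Net.cons (nat_lit 8) (nat_lit 0x900008)
 (Net.cons (nat_lit 16) 10320
 Net.nil))))))))

noncomputable def ns_18 : Net :=
 (Net.cons (nat_lit 16) 58177
 (Net.cons (nat_lit 8) (nat_lit 0x8600c8)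
 (Net.cons (nat_lit 4) (nat_lit 0x2040c01)
 (Net.cons (nat_lit 2) (nat_lit 0x1203002)
 (Net.cons (nat_lit 1) (nat_lit 0x40051004)
 (Net.cons (nat_lit 2) (nat_lit 0x20002002)
 (Net.cons (nat_lit 4) 393216
 (Net.cons (nat_lit 8) (nat_lit 0x6400d0)
 (Net.cons (nat_lit 16) 58124
 Net.nil)))))))))

noncomputable def ns_19 : Net :=
 (Net.cons (nat_lit 16) 33252
 (Net.cons (nat_lit 8) (nat_lit 0x240060)
 (Net.cons (nat_lit 4) 921088
 (Net.cons (nat_lit 2) (nat_lit 0x21010203)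
 (Net.cons (nat_lit 1) (nat_lit 0x105455)
 (Net.cons (nat_lit 2) 512
 (Net.cons (nat_lit 4) 396800
 (Net.cons (nat_lit 8) (nat_lit 0x240060)
 (Net.cons (nat_lit 16) 33252
 Net.nil)))))))))

noncomputable def ns_20 : Net :=
 (Net.cons (nat_lit 16) 34852
 (Net.cons (nat_lit 8) (nat_lit 0x800012)
 (Net.cons (nat_lit 4) (nat_lit 0x8080401)
 (Net.cons (nat_lit 2) 131074
 (Net.cons (nat_lit 1) (nat_lit 0x100100)
 (Net.cons (nat_lit 4) 524288
 (Net.cons (nat_lit 8) (nat_lit 0x800012)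
 (Net.cons (nat_lit 16) 34848
 Net.nil))))))))

noncomputable def ns_21 : Net :=
 (Net.cons (nat_lit 16) 229
 (Net.cons (nat_lit 8) 131
 (Net.cons (nat_lit 4) 787720
 (Net.cons (nat_lit 2) 65584
 (Net.cons (nat_lit 1) 283921
 (Net.cons (nat_lit 4) 262152
 (Net.cons (nat_lit 8) 144
 (Net.cons (nat_lit 16) 168
 Net.nil))))))))

noncomputable def ns_22 : Net :=
 (Net.cons (nat_lit 16) 19593
 (Net.cons (nat_lit 8) (nat_lit 0xa000e2)
 (Net.cons (nat_lit 4) (nat_lit 0x8060002)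
 (Net.cons (nat_lit 2) (nat_lit 0x20031000)
 (Net.cons (nat_lit 1) (nat_lit 0x44114011)
 (Net.cons (nat_lit 2) (nat_lit 0x20022020)
 (Net.cons (nat_lit 4) (nat_lit 0xc060008)
 (Net.cons (nat_lit 8) (nat_lit 0xa80042)
 (Net.cons (nat_lit 16) 19648
 Net.nil)))))))))

noncomputable def ns_23 : Net :=
 (Net.cons (nat_lit 16) 50337
 (Net.cons (nat_lit 8) (nat_lit 0x880048)
 (Net.cons (nat_lit 4) (nat_lit 0x4020a01)
 (Net.cons (nat_lit 2) (nat_lit 0x202020)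
 (Net.cons (nat_lit 1) (nat_lit 0x4104000)
 (Net.cons (nat_lit 2) (nat_lit 0x200000)
 (Net.cons (nat_lit 4) 2056
 (Net.cons (nat_lit 8) (nat_lit 0xc80058)
 (Net.cons (nat_lit 16) 50208
 Net.nil)))))))))

noncomputable def ns_24 : Net :=
 (Net.cons (nat_lit 16) 36393
 (Net.cons (nat_lit 8) (nat_lit 0xd60088)
 (Net.cons (nat_lit 4) (nat_lit 0xe060c01)
 (Net.cons (nat_lit 2) (nat_lit 0x30222010)
 (Net.cons (nat_lit 1) (nat_lit 0x44410410)
 (Net.cons (nat_lit 2) (nat_lit 0x20200000)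
 (Net.cons (nat_lit 4) (nat_lit 0x6040c00)
 (Net.cons (nat_lit 8) (nat_lit 0x5200a8)
 (Net.cons (nat_lit 16) 36368
 Net.nil)))))))))

noncomputable def ns_25 : Net :=
 (Net.cons (nat_lit 16) 49316
 (Net.cons (nat_lit 8) 524405
 (Net.cons (nat_lit 4) 1802
 (Net.cons (nat_lit 2) (nat_lit 0x101300)
 (Net.cons (nat_lit 1) (nat_lit 0x40101005)
 (Net.cons (nat_lit 4) (nat_lit 0x802020a)
 (Net.cons (nat_lit 8) (nat_lit 0x880064)
 (Net.cons (nat_lit 16) 49316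
 Net.nil))))))))

noncomputable def ns_26 : Net :=
 (Net.cons (nat_lit 16) 57536
 (Net.cons (nat_lit 8) (nat_lit 0x2a0079)
 (Net.cons (nat_lit 4) (nat_lit 0x4060a00)
 (Net.cons (nat_lit 2) (nat_lit 0x2230201)
 (Net.cons (nat_lit 1) (nat_lit 0x4141400)
 (Net.cons (nat_lit 2) (nat_lit 0x222200)
 (Net.cons (nat_lit 4) (nat_lit 0x4060e00)
 (Net.cons (nat_lit 8) (nat_lit 0xaa0078)
 (Net.cons (nat_lit 16) 57536
 Net.nil)))))))))

noncomputable def ns_27 : Net :=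
 (Net.cons (nat_lit 16) 61244
 (Net.cons (nat_lit 8) (nat_lit 0xb300fc)
 (Net.cons (nat_lit 4) (nat_lit 0x5020401)
 (Net.cons (nat_lit 2) (nat_lit 0x32213000)
 (Net.cons (nat_lit 1) (nat_lit 0x40414001)
 (Net.cons (nat_lit 2) (nat_lit 0x20000000)
 (Net.cons (nat_lit 4) 264192
 (Net.cons (nat_lit 8) (nat_lit 0x9200fc)
 (Net.cons (nat_lit 16) 61256
 Net.nil)))))))))

noncomputable def ns_28 : Net :=
 (Net.cons (nat_lit 16) 41152
 (Net.cons (nat_lit 8) (nat_lit 0x120066)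
 (Net.cons (nat_lit 4) (nat_lit 0x80e0803)
 (Net.cons (nat_lit 2) (nat_lit 0x2011003)
 (Net.cons (nat_lit 1) (nat_lit 0x10045051)
 (Net.cons (nat_lit 2) 131074
 (Net.cons (nat_lit 4) (nat_lit 0x8060806)
 (Net.cons (nat_lit 8) (nat_lit 0x32003e)
 (Net.cons (nat_lit 16) 41136
 Net.nil)))))))))

noncomputable def ns_29 : Net :=
 (Net.cons (nat_lit 16) 6592
 (Net.cons (nat_lit 8) (nat_lit 0x4c0028)
 (Net.cons (nat_lit 4) 655362
 (Net.cons (nat_lit 2) (nat_lit 0x11020200)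
 (Net.cons (nat_lit 1) (nat_lit 0x100041)
 (Net.cons (nat_lit 4) 655362
 (Net.cons (nat_lit 8) (nat_lit 0x440028)
 (Net.cons (nat_lit 16) 6592
 Net.nil))))))))

noncomputable def ns_30 : Net :=
 (Net.cons (nat_lit 16) 26308
 (Net.cons (nat_lit 8) (nat_lit 0x160014)
 (Net.cons (nat_lit 4) 393225
 (Net.cons (nat_lit 2) 205056
 (Net.cons (nat_lit 1) (nat_lit 0x10441040)
 (Net.cons (nat_lit 2) 139296
 (Net.cons (nat_lit 4) 526336
 (Net.cons (nat_lit 8) (nat_lit 0x76009c)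
 (Net.cons (nat_lit 16) 26288
 Net.nil)))))))))

noncomputable def ns_31 : Net :=
 (Net.cons (nat_lit 16) 27478
 (Net.cons (nat_lit 8) (nat_lit 0x7f0016)
 (Net.cons (nat_lit 4) (nat_lit 0x90a0209)
 (Net.cons (nat_lit 2) (nat_lit 0x33000000)
 (Net.cons (nat_lit 1) (nat_lit 0x44011044)
 (Net.cons (nat_lit 2) (nat_lit 0x2002000)
 (Net.cons (nat_lit 4) (nat_lit 0x8000200)
 (Net.cons (nat_lit 8) (nat_lit 0x3c0016)
 (Net.cons (nat_lit 16) 27422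
 Net.nil)))))))))

noncomputable def ns_32 : Net :=
 (Net.cons (nat_lit 16) 6320
 (Net.cons (nat_lit 8) (nat_lit 0x540048)
 (Net.cons (nat_lit 4) (nat_lit 0x40b0a00)
 (Net.cons (nat_lit 2) (nat_lit 0x10220020)
 (Net.cons (nat_lit 1) (nat_lit 0x4004140)
 (Net.cons (nat_lit 2) 32
 (Net.cons (nat_lit 4) (nat_lit 0x4000a00)
 (Net.cons (nat_lit 8) (nat_lit 0x540048)
 (Net.cons (nat_lit 16) 6320
 Net.nil)))))))))

noncomputable def ns_33 : Net :=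
 (Net.cons (nat_lit 16) 50180
 (Net.cons (nat_lit 8) (nat_lit 0xc20090)
 (Net.cons (nat_lit 4) 657416
 (Net.cons (nat_lit 2) (nat_lit 0x2030020)
 (Net.cons (nat_lit 1) (nat_lit 0x4401110)
 (Net.cons (nat_lit 2) (nat_lit 0x2000020)
 (Net.cons (nat_lit 4) 655368
 (Net.cons (nat_lit 8) (nat_lit 0xc20090)
 (Net.cons (nat_lit 16) 50180
 Net.nil)))))))))

noncomputable def ns_34 : Net :=
 (Net.cons (nat_lit 16) 360
 (Net.cons (nat_lit 8) (nat_lit 0x41003c)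
 (Net.cons (nat_lit 4) (nat_lit 0x4020c0c)
 (Net.cons (nat_lit 2) (nat_lit 0x1211200)
 (Net.cons (nat_lit 1) 279572
 (Net.cons (nat_lit 2) 8704
 (Net.cons (nat_lit 4) (nat_lit 0x4020208)
 (Net.cons (nat_lit 8) (nat_lit 0x40002c)
 (Net.cons (nat_lit 16) 456
 Net.nil)))))))))

noncomputable def ns_35 : Net :=
 (Net.cons (nat_lit 16) 56752
 (Net.cons (nat_lit 8) (nat_lit 0xe200f8)
 (Net.cons (nat_lit 4) (nat_lit 0x3000804)
 (Net.cons (nat_lit 2) (nat_lit 0x10013220)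
 (Net.cons (nat_lit 1) (nat_lit 0x14001040)
 (Net.cons (nat_lit 2) (nat_lit 0x20000020)
 (Net.cons (nat_lit 4) (nat_lit 0x4040204)
 (Net.cons (nat_lit 8) (nat_lit 0x3e00f8)
 (Net.cons (nat_lit 16) 56768
 Net.nil)))))))))

noncomputable def ns_36 : Net :=
 (Net.cons (nat_lit 16) 47802
 (Net.cons (nat_lit 8) (nat_lit 0xb20018)
 (Net.cons (nat_lit 4) 133128
 (Net.cons (nat_lit 2) (nat_lit 0x20033002)
 (Net.cons (nat_lit 1) (nat_lit 0x511000)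
 (Net.cons (nat_lit 2) 8192
 (Net.cons (nat_lit 4) (nat_lit 0x8020c08)
 (Net.cons (nat_lit 8) (nat_lit 0xa00018)
 (Net.cons (nat_lit 16) 47770
 Net.nil)))))))))

noncomputable def ns_37 : Net :=
 (Net.cons (nat_lit 16) 58084
 (Net.cons (nat_lit 8) (nat_lit 0xe200d5)
 (Net.cons (nat_lit 4) (nat_lit 0xe040909)
 (Net.cons (nat_lit 2) (nat_lit 0x200122)
 (Net.cons (nat_lit 1) (nat_lit 0x4050014)
 (Net.cons (nat_lit 2) (nat_lit 0x2000002)
 (Net.cons (nat_lit 4) (nat_lit 0xc0e040a)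
 (Net.cons (nat_lit 8) (nat_lit 0x6000c0)
 (Net.cons (nat_lit 16) 58028
 Net.nil)))))))))

noncomputable def ns_38 : Net :=
 (Net.cons (nat_lit 16) 53358
 (Net.cons (nat_lit 8) (nat_lit 0x300038)
 (Net.cons (nat_lit 4) 592142
 (Net.cons (nat_lit 2) (nat_lit 0x20112100)
 (Net.cons (nat_lit 1) (nat_lit 0x40400144)
 (Net.cons (nat_lit 2) 32
 (Net.cons (nat_lit 4) 526344
 (Net.cons (nat_lit 8) (nat_lit 0x30003e)
 (Net.cons (nat_lit 16) 53326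
 Net.nil)))))))))

noncomputable def ns_39 : Net :=
 (Net.cons (nat_lit 16) 7270
 (Net.cons (nat_lit 8) (nat_lit 0xb80020)
 (Net.cons (nat_lit 4) (nat_lit 0x4010002)
 (Net.cons (nat_lit 2) (nat_lit 0x30012022)
 (Net.cons (nat_lit 1) (nat_lit 0x50000144)
 (Net.cons (nat_lit 2) 2
 (Net.cons (nat_lit 4) (nat_lit 0x4040200)
 (Net.cons (nat_lit 8) (nat_lit 0xb000c2)
 (Net.cons (nat_lit 16) 7238
 Net.nil)))))))))

noncomputable def ns_40 : Net :=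
 (Net.cons (nat_lit 16) 19239
 (Net.cons (nat_lit 8) (nat_lit 0xba0012)
 (Net.cons (nat_lit 4) (nat_lit 0x1080a03)
 (Net.cons (nat_lit 2) (nat_lit 0x30020012)
 (Net.cons (nat_lit 1) (nat_lit 0x1440404)
 (Net.cons (nat_lit 2) 131072
 (Net.cons (nat_lit 4) (nat_lit 0xa080806)
 (Net.cons (nat_lit 8) (nat_lit 0xf20022)
 (Net.cons (nat_lit 16) 19396
 Net.nil)))))))))

noncomputable def ns_41 : Net :=
 (Net.cons (nat_lit 16) 4174
 (Net.cons (nat_lit 8) (nat_lit 0x100006)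
 (Net.cons (nat_lit 4) 854542
 (Net.cons (nat_lit 2) (nat_lit 0x302102)
 (Net.cons (nat_lit 1) (nat_lit 0x104150)
 (Net.cons (nat_lit 2) (nat_lit 0x202000)
 (Net.cons (nat_lit 4) 524296
 (Net.cons (nat_lit 8) (nat_lit 0x1000ec)
 (Net.cons (nat_lit 16) 4206
 Net.nil)))))))))

noncomputable def ns_42 : Net :=
 (Net.cons (nat_lit 16) 33893
 (Net.cons (nat_lit 8) (nat_lit 0xa000e3)
 (Net.cons (nat_lit 4) (nat_lit 0x4020b04)
 (Net.cons (nat_lit 2) (nat_lit 0x20311203)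
 (Net.cons (nat_lit 1) (nat_lit 0x40505001)
 (Net.cons (nat_lit 2) (nat_lit 0x20000002)
 (Net.cons (nat_lit 4) (nat_lit 0x40a0804)
 (Net.cons (nat_lit 8) (nat_lit 0x2000aa)
 (Net.cons (nat_lit 16) 33830
 Net.nil)))))))))

noncomputable def ns_43 : Net :=
 (Net.cons (nat_lit 16) 265
 (Net.cons (nat_lit 8) 65712
 (Net.cons (nat_lit 4) 524292
 (Net.cons (nat_lit 2) 139280
 (Net.cons (nat_lit 1) (nat_lit 0x504441)
 (Net.cons (nat_lit 2) 8192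
 (Net.cons (nat_lit 4) 655368
 (Net.cons (nat_lit 8) 48
 (Net.cons (nat_lit 16) 320
 Net.nil)))))))))

noncomputable def ns_44 : Net :=
 (Net.cons (nat_lit 16) 3181
 (Net.cons (nat_lit 8) (nat_lit 0xf00011)
 (Net.cons (nat_lit 4) (nat_lit 0x400000c)
 (Net.cons (nat_lit 2) (nat_lit 0x30030011)
 (Net.cons (nat_lit 1) (nat_lit 0x50040001)
 (Net.cons (nat_lit 2) 2
 (Net.cons (nat_lit 4) (nat_lit 0x800000a)
 (Net.cons (nat_lit 8) (nat_lit 0xf40010)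
 (Net.cons (nat_lit 16) 3082
 Net.nil)))))))))

noncomputable def ns_45 : Net :=
 (Net.cons (nat_lit 16) 52387
 (Net.cons (nat_lit 8) 73
 (Net.cons (nat_lit 4) (nat_lit 0x4080708)
 (Net.cons (nat_lit 2) (nat_lit 0x320303)
 (Net.cons (nat_lit 1) (nat_lit 0x44141100)
 (Net.cons (nat_lit 2) 131584
 (Net.cons (nat_lit 4) 1544
 (Net.cons (nat_lit 8) (nat_lit 0xc00048)
 (Net.cons (nat_lit 16) 52226
 Net.nil)))))))))

noncomputable def ns_46 : Net :=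
 (Net.cons (nat_lit 16) 24547
 (Net.cons (nat_lit 8) (nat_lit 0xc30080)
 (Net.cons (nat_lit 4) (nat_lit 0xd060005)
 (Net.cons (nat_lit 2) (nat_lit 0x1000002)
 (Net.cons (nat_lit 1) (nat_lit 0x41140015)
 (Net.cons (nat_lit 2) 32
 (Net.cons (nat_lit 4) 131084
 (Net.cons (nat_lit 8) (nat_lit 0x840000)
 (Net.cons (nat_lit 16) 24436
 Net.nil)))))))))

noncomputable def ns_47 : Net :=
 (Net.cons (nat_lit 16) 44725
 (Net.cons (nat_lit 8) (nat_lit 0xa0005f)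
 (Net.cons (nat_lit 4) 460288
 (Net.cons (nat_lit 2) (nat_lit 0x2301120)
 (Net.cons (nat_lit 1) (nat_lit 0x4151440)
 (Net.cons (nat_lit 2) 32
 (Net.cons (nat_lit 4) 131584
 (Net.cons (nat_lit 8) (nat_lit 0x2e005e)
 (Net.cons (nat_lit 16) 44740
 Net.nil)))))))))

noncomputable def ns : List Net := [ModelM12.ns_0, ModelM12.ns_1, ns_2, ns_3, ns_4, ns_5, ns_6, ns_7, ns_8, ns_9, ns_10, ns_11, ns_12, ns_13, ns_14, ns_15, ns_16, ns_17, ns_18, ns_19, ns_20, ns_21, ns_22, ns_23, ns_24, ns_25, ns_26, ns_27, ns_28, ns_29, ns_30, ns_31, ns_32, ns_33, ns_34, ns_35, ns_36, ns_37, ns_38, ns_39, ns_40, ns_41, ns_42, ns_43, ns_44, ns_45, ns_46, ns_47]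

theorem ctx : Ctx 32 5 ns := ctx_of (by decide +kernel)

theorem lctx : LCtx 32 5 8 31 trN5 ns := lctx_of ctx trOK5 (by decide +kernel)

noncomputable def E : List ℕ → ℕ → ℕ := pfW0 32 5 8 31 trN5 ns

theorem hE : Evl 32 ns E := evl_pfW0 lctx

open Cfsg.Agent.K Cfsg.Agent.Comp.IC

theorem geq : gen ModelM12.ns ModelM12.G_ss0 = gen ns [[0], [2]] :=
  gen_eq_of_take (ns := ModelM12.ns) (ns' := ns) (k := 2) rfl (ws := ModelM12.G_ss0) (by decide +kernel)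

theorem hn : Nat.card (gen ns [[0], [2]]) = 95040 :=
  geq ▸ ModelM12.G_card

noncomputable def equiv : Cfsg.Spor.M12 ≃* ↥(gen ns [[0], [2]]) :=
  ModelM12.equiv.trans (MulEquiv.subgroupCongr geq)

theorem kn_0 : Known ns (gen ns [[0], [2]]) 3 :=
  known_gen (by decide +kernel)

noncomputable def S_S6 : List SD :=
  []

noncomputable def S_d5 : SD :=
  ⟨4, 1, [28], lab 1 1 0, 1⟩

noncomputable def S_S5 : List SD :=
  S_d5 :: S_S6

noncomputable def S_d4 : SD :=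
  ⟨5, 1, [24, 26, 28], lab 3 7 (nat_lit 0x10080000000000), 2⟩

noncomputable def S_S4 : List SD :=
  S_d4 :: S_S5

noncomputable def S_d3 : SD :=
  ⟨3, 1, [18, 20, 22, 24, 26, 28], lab 4 15 (nat_lit 0x50023004105020000), 2⟩

noncomputable def S_S3 : List SD :=
  S_d3 :: S_S4

noncomputable def S_d2 : SD :=
  ⟨2, 1, [12, 14, 16, 18, 20, 22, 24, 26, 28], lab 5 31 (nat_lit 0x101000044000600080730000), 2⟩

noncomputable def S_S2 : List SD :=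
  S_d2 :: S_S3

noncomputable def S_d1 : SD :=
  ⟨1, 1, [6, 8, 10, 12, 14, 16, 18, 20, 22, 24, 26, 28], lab 5 31 (nat_lit 0x140000006000a100c0281000), 2⟩

noncomputable def S_S1 : List SD :=
  S_d1 :: S_S2

noncomputable def S_d0 : SD :=
  ⟨0, 1, [0, 2, 4, 6, 8, 10, 12, 14, 16, 18, 20, 22, 24, 26, 28], lab 5 31 (nat_lit 0x3c08001450006203c133b0c0), 2⟩

noncomputable def S_S0 : List SD :=
  S_d0 :: S_S1

theorem kn_1 : Known ns (gen ns [[0], [2]]) 32767 :=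
  kn_0.steps ctx (es := [(2, [0, 2, 0]),
 (3, [2, 5, 3, 3, 5, 3, 1, 3, 0, 3]),
 (4, [0, 4, 1, 3, 3, 4]),
 (5, [8, 6, 9, 6, 8]),
 (6, [8, 11, 8]),
 (7, [7, 8, 8, 10, 9, 10]),
 (8, [15, 13, 14, 14, 12]),
 (9, [13, 15, 17, 12, 16, 15, 15, 17, 12, 15]),
 (10, [15, 13, 13, 16, 13, 13, 16]),
 (11, [20, 20, 18, 21]),
 (12, [18, 21]),
 (13, [22, 22, 21, 21, 21]),
 (14, [27, 27])]) (by decide +kernel)

theorem S_ex : Exact 32 ns S_S0 ∧ gen ns (sTop S_S0) = gen ns [[0], [2]] ∧ gen ns [[0], [2]] = gen ns [[0], [2]] :=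
  exact_of_known ctx hn (le_rfl) kn_1 (by decide +kernel)

noncomputable def CaG_S5 : List SD :=
  []

noncomputable def CaG_d4 : SD :=
  ⟨0, 2, [44, 46], lab 2 3 (nat_lit 0x3000c1280), 2⟩

noncomputable def CaG_S4 : List SD :=
  CaG_d4 :: CaG_S5

noncomputable def CaG_d3 : SD :=
  ⟨18, 2, [48, 44, 46], lab 3 7 (nat_lit 0x2024000141600), 2⟩

noncomputable def CaG_S3 : List SD :=
  CaG_d3 :: CaG_S4

noncomputable def CaG_d2 : SD :=
  ⟨8, 2, [50, 48, 44, 46], lab 3 7 (nat_lit 0x200d030002e00), 3⟩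

noncomputable def CaG_S2 : List SD :=
  CaG_d2 :: CaG_S3

noncomputable def CaG_d1 : SD :=
  ⟨2, 2, [52, 50, 48, 44, 46], lab 4 15 (nat_lit 0x3090037005002049001), 3⟩

noncomputable def CaG_S1 : List SD :=
  CaG_d1 :: CaG_S2

noncomputable def CaG_d0 : SD :=
  ⟨1, 2, [54, 52, 50, 48, 44, 46], lab 4 15 (nat_lit 0x10a0090004308052201), 3⟩

noncomputable def CaG_S0 : List SD :=
  CaG_d0 :: CaG_S1

theorem kn_2 : Known ns (gen ns [[0], [2]]) 4294967295 :=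
  kn_1.steps ctx (es := [(15, [5, 11, 6, 19, 12, 21, 18, 26, 24]),
 (16, [6, 2, 11, 14, 12, 19, 26, 24]),
 (17, [16, 14, 23, 18, 24, 28]),
 (18, [19, 2, 6, 6, 19, 12, 23, 24, 28]),
 (19, [7, 2, 6, 22, 26, 28]),
 (20, [5, 12, 6, 28, 12, 20, 18, 26]),
 (21, [3, 11, 20, 18, 24]),
 (22, [10, 2, 7, 16, 23]),
 (23, [19, 2, 11, 6, 18, 12, 23, 26, 24, 28]),
 (24, [19, 2, 11, 6, 18, 12, 21, 18, 24, 28]),
 (25, [10, 2, 7, 16, 20, 28]),
 (26, [12, 2, 11, 6, 18, 12, 20, 18, 26, 28]),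
 (27, [6, 2, 8, 14, 24]),
 (28, [46, 44]),
 (29, [50, 46, 50, 46, 49, 44, 44]),
 (30, [52, 50, 46, 50, 45, 49, 46]),
 (31, [53, 55, 45, 50, 52, 45, 50, 49, 45])]) (by decide +kernel)

theorem CaG_ex : Exact 32 ns CaG_S0 ∧ gen ns (sTop CaG_S0) = gen ns [[0], [2]] ∧ gen ns [[0], [2]] = gen ns [[0], [2]] :=
  exact_of_known ctx hn (le_rfl) kn_2 (by decide +kernel)

noncomputable def Ca_as : List (List ℕ) :=
  [[30]]

noncomputable def Ca_p : List (List ℕ × List ℕ) :=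
  derAs (dg Ca_as) [[0]]

noncomputable def Ca_s : List (ℕ × ℕ) :=
  derSs 32 5 ns (dg Ca_as) [[0]]

noncomputable def Ca_k0 : List (List ℕ) :=
  [[62], [60], [58], [44], [56]]

noncomputable def Ca_k1 : List (List ℕ) :=
  [[60], [58], [44], [56]]

noncomputable def Ca_k2 : List (List ℕ) :=
  [[58], [44], [56]]

noncomputable def Ca_k3 : List (List ℕ) :=
  [[44], [56]]

noncomputable def Ca_k4 : List (List ℕ) :=
  [[44], [56]]

noncomputable def Ca_k5 : List (List ℕ) :=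
  []

theorem Ca_cm : commB 32 5 ns (dg Ca_as) Ca_k0 = true :=
  by decide +kernel

theorem Ca_g0 : Good 32 ns Ca_p Ca_s (gen ns (sTop CaG_S0)) Ca_k0 :=
  good_der ctx kn_2 (CaG_ex.2.1.trans CaG_ex.2.2.symm) _ _ ((and'_eq_true _ _).2 ⟨by decide +kernel, Ca_cm⟩)

theorem Ca_g1 : Good 32 ns Ca_p Ca_s (gen ns (sTop CaG_S1)) Ca_k1 :=
  Ca_g0.tail ctx CaG_ex.1 (by decide +kernel)

theorem Ca_g2 : Good 32 ns Ca_p Ca_s (gen ns (sTop CaG_S2)) Ca_k2 :=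
  Ca_g1.tail ctx CaG_ex.1.tail (by decide +kernel)

theorem Ca_g3 : Good 32 ns Ca_p Ca_s (gen ns (sTop CaG_S3)) Ca_k3 :=
  Ca_g2.tail ctx CaG_ex.1.tail.tail (by decide +kernel)

theorem Ca_g4 : Good 32 ns Ca_p Ca_s (gen ns (sTop CaG_S4)) Ca_k4 :=
  Ca_g3.tail ctx CaG_ex.1.tail.tail.tail (by decide +kernel)

theorem Ca_l5 : LevX 32 ns Ca_p Ca_s (gen ns (sTop CaG_S5)) Ca_k5 1 :=
  levX_nil _ _ _ _

theorem Ca_l4 : LevX 32 ns Ca_p Ca_s (gen ns (sTop CaG_S4)) Ca_k4 8 :=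
  Ca_l5.step ctx CaG_ex.1.tail.tail.tail.tail Ca_g4 (br_zero _ _ _ _ _ _ _) [] 2 2 (by decide +kernel)

theorem Ca_l3 : LevX 32 ns Ca_p Ca_s (gen ns (sTop CaG_S3)) Ca_k3 8 :=
  Ca_l4.step ctx CaG_ex.1.tail.tail.tail Ca_g3 (br_zero _ _ _ _ _ _ _) [] 0 0 (by decide +kernel)

theorem Ca_l2 : LevX 32 ns Ca_p Ca_s (gen ns (sTop CaG_S2)) Ca_k2 16 :=
  Ca_l3.step ctx CaG_ex.1.tail.tail Ca_g2 (br_zero _ _ _ _ _ _ _) [] 1 1 (by decide +kernel)

theorem Ca_l1 : LevX 32 ns Ca_p Ca_s (gen ns (sTop CaG_S1)) Ca_k1 48 :=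
  Ca_l2.step ctx CaG_ex.1.tail Ca_g1 (br_zero _ _ _ _ _ _ _) [] 1 1 (by decide +kernel)

theorem Ca_l0 : LevX 32 ns Ca_p Ca_s (gen ns (sTop CaG_S0)) Ca_k0 192 :=
  Ca_l1.step ctx CaG_ex.1 Ca_g0 (br_zero _ _ _ _ _ _ _) [] 1 1 (by decide +kernel)

theorem Ca : CentEq ns (gen ns [[0], [2]]) Ca_as Ca_k0 192 :=
  centEq_of ctx CaG_ex.2.1 Ca_l0 Ca_g0 Ca_cm

noncomputable def CbG_S6 : List SD :=
  []

noncomputable def CbG_d5 : SD :=
  ⟨3, 1, [64], lab 1 1 0, 1⟩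

noncomputable def CbG_S5 : List SD :=
  CbG_d5 :: CbG_S6

noncomputable def CbG_d4 : SD :=
  ⟨2, 2, [66, 64], lab 2 3 (nat_lit 0x2002000), 4⟩

noncomputable def CbG_S4 : List SD :=
  CbG_d4 :: CbG_S5

noncomputable def CbG_d3 : SD :=
  ⟨23, 2, [68, 66, 64], lab 3 7 (nat_lit 0x8000800200000), 2⟩

noncomputable def CbG_S3 : List SD :=
  CbG_d3 :: CbG_S4

noncomputable def CbG_d2 : SD :=
  ⟨20, 2, [70, 68, 66, 64], lab 3 7 (nat_lit 0x458c00280d00600000), 3⟩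

noncomputable def CbG_S2 : List SD :=
  CbG_d2 :: CbG_S3

noncomputable def CbG_d1 : SD :=
  ⟨1, 1, [72, 70, 68, 66, 64], lab 4 15 (nat_lit 0x8080050001302006400), 3⟩

noncomputable def CbG_S1 : List SD :=
  CbG_d1 :: CbG_S2

noncomputable def CbG_d0 : SD :=
  ⟨0, 2, [74, 72, 70, 68, 66, 64], lab 4 15 (nat_lit 0xa0a0070002501028630), 3⟩

noncomputable def CbG_S0 : List SD :=
  CbG_d0 :: CbG_S1

theorem kn_3 : Known ns (gen ns [[0], [2]]) 2199023255551 :=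
  kn_2.steps ctx (es := [(32, [23, 18, 26]),
 (33, [28, 12, 18, 26, 28]),
 (34, [15, 20, 18, 26, 24]),
 (35, [14, 12, 24]),
 (36, [12, 6, 18, 12, 26]),
 (37, [5, 12, 6, 15, 22, 24]),
 (38, [64, 66]),
 (39, [68, 70, 68, 66, 64]),
 (40, [74, 66, 72, 69, 70, 66, 64, 66])]) (by decide +kernel)

theorem CbG_ex : Exact 32 ns CbG_S0 ∧ gen ns (sTop CbG_S0) = gen ns [[0], [2]] ∧ gen ns [[0], [2]] = gen ns [[0], [2]] :=
  exact_of_known ctx hn (le_rfl) kn_3 (by decide +kernel)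

noncomputable def Cb_as : List (List ℕ) :=
  [[32]]

noncomputable def Cb_p : List (List ℕ × List ℕ) :=
  derAs (dg Cb_as) [[0]]

noncomputable def Cb_s : List (ℕ × ℕ) :=
  derSs 32 5 ns (dg Cb_as) [[0]]

noncomputable def Cb_k0 : List (List ℕ) :=
  [[80], [78], [76], [64]]

noncomputable def Cb_k1 : List (List ℕ) :=
  [[78], [76], [64]]

noncomputable def Cb_k2 : List (List ℕ) :=
  [[78], [76], [64]]

noncomputable def Cb_k3 : List (List ℕ) :=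
  [[76], [64]]

noncomputable def Cb_k4 : List (List ℕ) :=
  [[76], [64]]

noncomputable def Cb_k5 : List (List ℕ) :=
  [[64]]

noncomputable def Cb_k6 : List (List ℕ) :=
  []

theorem Cb_cm : commB 32 5 ns (dg Cb_as) Cb_k0 = true :=
  by decide +kernel

theorem Cb_g0 : Good 32 ns Cb_p Cb_s (gen ns (sTop CbG_S0)) Cb_k0 :=
  good_der ctx kn_3 (CbG_ex.2.1.trans CbG_ex.2.2.symm) _ _ ((and'_eq_true _ _).2 ⟨by decide +kernel, Cb_cm⟩)

theorem Cb_g1 : Good 32 ns Cb_p Cb_s (gen ns (sTop CbG_S1)) Cb_k1 :=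
  Cb_g0.tail ctx CbG_ex.1 (by decide +kernel)

theorem Cb_g2 : Good 32 ns Cb_p Cb_s (gen ns (sTop CbG_S2)) Cb_k2 :=
  Cb_g1.tail ctx CbG_ex.1.tail (by decide +kernel)

theorem Cb_g3 : Good 32 ns Cb_p Cb_s (gen ns (sTop CbG_S3)) Cb_k3 :=
  Cb_g2.tail ctx CbG_ex.1.tail.tail (by decide +kernel)

theorem Cb_g4 : Good 32 ns Cb_p Cb_s (gen ns (sTop CbG_S4)) Cb_k4 :=
  Cb_g3.tail ctx CbG_ex.1.tail.tail.tail (by decide +kernel)

theorem Cb_g5 : Good 32 ns Cb_p Cb_s (gen ns (sTop CbG_S5)) Cb_k5 :=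
  Cb_g4.tail ctx CbG_ex.1.tail.tail.tail.tail (by decide +kernel)

theorem Cb_l6 : LevX 32 ns Cb_p Cb_s (gen ns (sTop CbG_S6)) Cb_k6 1 :=
  levX_nil _ _ _ _

theorem Cb_l5 : LevX 32 ns Cb_p Cb_s (gen ns (sTop CbG_S5)) Cb_k5 2 :=
  Cb_l6.step ctx CbG_ex.1.tail.tail.tail.tail.tail Cb_g5 (br_zero _ _ _ _ _ _ _) [] 1 1 (by decide +kernel)

theorem Cb_l4 : LevX 32 ns Cb_p Cb_s (gen ns (sTop CbG_S4)) Cb_k4 10 :=
  Cb_l5.step ctx CbG_ex.1.tail.tail.tail.tail Cb_g4 (br_zero _ _ _ _ _ _ _) [] 2 2 (by decide +kernel)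

theorem Cb_l3 : LevX 32 ns Cb_p Cb_s (gen ns (sTop CbG_S3)) Cb_k3 10 :=
  Cb_l4.step ctx CbG_ex.1.tail.tail.tail Cb_g3 (br_zero _ _ _ _ _ _ _) [(0, 20, 0)] 0 0 (by decide +kernel)

noncomputable def Cb_B2_cs : List (List ℕ) :=
  []

noncomputable def Cb_B2_pl : List Pl :=
  [⟨.lst 0, []⟩, ⟨.forced 0 0, []⟩, ⟨.free, []⟩, ⟨.free, []⟩]

noncomputable def Cb_B2_M0 : ℕ :=
  nat_lit 0x400000

theorem Cb_B2_b0 : Br 32 ns Cb_p Cb_s (gen ns (sTop CbG_S2)) CbG_d2.p Cb_B2_M0 (InCs ns CbG_S2 Cb_B2_cs) :=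
  br_of_brB ctx hE CbG_ex.1.tail.tail (pl := Cb_B2_pl) (bs := [1, 0]) (tps := [10, 19]) (by decide +kernel)

theorem Cb_l2 : LevX 32 ns Cb_p Cb_s (gen ns (sTop CbG_S2)) Cb_k2 20 :=
  Cb_l3.step ctx CbG_ex.1.tail.tail Cb_g2 ((br_zero _ _ _ _ _ _ _).lor Cb_B2_b0) [] 2 1 (by decide +kernel)

theorem Cb_l1 : LevX 32 ns Cb_p Cb_s (gen ns (sTop CbG_S1)) Cb_k1 20 :=
  Cb_l2.step ctx CbG_ex.1.tail Cb_g1 (br_zero _ _ _ _ _ _ _) [(0, 0, 0)] 0 0 (by decide +kernel)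

theorem Cb_l0 : LevX 32 ns Cb_p Cb_s (gen ns (sTop CbG_S0)) Cb_k0 240 :=
  Cb_l1.step ctx CbG_ex.1 Cb_g0 (br_zero _ _ _ _ _ _ _) [] 3 3 (by decide +kernel)

theorem Cb : CentEq ns (gen ns [[0], [2]]) Cb_as Cb_k0 240 :=
  centEq_of ctx CbG_ex.2.1 Cb_l0 Cb_g0 Cb_cm

noncomputable def CbD_S5 : List SD :=
  []

noncomputable def CbD_d4 : SD :=
  ⟨8, 2, [84, 86], lab 2 3 (nat_lit 0x3000010e2), 2⟩

noncomputable def CbD_S4 : List SD :=
  CbD_d4 :: CbD_S5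

noncomputable def CbD_d3 : SD :=
  ⟨18, 2, [88, 84, 86], lab 3 7 (nat_lit 0x100200095c), 3⟩

noncomputable def CbD_S3 : List SD :=
  CbD_d3 :: CbD_S4

noncomputable def CbD_d2 : SD :=
  ⟨9, 2, [90, 88, 84, 86], lab 3 7 (nat_lit 0x80001003040ab8), 2⟩

noncomputable def CbD_S2 : List SD :=
  CbD_d2 :: CbD_S3

noncomputable def CbD_d1 : SD :=
  ⟨4, 2, [92, 90, 88, 84, 86], lab 4 15 (nat_lit 0x2020003000100004915), 3⟩

noncomputable def CbD_S1 : List SD :=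
  CbD_d1 :: CbD_S2

noncomputable def CbD_d0 : SD :=
  ⟨13, 2, [94, 92, 90, 88, 84, 86], lab 4 15 (nat_lit 0x10009002208001604), 3⟩

noncomputable def CbD_S0 : List SD :=
  CbD_d0 :: CbD_S1

theorem kn_4 : Known ns (gen ns [[0], [2]]) 281474976710655 :=
  kn_3.steps ctx (es := [(41, [14, 22, 26, 24]),
 (42, [7, 2, 6, 6, 15, 18, 26, 24, 28]),
 (43, [6, 2, 11, 6, 14, 23, 26, 24, 28]),
 (44, [6, 2, 22, 6, 14, 19, 26, 24, 28]),
 (45, [12, 2, 10, 12, 28]),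
 (46, [7, 2, 12, 6, 12, 22, 28]),
 (47, [2, 8, 28, 12, 19, 26, 24, 28])]) (by decide +kernel)

theorem CbD_ex : Exact 32 ns CbD_S0 ∧ gen ns (sTop CbD_S0) = gen ns [[0], [2]] ∧ gen ns [[0], [2]] = gen ns [[0], [2]] :=
  exact_of_known ctx hn (le_rfl) kn_4 (by decide +kernel)

noncomputable def Cby_as : List (List ℕ × List ℕ) :=
  [([32], [32]), ([82], [82])]

noncomputable def Cby_cs : List (List ℕ) :=
  [[], [95, 91, 92, 91, 88, 86]]

noncomputable def Cby_pl : List Pl :=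
  [⟨.lst 0, []⟩, ⟨.forced 0 0, []⟩, ⟨.forced 0 0, []⟩, ⟨.forced 0 0, []⟩, ⟨.forced 0 0, []⟩]

noncomputable def Cby_M0 : ℕ :=
  73728

theorem Cby_b0 : Br 32 ns (derAs Cby_as [[2], [0]]) (derSs 32 5 ns Cby_as [[0], [2]]) (gen ns (sTop CbD_S0)) CbD_d0.p Cby_M0 (InCs ns CbD_S0 Cby_cs) :=
  br_of_brB ctx hE CbD_ex.1 (pl := Cby_pl) (bs := []) (tps := []) (by decide +kernel)

theorem Cby : SolList ns (gen ns [[0], [2]]) Cby_as [[82]] Cby_cs :=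
  solList_of_br ctx CbD_ex.1 CbD_ex.2.1 kn_4 Cby_b0 (cons := []) (r := 4) (by decide +kernel)

noncomputable def bs : List ℕ :=
  [0, 1, 2, 3, 5, 4]

theorem mb : MB 32 5 ns (gen ns [[0], [2]]) 281474976710655 E bs :=
  ⟨⟨ctx, kn_4, gen_le_supp ctx.ok _⟩, hE, bas_of_exact S_ex.1 S_ex.2.1 (by decide +kernel)⟩

instance fin : Finite Cfsg.Spor.M12 := mb.m.finite equiv

noncomputable def top : List ℕ := [34, 36, 38, 40, 42, 30]

noncomputable def ts : List (List ℕ) := [[30], [32]]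

theorem nc : Nc (ev equiv ns) top :=
  (mb.wm equiv).nc (hs := [([], [[36, 42], [38, 40], [40], [42, 30], [30]]),
 ([42, 30], [[38, 40, 30], [40, 30], [42], [30]]),
 ([], [[40], [42, 30], [30]]),
 ([], [[42], [30]]),
 ([30], [[30]]),
 ([], [])]) (by decide +kernel)

theorem lb : 2 ^ top.length ≤ Nat.card (sg (ev equiv ns) top) :=
  le_card_sg mb.m equiv [(2, 2, [[36], [36, 38, 40], [], [34, 40, 30]]),
 (0, 3, [[36, 38, 40], [], [34, 40, 30]]),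
 (1, 1, [[], [34, 40, 30]])] (by decide +kernel)

theorem ser : Ser (ev equiv ns) top := nc.ser lb

noncomputable def cv1c : CT :=
  (.two (.two (.two (.two (.two .triv
 (.lf [] [30]))
 (.one [34] [] (.no [])))
 (.two (.one [36] [] (.lf [6, 19, 12, 19, 28] [30]))
 (.one [34] [] (.no []))))
 (.one [34] [] (.two (.one [42] [] (.lf [15, 2, 8, 15, 19, 24, 28] [32]))
 (.one [38] [] (.lf [2, 22, 26, 24] [30])))))
 (.two (.one [38] [] (.one [34] [] (.no [30])))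
 (.one [38] [] (.no [42, 30]))))

theorem cv1 : Cv (ev equiv ns) ts [36, 38, 40, 42, 30] [] :=
  ser.cv' (mb.wm equiv) cv1c 0 (p := 34) (by decide +kernel)

noncomputable def cv2c : CT :=
  (.two (.two (.one [38] [] (.one [36] [] (.one [42] [] (.lf [8, 2, 12, 6, 16, 20, 24] [30]))))
 (.one [34] [] (.no [])))
 (.two (.two (.one [34] [] (.one [38] [] (.lf [12, 2, 6, 6, 19, 28] [32])))
 (.one [34] [] (.one [38] [] (.no []))))
 (.one [36] [42] (.two (.one [38] [] (.no []))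
 (.one [40] [] (.lf [10, 2, 12, 20, 26] [32]))))))

theorem cv2 : Cv (ev equiv ns) ts [36, 38, 40, 42, 30] [34] :=
  ser.cv' (mb.wm equiv) cv2c 0 (p := 34) (by decide +kernel)

theorem cv0 : Cv (ev equiv ns) ts [34, 36, 38, 40, 42, 30] [] :=
  ser.two (mb.wm equiv) 0 (by decide +kernel) cv1 cv2

theorem Ca_mix : MixG (Subgroup.centralizer ({ev equiv ns [30]} : Set Cfsg.Spor.M12)) :=
  mb.mix_card equiv Ca 6 3 (by decide +kernel) (by norm_num)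

theorem Cb_mix : MixG (Subgroup.centralizer ({ev equiv ns [32]} : Set Cfsg.Spor.M12)) :=
  mb.mix_pe' equiv Cb Cby 10 5 2 2 4 [2, 3, 5] [(0, 1, [[95, 91, 92, 91, 88, 86], [82]]),
 (2, 4, [[82]])]
    (by norm_num) (fun h => absurd rfl h)
    (by decide +kernel) (by decide +kernel) (by decide +kernel)

theorem invMix : InvMix Cfsg.Spor.M12 :=
  mb.invMix equiv hn nc lb (by decide +kernel) cv0 (List.forall_mem_cons.2 ⟨Ca_mix, List.forall_mem_cons.2 ⟨Cb_mix, fun _ h => absurd h List.not_mem_nil⟩⟩)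

end Cfsg.Agent.Spor.MixM12
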