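import Cfsg.Agent.Spor.LeechModel

set_option autoImplicit false
set_option maxRecDepth 4096

namespace Cfsg.Agent.Spor.ModelHS

open Cfsg.Agent.Comp

noncomputable def ns_0 : Net :=
 (Net.cons (nat_lit 64) (nat_lit 0x18aa2303447f69f7)
 (Net.cons (nat_lit 32) (nat_lit 0x222a0a9100000000cdd875af)
 (Net.cons (nat_lit 16) (nat_lit 0x281200000e5300006eb90000dea6)
 (Net.cons (nat_lit 8) (nat_lit 0x8002300d200a400f900590088002a)
 (Net.cons (nat_lit 4) (nat_lit 0x20200080c0807030000030601000a04)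
 (Net.cons (nat_lit 2) (nat_lit 0x2220021033102303120030130032201)
 (Net.cons (nat_lit 1) (nat_lit 0x100101004105440044111410454401)
 (Net.cons (nat_lit 2) (nat_lit 0x200202002000220020022000000000)
 (Net.cons (nat_lit 4) (nat_lit 0x800080804060a08000202040a0000)
 (Net.cons (nat_lit 8) (nat_lit 0x100020005000880078004600b80068)
 (Net.cons (nat_lit 16) (nat_lit 0x1200001f1e0000ebe000000cb6)
 (Net.cons (nat_lit 32) (nat_lit 0x322a089000000000eacc2984)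
 (Net.cons (nat_lit 64) (nat_lit 0x18aa23025c9e500a)
 Net.nil)))))))))))))

noncomputable def ns_1 : Net :=
 (Net.cons (nat_lit 64) (nat_lit 0xc84c77e086710bf0)
 (Net.cons (nat_lit 32) (nat_lit 0x478743360000000055c7be3b)
 (Net.cons (nat_lit 16) (nat_lit 0x88510000439c00000c1b00001faf)
 (Net.cons (nat_lit 8) (nat_lit 0x1c00ec00ac00a8006e000400390002)
 (Net.cons (nat_lit 4) (nat_lit 0x80c000a0a000c0b050d0803090c0806)
 (Net.cons (nat_lit 2) (nat_lit 0x13031123232020010220000122022123)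
 (Net.cons (nat_lit 1) (nat_lit 0x44000144014050041454040011411104)
 (Net.cons (nat_lit 2) (nat_lit 0x2000220020000000202020022002002)
 (Net.cons (nat_lit 4) (nat_lit 0x80c0a02020808040608080000060c0e)
 (Net.cons (nat_lit 8) (nat_lit 0x5800ae008400800020000600300008)
 (Net.cons (nat_lit 16) (nat_lit 0xcb1a000023b000003e380000963c)
 (Net.cons (nat_lit 32) (nat_lit 0x4783025c0000000046d53e24)
 (Net.cons (nat_lit 64) (nat_lit 0xc84c77edfd61f018)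
 Net.nil)))))))))))))

noncomputable def ns_2 : Net :=
 (Net.cons (nat_lit 64) (nat_lit 0xa68afb5bd6682d7c)
 (Net.cons (nat_lit 32) (nat_lit 0x8a85dd3d0000000053d3c274)
 (Net.cons (nat_lit 16) (nat_lit 0x9e8f0000b59e0000d05c00008084)
 (Net.cons (nat_lit 8) (nat_lit 0x8200ed00f4003700e60052005c0030)
 (Net.cons (nat_lit 4) (nat_lit 0x60008090c020c0c020c040904010a06)
 (Net.cons (nat_lit 2) (nat_lit 0x10032201130221010023121020030230)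
 (Net.cons (nat_lit 1) (nat_lit 0x10014045011011504015040444410540)
 (Net.cons (nat_lit 2) (nat_lit 0x22000020020002020020020020020)
 (Net.cons (nat_lit 4) (nat_lit 0x4080c0008020c0a0404040c04040204)
 (Net.cons (nat_lit 8) (nat_lit 0x8a00a200d6002c00ac00000068001c)
 (Net.cons (nat_lit 16) (nat_lit 0xb68c0000675c0000900c0000a184)
 (Net.cons (nat_lit 32) (nat_lit 0x288def380000000042f2c6f8)
 (Net.cons (nat_lit 64) (nat_lit 0xa68afb55f8eca360)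
 Net.nil)))))))))))))

noncomputable def ns_3 : Net :=
 (Net.cons (nat_lit 64) (nat_lit 0x4bd7ef168b7733c6)
 (Net.cons (nat_lit 32) (nat_lit 0xb311b348000000008a0de1ae)
 (Net.cons (nat_lit 16) (nat_lit 0x4c000061d80000fe8000002398)
 (Net.cons (nat_lit 8) (nat_lit 0xd20070006800dd00d0008e00d00006)
 (Net.cons (nat_lit 4) (nat_lit 0x60d0c03020a0408000d00080c08030c)
 (Net.cons (nat_lit 2) (nat_lit 0x23223323012010202010012002200310)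
 (Net.cons (nat_lit 1) (nat_lit 0x111444004445410004144104101050)
 (Net.cons (nat_lit 2) (nat_lit 0x222222002200220000000200000000)
 (Net.cons (nat_lit 4) (nat_lit 0x40000000000000a0004020c0c000204)
 (Net.cons (nat_lit 8) (nat_lit 0x5800260040001c0050008e00d0003a)
 (Net.cons (nat_lit 16) (nat_lit 0x404800006c5c00005e88000023c0)
 (Net.cons (nat_lit 32) (nat_lit 0xbad23c5e000000000e0df12c)
 (Net.cons (nat_lit 64) (nat_lit 0x4bd7ef18889a82c2)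
 Net.nil)))))))))))))

noncomputable def ns_4 : Net :=
 (Net.cons (nat_lit 64) (nat_lit 0x25ad41895706c606)
 (Net.cons (nat_lit 32) (nat_lit 0x8a689194000000001f221716)
 (Net.cons (nat_lit 16) (nat_lit 0xbc000000440f00001a380000aeb3)
 (Net.cons (nat_lit 8) (nat_lit 0xe000b70014002200d0001100160062)
 (Net.cons (nat_lit 4) (nat_lit 0xb04050200030c0e0302070402090a0a)
 (Net.cons (nat_lit 2) (nat_lit 0x32023000110222022302003032011020)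
 (Net.cons (nat_lit 1) (nat_lit 0x40411105101504444100414114144015)
 (Net.cons (nat_lit 2) (nat_lit 0x20022000002002202200022020022020)
 (Net.cons (nat_lit 4) (nat_lit 0x804080a0008080002080c00000c0a0e)
 (Net.cons (nat_lit 8) (nat_lit 0xe0003a0010004c0090003000440038)
 (Net.cons (nat_lit 16) (nat_lit 0x3d0c00006108000005380000fe7c)
 (Net.cons (nat_lit 32) (nat_lit 0xafc19110000000001d70995a)
 (Net.cons (nat_lit 64) (nat_lit 0x25ad4185a65ac30a)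
 Net.nil)))))))))))))

noncomputable def ns_5 : Net :=
 (Net.cons (nat_lit 64) (nat_lit 0x21450618fc6189a2)
 (Net.cons (nat_lit 32) (nat_lit 0x43a8cb000000000054c97caa)
 (Net.cons (nat_lit 16) (nat_lit 0x6dfc0000b8d40000795f0000b5ea)
 (Net.cons (nat_lit 8) (nat_lit 0x1500ef003300740021007000f2002e)
 (Net.cons (nat_lit 4) (nat_lit 0x4000e0003000007090e080c07000302)
 (Net.cons (nat_lit 2) (nat_lit 0x10012300002112123303302120021320)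
 (Net.cons (nat_lit 1) (nat_lit 0x5044141104040015501001004041514)
 (Net.cons (nat_lit 2) (nat_lit 0x20000000000000002000002000)
 (Net.cons (nat_lit 4) (nat_lit 0x400040202040006000000040c080a00)
 (Net.cons (nat_lit 8) (nat_lit 0x1c000c0032005c0020007000e800be)
 (Net.cons (nat_lit 16) (nat_lit 0x2ef000009884000035fe0000444c)
 (Net.cons (nat_lit 32) (nat_lit 0x63accd000000000058e19d42)
 (Net.cons (nat_lit 64) (nat_lit 0x2145061297372a62)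
 Net.nil)))))))))))))

noncomputable def ns_6 : Net :=
 (Net.cons (nat_lit 64) (nat_lit 0x82a4811f9f99bb9c)
 (Net.cons (nat_lit 32) (nat_lit 0xb488e56b00000000bfbc3160)
 (Net.cons (nat_lit 16) (nat_lit 0xa1240000098700009c6a00004eac)
 (Net.cons (nat_lit 8) (nat_lit 0x84003400a40098009d00a700340050)
 (Net.cons (nat_lit 4) (nat_lit 0x10c0c0200090204050f03080c0d0808)
 (Net.cons (nat_lit 2) (nat_lit 0x3201021020220022301330122123010)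
 (Net.cons (nat_lit 1) (nat_lit 0x14400445410110400540140544051040)
 (Net.cons (nat_lit 2) (nat_lit 0x2200020200000000020200002002000)
 (Net.cons (nat_lit 4) (nat_lit 0x40c04060802040c0a0a0a08040808)
 (Net.cons (nat_lit 8) (nat_lit 0x80003400e4000000ae00ea00340040)
 (Net.cons (nat_lit 16) (nat_lit 0xa10400008b100000964c000056b4)
 (Net.cons (nat_lit 32) (nat_lit 0xb42ce46a00000000f7be6f20)
 (Net.cons (nat_lit 64) (nat_lit 0x82a4811791289dc0)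
 Net.nil)))))))))))))

noncomputable def ns_7 : Net :=
 (Net.cons (nat_lit 64) (nat_lit 0x9df8d66c44b21b50)
 (Net.cons (nat_lit 32) (nat_lit 0x57a1855f00000000620799de)
 (Net.cons (nat_lit 16) (nat_lit 0x48b50000df960000204d00006696)
 (Net.cons (nat_lit 8) (nat_lit 0x68005600d40027006200030044009a)
 (Net.cons (nat_lit 4) (nat_lit 0xf000c0f0e0e0b0700020905020e0f08)
 (Net.cons (nat_lit 2) (nat_lit 0x20102013023221210020203001032120)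
 (Net.cons (nat_lit 1) (nat_lit 0x4001544001404150044011010041400)
 (Net.cons (nat_lit 2) (nat_lit 0x2000002200200022002000020000)
 (Net.cons (nat_lit 4) (nat_lit 0xc040c00080a080200000a0400060c08)
 (Net.cons (nat_lit 8) (nat_lit 0x280094001000a600200082007600b8)
 (Net.cons (nat_lit 16) (nat_lit 0x19c40000f7940000004e00004a90)
 (Net.cons (nat_lit 32) (nat_lit 0x57f1155c000000002005b0c4)
 (Net.cons (nat_lit 64) (nat_lit 0x9df8d6677ac20262)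
 Net.nil)))))))))))))

noncomputable def ns_8 : Net :=
 (Net.cons (nat_lit 64) (nat_lit 0x1aa6df98daa5d03c)
 (Net.cons (nat_lit 32) (nat_lit 0x6b7440490000000049436dc8)
 (Net.cons (nat_lit 16) (nat_lit 0x97500000d318000005890000928c)
 (Net.cons (nat_lit 8) (nat_lit 0x20051008c009000b9002200f00038)
 (Net.cons (nat_lit 4) (nat_lit 0x50e0d0d00020809050c060007010808)
 (Net.cons (nat_lit 2) (nat_lit 0x23102213312022220321222130010000)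
 (Net.cons (nat_lit 1) (nat_lit 0x41041441141404110104404040141004)
 (Net.cons (nat_lit 2) (nat_lit 0x2202222002200202202020202000)
 (Net.cons (nat_lit 4) (nat_lit 0x20c0c08080000000404000402000a08)
 (Net.cons (nat_lit 8) (nat_lit 0xb00040000a00180078004600b40038)
 (Net.cons (nat_lit 16) (nat_lit 0x84c40000cb18000040880000028c)
 (Net.cons (nat_lit 32) (nat_lit 0x63d69ac000000000a8034dcc)
 (Net.cons (nat_lit 64) (nat_lit 0x1aa6df90c3a0c03c)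
 Net.nil)))))))))))))

noncomputable def ns_9 : Net :=
 (Net.cons (nat_lit 64) (nat_lit 0x4cf31ea60d953f10)
 (Net.cons (nat_lit 32) (nat_lit 0x3cd3132c000000001013a1c0)
 (Net.cons (nat_lit 16) (nat_lit 0x4cc00000ab440000c1cc00009620)
 (Net.cons (nat_lit 8) (nat_lit 0xc40022006a00ba002300740034)
 (Net.cons (nat_lit 4) (nat_lit 0xc0a0b0c02040102080700040c04000c)
 (Net.cons (nat_lit 2) (nat_lit 0x10022121203122303003003023103200)
 (Net.cons (nat_lit 1) (nat_lit 0x40015441444101101144014040501140)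
 (Net.cons (nat_lit 2) (nat_lit 0x20000000022200002202002000002220)
 (Net.cons (nat_lit 4) (nat_lit 0xc0a060c040c020a08020004000c0008)
 (Net.cons (nat_lit 8) (nat_lit 0xc4006600e200ea002200d80074)
 (Net.cons (nat_lit 16) (nat_lit 0x50600000650e000060c200009360)
 (Net.cons (nat_lit 32) (nat_lit 0x38130b84000000009013c1c8)
 (Net.cons (nat_lit 64) (nat_lit 0x4cf31ea28ad11700)
 Net.nil)))))))))))))

noncomputable def ns_10 : Net :=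
 (Net.cons (nat_lit 64) (nat_lit 0x81e1374fd06ee004)
 (Net.cons (nat_lit 32) (nat_lit 0x573ae7a80000000081e2af80)
 (Net.cons (nat_lit 16) (nat_lit 0x568200008a240000668e00004020)
 (Net.cons (nat_lit 8) (nat_lit 0x7000b000c700b800ec00f6005a0058)
 (Net.cons (nat_lit 4) (nat_lit 0xd0904090800010704000d0e0a020008)
 (Net.cons (nat_lit 2) (nat_lit 0x3300013210000212332022320221020)
 (Net.cons (nat_lit 1) (nat_lit 0x14114104440114144110504010414014)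
 (Net.cons (nat_lit 2) (nat_lit 0x222000200000220020000000220020)
 (Net.cons (nat_lit 4) (nat_lit 0xc08000400000004040a040c0a000800)
 (Net.cons (nat_lit 8) (nat_lit 0x30005600c600b800d4005c00520090)
 (Net.cons (nat_lit 16) (nat_lit 0x410000008b200000009200001030)
 (Net.cons (nat_lit 32) (nat_lit 0xd73af1e4000000008be8e7a4)
 (Net.cons (nat_lit 64) (nat_lit 0x81e13749c3b7e578)
 Net.nil)))))))))))))

noncomputable def ns_11 : Net :=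
 (Net.cons (nat_lit 64) (nat_lit 0x29f33ba83cef8280)
 (Net.cons (nat_lit 32) (nat_lit 0xa5a09e8b00000000a4849d88)
 (Net.cons (nat_lit 16) (nat_lit 0x91aa000013b3000077940000a27e)
 (Net.cons (nat_lit 8) (nat_lit 0x55000000520069005000240038009c)
 (Net.cons (nat_lit 4) (nat_lit 0xd040a06060b060609040c0c060d0c0e)
 (Net.cons (nat_lit 2) (nat_lit 0x3320320011201320230022102211002)
 (Net.cons (nat_lit 1) (nat_lit 0x11010140040101400114444505004004)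
 (Net.cons (nat_lit 2) (nat_lit 0x2000000020202200220002000000000)
 (Net.cons (nat_lit 4) (nat_lit 0x404020406000600080400080c0c0c08)
 (Net.cons (nat_lit 8) (nat_lit 0x4400a00002004800c000a200680098)
 (Net.cons (nat_lit 16) (nat_lit 0x148a000011800000739400006266)
 (Net.cons (nat_lit 32) (nat_lit 0xac32b52000000000a4849dd8)
 (Net.cons (nat_lit 64) (nat_lit 0x29f33bab1fdc4470)
 Net.nil)))))))))))))

noncomputable def ns_12 : Net :=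
 (Net.cons (nat_lit 64) (nat_lit 0xb9811808314e8a40)
 (Net.cons (nat_lit 32) (nat_lit 0xdc419000000000006008a088)
 (Net.cons (nat_lit 16) (nat_lit 0xa4000000c1320000445000001a50)
 (Net.cons (nat_lit 8) (nat_lit 0x80000800c200e20028008000500080)
 (Net.cons (nat_lit 4) (nat_lit 0xc0404000206040a000006070804020c)
 (Net.cons (nat_lit 2) (nat_lit 0x21013000220320200002221111211320)
 (Net.cons (nat_lit 1) (nat_lit 0x10000000111015050404440000100514)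
 (Net.cons (nat_lit 2) (nat_lit 0x20000000220020000002220000200020)
 (Net.cons (nat_lit 4) (nat_lit 0xc0404000006040a000000000004020c)
 (Net.cons (nat_lit 8) (nat_lit 0xc200e20008000000500080)
 (Net.cons (nat_lit 16) (nat_lit 0xa4000000c1320000445000001850)
 (Net.cons (nat_lit 32) (nat_lit 0xdc419000000000006008a088)
 (Net.cons (nat_lit 64) (nat_lit 0xb9811808314a8a40)
 Net.nil)))))))))))))

noncomputable def ns_13 : Net :=
 (Net.cons (nat_lit 64) (nat_lit 0x2416389003de6814)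
 (Net.cons (nat_lit 32) (nat_lit 0x3960b00300000000d059ab58)
 (Net.cons (nat_lit 16) (nat_lit 0xb1440000eac9000022380000100c)
 (Net.cons (nat_lit 8) (nat_lit 0x80000100ac00880050004300490038)
 (Net.cons (nat_lit 4) (nat_lit 0xc04080f08020201010c0c07010e0804)
 (Net.cons (nat_lit 2) (nat_lit 0x20202031001002002003011011010010)
 (Net.cons (nat_lit 1) (nat_lit 0x50500014000440104111010554444140)
 (Net.cons (nat_lit 2) (nat_lit 0x200200002020002000000)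
 (Net.cons (nat_lit 4) (nat_lit 0xc06080e00040800000c000008000204)
 (Net.cons (nat_lit 8) (nat_lit 0x80000000ac00380060004400c00038)
 (Net.cons (nat_lit 16) (nat_lit 0xa1500000a8420000a04800001688)
 (Net.cons (nat_lit 32) (nat_lit 0x39729880000000001250687c)
 (Net.cons (nat_lit 64) (nat_lit 0x2416389c35da50c4)
 Net.nil)))))))))))))

noncomputable def ns_14 : Net :=
 (Net.cons (nat_lit 64) (nat_lit 0x3c102099614cc400)
 (Net.cons (nat_lit 32) (nat_lit 0x9b061000000000045715a00)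
 (Net.cons (nat_lit 16) (nat_lit 0x11a00000369800000c400000d100)
 (Net.cons (nat_lit 8) (nat_lit 0x81009800ba00d8000500280070)
 (Net.cons (nat_lit 4) (nat_lit 0x20000020c0c0a0f05000002030c0400)
 (Net.cons (nat_lit 2) (nat_lit 0x203002320120000202120000233000)
 (Net.cons (nat_lit 1) (nat_lit 0x5105014500010440401040411055110)
 (Net.cons (nat_lit 2) (nat_lit 0x200002000020000202020000000000)
 (Net.cons (nat_lit 4) (nat_lit 0x20000020c04080004000000000c0400)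
 (Net.cons (nat_lit 8) (nat_lit 0x80009800980058000400280030)
 (Net.cons (nat_lit 16) (nat_lit 0x11a00000368000000c400000d100)
 (Net.cons (nat_lit 32) (nat_lit 0x9b061000000000045715a00)
 (Net.cons (nat_lit 64) (nat_lit 0x3c1020992148c400)
 Net.nil)))))))))))))

noncomputable def ns : List Net := [ns_0, ns_1, ns_2, ns_3, ns_4, ns_5, ns_6, ns_7, ns_8, ns_9, ns_10, ns_11, ns_12, ns_13, ns_14]

theorem ctx : Ctx 128 7 ns := ctx_of (by decide +kernel)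

open Cfsg Cfsg.Spor Cfsg.Agent.Spor.Leech MulAction
open scoped Pointwise

noncomputable def G_C5 : List Lvl :=
  []

noncomputable def G_ss4 : List (List ℕ) :=
  [[22], [24], [26]]

noncomputable def G_D4 : ℕ :=
  nat_lit 0x7000684d81f10205c982d310

noncomputable def G_l4 : Lvl :=
  ⟨4, [[22], [24], [26], [28]],
  tabC 15 32767 [nat_lit 0x840400000000000000000000005c047e0cfc14f82c605000000000004e02000000000000000000000007828000000000000000000000010100004204080cfc000000000ba0c000000022041c080000000000000000001f808000840d70080005c05000000011031f01000000000000000000000000000000,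
 nat_lit 0x381630004010000000000000000000000000000000000000000000000001080230200008c0c000000000000000100800000008c0210000000405], 3⟩

noncomputable def G_C4 : List Lvl :=
  G_l4 :: G_C5

noncomputable def G_ss3 : List (List ℕ) :=
  [[16], [18]]

noncomputable def G_D3 : ℕ :=
  nat_lit 0x8400000000008

noncomputable def G_l3 : Lvl :=
  ⟨3, [[16], [18], [22], [24], [26], [28]],
  tabA [(46, 768), (51, 770)], 1⟩

noncomputable def G_C3 : List Lvl :=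
  G_l3 :: G_C4

noncomputable def G_ss2 : List (List ℕ) :=
  [[10], [12]]

noncomputable def G_D2 : ℕ :=
  nat_lit 0x172596afdc1f9d7a7cbcbdb5c

noncomputable def G_l2 : Lvl :=
  ⟨2, [[10], [12], [20], [16], [18], [22], [24], [26], [28]],
  tabC 15 32767 [nat_lit 0x32082c2800000000000000000049047e20640228156018a0800000003604320cbc1400019100001142478282056a00000058300000001140c583b60c9a0efc2800000006c16000010059016c102c2400000008a180001b080b108a0324140002f0404080001f810b0000002c300000b04580600000000000,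
 nat_lit 0x490100006416480130100000000c8480000000080c0002806321000000003f030000fc1cc8100009a0c000010100009220d824100990ebc0f34040004d0c], 3⟩

noncomputable def G_C2 : List Lvl :=
  G_l2 :: G_C3

noncomputable def G_ss1 : List (List ℕ) :=
  [[4], [6]]

noncomputable def G_D1 : ℕ :=
  nat_lit 0x7f2fdebfdf9ffd7b7cbcfdbde

noncomputable def G_l1 : Lvl :=
  ⟨1, [[4], [6], [14], [10], [12], [20], [16], [18], [22], [24], [26], [28]],
  tabC 15 32767 [nat_lit 0x9a062011e012a01aa0c000000040107e2c202840b4d0e8a15542ea8a2a07540734080002a0c0000040440281054414000140abc0b0001343e685aa0a9a1ab800000000010240002684880c9a20a03800000008a247c0668a40088a0f34580000811100e00026820102aa2100000004d06541714180000000,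
 nat_lit 0x154582012816aa06243658a4016000000022860000aa10a812680280c540b541c0002a08aa1c205408000009a1800022883c06541b34540820801800d341c0000103], 3⟩

noncomputable def G_C1 : List Lvl :=
  G_l1 :: G_C2

noncomputable def G_ss0 : List (List ℕ) :=
  [[0], [2]]

noncomputable def G_D0 : ℕ :=
  nat_lit 0xfffffffffffffffffffffffff

noncomputable def G_l0 : Lvl :=
  ⟨0, [[0], [2], [8], [4], [6], [14], [10], [12], [20], [16], [18], [22], [24], [26], [28]],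
  tabC 15 32767 [nat_lit 0x3221182e582b70a9612141c288b50432086430c83461b960c680e585971c32253404e83191c3a171454b82450a8c0c7428c854b033a1f1832688b51b9630dc680021d136e10640c0004b1532006414d071a138a0a5c0cc84cb018c273410286cb0d321e74226854d0ebe245c28002c618be0264366838000,
 nat_lit 0x3a125c1ef8696163210644658d170c3a1a7458c8a9a14220e644e303970e3228d416300cb109610d428001cd0000032c08c8c1d048c1a0008c81191a8c2f34363014b12], 3⟩

noncomputable def G_C0 : List Lvl :=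
  G_l0 :: G_C1

theorem G_lb5 : 1 ≤ Nat.card (cgrp ns G_C5) :=
  lb_nil _

theorem G_le4 : gen ns G_l4.ws ≤ gen ns G_ss4 :=
  gen_le_step ctx (tgt := [[28]])
  (es := [([28], [3, 5, 0, 3])]) (le_refl (gen _ [])) (by decide +kernel)

theorem G_lv4 : chkLvl 128 ns G_l4 G_C5 G_D4 2 = true :=
  by decide +kernel

theorem G_lb4 : 32 ≤ Nat.card (cgrp ns G_C4) :=
  lb_step ctx G_lv4 G_lb5 (by decide +kernel)

theorem G_le3 : gen ns G_l3.ws ≤ gen ns G_ss3 :=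
  gen_le_step ctx (tgt := [[22], [24], [26]])
  (es := [([22], [3, 0, 0, 3, 1]), ([24], [3, 3]), ([26], [7, 4, 6])]) G_le4 (by decide +kernel)

theorem G_lv3 : chkLvl 128 ns G_l3 G_C4 G_D3 1 = true :=
  by decide +kernel

theorem G_lb3 : 96 ≤ Nat.card (cgrp ns G_C3) :=
  lb_step ctx G_lv3 G_lb4 (by decide +kernel)

theorem G_le2 : gen ns G_l2.ws ≤ gen ns G_ss2 :=
  gen_le_step ctx (tgt := [[16], [18], [20]])
  (es := [([16], [3, 3, 0, 2, 0, 0, 3]), ([18], [2, 2, 5, 2, 5, 2, 4, 3]), ([20], [4, 6, 6])]) G_le3 (by decide +kernel)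

theorem G_lv2 : chkLvl 128 ns G_l2 G_C3 G_D2 2 = true :=
  by decide +kernel

theorem G_lb2 : 5760 ≤ Nat.card (cgrp ns G_C2) :=
  lb_step ctx G_lv2 G_lb3 (by decide +kernel)

theorem G_le1 : gen ns G_l1.ws ≤ gen ns G_ss1 :=
  gen_le_step ctx (tgt := [[10], [12], [14]])
  (es := [([10], [3, 1, 2, 0, 2, 0, 3, 3]), ([12], [3, 4, 4, 4, 2, 5, 5, 5, 3, 3, 5]), ([14], [7, 7, 5])]) G_le2 (by decide +kernel)

theorem G_lv1 : chkLvl 128 ns G_l1 G_C2 G_D1 2 = true :=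
  by decide +kernel

theorem G_lb1 : 443520 ≤ Nat.card (cgrp ns G_C1) :=
  lb_step ctx G_lv1 G_lb2 (by decide +kernel)

theorem G_le0 : gen ns G_l0.ws ≤ gen ns G_ss0 :=
  gen_le_step ctx (tgt := [[4], [6], [8]])
  (es := [([4], [1, 1, 2, 2, 0, 3, 0, 2]), ([6], [2, 4, 3, 5, 5]), ([8], [7, 4, 7])]) G_le1 (by decide +kernel)

theorem G_lv0 : chkLvl 128 ns G_l0 G_C1 G_D0 1 = true :=
  by decide +kernel

theorem G_lb0 : 44352000 ≤ Nat.card (cgrp ns G_C0) :=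
  lb_step ctx G_lv0 G_lb1 (by decide +kernel)

theorem G_lb : 44352000 ≤ Nat.card (gen ns G_ss0) :=
  lb_of_le ctx G_le0 G_lb0

noncomputable def P : ℕ :=
  nat_lit 0xff5bfefdf791fbb957ffdfeed00000007607763f4db7d6dda88835fcb0000000d30ed9371d5840fde496916c00000000ff8e1da5df7919916401a58bc00000009885387f1f116dcd740ca1f7e0000000a30e8dab1db9554f0808f2fb30000000339ecd8bdc95a4dbe81ce1ffd0000000e28e7ab7475f94d9f06879bd70000000d3023a1c3c79583de084d9bba0000000400e3da10d4794fe652cb99fb0000000ebc2b7bfdf290510a00481ece00000003b883cba4ff21c532a0cb87b3000000080d021402060028483430242000000000e0b820dd090f8090430d404800000000d048a385a9c696014302c08000000000c05500acc80a9302490cd0d200000005c01c2144008c90334a0649d400000005101da00c690a901143c5920400000001e0946bc4380011854b04d20000000006d01c2a10581e92814888c8080000000480302078308ad687c344c08000000002c02dc105001b93850344c84400000000f01c000988b2d0854b04038e0000000732e1cbf9f1f5473688cb1b5e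

noncomputable def C0 : List (List ℤ) :=
  [[1, 0, 0, 0, 1, 0, 0, 0, 1, 0, 1, 0, -1, -1, -1, -1, -2, -1, -1, -1, -1, -1, 0, 5],
  [1, 1, 1, 0, 0, 1, 1, 0, 1, 1, 1, -1, -1, -2, -3, -2, -2, -1, -2, -2, -2, -2, -2, 9],
  [0, 1, 0, 0, 0, 0, 0, 1, 1, 1, 1, 0, -1, -1, -2, -2, -2, -1, -1, -2, -2, -1, -1, 8],
  [1, 1, 0, 0, 0, 0, 0, 1, 0, 0, 0, 0, -1, -1, -2, -1, -1, -1, -1, -1, 0, 0, -1, 5],
  [1, 1, 0, 0, 1, 1, 0, 1, 0, 1, 1, -1, -2, -1, -3, -1, -2, -2, -1, -2, -2, -1, -1, 8],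
  [0, 0, -1, -1, 0, 0, 0, 0, -1, 0, 0, 1, 1, 1, 0, 1, 0, 0, 1, 1, 1, 1, 1, -3],
  [0, 0, 0, 0, -1, 0, 0, -1, 0, 0, 0, 1, 1, 0, 0, 0, 0, 1, 0, 1, 1, 0, 0, -1],
  [1, 1, 1, 0, 1, 1, 1, 1, 0, 1, 2, -1, -3, -2, -4, -3, -3, -2, -2, -2, -3, -2, -2, 12],
  [0, 0, -1, 0, -1, 0, 0, 0, -1, 1, 0, 1, 1, 1, -1, 1, 0, 0, 1, 0, 1, 0, 0, -1],
  [1, 0, 0, 0, 0, 1, 0, 0, 0, 0, 1, 0, -1, -1, -2, 0, -1, -1, -1, 0, -1, -1, 0, 4],
  [-1, -1, -1, -1, -1, 0, -1, -1, -1, -1, 0, 2, 3, 2, 2, 2, 2, 2, 3, 3, 2, 2, 3, -11],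
  [2, 1, 1, 1, 0, 1, 1, 1, 0, 1, 1, -1, -3, -2, -4, -2, -2, -3, -3, -2, -2, -2, -3, 12],
  [-1, 0, 0, -1, 0, -1, -1, 0, 0, -1, 0, 1, 1, 1, 2, 0, 1, 2, 2, 1, 1, 2, 2, -6],
  [-1, 0, -1, -1, 0, 0, 0, 0, 0, 0, -1, 1, 2, 1, 1, 1, 1, 1, 1, 0, 1, 1, 1, -4],
  [-1, -1, 0, -1, 0, 0, 0, -1, 0, -1, 0, 1, 2, 1, 2, 1, 1, 2, 1, 2, 1, 1, 2, -7],
  [-1, 0, 0, 0, 0, 0, 0, -1, 0, 0, 0, 1, 1, 0, 1, 0, 0, 1, 1, 0, 0, 0, 0, -1],
  [-1, -1, -1, 0, 0, 0, -1, -1, 0, 0, 0, 1, 2, 1, 2, 2, 1, 1, 2, 1, 1, 0, 2, -6],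
  [0, 0, 0, 0, 2, 0, 0, 0, 0, 0, 0, 0, -1, -1, 0, 0, -1, -1, 0, -1, -1, 0, 0, 3],
  [-1, 0, -1, 0, 0, -1, 0, 0, 0, 0, 0, 1, 1, 1, 1, 0, 0, 1, 1, 0, 1, 0, 1, -2],
  [0, 0, 0, 0, 0, 0, 0, 0, 0, 0, 0, 0, 0, 0, 0, 0, 0, 1, 0, 0, 0, 0, 0, 0],
  [-1, 0, -1, -1, 0, 0, -1, 0, 0, 0, 0, 1, 1, 1, 1, 1, 0, 1, 2, 1, 0, 1, 2, -4],
  [-2, -2, -2, -2, -2, -2, -2, -2, -2, -2, -2, 4, 6, 5, 6, 5, 5, 5, 6, 6, 6, 5, 5, -25],
  [0, 0, 0, 0, 0, 0, 0, 0, 2, 0, 0, 0, 0, -1, 0, -1, -1, 0, -1, -1, -1, -1, 0, 4],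
  [-2, -1, -1, -1, 0, -1, -1, -1, 0, -1, -1, 2, 3, 2, 4, 2, 2, 3, 3, 2, 2, 2, 3, -11]]

noncomputable def W0 : List (List ℤ) :=
  [[2, 1, 2, 1, 2, 1, 1, 1, 1, 1, 2, 1, 2, 1, 1, 1, 1, 1, 1, 1, 2, 1, 2, 2],
  [2, 1, 2, 1, 1, 1, 1, 1, 1, 1, 2, 1, 2, 0, 0, 1, 1, 1, 1, 0, 1, 1, 1, 1],
  [1, 1, 1, 1, 1, 1, 1, 1, 1, 1, 2, 1, 2, 1, 1, 1, 1, 1, 1, 1, 1, 2, 1, 2],
  [1, 0, 1, 0, 1, 0, 0, 1, 0, 0, 1, 0, 2, 0, 0, 1, 1, 1, 1, 1, 2, 1, 1, 2],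
  [2, 1, 2, 1, 2, 2, 1, 1, 1, 1, 2, 0, 2, 2, 1, 2, 2, 2, 2, 1, 2, 2, 2, 3],
  [1, 1, 1, 0, 1, 1, 2, 1, 0, 1, 2, 0, 2, 1, 2, 2, 1, 1, 1, 2, 2, 2, 2, 3],
  [1, 0, 1, 1, 1, 1, 1, 0, 0, 1, 1, 0, 2, 1, 1, 1, 1, 2, 1, 2, 2, 2, 2, 3],
  [1, 0, 1, 1, 1, 1, 1, 1, 0, 1, 1, 1, 1, 0, 0, 0, 0, 1, 1, 1, 1, 1, 1, 1],
  [1, 0, 1, 1, 0, 1, 1, 1, 0, 1, 1, 1, 1, 0, 0, 1, 0, 1, 1, 0, 1, 1, 1, 1],
  [1, 0, 1, 0, 0, 0, 1, 0, 0, 0, 1, 0, 1, 0, 0, 2, 1, 1, 1, 1, 1, 1, 2, 2],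
  [2, 1, 2, 2, 1, 2, 2, 1, 1, 1, 2, 1, 2, 1, 1, 1, 1, 1, 2, 1, 1, 2, 2, 2],
  [1, 1, 1, 1, 0, 0, 1, 1, 1, 1, 1, 2, 0, -1, -1, 0, 0, -1, 0, 0, 0, 0, 0, -1],
  [2, 1, 2, 1, 2, 2, 1, 1, 1, 1, 2, 0, 2, 2, 2, 1, 2, 2, 2, 1, 2, 2, 2, 3],
  [1, 1, 1, 0, 2, 2, 1, 1, 1, 1, 2, 0, 2, 2, 2, 2, 2, 2, 1, 1, 2, 2, 1, 3],
  [1, 1, 2, 1, 2, 2, 2, 1, 1, 1, 2, 0, 2, 2, 2, 2, 1, 2, 1, 2, 2, 2, 2, 3],
  [1, 0, 1, 1, 1, 2, 1, 0, 0, 0, 1, 0, 2, 2, 2, 1, 1, 2, 2, 1, 1, 2, 1, 3],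
  [2, 1, 2, 1, 2, 2, 1, 1, 1, 1, 2, 0, 2, 2, 2, 2, 2, 2, 2, 1, 2, 1, 2, 3],
  [1, 0, 1, 0, 2, 1, 1, 0, 0, 0, 1, -1, 2, 2, 2, 2, 2, 2, 2, 2, 2, 2, 2, 4],
  [1, 1, 1, 1, 2, 1, 1, 1, 0, 1, 1, 0, 2, 2, 2, 1, 1, 2, 1, 2, 2, 1, 2, 3],
  [2, 0, 1, 1, 2, 2, 1, 1, 0, 1, 1, -1, 2, 2, 2, 2, 2, 4, 2, 2, 2, 2, 2, 4],
  [1, 1, 1, 1, 1, 2, 2, 1, 1, 1, 1, 0, 1, 2, 2, 2, 1, 2, 2, 2, 1, 2, 2, 3],
  [1, 0, 1, 0, 1, 1, 1, 0, 0, 0, 1, -1, 2, 2, 2, 2, 2, 2, 2, 2, 2, 2, 2, 4],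
  [1, 0, 1, 0, 1, 1, 1, 0, 1, 0, 1, -1, 2, 2, 2, 2, 2, 2, 2, 2, 2, 2, 2, 4],
  [2, 1, 2, 1, 3, 3, 2, 1, 1, 1, 2, -1, 3, 4, 4, 3, 3, 4, 3, 3, 3, 3, 3, 6]]

theorem iso0 : chkIso C0 W0 = true :=
  by decide +kernel

noncomputable def g0 : Co0 :=
  elt C0 W0 iso0

theorem rep0 : RepBy 100 (lpt 128 P []) g0 (wp ns [0]) :=
  repBy_of_chkRep ctx iso0 (l0 := 0) (by decide +kernel)

theorem fix0_u5 : g0 • u5 = u5 :=
  elt_fix_u5 iso0 (by decide +kernel)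

theorem fix0_U' : g0 • leechU' = leechU' :=
  elt_fix_U' iso0 (by decide +kernel)

noncomputable def C1 : List (List ℤ) :=
  [[1, 0, 1, 0, 0, 1, 0, 0, 0, 0, 0, 0, -1, -1, -1, 0, 0, -1, -1, 0, -1, 0, -1, 3],
  [0, -1, 0, -1, -1, 0, 0, 0, -1, 0, -1, 1, 2, 2, 1, 2, 2, 1, 1, 2, 1, 1, 1, -7],
  [0, -1, -1, -1, 0, 0, 0, -1, -1, 0, 0, 1, 2, 2, 1, 2, 1, 1, 2, 2, 1, 1, 1, -7],
  [0, 0, 0, -1, -1, 0, 0, -1, 0, 0, -1, 1, 2, 1, 1, 1, 1, 2, 1, 1, 1, 1, 0, -5],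
  [0, 1, 0, 0, 0, 1, 0, 0, 0, 1, 0, 0, 0, -1, -1, 0, -1, -1, 0, -1, -1, -1, -1, 4],
  [-1, -1, -1, -1, -1, -1, -1, -1, 0, 0, -1, 2, 3, 2, 3, 2, 2, 2, 3, 2, 2, 2, 2, -10],
  [-1, -1, -1, -1, -1, -1, -1, -1, -1, -1, -1, 2, 3, 3, 3, 3, 3, 3, 3, 3, 3, 3, 3, -14],
  [0, 0, 0, -1, 0, 0, -1, -1, -1, 0, -1, 1, 1, 1, 2, 2, 1, 1, 2, 2, 1, 2, 1, -7],
  [0, 0, -1, 0, -1, -1, 0, -1, -1, 1, -1, 1, 2, 2, 1, 2, 1, 1, 2, 1, 2, 1, 0, -6],
  [-1, 0, 0, -1, -1, -1, -1, -1, -1, 0, -1, 2, 2, 2, 2, 2, 2, 2, 3, 2, 2, 2, 1, -9],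
  [0, 0, 0, 0, 0, 1, 0, 0, 0, 1, 0, 0, 0, 0, -1, 0, 0, -1, 0, 0, -1, -1, 0, 2],
  [1, 0, 0, -1, 0, -1, 0, -1, 0, 0, -1, 1, 1, 1, 1, 1, 0, 1, 1, 1, 1, 1, 0, -4],
  [0, 0, 0, 0, 0, 2, 0, 0, 0, 0, 0, 0, 0, -1, -1, 0, 0, -1, -1, 0, -1, -1, 0, 3],
  [-1, -1, -1, 0, -1, 0, 0, 0, 0, 0, 0, 1, 2, 1, 1, 1, 1, 1, 1, 1, 1, 0, 1, -4],
  [-1, -1, 0, 0, -1, 0, -1, 0, 0, -1, 0, 1, 1, 1, 2, 1, 2, 1, 1, 2, 1, 1, 2, -6],
  [0, 0, 0, 1, 1, 1, 1, 1, 0, 1, 1, -1, -2, -1, -2, -1, -1, -2, -2, -2, -2, -2, -1, 8],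
  [0, 1, 1, 1, 0, 1, 1, 1, 0, 1, 1, -1, -2, -2, -3, -2, -1, -2, -2, -2, -2, -2, -2, 10],
  [0, 1, 1, 1, 1, 1, 0, 1, 1, 1, 1, -1, -3, -3, -2, -2, -2, -2, -2, -3, -3, -2, -2, 12],
  [0, 0, 0, 0, 0, 0, 0, 0, 0, 0, 0, 0, 0, 0, 0, 0, 0, 0, 0, 0, 0, 1, 0, 0],
  [-1, 0, 0, 0, -1, 0, -1, 0, -1, 0, 0, 1, 1, 1, 1, 1, 1, 1, 1, 1, 1, 1, 1, -4],
  [-1, 0, -1, 0, 0, 0, -1, 0, -1, 0, 0, 1, 1, 1, 1, 1, 1, 0, 2, 1, 1, 1, 1, -4],
  [-1, 0, -1, 0, -1, 0, 0, 0, 0, 0, 0, 1, 1, 1, 0, 0, 1, 1, 1, 0, 1, 0, 1, -2],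
  [-1, -1, 0, 0, 0, 0, 0, 0, -1, -1, 0, 1, 1, 1, 1, 1, 2, 1, 1, 1, 1, 1, 1, -5],
  [-1, 0, 0, 1, 0, 1, 0, 1, 0, 0, 1, 0, -1, -1, -1, -1, 0, -1, -1, -1, -1, -1, 0, 5]]

noncomputable def W1 : List (List ℤ) :=
  [[2, 1, 2, 1, 1, 2, 2, 1, 2, 1, 2, 1, 1, 1, 1, 2, 2, 1, 2, 1, 1, 2, 1, 2],
  [2, 2, 2, 1, 1, 1, 2, 2, 1, 1, 1, 1, 1, 1, 1, 2, 1, 1, 1, 1, 0, 0, 1, 1],
  [2, 1, 1, 1, 2, 2, 2, 1, 1, 1, 2, 0, 2, 2, 2, 2, 2, 2, 2, 2, 1, 2, 1, 3],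
  [2, 1, 1, 1, 1, 2, 1, 1, 1, 1, 1, 1, 1, 1, 1, 1, 1, 2, 1, 0, 0, 1, 0, 1],
  [2, 2, 2, 1, 1, 2, 2, 2, 1, 1, 2, 1, 2, 1, 2, 2, 1, 1, 2, 1, 1, 1, 1, 2],
  [2, 1, 1, 1, 1, 2, 2, 1, 2, 2, 2, 1, 1, 1, 2, 1, 2, 1, 2, 1, 1, 2, 1, 2],
  [2, 2, 2, 2, 2, 2, 2, 1, 2, 2, 2, 1, 1, 2, 1, 2, 2, 2, 1, 1, 1, 2, 2, 2],
  [2, 2, 1, 1, 1, 2, 2, 1, 1, 2, 1, 1, 0, 1, 2, 1, 1, 1, 1, 1, 0, 1, 1, 1],
  [2, 2, 1, 2, 1, 1, 2, 1, 1, 2, 1, 1, 1, 1, 1, 1, 1, 1, 1, 1, 0, 1, 1, 1],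
  [1, 2, 2, 1, 1, 1, 1, 1, 2, 1, 1, 2, 0, 1, 0, 1, 1, 0, 1, 0, 0, 0, 0, 0],
  [2, 2, 2, 2, 2, 2, 2, 1, 2, 2, 1, 1, 1, 2, 1, 1, 2, 1, 2, 2, 1, 1, 2, 2],
  [2, 2, 1, 1, 1, 0, 1, 1, 1, 1, 0, 2, 0, 0, 0, 0, 0, 0, 0, 0, -1, -1, 0, -1],
  [1, 0, 1, 0, 1, 2, 1, 0, 0, 0, 1, -1, 2, 2, 2, 2, 2, 2, 2, 2, 2, 2, 2, 4],
  [1, 0, 1, 1, 1, 2, 2, 2, 1, 1, 2, 0, 2, 1, 2, 2, 1, 2, 2, 2, 2, 2, 1, 3],
  [1, 1, 2, 1, 1, 2, 2, 1, 2, 1, 2, 0, 1, 2, 2, 2, 2, 1, 2, 2, 2, 2, 2, 3],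
  [1, 1, 1, 1, 2, 2, 2, 1, 1, 2, 2, 0, 1, 2, 2, 2, 2, 2, 1, 2, 2, 2, 2, 3],
  [1, 1, 2, 1, 1, 1, 2, 1, 1, 1, 2, 0, 2, 1, 1, 2, 2, 1, 2, 2, 2, 2, 2, 3],
  [1, 0, 1, 0, 1, 2, 1, 1, 1, 1, 2, 0, 1, 1, 2, 2, 2, 2, 2, 1, 2, 2, 1, 3],
  [1, 0, 1, 1, 1, 2, 2, 0, 1, 1, 2, -1, 2, 2, 2, 2, 2, 2, 2, 2, 2, 4, 2, 4],
  [1, 1, 2, 1, 1, 2, 1, 1, 0, 1, 2, 0, 2, 2, 2, 2, 1, 2, 1, 1, 2, 2, 2, 3],
  [1, 1, 1, 1, 2, 2, 1, 1, 1, 1, 2, 0, 2, 2, 2, 1, 2, 1, 2, 2, 2, 2, 1, 3],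
  [1, 0, 1, 1, 1, 2, 1, 0, 1, 1, 1, 0, 1, 2, 1, 1, 2, 2, 2, 1, 2, 2, 2, 3],
  [1, 0, 2, 1, 2, 2, 1, 1, 1, 0, 2, 0, 2, 2, 1, 2, 2, 2, 2, 1, 2, 2, 1, 3],
  [1, 0, 2, 1, 2, 3, 2, 1, 1, 1, 3, -1, 3, 3, 3, 3, 3, 3, 3, 3, 4, 4, 3, 6]]

theorem iso1 : chkIso C1 W1 = true :=
  by decide +kernel

noncomputable def g1 : Co0 :=
  elt C1 W1 iso1

theorem rep1 : RepBy 100 (lpt 128 P []) g1 (wp ns [2]) :=
  repBy_of_chkRep ctx iso1 (l0 := 0) (by decide +kernel)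

theorem fix1_u5 : g1 • u5 = u5 :=
  elt_fix_u5 iso1 (by decide +kernel)

theorem fix1_U' : g1 • leechU' = leechU' :=
  elt_fix_U' iso1 (by decide +kernel)

noncomputable def gs : List Co0 :=
  [g0, g1]

theorem reps : List.Forall₂ (fun g u => RepBy 100 (lpt 128 P []) g (wp ns u)) gs G_ss0 :=
  List.Forall₂.cons rep0 (List.Forall₂.cons rep1 (List.Forall₂.nil))

theorem inj : ∀ i < 100, ∀ j < 100, lpt 128 P [] i = lpt 128 P [] j → i = j :=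
  inj_of_chkInj ctx reps (ps := [0]) (r := 6) (by decide +kernel)

theorem gs_mem : ∀ g ∈ gs, g ∈ (stabilizer Co0 u5 ⊓ stabilizer Co0 leechU' : Subgroup Co0) :=
  List.forall_mem_cons.2 ⟨⟨fix0_u5, fix0_U'⟩, List.forall_mem_cons.2 ⟨⟨fix1_u5, fix1_U'⟩, fun _ h => absurd h List.not_mem_nil⟩⟩

theorem model : ∃ e : ↥(stabilizer Co0 u5 ⊓ stabilizer Co0 leechU') ≃* gen ns G_ss0,
    ∀ g : ↥(stabilizer Co0 u5 ⊓ stabilizer Co0 leechU'), RepBy 100 (lpt 128 P []) (g : Co0) (e g : Equiv.Perm ℕ) :=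
  exists_model _ inj reps gs_mem ((card_stab_hs sqNorm_u5 sqNorm_leechU' dot_u5_leechU').trans_le G_lb)

noncomputable def equiv0 : ↥(stabilizer Co0 u5 ⊓ stabilizer Co0 leechU') ≃* gen ns G_ss0 :=
  Classical.choose model

theorem equiv0_rep : ∀ g : ↥(stabilizer Co0 u5 ⊓ stabilizer Co0 leechU'), RepBy 100 (lpt 128 P []) (g : Co0) (equiv0 g : Equiv.Perm ℕ) :=
  Classical.choose_spec model

noncomputable def equiv : Cfsg.Spor.HS ≃* gen ns G_ss0 :=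
  hsEquiv.trans equiv0

theorem G_card : Nat.card (gen ns G_ss0) = 44352000 :=
  (Nat.card_congr equiv0.toEquiv).symm.trans (card_stab_hs sqNorm_u5 sqNorm_leechU' dot_u5_leechU')

theorem G_eq : gen ns G_ss0 = cgrp ns G_C0 :=
  eq_of_le_of_lb ctx G_le0 G_card G_lb0

theorem G_card0 : Nat.card (cgrp ns G_C0) = 44352000 :=
  G_eq ▸ G_card

theorem G_st0 : IsStab 128 (gen ns G_l0.ws) (cgrp ns G_C1) G_l0.b G_D0 :=
  isStab_known ctx G_card0 G_lb1 G_lv0 (by decide +kernel)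

theorem G_card1 : Nat.card (cgrp ns G_C1) = 443520 :=
  card_step ctx G_st0 G_card0 (by decide +kernel)

theorem G_st1 : IsStab 128 (gen ns G_l1.ws) (cgrp ns G_C2) G_l1.b G_D1 :=
  isStab_known ctx G_card1 G_lb2 G_lv1 (by decide +kernel)

theorem G_card2 : Nat.card (cgrp ns G_C2) = 5760 :=
  card_step ctx G_st1 G_card1 (by decide +kernel)

theorem G_st2 : IsStab 128 (gen ns G_l2.ws) (cgrp ns G_C3) G_l2.b G_D2 :=
  isStab_known ctx G_card2 G_lb3 G_lv2 (by decide +kernel)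

theorem G_card3 : Nat.card (cgrp ns G_C3) = 96 :=
  card_step ctx G_st2 G_card2 (by decide +kernel)

theorem G_st3 : IsStab 128 (gen ns G_l3.ws) (cgrp ns G_C4) G_l3.b G_D3 :=
  isStab_known ctx G_card3 G_lb4 G_lv3 (by decide +kernel)

theorem G_card4 : Nat.card (cgrp ns G_C4) = 32 :=
  card_step ctx G_st3 G_card3 (by decide +kernel)

theorem G_st4 : IsStab 128 (gen ns G_l4.ws) (cgrp ns G_C5) G_l4.b G_D4 :=
  isStab_known ctx G_card4 G_lb5 G_lv4 (by decide +kernel)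

theorem G_ver5 : Ver ns G_C5 1 :=
  ver_nil _

theorem G_ver4 : Ver ns G_C4 32 :=
  G_ver5.cons ctx G_st4 (by decide +kernel)

theorem G_ver3 : Ver ns G_C3 96 :=
  G_ver4.cons ctx G_st3 (by decide +kernel)

theorem G_ver2 : Ver ns G_C2 5760 :=
  G_ver3.cons ctx G_st2 (by decide +kernel)

theorem G_ver1 : Ver ns G_C1 443520 :=
  G_ver2.cons ctx G_st1 (by decide +kernel)

theorem G_ver0 : Ver ns G_C0 44352000 :=
  G_ver1.cons ctx G_st0 (by decide +kernel)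

theorem G_supp : gen ns G_ss0 ≤ suppSub 100 :=
  gen_le_supp_of_suppW ctx (by decide +kernel)

end Cfsg.Agent.Spor.ModelHS
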