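import Cfsg.Agent.K.InvMo2
import Cfsg.Agent.Comp.LookT
import Cfsg.Agent.Spor.ModelJ2

set_option autoImplicit false
set_option Elab.async false
set_option maxRecDepth 4096

namespace Cfsg.Agent.Spor.MixJ2

open Cfsg.Agent.Comp

noncomputable def ns_2 : Net :=
 (Net.cons (nat_lit 64) (nat_lit 0x5c0f139d97660263)
 (Net.cons (nat_lit 32) (nat_lit 0x428033590000000030e9c316)
 (Net.cons (nat_lit 16) (nat_lit 0x45c000045d300005d30000094ce)
 (Net.cons (nat_lit 8) (nat_lit 0xe00810020004c001000c900d60044)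
 (Net.cons (nat_lit 4) (nat_lit 0xa0107000f01020905020c080c0a040c)
 (Net.cons (nat_lit 2) (nat_lit 0x10123000312201112002210021020023)
 (Net.cons (nat_lit 1) (nat_lit 0x40011104150054115401100404144041)
 (Net.cons (nat_lit 2) (nat_lit 0x20002000200000200200000000220020)
 (Net.cons (nat_lit 4) (nat_lit 0xe08040002000a08020a0e080e00000c)
 (Net.cons (nat_lit 8) (nat_lit 0x400840004001200f800f800c200c4)
 (Net.cons (nat_lit 16) (nat_lit 0x14d40000d9d60000ff18000094ea)
 (Net.cons (nat_lit 32) (nat_lit 0xa87314000000000b2f94332)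
 (Net.cons (nat_lit 64) (nat_lit 0x5c0f1395b350d570)
 Net.nil)))))))))))))

noncomputable def ns_3 : Net :=
 (Net.cons (nat_lit 64) (nat_lit 0xb047fd37b61da7de)
 (Net.cons (nat_lit 32) (nat_lit 0x1c86bd9000000000bc33b76)
 (Net.cons (nat_lit 16) (nat_lit 0x945b0000463e00001ede00001ac0)
 (Net.cons (nat_lit 8) (nat_lit 0x680075000400cd0023000100140052)
 (Net.cons (nat_lit 4) (nat_lit 0xc09020104080308050a020d0d000809)
 (Net.cons (nat_lit 2) (nat_lit 0x13020302003100220302030131000210)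
 (Net.cons (nat_lit 1) (nat_lit 0x1140110401000410141051444440444)
 (Net.cons (nat_lit 2) (nat_lit 0x2000020000000200022000020000200)
 (Net.cons (nat_lit 4) (nat_lit 0x80000080a00040606000608000000)
 (Net.cons (nat_lit 8) (nat_lit 0xe8009c000000fc0028000000140050)
 (Net.cons (nat_lit 16) (nat_lit 0x341e000006180000168c0000dec0)
 (Net.cons (nat_lit 32) (nat_lit 0x118bc2d4000000000e533bf8)
 (Net.cons (nat_lit 64) (nat_lit 0xb047fd3c66b600f0)
 Net.nil)))))))))))))

noncomputable def ns_4 : Net :=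
 (Net.cons (nat_lit 64) (nat_lit 0x631022cd475d5f32)
 (Net.cons (nat_lit 32) (nat_lit 0x1eeca91f000000007a84b22e)
 (Net.cons (nat_lit 16) (nat_lit 0xb9d4000031920000980a00001044)
 (Net.cons (nat_lit 8) (nat_lit 0x4009b005200660078008700cc0026)
 (Net.cons (nat_lit 4) (nat_lit 0xe0c020c0800000e0008090c0d04040c)
 (Net.cons (nat_lit 2) (nat_lit 0x2302233021021132012200002302130)
 (Net.cons (nat_lit 1) (nat_lit 0x45441114004041144045015141414510)
 (Net.cons (nat_lit 2) (nat_lit 0x20000222000020220020000202200020)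
 (Net.cons (nat_lit 4) (nat_lit 0x60c080c0800040c000c080c08040a00)
 (Net.cons (nat_lit 8) (nat_lit 0xcc008200500002001200a000c8002a)
 (Net.cons (nat_lit 16) (nat_lit 0x935c000051900000b80a00009000)
 (Net.cons (nat_lit 32) (nat_lit 0x5decab98000000007a807234)
 (Net.cons (nat_lit 64) (nat_lit 0x631022cf09f8ee22)
 Net.nil)))))))))))))

noncomputable def ns_5 : Net :=
 (Net.cons (nat_lit 64) (nat_lit 0x49c1f173e85bb7d8)
 (Net.cons (nat_lit 32) (nat_lit 0x95fe579a00000000d2016dcc)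
 (Net.cons (nat_lit 16) (nat_lit 0x249200004bc2000092ba00008d62)
 (Net.cons (nat_lit 8) (nat_lit 0xc300a7000000c900aa00c5008800a6)
 (Net.cons (nat_lit 4) (nat_lit 0x60409000000050800040a020c0704)
 (Net.cons (nat_lit 2) (nat_lit 0x31320021020032110000303102121222)
 (Net.cons (nat_lit 1) (nat_lit 0x5141014010110500401404414404014)
 (Net.cons (nat_lit 2) (nat_lit 0x220022020020000200202000000020)
 (Net.cons (nat_lit 4) (nat_lit 0xa06020400000200040202040004060c)
 (Net.cons (nat_lit 8) (nat_lit 0x4200e0000000a800ae00b200940030)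
 (Net.cons (nat_lit 16) (nat_lit 0xb10800000bc20000d6b600000d44)
 (Net.cons (nat_lit 32) (nat_lit 0x9c3e178000000000d20565cc)
 (Net.cons (nat_lit 64) (nat_lit 0x49c1f17bcc17c38c)
 Net.nil)))))))))))))

noncomputable def ns_6 : Net :=
 (Net.cons (nat_lit 64) (nat_lit 0x2a5617ff7d57db6c)
 (Net.cons (nat_lit 32) (nat_lit 0x9102e28b0000000083cf777a)
 (Net.cons (nat_lit 16) (nat_lit 0x33c8000072a9000030bf00004418)
 (Net.cons (nat_lit 8) (nat_lit 0xb800e600e20007000e006b00390030)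
 (Net.cons (nat_lit 4) (nat_lit 0x808050b0e0100000c0404020c01080e)
 (Net.cons (nat_lit 2) (nat_lit 0x20023031300000012331002103001002)
 (Net.cons (nat_lit 1) (nat_lit 0x11444045040501140441140401100440)
 (Net.cons (nat_lit 2) (nat_lit 0x20202020020000020220020002000000)
 (Net.cons (nat_lit 4) (nat_lit 0x800060c040000040a0400020c000404)
 (Net.cons (nat_lit 8) (nat_lit 0x3a009000f8006c006c00ea009000bc)
 (Net.cons (nat_lit 16) (nat_lit 0xa1c8000078f60000e29000006418)
 (Net.cons (nat_lit 32) (nat_lit 0x9344e4460000000097461f7c)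
 (Net.cons (nat_lit 64) (nat_lit 0x2a5617f7206b1a3a)
 Net.nil)))))))))))))

noncomputable def ns_7 : Net :=
 (Net.cons (nat_lit 64) (nat_lit 0x7fc86182030d7b4a)
 (Net.cons (nat_lit 32) (nat_lit 0x70d3dc08000000000d177a78)
 (Net.cons (nat_lit 16) (nat_lit 0xa4c100003bac00009964000075e6)
 (Net.cons (nat_lit 8) (nat_lit 0x37008200ee009400c8009e00b00052)
 (Net.cons (nat_lit 4) (nat_lit 0x40f07000804040f000b07020e010a02)
 (Net.cons (nat_lit 2) (nat_lit 0x22323201210210211022212020322212)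
 (Net.cons (nat_lit 1) (nat_lit 0x14101000404454110014440141151004)
 (Net.cons (nat_lit 2) (nat_lit 0x20000000000202200020200022202002)
 (Net.cons (nat_lit 4) (nat_lit 0xc0600000c04080e000006020c040006)
 (Net.cons (nat_lit 8) (nat_lit 0x3400c2000a00a400d800b800b00030)
 (Net.cons (nat_lit 16) (nat_lit 0xc940000018ac000095740000f536)
 (Net.cons (nat_lit 32) (nat_lit 0xf539d84000000000d33fa0e)
 (Net.cons (nat_lit 64) (nat_lit 0x7fc8618da8a5a3c2)
 Net.nil)))))))))))))

noncomputable def ns_8 : Net :=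
 (Net.cons (nat_lit 64) (nat_lit 0xcc09e5395c7b06e4)
 (Net.cons (nat_lit 32) (nat_lit 0x55bfe6bf0000000097ed891c)
 (Net.cons (nat_lit 16) (nat_lit 0x2b1b00000479000039c500007674)
 (Net.cons (nat_lit 8) (nat_lit 0x4000220050004b001000c600b20060)
 (Net.cons (nat_lit 4) (nat_lit 0x90f0c0d0e020f04000b0e080c060e0c)
 (Net.cons (nat_lit 2) (nat_lit 0x2132312220021032033012201320210)
 (Net.cons (nat_lit 1) (nat_lit 0x11144041140100011514011004441414)
 (Net.cons (nat_lit 2) (nat_lit 0x2200002200000022020022000222200)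
 (Net.cons (nat_lit 4) (nat_lit 0xa000c040e020c00080e080808020c08)
 (Net.cons (nat_lit 8) (nat_lit 0xf000220050000a008600c400d00000)
 (Net.cons (nat_lit 16) (nat_lit 0x6a020000407800002a8600006410)
 (Net.cons (nat_lit 32) (nat_lit 0x11be26be00000000961d81d0)
 (Net.cons (nat_lit 64) (nat_lit 0xcc09e538555e4464)
 Net.nil)))))))))))))

noncomputable def ns_9 : Net :=
 (Net.cons (nat_lit 64) (nat_lit 0xeef5445065022820)
 (Net.cons (nat_lit 32) (nat_lit 0x8c14a4d00000000ddb807a8)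
 (Net.cons (nat_lit 16) (nat_lit 0x60720000e0300000299400000120)
 (Net.cons (nat_lit 8) (nat_lit 0xd4004800370078008a00a200620080)
 (Net.cons (nat_lit 4) (nat_lit 0x600000a020708050c04080103080808)
 (Net.cons (nat_lit 2) (nat_lit 0x20021021331331320022020201020)
 (Net.cons (nat_lit 1) (nat_lit 0x14040411501554144440141141011110)
 (Net.cons (nat_lit 2) (nat_lit 0x20020020000000222020202020002220)
 (Net.cons (nat_lit 4) (nat_lit 0x200000a000800040c04000002080808)
 (Net.cons (nat_lit 8) (nat_lit 0x540024006400b8002200aa00420080)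
 (Net.cons (nat_lit 16) (nat_lit 0x62620000b1f8000034bc00000020)
 (Net.cons (nat_lit 32) (nat_lit 0x88104e4000000000ccb80600)
 (Net.cons (nat_lit 64) (nat_lit 0xeef5445065402860)
 Net.nil)))))))))))))

noncomputable def ns_10 : Net :=
 (Net.cons (nat_lit 64) (nat_lit 0xb04bd80a4200)
 (Net.cons (nat_lit 32) (nat_lit 0x7004100000000000628c5c20)
 (Net.cons (nat_lit 16) (nat_lit 0x30400000ad400000b884000059d8)
 (Net.cons (nat_lit 8) (nat_lit 0x9000be00710014000e004b002a)
 (Net.cons (nat_lit 4) (nat_lit 0x40009010000040c0908040e0a0502)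
 (Net.cons (nat_lit 2) (nat_lit 0x10000000222301130200232000023132)
 (Net.cons (nat_lit 1) (nat_lit 0x4000041044440054101011450)
 (Net.cons (nat_lit 2) (nat_lit 0x22020200002002002000)
 (Net.cons (nat_lit 4) (nat_lit 0x800000e040c0808040a0a0802)
 (Net.cons (nat_lit 8) (nat_lit 0x90001400320014000e00e0002a)
 (Net.cons (nat_lit 16) (nat_lit 0x10400000ad400000b804000059d8)
 (Net.cons (nat_lit 32) (nat_lit 0x7004100000000000628c1c20)
 (Net.cons (nat_lit 64) (nat_lit 0xb04bd80a4200)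
 Net.nil)))))))))))))

noncomputable def ns_11 : Net :=
 (Net.cons (nat_lit 64) (nat_lit 0x1a73407200c10220)
 (Net.cons (nat_lit 32) (nat_lit 0xe260800000000000c99c0708)
 (Net.cons (nat_lit 16) (nat_lit 0x3400006cb800002e10000099c0)
 (Net.cons (nat_lit 8) (nat_lit 0x9a004000c8002a00800084008800f0)
 (Net.cons (nat_lit 4) (nat_lit 0x407000800040c0d00000c0108040c00)
 (Net.cons (nat_lit 2) (nat_lit 0x2330030330230000000020212002220)
 (Net.cons (nat_lit 1) (nat_lit 0x14144051551051444100510401014110)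
 (Net.cons (nat_lit 2) (nat_lit 0x2000000000000000000020202002220)
 (Net.cons (nat_lit 4) (nat_lit 0x408000800000c0000000c0008000c00)
 (Net.cons (nat_lit 8) (nat_lit 0x9a004000c8002a00800084008000b0)
 (Net.cons (nat_lit 16) (nat_lit 0x3400006cb800002e1000009840)
 (Net.cons (nat_lit 32) (nat_lit 0xe260800000000000c99c0700)
 (Net.cons (nat_lit 64) (nat_lit 0x1a73407200c10220)
 Net.nil)))))))))))))

noncomputable def ns_12 : Net :=
 (Net.cons (nat_lit 64) (nat_lit 0xeef5445065402860)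
 (Net.cons (nat_lit 32) (nat_lit 0x67e6b03f00000000ecb00220)
 (Net.cons (nat_lit 16) (nat_lit 0xfb4a00007362000004ba00000420)
 (Net.cons (nat_lit 8) (nat_lit 0xbc0031008b00e4000a00aa006a0080)
 (Net.cons (nat_lit 4) (nat_lit 0x20d020002000a0c08060b0d000a08)
 (Net.cons (nat_lit 2) (nat_lit 0x30021121032020230320320302001220)
 (Net.cons (nat_lit 1) (nat_lit 0x50541440051414141100101554014110)
 (Net.cons (nat_lit 2) (nat_lit 0x22220000020220000000002002020)
 (Net.cons (nat_lit 4) (nat_lit 0x80200020006000a0c08060a0c000008)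
 (Net.cons (nat_lit 8) (nat_lit 0xfc0034000a008800a20082006a0080)
 (Net.cons (nat_lit 16) (nat_lit 0xfb480000717200002d3000000520)
 (Net.cons (nat_lit 32) (nat_lit 0xe737b43200000000edb003a8)
 (Net.cons (nat_lit 64) (nat_lit 0xeef5445065022820)
 Net.nil)))))))))))))

noncomputable def ns_13 : Net :=
 (Net.cons (nat_lit 64) (nat_lit 0xaa650204cf025000)
 (Net.cons (nat_lit 32) (nat_lit 0x8a6c800000000000c0308888)
 (Net.cons (nat_lit 16) (nat_lit 0xa80000009fe30000a49000008240)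
 (Net.cons (nat_lit 8) (nat_lit 0x8000280039009100b20062004400b0)
 (Net.cons (nat_lit 4) (nat_lit 0x802060c080c0c080b0909040b00)
 (Net.cons (nat_lit 2) (nat_lit 0x220200002032201020000002022210)
 (Net.cons (nat_lit 1) (nat_lit 0x10005101050400510110440441100)
 (Net.cons (nat_lit 2) (nat_lit 0x20000002000200020000000022200)
 (Net.cons (nat_lit 4) (nat_lit 0x802020808040c08000808040000)
 (Net.cons (nat_lit 8) (nat_lit 0x8000280018009000920022004400b0)
 (Net.cons (nat_lit 16) (nat_lit 0xa80000009ee00000a49000008240)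
 (Net.cons (nat_lit 32) (nat_lit 0x8a2c800000000000c0308880)
 (Net.cons (nat_lit 64) (nat_lit 0xaa650204cf025000)
 Net.nil)))))))))))))

noncomputable def ns_14 : Net :=
 (Net.cons (nat_lit 64) (nat_lit 0x451f5550110a00c0)
 (Net.cons (nat_lit 32) (nat_lit 0xec23812600000000c8688800)
 (Net.cons (nat_lit 16) (nat_lit 0x43200003d960000b08000005810)
 (Net.cons (nat_lit 8) (nat_lit 0x8001e003700d20020002200500030)
 (Net.cons (nat_lit 4) (nat_lit 0xc000c01090b090c04080a02090a0a00)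
 (Net.cons (nat_lit 2) (nat_lit 0x21002020031200200200222022022220)
 (Net.cons (nat_lit 1) (nat_lit 0x40151540441404110440100011100010)
 (Net.cons (nat_lit 2) (nat_lit 0x20002020020002200200200022000020)
 (Net.cons (nat_lit 4) (nat_lit 0x4000c00080c080804080800000a0000)
 (Net.cons (nat_lit 8) (nat_lit 0x8001a002000d20000008000100030)
 (Net.cons (nat_lit 16) (nat_lit 0x432000039140000b08000005810)
 (Net.cons (nat_lit 32) (nat_lit 0xec23812600000000c8688800)
 (Net.cons (nat_lit 64) (nat_lit 0x451f5550110a0080)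
 Net.nil)))))))))))))

noncomputable def ns_15 : Net :=
 (Net.cons (nat_lit 64) (nat_lit 0x80a4240b72ac7462)
 (Net.cons (nat_lit 32) (nat_lit 0xc22c8c000000000005480290)
 (Net.cons (nat_lit 16) (nat_lit 0x400c0000cb24000022c800009831)
 (Net.cons (nat_lit 8) (nat_lit 0x840002001c00840060007a006a)
 (Net.cons (nat_lit 4) (nat_lit 0x800000a06000006020c0a000001060e)
 (Net.cons (nat_lit 2) (nat_lit 0x2202022122020012202000300122033)
 (Net.cons (nat_lit 1) (nat_lit 0x44401041110500144401000014414)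
 (Net.cons (nat_lit 2) (nat_lit 0x2002022020000202000000020200)
 (Net.cons (nat_lit 4) (nat_lit 0x800000a06000006020c080000000800)
 (Net.cons (nat_lit 8) (nat_lit 0x8400020014008400600048007a)
 (Net.cons (nat_lit 16) (nat_lit 0x400c0000ca00000022c80000c020)
 (Net.cons (nat_lit 32) (nat_lit 0xc22c8c000000000005480010)
 (Net.cons (nat_lit 64) (nat_lit 0x80a4240972a47462)
 Net.nil)))))))))))))

noncomputable def ns_16 : Net :=
 (Net.cons (nat_lit 64) (nat_lit 0x37667a6ab63000)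
 (Net.cons (nat_lit 32) (nat_lit 0x88e861800000000dfe4c960)
 (Net.cons (nat_lit 16) (nat_lit 0x84980000fbe0000052a00000859c)
 (Net.cons (nat_lit 8) (nat_lit 0x2c00cc001800be00ac007a00ba0025)
 (Net.cons (nat_lit 4) (nat_lit 0x800060607050e000a0c0e0606000a06)
 (Net.cons (nat_lit 2) (nat_lit 0x20030201220221002020013222200032)
 (Net.cons (nat_lit 1) (nat_lit 0x4054400441110511540000101051050)
 (Net.cons (nat_lit 2) (nat_lit 0x2000222020002020000202000000)
 (Net.cons (nat_lit 4) (nat_lit 0x8000804000a0c000a04040602000206)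
 (Net.cons (nat_lit 8) (nat_lit 0x2c00cc001800ba00ac007a00aa0024)
 (Net.cons (nat_lit 16) (nat_lit 0x84880000fbe0000012a00000859c)
 (Net.cons (nat_lit 32) (nat_lit 0x88e861800000000dfa4c960)
 (Net.cons (nat_lit 64) (nat_lit 0x37667a6ab63000)
 Net.nil)))))))))))))

noncomputable def ns_17 : Net :=
 (Net.cons (nat_lit 64) (nat_lit 0x1067e4cc73937d30)
 (Net.cons (nat_lit 32) (nat_lit 0x65a4c200000000e14cbeb0)
 (Net.cons (nat_lit 16) (nat_lit 0xe4a0000096460000b2040000103c)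
 (Net.cons (nat_lit 8) (nat_lit 0x20000000a00099007600a600220049)
 (Net.cons (nat_lit 4) (nat_lit 0x40e00020e09060b0404060604020105)
 (Net.cons (nat_lit 2) (nat_lit 0x10010020333221000130020010001201)
 (Net.cons (nat_lit 1) (nat_lit 0x40041100011504044404101140101)
 (Net.cons (nat_lit 2) (nat_lit 0x20022200000000020002002000000)
 (Net.cons (nat_lit 4) (nat_lit 0xa00020200080004020c0406020004)
 (Net.cons (nat_lit 8) (nat_lit 0xe40000009800f000ba002a00280048)
 (Net.cons (nat_lit 16) (nat_lit 0xe4a200005e8000001c0800001b34)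
 (Net.cons (nat_lit 32) (nat_lit 0x24000200000000cd4caeb8)
 (Net.cons (nat_lit 64) (nat_lit 0x1067e4c862a9b052)
 Net.nil)))))))))))))

noncomputable def ns_18 : Net :=
 (Net.cons (nat_lit 64) (nat_lit 0xaea53e775a8fea49)
 (Net.cons (nat_lit 32) (nat_lit 0xfc0dfdca00000000b5b9caff)
 (Net.cons (nat_lit 16) (nat_lit 0x2bdf0000300300009a310000a184)
 (Net.cons (nat_lit 8) (nat_lit 0xd00760065000600f900db0086005c)
 (Net.cons (nat_lit 4) (nat_lit 0x607080d0101000f0c0a050105080005)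
 (Net.cons (nat_lit 2) (nat_lit 0x20212030110102301220031123020110)
 (Net.cons (nat_lit 1) (nat_lit 0x45500415411004004501055051400400)
 (Net.cons (nat_lit 2) (nat_lit 0x20000000202002002000000000000000)
 (Net.cons (nat_lit 4) (nat_lit 0xc00000408000008080a0c000c080000)
 (Net.cons (nat_lit 8) (nat_lit 0x90007a00e0002a0058000a004c0058)
 (Net.cons (nat_lit 16) (nat_lit 0x635a0000384600009bd20000f18c)
 (Net.cons (nat_lit 32) (nat_lit 0x74a9df9000000000b5f9ca74)
 (Net.cons (nat_lit 64) (nat_lit 0xaea53e79ad865fc4)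
 Net.nil)))))))))))))

noncomputable def ns_19 : Net :=
 (Net.cons (nat_lit 64) (nat_lit 0x9bea66f5e5ab736a)
 (Net.cons (nat_lit 32) (nat_lit 0xacc8489900000000ca5c4c77)
 (Net.cons (nat_lit 16) (nat_lit 0xc1800000e5d100007a0400005386)
 (Net.cons (nat_lit 8) (nat_lit 0x50002d00fd00d1005c0010002500b1)
 (Net.cons (nat_lit 4) (nat_lit 0xe040a0c0a0504080409070407090c03)
 (Net.cons (nat_lit 2) (nat_lit 0x222113031023032000032320020121)
 (Net.cons (nat_lit 1) (nat_lit 0x40140105401114511040414440110401)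
 (Net.cons (nat_lit 2) (nat_lit 0x20020000000222002000002020020000)
 (Net.cons (nat_lit 4) (nat_lit 0xc0608020208040c08080402040a0c00)
 (Net.cons (nat_lit 8) (nat_lit 0x5000a000900002001c0052000000b0)
 (Net.cons (nat_lit 16) (nat_lit 0xe128000066b80000725000004202)
 (Net.cons (nat_lit 32) (nat_lit 0xb5c2684000000000ca4c4578)
 (Net.cons (nat_lit 64) (nat_lit 0x9bea66fb6da0496c)
 Net.nil)))))))))))))

noncomputable def ns_20 : Net :=
 (Net.cons (nat_lit 64) (nat_lit 0x9cc604433514e520)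
 (Net.cons (nat_lit 32) (nat_lit 0x659dd6330000000035d63f70)
 (Net.cons (nat_lit 16) (nat_lit 0x69000012cc000026b000009808)
 (Net.cons (nat_lit 8) (nat_lit 0xb10054002400de00de002600d10094)
 (Net.cons (nat_lit 4) (nat_lit 0xc090605080c080b0703060302010e02)
 (Net.cons (nat_lit 2) (nat_lit 0x11222002200002001103311202300202)
 (Net.cons (nat_lit 1) (nat_lit 0x50411004000404101404444001101401)
 (Net.cons (nat_lit 2) (nat_lit 0x20000000000202002200002000000)
 (Net.cons (nat_lit 4) (nat_lit 0x80c020008000c0a0a00000600000208)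
 (Net.cons (nat_lit 8) (nat_lit 0x80000000a800d800dc003200f8001c)
 (Net.cons (nat_lit 16) (nat_lit 0x906600001e0c000031b000007a08)
 (Net.cons (nat_lit 32) (nat_lit 0x659dd6700000000034d747c2)
 (Net.cons (nat_lit 64) (nat_lit 0x9cc6044b8b14f500)
 Net.nil)))))))))))))

noncomputable def ns_21 : Net :=
 (Net.cons (nat_lit 64) (nat_lit 0x26200614aa96e9bc)
 (Net.cons (nat_lit 32) (nat_lit 0x7c1456a900000000856e2843)
 (Net.cons (nat_lit 16) (nat_lit 0x22900000af7a000031000000a0dc)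
 (Net.cons (nat_lit 8) (nat_lit 0xb40074005e00e900550029002a00f6)
 (Net.cons (nat_lit 4) (nat_lit 0xa040000020804080f030204080f0d0f)
 (Net.cons (nat_lit 2) (nat_lit 0x20100031100300010310020102233201)
 (Net.cons (nat_lit 1) (nat_lit 0x4001044100101050144014140414105)
 (Net.cons (nat_lit 2) (nat_lit 0x2000022000002000002000000002200)
 (Net.cons (nat_lit 4) (nat_lit 0x400000000000a0e0002080800020a)
 (Net.cons (nat_lit 8) (nat_lit 0xa40042005e00c8002c002800a200b0)
 (Net.cons (nat_lit 16) (nat_lit 0x62b000008f700000390a000022ce)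
 (Net.cons (nat_lit 32) (nat_lit 0x7e1454a00000000085ee21a0)
 (Net.cons (nat_lit 64) (nat_lit 0x26200616389dc13c)
 Net.nil)))))))))))))

noncomputable def ns_22 : Net :=
 (Net.cons (nat_lit 64) (nat_lit 0x300002cbfa49b840)
 (Net.cons (nat_lit 32) (nat_lit 0x9c204080000000001a724908)
 (Net.cons (nat_lit 16) (nat_lit 0xa8200000a500000038a80000284e)
 (Net.cons (nat_lit 8) (nat_lit 0xea00f100b0001a0010008000d8)
 (Net.cons (nat_lit 4) (nat_lit 0x400080a060200060008080a060e0601)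
 (Net.cons (nat_lit 2) (nat_lit 0x10002020002022030020020020222021)
 (Net.cons (nat_lit 1) (nat_lit 0x5101001101000410541441015)
 (Net.cons (nat_lit 2) (nat_lit 0x2002000000020020022000)
 (Net.cons (nat_lit 4) (nat_lit 0x400080a020000060008080a0608000a)
 (Net.cons (nat_lit 8) (nat_lit 0xaa00f000b00010000000080048)
 (Net.cons (nat_lit 16) (nat_lit 0xa8200000a500000038a80000206a)
 (Net.cons (nat_lit 32) (nat_lit 0x9c204080000000001a724120)
 (Net.cons (nat_lit 64) (nat_lit 0x300002c9ba41b840)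
 Net.nil)))))))))))))

noncomputable def ns_23 : Net :=
 (Net.cons (nat_lit 64) (nat_lit 0x2024019fdb7e05f4)
 (Net.cons (nat_lit 32) (nat_lit 0x880bafc000000006025cfdc)
 (Net.cons (nat_lit 16) (nat_lit 0xab000000a6cf000084f7000025e4)
 (Net.cons (nat_lit 8) (nat_lit 0x8400ce00aa00620051009a00fc0003)
 (Net.cons (nat_lit 4) (nat_lit 0x800020a0b01000503030d0002020400)
 (Net.cons (nat_lit 2) (nat_lit 0x23201220300102123131230012100302)
 (Net.cons (nat_lit 1) (nat_lit 0x5004411110044045114110410040001)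
 (Net.cons (nat_lit 2) (nat_lit 0x2020000002000220020000000002)
 (Net.cons (nat_lit 4) (nat_lit 0x800020a000000060a08040004080008)
 (Net.cons (nat_lit 8) (nat_lit 0x8400de00ba002000c0003000a80000)
 (Net.cons (nat_lit 16) (nat_lit 0x83240000e6c40000ce7800002fe4)
 (Net.cons (nat_lit 32) (nat_lit 0x884ba6e00000000a1b589b0)
 (Net.cons (nat_lit 64) (nat_lit 0x20240191405755b2)
 Net.nil)))))))))))))

noncomputable def ns_24 : Net :=
 (Net.cons (nat_lit 64) (nat_lit 0x8fc7355c553c4995)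
 (Net.cons (nat_lit 32) (nat_lit 0x45365417000000001e533b17)
 (Net.cons (nat_lit 16) (nat_lit 0xfae000003fd60000dbff0000e3d4)
 (Net.cons (nat_lit 8) (nat_lit 0x53005a0020001000bc007200440081)
 (Net.cons (nat_lit 4) (nat_lit 0x20509000609080b0a08080204000209)
 (Net.cons (nat_lit 2) (nat_lit 0x10103323103323200123302032000022)
 (Net.cons (nat_lit 1) (nat_lit 0x11001401504405414110104014400114)
 (Net.cons (nat_lit 2) (nat_lit 0x2202000000002000002022000020)
 (Net.cons (nat_lit 4) (nat_lit 0x40408020e00020a00000a0004080200)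
 (Net.cons (nat_lit 8) (nat_lit 0x60094002600380028002800840020)
 (Net.cons (nat_lit 16) (nat_lit 0xfeb6000089920000a1e600002374)
 (Net.cons (nat_lit 32) (nat_lit 0xc730541a000000001e6b733c)
 (Net.cons (nat_lit 64) (nat_lit 0x8fc73559869b8996)
 Net.nil)))))))))))))

noncomputable def ns_25 : Net :=
 (Net.cons (nat_lit 64) (nat_lit 0x9f5423c0cf9162fc)
 (Net.cons (nat_lit 32) (nat_lit 0x4eb75e8c00000000c0a2cc33)
 (Net.cons (nat_lit 16) (nat_lit 0x94940000385a0000309600005916)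
 (Net.cons (nat_lit 8) (nat_lit 0x4c0079009c00db00b000ec00200022)
 (Net.cons (nat_lit 4) (nat_lit 0x70a01080f0c01050001000a040c0c01)
 (Net.cons (nat_lit 2) (nat_lit 0x11213330200230303020200100213301)
 (Net.cons (nat_lit 1) (nat_lit 0x10441540410450014014004410144141)
 (Net.cons (nat_lit 2) (nat_lit 0x202020000000002022000000220200)
 (Net.cons (nat_lit 4) (nat_lit 0x20004060e08000c0008080800000204)
 (Net.cons (nat_lit 8) (nat_lit 0x4a00bc009800fa00a000e4003400da)
 (Net.cons (nat_lit 16) (nat_lit 0x871200001a420000b09e00000fcc)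
 (Net.cons (nat_lit 32) (nat_lit 0xdea35cc200000000c0a8d43e)
 (Net.cons (nat_lit 64) (nat_lit 0x9f5423c90d09be44)
 Net.nil)))))))))))))

noncomputable def ns_26 : Net :=
 (Net.cons (nat_lit 64) (nat_lit 0x4573c1db4373c336)
 (Net.cons (nat_lit 32) (nat_lit 0x1730f864000000008acc0b23)
 (Net.cons (nat_lit 16) (nat_lit 0x2eda0000c7e0000020e40000cfe4)
 (Net.cons (nat_lit 8) (nat_lit 0x5200640028001a000000dd00a000cd)
 (Net.cons (nat_lit 4) (nat_lit 0x80f02040e0909000208080f04050700)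
 (Net.cons (nat_lit 2) (nat_lit 0x220010212131212020232032222233)
 (Net.cons (nat_lit 1) (nat_lit 0x41141101401111401000415004115100)
 (Net.cons (nat_lit 2) (nat_lit 0x202000200022000000200002200200)
 (Net.cons (nat_lit 4) (nat_lit 0xa060004020800000808000e06000400)
 (Net.cons (nat_lit 8) (nat_lit 0x52003000a8001a000800d000720078)
 (Net.cons (nat_lit 16) (nat_lit 0x7ec8000007ae000028e00000b5d8)
 (Net.cons (nat_lit 32) (nat_lit 0x5623b8f00000000080c82b28)
 (Net.cons (nat_lit 64) (nat_lit 0x4573c1d5a71f3212)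
 Net.nil)))))))))))))

noncomputable def ns_27 : Net :=
 (Net.cons (nat_lit 64) (nat_lit 0x20240191405755b2)
 (Net.cons (nat_lit 32) (nat_lit 0x2199401100000000b1b509f2)
 (Net.cons (nat_lit 16) (nat_lit 0x41bb0000b8180000318700003fe4)
 (Net.cons (nat_lit 8) (nat_lit 0x8a009d00e400540032000b006600df)
 (Net.cons (nat_lit 4) (nat_lit 0x4010d020c020a0b0b000700060e0800)
 (Net.cons (nat_lit 2) (nat_lit 0x21011200321020021000111202300223)
 (Net.cons (nat_lit 1) (nat_lit 0x4000101541444104104044544000110)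
 (Net.cons (nat_lit 2) (nat_lit 0x200022202000200020002000220)
 (Net.cons (nat_lit 4) (nat_lit 0xe00040208000408020004060c080004)
 (Net.cons (nat_lit 8) (nat_lit 0x8a009c009000d400980034004000dc)
 (Net.cons (nat_lit 16) (nat_lit 0x40320000005c00007b08000035e4)
 (Net.cons (nat_lit 32) (nat_lit 0x21bd40000000000072254ddc)
 (Net.cons (nat_lit 64) (nat_lit 0x2024019fdb7e05f4)
 Net.nil)))))))))))))

noncomputable def ns_28 : Net :=
 (Net.cons (nat_lit 64) (nat_lit 0x426267091815840)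
 (Net.cons (nat_lit 32) (nat_lit 0x2c2c224400000000f6d100e4)
 (Net.cons (nat_lit 16) (nat_lit 0x4080000c994000064c000005a18)
 (Net.cons (nat_lit 8) (nat_lit 0x200010007c00920010000c00b0004a)
 (Net.cons (nat_lit 4) (nat_lit 0x80202060e0404080c010c060a0c000a)
 (Net.cons (nat_lit 2) (nat_lit 0x20000000022221212100202032222232)
 (Net.cons (nat_lit 1) (nat_lit 0x1000101110401040004550401001)
 (Net.cons (nat_lit 2) (nat_lit 0x2220202000002000202002)
 (Net.cons (nat_lit 4) (nat_lit 0x80002000a0004000c0008060a0c000a)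
 (Net.cons (nat_lit 8) (nat_lit 0x200010003800900010000c00b00040)
 (Net.cons (nat_lit 16) (nat_lit 0xc994000064c000005a18)
 (Net.cons (nat_lit 32) (nat_lit 0x2c2c024400000000f6d100e4)
 (Net.cons (nat_lit 64) (nat_lit 0x426267091814840)
 Net.nil)))))))))))))

noncomputable def ns_29 : Net :=
 (Net.cons (nat_lit 64) (nat_lit 0x860a2cc8b016220e)
 (Net.cons (nat_lit 32) (nat_lit 0x17886a58000000003b6ee24d)
 (Net.cons (nat_lit 16) (nat_lit 0xc71a000068150000badb00000c6c)
 (Net.cons (nat_lit 8) (nat_lit 0x1a00e9004e000000b9009a00900050)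
 (Net.cons (nat_lit 4) (nat_lit 0x208080408050b03020807000d0001)
 (Net.cons (nat_lit 2) (nat_lit 0x10000223002012000230200231300003)
 (Net.cons (nat_lit 1) (nat_lit 0x4104404440111510150410110100004)
 (Net.cons (nat_lit 2) (nat_lit 0x200202000002020000000220200002)
 (Net.cons (nat_lit 4) (nat_lit 0x4020c020008080400040200000c0000)
 (Net.cons (nat_lit 8) (nat_lit 0x80064006a0010009a00d200980010)
 (Net.cons (nat_lit 16) (nat_lit 0xc19000006810000098ba0000044c)
 (Net.cons (nat_lit 32) (nat_lit 0x178a4a16000000002bebe24c)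
 (Net.cons (nat_lit 64) (nat_lit 0x860a2cc46d685208)
 Net.nil)))))))))))))

noncomputable def ns_30 : Net :=
 (Net.cons (nat_lit 64) (nat_lit 0xf6a400d459ca3dae)
 (Net.cons (nat_lit 32) (nat_lit 0xbb10587c000000003f00e0d5)
 (Net.cons (nat_lit 16) (nat_lit 0x2540000509c000043660000d834)
 (Net.cons (nat_lit 8) (nat_lit 0xf0004c008800fe007600450001002b)
 (Net.cons (nat_lit 4) (nat_lit 0x4080d00050405030a0705050a000c)
 (Net.cons (nat_lit 2) (nat_lit 0x22202200223202300321001201222330)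
 (Net.cons (nat_lit 1) (nat_lit 0x41401414041404410151144104414111)
 (Net.cons (nat_lit 2) (nat_lit 0x22002202000200000000200200020000)
 (Net.cons (nat_lit 4) (nat_lit 0x800080c08000004040e0c0404080c0c)
 (Net.cons (nat_lit 8) (nat_lit 0xa4004c0008003c004a005c0000002e)
 (Net.cons (nat_lit 16) (nat_lit 0xa500000705a00005f2c00009134)
 (Net.cons (nat_lit 32) (nat_lit 0xdbb45834000000003e4babd4)
 (Net.cons (nat_lit 64) (nat_lit 0xf6a400db2dd81760)
 Net.nil)))))))))))))

noncomputable def ns_31 : Net :=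
 (Net.cons (nat_lit 64) (nat_lit 0xa20028d97c17ea9b)
 (Net.cons (nat_lit 32) (nat_lit 0xfbf95da1000000001d1c861f)
 (Net.cons (nat_lit 16) (nat_lit 0xfc00000020d2000093a100007261)
 (Net.cons (nat_lit 8) (nat_lit 0x9400000072002e00850027000f0078)
 (Net.cons (nat_lit 4) (nat_lit 0xf020c01060a080a0f0e02010e0a0a01)
 (Net.cons (nat_lit 2) (nat_lit 0x2010331100000201032312001202301)
 (Net.cons (nat_lit 1) (nat_lit 0x15051114100404014001401001400545)
 (Net.cons (nat_lit 2) (nat_lit 0x202000000002002202000000000)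
 (Net.cons (nat_lit 4) (nat_lit 0xc060402020800080e0e040004040c02)
 (Net.cons (nat_lit 8) (nat_lit 0xc400100074002600800026000600b6)
 (Net.cons (nat_lit 16) (nat_lit 0xf518000080d4000086b60000e888)
 (Net.cons (nat_lit 32) (nat_lit 0x5bf9553800000000085b0538)
 (Net.cons (nat_lit 64) (nat_lit 0xa20028d4d7c11562)
 Net.nil)))))))))))))

noncomputable def ns_32 : Net :=
 (Net.cons (nat_lit 64) (nat_lit 0xaa222ab6fdc64b9e)
 (Net.cons (nat_lit 32) (nat_lit 0xab04cea7000000006fe5d647)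
 (Net.cons (nat_lit 16) (nat_lit 0x8b0a0000031f0000652800008868)
 (Net.cons (nat_lit 8) (nat_lit 0xac000700b4005a00ce006f0059007e)
 (Net.cons (nat_lit 4) (nat_lit 0xc000e04020808020504050609040508)
 (Net.cons (nat_lit 2) (nat_lit 0x220310310020021002210112301312)
 (Net.cons (nat_lit 1) (nat_lit 0x40004540151440114005450101550411)
 (Net.cons (nat_lit 2) (nat_lit 0x20000020200000020000200002000002)
 (Net.cons (nat_lit 4) (nat_lit 0xc000806080208000c000402080c040c)
 (Net.cons (nat_lit 8) (nat_lit 0x8c0080008c007000de000800d000fe)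
 (Net.cons (nat_lit 16) (nat_lit 0x230800002b6c0000652000008d34)
 (Net.cons (nat_lit 32) (nat_lit 0x8b26c414000000002fa5130c)
 (Net.cons (nat_lit 64) (nat_lit 0xaa222abe265e50ee)
 Net.nil)))))))))))))

noncomputable def ns_33 : Net :=
 (Net.cons (nat_lit 64) (nat_lit 0x5215204e69021e80)
 (Net.cons (nat_lit 32) (nat_lit 0xc30520100000000006247c60)
 (Net.cons (nat_lit 16) (nat_lit 0x80120000c0980000dc1400005700)
 (Net.cons (nat_lit 8) (nat_lit 0x1600a0004200640058006a006c00d0)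
 (Net.cons (nat_lit 4) (nat_lit 0x201000d0e0e0d080400020a0400000c)
 (Net.cons (nat_lit 2) (nat_lit 0x1000020020122021000232023222101)
 (Net.cons (nat_lit 1) (nat_lit 0x10000044444004100110400115441000)
 (Net.cons (nat_lit 2) (nat_lit 0x20200002000000200020222000)
 (Net.cons (nat_lit 4) (nat_lit 0x200000c000c0c080400020a04000004)
 (Net.cons (nat_lit 8) (nat_lit 0x1600a0004200600010006a006c00d0)
 (Net.cons (nat_lit 16) (nat_lit 0x80120000c09800005c1000005700)
 (Net.cons (nat_lit 32) (nat_lit 0x830520100000000006247c60)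
 (Net.cons (nat_lit 64) (nat_lit 0x5215204e69021e80)
 Net.nil)))))))))))))

noncomputable def ns_34 : Net :=
 (Net.cons (nat_lit 64) (nat_lit 0xcd549e7cea35eed0)
 (Net.cons (nat_lit 32) (nat_lit 0x50f431b600000000925ab7d8)
 (Net.cons (nat_lit 16) (nat_lit 0x801000009d18000055c7000039a0)
 (Net.cons (nat_lit 8) (nat_lit 0xd800630008004000eb004200220000)
 (Net.cons (nat_lit 4) (nat_lit 0x10c0909000408040b0e0001080a0006)
 (Net.cons (nat_lit 2) (nat_lit 0x303300200202023111000021201002)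
 (Net.cons (nat_lit 1) (nat_lit 0x505001540441111004400140011041)
 (Net.cons (nat_lit 2) (nat_lit 0x20000020000200200000000)
 (Net.cons (nat_lit 4) (nat_lit 0xc08020e00080202080000080a0006)
 (Net.cons (nat_lit 8) (nat_lit 0x8004600140002007a0040002e0000)
 (Net.cons (nat_lit 16) (nat_lit 0x1d040000511e0000d59400001888)
 (Net.cons (nat_lit 32) (nat_lit 0x15e423c200000000925bf7d8)
 (Net.cons (nat_lit 64) (nat_lit 0xcd549e78ea355dc0)
 Net.nil)))))))))))))

noncomputable def ns_35 : Net :=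
 (Net.cons (nat_lit 64) (nat_lit 0x81220bff05bfe204)
 (Net.cons (nat_lit 32) (nat_lit 0xe7906126000000005658f792)
 (Net.cons (nat_lit 16) (nat_lit 0x4ab000009a12000085080000e048)
 (Net.cons (nat_lit 8) (nat_lit 0x3600c3005c001000250084000b0016)
 (Net.cons (nat_lit 4) (nat_lit 0x90a0a06060200070c010e0b020a000a)
 (Net.cons (nat_lit 2) (nat_lit 0x2002012010200211112022130210231)
 (Net.cons (nat_lit 1) (nat_lit 0x11044104541000414141141001400411)
 (Net.cons (nat_lit 2) (nat_lit 0x2022200000000000222000000000220)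
 (Net.cons (nat_lit 4) (nat_lit 0x80a060a00000000080e0a060a000a)
 (Net.cons (nat_lit 8) (nat_lit 0x9600e0004c009000200096008a0016)
 (Net.cons (nat_lit 16) (nat_lit 0xa3000008a360000f7080000c04c)
 (Net.cons (nat_lit 32) (nat_lit 0x67b26a3200000000765df794)
 (Net.cons (nat_lit 64) (nat_lit 0x81220bfa70b78180)
 Net.nil)))))))))))))

noncomputable def ns_36 : Net :=
 (Net.cons (nat_lit 64) (nat_lit 0x5388cd02fa0a58d7)
 (Net.cons (nat_lit 32) (nat_lit 0xdd6a7b60000000007df8771c)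
 (Net.cons (nat_lit 16) (nat_lit 0xdc400002689000031d100008276)
 (Net.cons (nat_lit 8) (nat_lit 0x7c0082005d00de002400f000cc008c)
 (Net.cons (nat_lit 4) (nat_lit 0x20a0400000409000b00010206000a0f)
 (Net.cons (nat_lit 2) (nat_lit 0x1100220020123021233223000022020)
 (Net.cons (nat_lit 1) (nat_lit 0x4105441014000414550144100001414)
 (Net.cons (nat_lit 2) (nat_lit 0x200202020000000000022200002200)
 (Net.cons (nat_lit 4) (nat_lit 0x80a0c08000000080602060000080a04)
 (Net.cons (nat_lit 8) (nat_lit 0x7000ea004c00d600a800a400c80084)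
 (Net.cons (nat_lit 16) (nat_lit 0xcc8c000026900000442a00000a20)
 (Net.cons (nat_lit 32) (nat_lit 0x8deabf680000000075fe57d8)
 (Net.cons (nat_lit 64) (nat_lit 0x5388cd0f8b16d6a0)
 Net.nil)))))))))))))

noncomputable def ns_37 : Net :=
 (Net.cons (nat_lit 64) (nat_lit 0x56aa49f3842096dc)
 (Net.cons (nat_lit 32) (nat_lit 0x4a2d3c7d0000000007ad829b)
 (Net.cons (nat_lit 16) (nat_lit 0x6e010000c2c000008ff40000060e)
 (Net.cons (nat_lit 8) (nat_lit 0x7c00a300f000410002006400200011)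
 (Net.cons (nat_lit 4) (nat_lit 0xc0d0a080602040b0407050204000003)
 (Net.cons (nat_lit 2) (nat_lit 0x130230112003112010110312130030)
 (Net.cons (nat_lit 1) (nat_lit 0x40411411114000454040411145010041)
 (Net.cons (nat_lit 2) (nat_lit 0x20220020202000202020222200000020)
 (Net.cons (nat_lit 4) (nat_lit 0xc020a0c00000402040e000000020000)
 (Net.cons (nat_lit 8) (nat_lit 0x5000fe00000008008600c600240010)
 (Net.cons (nat_lit 16) (nat_lit 0x7e2c000080d00000ab600000e70e)
 (Net.cons (nat_lit 32) (nat_lit 0xc05744800000000aee92498)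
 (Net.cons (nat_lit 64) (nat_lit 0x56aa49fc9c54d2c8)
 Net.nil)))))))))))))

noncomputable def ns_38 : Net :=
 (Net.cons (nat_lit 64) (nat_lit 0x60214063e430b440)
 (Net.cons (nat_lit 32) (nat_lit 0x80c040080000000031866210)
 (Net.cons (nat_lit 16) (nat_lit 0x280000522a00008304000016b0)
 (Net.cons (nat_lit 8) (nat_lit 0xa800400073002800b0000000f80090)
 (Net.cons (nat_lit 4) (nat_lit 0xc040002030d0600080602090e0c0a00)
 (Net.cons (nat_lit 2) (nat_lit 0x20210001002031200232202322012320)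
 (Net.cons (nat_lit 1) (nat_lit 0x4000000140150410054411500000000)
 (Net.cons (nat_lit 2) (nat_lit 0x200002202000000000)
 (Net.cons (nat_lit 4) (nat_lit 0xc040000020806000800020000040000)
 (Net.cons (nat_lit 8) (nat_lit 0xa800000060002000b0000000e80080)
 (Net.cons (nat_lit 16) (nat_lit 0x280000520a0000830400000420)
 (Net.cons (nat_lit 32) (nat_lit 0x80c040080000000031066010)
 (Net.cons (nat_lit 64) (nat_lit 0x60214063e430b440)
 Net.nil)))))))))))))

noncomputable def ns_39 : Net :=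
 (Net.cons (nat_lit 64) (nat_lit 0x7d18298a538b04)
 (Net.cons (nat_lit 32) (nat_lit 0xbaeea21a00000000da466780)
 (Net.cons (nat_lit 16) (nat_lit 0x12b7000045b100000d1a00005e03)
 (Net.cons (nat_lit 8) (nat_lit 0x300038002c00140034002d00b800e2)
 (Net.cons (nat_lit 4) (nat_lit 0x60a0d0608010e0504080a060b0a05)
 (Net.cons (nat_lit 2) (nat_lit 0x2132220030300101332032303202031)
 (Net.cons (nat_lit 1) (nat_lit 0x10141041010100100414050110100441)
 (Net.cons (nat_lit 2) (nat_lit 0x22000000200200202000000000200)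
 (Net.cons (nat_lit 4) (nat_lit 0x2040a0c0608000a040808060c020006)
 (Net.cons (nat_lit 8) (nat_lit 0x2800ba002c0040006400a800320044)
 (Net.cons (nat_lit 16) (nat_lit 0x92ac000005d800000f5c0000dc90)
 (Net.cons (nat_lit 32) (nat_lit 0xbaaab2360000000056464786)
 (Net.cons (nat_lit 64) (nat_lit 0x7d1822d0438832)
 Net.nil)))))))))))))

noncomputable def ns_40 : Net :=
 (Net.cons (nat_lit 64) (nat_lit 0x4e32e698164b1227)
 (Net.cons (nat_lit 32) (nat_lit 0x9de71e21000000007f7bd9bd)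
 (Net.cons (nat_lit 16) (nat_lit 0x1f320000ef3800009ccf00001e4c)
 (Net.cons (nat_lit 8) (nat_lit 0x800c400880070001b004700cc002e)
 (Net.cons (nat_lit 4) (nat_lit 0x20b0b0e080004060e06090706000206)
 (Net.cons (nat_lit 2) (nat_lit 0x10122112212000230312112301030003)
 (Net.cons (nat_lit 1) (nat_lit 0x50141140401014040405441450011404)
 (Net.cons (nat_lit 2) (nat_lit 0x202000002000020000022200020202)
 (Net.cons (nat_lit 4) (nat_lit 0x200080a0a0000040c00000a04080006)
 (Net.cons (nat_lit 8) (nat_lit 0x8a00e60088003c00c800460040002e)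
 (Net.cons (nat_lit 16) (nat_lit 0xcb160000cf2a000055e800003e00)
 (Net.cons (nat_lit 32) (nat_lit 0x93d75ea000000000deb6c198)
 (Net.cons (nat_lit 64) (nat_lit 0x4e32e69dab6acba2)
 Net.nil)))))))))))))

noncomputable def ns_41 : Net :=
 (Net.cons (nat_lit 64) (nat_lit 0xf53fbb04d0a9025e)
 (Net.cons (nat_lit 32) (nat_lit 0x557067f900000000bcb4d464)
 (Net.cons (nat_lit 16) (nat_lit 0xd250000b89d00002a1800004853)
 (Net.cons (nat_lit 8) (nat_lit 0xa5000200a600800050000c00110089)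
 (Net.cons (nat_lit 4) (nat_lit 0xc0401070e040a090400040f000c0806)
 (Net.cons (nat_lit 2) (nat_lit 0x20112321030000221000021310022320)
 (Net.cons (nat_lit 1) (nat_lit 0x440440444111154014545100050140)
 (Net.cons (nat_lit 2) (nat_lit 0x20200220200200020020000000220)
 (Net.cons (nat_lit 4) (nat_lit 0x80802020a0400080000060800040e04)
 (Net.cons (nat_lit 8) (nat_lit 0xc80064008400020040009a005a00e8)
 (Net.cons (nat_lit 16) (nat_lit 0x844000008900000ae0800004958)
 (Net.cons (nat_lit 32) (nat_lit 0x546dedfc00000000bcb4d06c)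
 (Net.cons (nat_lit 64) (nat_lit 0xf53fbb0ee391992a)
 Net.nil)))))))))))))

noncomputable def ns_42 : Net :=
 (Net.cons (nat_lit 64) (nat_lit 0x10ffdb419d3d2d40)
 (Net.cons (nat_lit 32) (nat_lit 0xdb3e83f3000000002150081d)
 (Net.cons (nat_lit 16) (nat_lit 0x40460000c98e0000eb2000007c5e)
 (Net.cons (nat_lit 8) (nat_lit 0xa300d3009c00300028009500b5007a)
 (Net.cons (nat_lit 4) (nat_lit 0xb05050a01080003040802000a0f000b)
 (Net.cons (nat_lit 2) (nat_lit 0x20132020210102312030320110212102)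
 (Net.cons (nat_lit 1) (nat_lit 0x1011415405004554010040404150141)
 (Net.cons (nat_lit 2) (nat_lit 0x2022000200002002000000002200002)
 (Net.cons (nat_lit 4) (nat_lit 0x8040c04060000040804080c00080c)
 (Net.cons (nat_lit 8) (nat_lit 0xe8008800ec00340028009200540078)
 (Net.cons (nat_lit 16) (nat_lit 0x594a0000d9800000eb2000004870)
 (Net.cons (nat_lit 32) (nat_lit 0xcb764af00000000069500810)
 (Net.cons (nat_lit 64) (nat_lit 0x10ffdb4019566b10)
 Net.nil)))))))))))))

noncomputable def ns_43 : Net :=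
 (Net.cons (nat_lit 64) (nat_lit 0x2809926a762505c6)
 (Net.cons (nat_lit 32) (nat_lit 0x61b5a769000000002abf8c28)
 (Net.cons (nat_lit 16) (nat_lit 0x9a220000d6a000005006000087a2)
 (Net.cons (nat_lit 8) (nat_lit 0xb0001003a009a00ff000400100068)
 (Net.cons (nat_lit 4) (nat_lit 0x6090208020708090b04060e060c080e)
 (Net.cons (nat_lit 2) (nat_lit 0x23010121000322302222203201003323)
 (Net.cons (nat_lit 1) (nat_lit 0x1050140401414104440144110041404)
 (Net.cons (nat_lit 2) (nat_lit 0x2000200202022200220222000022002)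
 (Net.cons (nat_lit 4) (nat_lit 0x4080208000408000008020c060c0604)
 (Net.cons (nat_lit 8) (nat_lit 0xb800080070008c00b000b0001000a2)
 (Net.cons (nat_lit 16) (nat_lit 0x9b220000dcaa0000b4a000009630)
 (Net.cons (nat_lit 32) (nat_lit 0x41b5a70c000000003b098cba)
 (Net.cons (nat_lit 64) (nat_lit 0x2809926b8956b204)
 Net.nil)))))))))))))

noncomputable def ns_44 : Net :=
 (Net.cons (nat_lit 64) (nat_lit 0x1d19210b2701000)
 (Net.cons (nat_lit 32) (nat_lit 0x381064000000000dfb284c2)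
 (Net.cons (nat_lit 16) (nat_lit 0x1080000028f00000c1480000aa02)
 (Net.cons (nat_lit 8) (nat_lit 0x4000000030003a00fe0060004000d6)
 (Net.cons (nat_lit 4) (nat_lit 0x501080c0e0a080e0e02040c02060a04)
 (Net.cons (nat_lit 2) (nat_lit 0x2000023230220230002220000220121)
 (Net.cons (nat_lit 1) (nat_lit 0x4000410101140100404414514444000)
 (Net.cons (nat_lit 2) (nat_lit 0x2000020200220200000220000222000)
 (Net.cons (nat_lit 4) (nat_lit 0x400080c0e0a000e000c040002000804)
 (Net.cons (nat_lit 8) (nat_lit 0x4000000030003800000060004000c6)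
 (Net.cons (nat_lit 16) (nat_lit 0x1080000028f00000c1480000aa02)
 (Net.cons (nat_lit 32) (nat_lit 0x381064000000000f7b08482)
 (Net.cons (nat_lit 64) (nat_lit 0x1d19210b2701000)
 Net.nil)))))))))))))

noncomputable def ns_45 : Net :=
 (Net.cons (nat_lit 64) (nat_lit 0xcbe5560178ca0180)
 (Net.cons (nat_lit 32) (nat_lit 0x6a95cc60000000000b145850)
 (Net.cons (nat_lit 16) (nat_lit 0xd45500003c080000df000000a804)
 (Net.cons (nat_lit 8) (nat_lit 0xd000c0000800c0009c00de00280088)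
 (Net.cons (nat_lit 4) (nat_lit 0xe06000b0204090e010807000c05000c)
 (Net.cons (nat_lit 2) (nat_lit 0x2230210332002012022020000332303)
 (Net.cons (nat_lit 1) (nat_lit 0x41140011050104504410111510140510)
 (Net.cons (nat_lit 2) (nat_lit 0x2220000000002002020200020020000)
 (Net.cons (nat_lit 4) (nat_lit 0xc0600000200000e00080800000a000c)
 (Net.cons (nat_lit 8) (nat_lit 0xd000c0000800c0009c00de00900088)
 (Net.cons (nat_lit 16) (nat_lit 0x943000003c080000df000000a804)
 (Net.cons (nat_lit 32) (nat_lit 0x6a95cc60000000000b145850)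
 (Net.cons (nat_lit 64) (nat_lit 0xcbe5560178ca0180)
 Net.nil)))))))))))))

noncomputable def ns_46 : Net :=
 (Net.cons (nat_lit 64) (nat_lit 0x1387eb116cf095ba)
 (Net.cons (nat_lit 32) (nat_lit 0xc180576d00000000b0d9f594)
 (Net.cons (nat_lit 16) (nat_lit 0xbf04000070190000e5980000fb48)
 (Net.cons (nat_lit 8) (nat_lit 0x5100eb00fd00b200e00004001e00c3)
 (Net.cons (nat_lit 4) (nat_lit 0x4010a090f040806060100080e040a0c)
 (Net.cons (nat_lit 2) (nat_lit 0x22102003220102221200202310120300)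
 (Net.cons (nat_lit 1) (nat_lit 0x41410004150100410100404450004041)
 (Net.cons (nat_lit 2) (nat_lit 0x2000000200000200000000200002020)
 (Net.cons (nat_lit 4) (nat_lit 0xc040808040400060e0004020e040606)
 (Net.cons (nat_lit 8) (nat_lit 0x5000aa00d800200010004400140000)
 (Net.cons (nat_lit 16) (nat_lit 0x2d00000073860000c1380000fd40)
 (Net.cons (nat_lit 32) (nat_lit 0xc28494780000000038b9e570)
 (Net.cons (nat_lit 64) (nat_lit 0x1387eb1ec783cab4)
 Net.nil)))))))))))))

noncomputable def ns_47 : Net :=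
 (Net.cons (nat_lit 64) (nat_lit 0x59494e2ebdd5ee6d)
 (Net.cons (nat_lit 32) (nat_lit 0x25f1066a000000009fe76714)
 (Net.cons (nat_lit 16) (nat_lit 0x4b590000bf4d000008040000eafa)
 (Net.cons (nat_lit 8) (nat_lit 0x7a0023000c006700750018004c001a)
 (Net.cons (nat_lit 4) (nat_lit 0x409060d06000b0d0e00060100040100)
 (Net.cons (nat_lit 2) (nat_lit 0x22231030021231120120220223221)
 (Net.cons (nat_lit 1) (nat_lit 0x114410410544100101514140404111)
 (Net.cons (nat_lit 2) (nat_lit 0x22220000002200200000200200220)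
 (Net.cons (nat_lit 4) (nat_lit 0x2000800000c0408000208040c0200)
 (Net.cons (nat_lit 8) (nat_lit 0x7200620000002400c2001800e80028)
 (Net.cons (nat_lit 16) (nat_lit 0x4b380000254400003f940000ca60)
 (Net.cons (nat_lit 32) (nat_lit 0x2cf84444000000009d41c7dc)
 (Net.cons (nat_lit 64) (nat_lit 0x59494e25e7043cc0)
 Net.nil)))))))))))))

noncomputable def ns_48 : Net :=
 (Net.cons (nat_lit 64) (nat_lit 0x206082eb27fb99f0)
 (Net.cons (nat_lit 32) (nat_lit 0x592b7363000000002fde9d97)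
 (Net.cons (nat_lit 16) (nat_lit 0x63c80000860c00006d830000a86b)
 (Net.cons (nat_lit 8) (nat_lit 0xcb006f0000008c001f00e8001a002b)
 (Net.cons (nat_lit 4) (nat_lit 0xa000204000c000a0e06040a03000200)
 (Net.cons (nat_lit 2) (nat_lit 0x200101022000010122301010302102)
 (Net.cons (nat_lit 1) (nat_lit 0x11414100040400545001104414404001)
 (Net.cons (nat_lit 2) (nat_lit 0x2222200020000000002200200200002)
 (Net.cons (nat_lit 4) (nat_lit 0x8000204000c00000202040000020c00)
 (Net.cons (nat_lit 8) (nat_lit 0xa8004e000000880050007800600026)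
 (Net.cons (nat_lit 16) (nat_lit 0x53c80000848c0000a9160000e464)
 (Net.cons (nat_lit 32) (nat_lit 0x592b732a00000000abdcb592)
 (Net.cons (nat_lit 64) (nat_lit 0x206082eefbd150d0)
 Net.nil)))))))))))))

noncomputable def ns_49 : Net :=
 (Net.cons (nat_lit 64) (nat_lit 0xa8664018d4d01137)
 (Net.cons (nat_lit 32) (nat_lit 0xf20dc12d000000003887014a)
 (Net.cons (nat_lit 16) (nat_lit 0x103e00002f2c000027a90000df58)
 (Net.cons (nat_lit 8) (nat_lit 0xc000eb008a001100f7008e00300050)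
 (Net.cons (nat_lit 4) (nat_lit 0x4010b0c0a0e0c0408070a0c09000903)
 (Net.cons (nat_lit 2) (nat_lit 0x2110002203030020010210300021030)
 (Net.cons (nat_lit 1) (nat_lit 0x4141001000400040114010441010154)
 (Net.cons (nat_lit 2) (nat_lit 0x2202002000000020200000220020202)
 (Net.cons (nat_lit 4) (nat_lit 0x40a0808080e0c0008020a0400000c04)
 (Net.cons (nat_lit 8) (nat_lit 0xc800ea0080007000dc000a00280084)
 (Net.cons (nat_lit 16) (nat_lit 0x901c0000273c000000ac00005c50)
 (Net.cons (nat_lit 32) (nat_lit 0xf20b8124000000007c86276e)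
 (Net.cons (nat_lit 64) (nat_lit 0xa86640104479bb36)
 Net.nil)))))))))))))

noncomputable def ns_50 : Net :=
 (Net.cons (nat_lit 64) (nat_lit 0x9f5738a8e8a1d073)
 (Net.cons (nat_lit 32) (nat_lit 0xaf24c9d0000000028e27078)
 (Net.cons (nat_lit 16) (nat_lit 0x78dc00001a21000053640000f58c)
 (Net.cons (nat_lit 8) (nat_lit 0x3c0020008f005d0002004800090049)
 (Net.cons (nat_lit 4) (nat_lit 0x3010405010d0c0a0b000404080a0304)
 (Net.cons (nat_lit 2) (nat_lit 0x10221002310103203022200102013212)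
 (Net.cons (nat_lit 1) (nat_lit 0x51041044441041105104040044010500)
 (Net.cons (nat_lit 2) (nat_lit 0x2200000000002000002020000)
 (Net.cons (nat_lit 4) (nat_lit 0x808040400000002080804040c0a0604)
 (Net.cons (nat_lit 8) (nat_lit 0x9a003000c80054004000080008001c)
 (Net.cons (nat_lit 16) (nat_lit 0x68ee00000260000033040000b480)
 (Net.cons (nat_lit 32) (nat_lit 0x98b344120000000008e23374)
 (Net.cons (nat_lit 64) (nat_lit 0x9f5738a52ce8c436)
 Net.nil)))))))))))))

noncomputable def ns_51 : Net :=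
 (Net.cons (nat_lit 64) (nat_lit 0x3331e63f4b3adc40)
 (Net.cons (nat_lit 32) (nat_lit 0x63bfbdc400000000f4f7c726)
 (Net.cons (nat_lit 16) (nat_lit 0xbc5600001a700000ecaf0000811c)
 (Net.cons (nat_lit 8) (nat_lit 0xc4008e00230078009c0048009e004e)
 (Net.cons (nat_lit 4) (nat_lit 0x90703000a0002070009000609040508)
 (Net.cons (nat_lit 2) (nat_lit 0x31123200010020001002022313000202)
 (Net.cons (nat_lit 1) (nat_lit 0x54404410041054140445540100045001)
 (Net.cons (nat_lit 2) (nat_lit 0x200020002000020020000020002)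
 (Net.cons (nat_lit 4) (nat_lit 0x40c08000a020400000a0c0008000208)
 (Net.cons (nat_lit 8) (nat_lit 0x1600ac00220058000800ec00dc00c6)
 (Net.cons (nat_lit 16) (nat_lit 0xddc800003e50000020460000819a)
 (Net.cons (nat_lit 32) (nat_lit 0x62bfbdfc00000000f4f7dfa0)
 (Net.cons (nat_lit 64) (nat_lit 0x3331e63aca0a7c04)
 Net.nil)))))))))))))

noncomputable def ns : List Net := [ModelJ2.ns_0, ModelJ2.ns_1, ns_2, ns_3, ns_4, ns_5, ns_6, ns_7, ns_8, ns_9, ns_10, ns_11, ns_12, ns_13, ns_14, ns_15, ns_16, ns_17, ns_18, ns_19, ns_20, ns_21, ns_22, ns_23, ns_24, ns_25, ns_26, ns_27, ns_28, ns_29, ns_30, ns_31, ns_32, ns_33, ns_34, ns_35, ns_36, ns_37, ns_38, ns_39, ns_40, ns_41, ns_42, ns_43, ns_44, ns_45, ns_46, ns_47, ns_48, ns_49, ns_50, ns_51]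

theorem ctx : Ctx 128 7 ns := ctx_of (by decide +kernel)

theorem lctx : LCtx 128 7 8 127 trN7 ns := lctx_of ctx trOK7 (by decide +kernel)

noncomputable def E : List ℕ → ℕ → ℕ := pfW0 128 7 8 127 trN7 ns

theorem hE : Evl 128 ns E := evl_pfW0 lctx

open Cfsg.Agent.K Cfsg.Agent.Comp.IC

theorem geq : gen ModelJ2.ns ModelJ2.G_ss0 = gen ns [[0], [2]] :=
  gen_eq_of_take (ns := ModelJ2.ns) (ns' := ns) (k := 2) rfl (ws := ModelJ2.G_ss0) (by decide +kernel)

theorem hn : Nat.card (gen ns [[0], [2]]) = 604800 :=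
  geq ▸ ModelJ2.G_card

noncomputable def equiv : Cfsg.Spor.J2 ≃* ↥(gen ns [[0], [2]]) :=
  ModelJ2.equiv.trans (MulEquiv.subgroupCongr geq)

theorem kn_0 : Known ns (gen ns [[0], [2]]) 3 :=
  known_gen (by decide +kernel)

noncomputable def S_S7 : List SD :=
  []

noncomputable def S_d6 : SD :=
  ⟨4, 1, [28], lab 1 1 0, 1⟩

noncomputable def S_S6 : List SD :=
  S_d6 :: S_S7

noncomputable def S_d5 : SD :=
  ⟨3, 1, [26, 22, 28], lab 3 7 0, 1⟩

noncomputable def S_S5 : List SD :=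
  S_d5 :: S_S6

noncomputable def S_d4 : SD :=
  ⟨10, 1, [24, 26, 22, 28], lab 3 7 0, 1⟩

noncomputable def S_S4 : List SD :=
  S_d4 :: S_S5

noncomputable def S_d3 : SD :=
  ⟨15, 1, [18, 20, 24, 26, 22, 28], lab 4 15 (nat_lit 0x200000000000000000000000000000000000000000000000000000000000000000000000000000000000000000000), 2⟩

noncomputable def S_S3 : List SD :=
  S_d3 :: S_S4

noncomputable def S_d2 : SD :=
  ⟨2, 1, [14, 16, 18, 20, 24, 26, 22, 28], lab 4 15 (nat_lit 0xa00000000000000000000300000000200000000000000000000000000000000000000010000000000000000000), 2⟩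

noncomputable def S_S2 : List SD :=
  S_d2 :: S_S3

noncomputable def S_d1 : SD :=
  ⟨1, 1, [8, 10, 12, 14, 16, 18, 20, 24, 26, 22, 28], lab 5 31 (nat_lit 0x380e03004038180000000000000000000000264700000000091a0000000691c00001601900000005100000004081800001401940000000080000102329800), 3⟩

noncomputable def S_S1 : List SD :=
  S_d1 :: S_S2

noncomputable def S_d0 : SD :=
  ⟨0, 1, [0, 2, 4, 6, 8, 10, 12, 14, 16, 18, 20, 24, 26, 22, 28], lab 5 31 (nat_lit 0x6e14d59e46448893c0920144d8be8f445ee94a7198a226c5cf715c622da014464601c87209a2538a6b80486a0e8c8f03b1947bd8fa1c6ed3e835b9cf60da0), 3⟩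

noncomputable def S_S0 : List SD :=
  S_d0 :: S_S1

theorem kn_1 : Known ns (gen ns [[0], [2]]) 32767 :=
  kn_0.steps ctx (es := [(2, [0, 2, 0]),
 (3, [3, 3, 3, 1, 3]),
 (4, [5, 0, 3, 7, 7, 3, 5, 3]),
 (5, [4, 2, 4, 0, 6, 1, 2, 4, 1, 5]),
 (6, [11, 11, 9]),
 (7, [9, 11, 8, 12, 10, 8, 11, 13, 8]),
 (8, [9, 10, 13, 8, 11, 8, 10, 13]),
 (9, [15, 17, 15, 15, 15]),
 (10, [15, 15, 17, 14]),
 (11, [21, 21, 18, 20, 18, 18, 20]),
 (12, [21, 21, 19, 21, 19, 21, 21, 18, 20]),
 (13, [24, 24]),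
 (14, [27, 22, 26, 23, 26, 23, 27, 27])]) (by decide +kernel)

theorem S_ex : Exact 128 ns S_S0 ∧ gen ns (sTop S_S0) = gen ns [[0], [2]] ∧ gen ns [[0], [2]] = gen ns [[0], [2]] :=
  exact_of_known ctx hn (le_rfl) kn_1 (by decide +kernel)

noncomputable def CaG_S4 : List SD :=
  []

noncomputable def CaG_d3 : SD :=
  ⟨0, 3, [46], lab 1 1 (nat_lit 0x4000000), 2⟩

noncomputable def CaG_S3 : List SD :=
  CaG_d3 :: CaG_S4

noncomputable def CaG_d2 : SD :=
  ⟨58, 6, [48, 46], lab 2 3 (nat_lit 0xb20100304088611c00c4024000c220053000cc800006030), 7⟩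

noncomputable def CaG_S2 : List SD :=
  CaG_d2 :: CaG_S3

noncomputable def CaG_d1 : SD :=
  ⟨10, 4, [50, 48, 46], lab 3 7 (nat_lit 0x41000000600010200000000000000a040080030c3002000a00018401002002614a00018228), 5⟩

noncomputable def CaG_S1 : List SD :=
  CaG_d1 :: CaG_S2

noncomputable def CaG_d0 : SD :=
  ⟨8, 3, [52, 50, 48, 46], lab 3 7 (nat_lit 0x1369804898a6d03b90c50a80315e2d51c08e67aae160de435d360950c00af434d9688019e57), 5⟩

noncomputable def CaG_S0 : List SD :=
  CaG_d0 :: CaG_S1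

theorem kn_2 : Known ns (gen ns [[0], [2]]) 4294967295 :=
  kn_1.steps ctx (es := [(15, [15, 4, 9, 10, 17, 18, 20, 24, 26]),
 (16, [6, 18, 2, 17, 8, 26, 14, 18, 20, 24]),
 (17, [13, 8, 2, 13, 8, 14, 14, 24, 28]),
 (18, [14, 9, 4, 13, 8, 16, 14, 18, 20, 28]),
 (19, [20, 7, 15, 11, 17, 20, 24, 28]),
 (20, [15, 3, 0, 14, 11, 16, 14, 20, 26, 28]),
 (21, [18, 2, 14, 12, 14, 20, 24, 26]),
 (22, [3, 5, 15, 8, 26, 14, 20]),
 (23, [13, 0, 8, 24, 26]),
 (24, [0, 10, 24, 26]),
 (25, [15, 5, 14, 11, 15, 20, 24]),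
 (26, [18, 3, 15, 8, 18, 20]),
 (27, [47]),
 (28, [49, 49, 47, 48, 48, 48, 46, 46]),
 (29, [46, 49, 50, 50, 46, 48, 47]),
 (30, [48, 48, 50, 46, 48, 48, 46, 46]),
 (31, [48, 52, 48, 51, 51, 46, 46, 49, 49, 49, 46, 46])]) (by decide +kernel)

theorem CaG_ex : Exact 128 ns CaG_S0 ∧ gen ns (sTop CaG_S0) = gen ns [[0], [2]] ∧ gen ns [[0], [2]] = gen ns [[0], [2]] :=
  exact_of_known ctx hn (le_rfl) kn_2 (by decide +kernel)

noncomputable def Ca_as : List (List ℕ) :=
  [[30]]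

noncomputable def Ca_p : List (List ℕ × List ℕ) :=
  derAs (dg Ca_as) [[0]]

noncomputable def Ca_s : List (ℕ × ℕ) :=
  derSs 128 7 ns (dg Ca_as) [[0]]

noncomputable def Ca_k0 : List (List ℕ) :=
  [[62], [58], [60], [56], [54]]

noncomputable def Ca_k1 : List (List ℕ) :=
  [[58], [60], [56], [54]]

noncomputable def Ca_k2 : List (List ℕ) :=
  [[56], [54]]

noncomputable def Ca_k3 : List (List ℕ) :=
  [[54]]

noncomputable def Ca_k4 : List (List ℕ) :=
  []

theorem Ca_cm : commB 128 7 ns (dg Ca_as) Ca_k0 = true :=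
  by decide +kernel

theorem Ca_g0 : Good 128 ns Ca_p Ca_s (gen ns (sTop CaG_S0)) Ca_k0 :=
  good_der ctx kn_2 (CaG_ex.2.1.trans CaG_ex.2.2.symm) _ _ ((and'_eq_true _ _).2 ⟨by decide +kernel, Ca_cm⟩)

theorem Ca_g1 : Good 128 ns Ca_p Ca_s (gen ns (sTop CaG_S1)) Ca_k1 :=
  Ca_g0.tail ctx CaG_ex.1 (by decide +kernel)

theorem Ca_g2 : Good 128 ns Ca_p Ca_s (gen ns (sTop CaG_S2)) Ca_k2 :=
  Ca_g1.tail ctx CaG_ex.1.tail (by decide +kernel)

theorem Ca_g3 : Good 128 ns Ca_p Ca_s (gen ns (sTop CaG_S3)) Ca_k3 :=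
  Ca_g2.tail ctx CaG_ex.1.tail.tail (by decide +kernel)

theorem Ca_l4 : LevX 128 ns Ca_p Ca_s (gen ns (sTop CaG_S4)) Ca_k4 1 :=
  levX_nil _ _ _ _

theorem Ca_l3 : LevX 128 ns Ca_p Ca_s (gen ns (sTop CaG_S3)) Ca_k3 4 :=
  Ca_l4.step ctx CaG_ex.1.tail.tail.tail Ca_g3 (br_zero _ _ _ _ _ _ _) [] 3 3 (by decide +kernel)

theorem Ca_l2 : LevX 128 ns Ca_p Ca_s (gen ns (sTop CaG_S2)) Ca_k2 8 :=
  Ca_l3.step ctx CaG_ex.1.tail.tail Ca_g2 (br_zero _ _ _ _ _ _ _) [] 1 1 (by decide +kernel)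

theorem Ca_l1 : LevX 128 ns Ca_p Ca_s (gen ns (sTop CaG_S1)) Ca_k1 96 :=
  Ca_l2.step ctx CaG_ex.1.tail Ca_g1 (br_zero _ _ _ _ _ _ _) [] 2 2 (by decide +kernel)

theorem Ca_l0 : LevX 128 ns Ca_p Ca_s (gen ns (sTop CaG_S0)) Ca_k0 1920 :=
  Ca_l1.step ctx CaG_ex.1 Ca_g0 (br_zero _ _ _ _ _ _ _) [] 2 2 (by decide +kernel)

theorem Ca : CentEq ns (gen ns [[0], [2]]) Ca_as Ca_k0 1920 :=
  centEq_of ctx CaG_ex.2.1 Ca_l0 Ca_g0 Ca_cm

noncomputable def CaD_S5 : List SD :=
  []

noncomputable def CaD_d4 : SD :=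
  ⟨57, 1, [66], lab 1 1 0, 1⟩

noncomputable def CaD_S4 : List SD :=
  CaD_d4 :: CaD_S5

noncomputable def CaD_d3 : SD :=
  ⟨37, 1, [68, 66], lab 2 3 0, 1⟩

noncomputable def CaD_S3 : List SD :=
  CaD_d3 :: CaD_S4

noncomputable def CaD_d2 : SD :=
  ⟨1, 4, [70, 68, 66], lab 3 7 (nat_lit 0xc00040400000004000000000002080000080000000010100400c0200008104003000), 5⟩

noncomputable def CaD_S2 : List SD :=
  CaD_d2 :: CaD_S3

noncomputable def CaD_d1 : SD :=
  ⟨91, 3, [72, 70, 68, 66], lab 3 7 (nat_lit 0x21aa880184a0030018c4504da205534ac0c1500200060106010c004280000007842082c8200), 5⟩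

noncomputable def CaD_S1 : List SD :=
  CaD_d1 :: CaD_S2

noncomputable def CaD_d0 : SD :=
  ⟨16, 3, [74, 72, 70, 68, 66], lab 4 15 (nat_lit 0x5067116022636172423887864052234020763322854453060226043162132721318030423051607505206206811057207123), 4⟩

noncomputable def CaD_S0 : List SD :=
  CaD_d0 :: CaD_S1

theorem kn_3 : Known ns (gen ns [[0], [2]]) 274877906943 :=
  kn_2.steps ctx (es := [(32, [18, 6, 12, 18, 20, 26]),
 (33, [7, 19, 4, 22, 12, 15, 20]),
 (34, [13, 0, 17, 13, 24, 26]),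
 (35, [14, 3, 0, 9, 16, 14, 20, 26, 28]),
 (36, [0, 8, 17, 18, 20, 26]),
 (37, [14, 3, 0, 15, 8, 14, 14])]) (by decide +kernel)

theorem CaD_ex : Exact 128 ns CaD_S0 ∧ gen ns (sTop CaD_S0) = gen ns [[0], [2]] ∧ gen ns [[0], [2]] = gen ns [[0], [2]] :=
  exact_of_known ctx hn (le_rfl) kn_3 (by decide +kernel)

noncomputable def Cay_as : List (List ℕ × List ℕ) :=
  [([30], [30]), ([64], [64])]

noncomputable def Cay_cs : List (List ℕ) :=
  [[], [72, 72, 74, 72, 71, 72, 69, 70, 68]]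

noncomputable def Cay_pl : List Pl :=
  [⟨.lst 0, []⟩, ⟨.forced 0 0, []⟩, ⟨.forced 0 0, []⟩, ⟨.forced 0 0, []⟩, ⟨.forced 0 1, []⟩]

noncomputable def Cay_M0 : ℕ :=
  nat_lit 0x1700000b0a800020200034004

theorem Cay_b0 : Br 128 ns (derAs Cay_as [[2], [0]]) (derSs 128 7 ns Cay_as [[0], [2]]) (gen ns (sTop CaD_S0)) CaD_d0.p Cay_M0 (InCs ns CaD_S0 Cay_cs) :=
  br_of_brB ctx hE CaD_ex.1 (pl := Cay_pl) (bs := []) (tps := []) (by decide +kernel)

theorem Cay : SolList ns (gen ns [[0], [2]]) Cay_as [[64]] Cay_cs :=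
  solList_of_br ctx CaD_ex.1 CaD_ex.2.1 kn_3 Cay_b0 (cons := []) (r := 4) (by decide +kernel)

noncomputable def CbG_S4 : List SD :=
  []

noncomputable def CbG_d3 : SD :=
  ⟨4, 4, [76, 78], lab 2 3 (nat_lit 0x800000800e3000880380000000000300c00000020c0200000), 6⟩

noncomputable def CbG_S3 : List SD :=
  CbG_d3 :: CbG_S4

noncomputable def CbG_d2 : SD :=
  ⟨42, 2, [80, 76, 78], lab 3 7 (nat_lit 0x80000000000000000000000000000800000000000000000000000000000001000140), 2⟩

noncomputable def CbG_S2 : List SD :=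
  CbG_d2 :: CbG_S3

noncomputable def CbG_d1 : SD :=
  ⟨40, 3, [82, 80, 76, 78], lab 3 7 (nat_lit 0x1834000c10000000000000c0000600c001c0210000040600102040230001638008000c1000a), 4⟩

noncomputable def CbG_S1 : List SD :=
  CbG_d1 :: CbG_S2

noncomputable def CbG_d0 : SD :=
  ⟨3, 3, [84, 82, 80, 76, 78], lab 4 15 (nat_lit 0x2906306060225615361165418502231399615800524553602140903223028131110263198110080461302550481140040208), 5⟩

noncomputable def CbG_S0 : List SD :=
  CbG_d0 :: CbG_S1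

theorem kn_4 : Known ns (gen ns [[0], [2]]) 140737488355327 :=
  kn_3.steps ctx (es := [(38, [20, 24, 28]),
 (39, [14, 4, 11, 9, 26, 14, 20, 24, 28]),
 (40, [11, 6, 17, 8, 17, 18, 20, 28]),
 (41, [3, 15, 0, 20, 11, 26, 14]),
 (42, [11, 7, 11, 8, 14, 18, 20, 26]),
 (43, [79, 76, 78, 76]),
 (44, [79, 76, 78]),
 (45, [82, 80, 84, 84, 83, 80, 82, 78, 80, 76, 78, 78, 76]),
 (46, [81, 85, 81, 82, 80, 80, 78, 76, 79])]) (by decide +kernel)

theorem CbG_ex : Exact 128 ns CbG_S0 ∧ gen ns (sTop CbG_S0) = gen ns [[0], [2]] ∧ gen ns [[0], [2]] = gen ns [[0], [2]] :=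
  exact_of_known ctx hn (le_rfl) kn_4 (by decide +kernel)

noncomputable def Cb_as : List (List ℕ) :=
  [[32]]

noncomputable def Cb_p : List (List ℕ × List ℕ) :=
  derAs (dg Cb_as) [[0]]

noncomputable def Cb_s : List (ℕ × ℕ) :=
  derSs 128 7 ns (dg Cb_as) [[0]]

noncomputable def Cb_k0 : List (List ℕ) :=
  [[90], [92], [86], [88]]

noncomputable def Cb_k1 : List (List ℕ) :=
  [[86], [88]]

noncomputable def Cb_k2 : List (List ℕ) :=
  [[86], [88]]

noncomputable def Cb_k3 : List (List ℕ) :=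
  [[86], [88]]

noncomputable def Cb_k4 : List (List ℕ) :=
  []

theorem Cb_cm : commB 128 7 ns (dg Cb_as) Cb_k0 = true :=
  by decide +kernel

theorem Cb_g0 : Good 128 ns Cb_p Cb_s (gen ns (sTop CbG_S0)) Cb_k0 :=
  good_der ctx kn_4 (CbG_ex.2.1.trans CbG_ex.2.2.symm) _ _ ((and'_eq_true _ _).2 ⟨by decide +kernel, Cb_cm⟩)

theorem Cb_g1 : Good 128 ns Cb_p Cb_s (gen ns (sTop CbG_S1)) Cb_k1 :=
  Cb_g0.tail ctx CbG_ex.1 (by decide +kernel)

theorem Cb_g2 : Good 128 ns Cb_p Cb_s (gen ns (sTop CbG_S2)) Cb_k2 :=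
  Cb_g1.tail ctx CbG_ex.1.tail (by decide +kernel)

theorem Cb_g3 : Good 128 ns Cb_p Cb_s (gen ns (sTop CbG_S3)) Cb_k3 :=
  Cb_g2.tail ctx CbG_ex.1.tail.tail (by decide +kernel)

theorem Cb_l4 : LevX 128 ns Cb_p Cb_s (gen ns (sTop CbG_S4)) Cb_k4 1 :=
  levX_nil _ _ _ _

theorem Cb_l3 : LevX 128 ns Cb_p Cb_s (gen ns (sTop CbG_S3)) Cb_k3 6 :=
  Cb_l4.step ctx CbG_ex.1.tail.tail.tail Cb_g3 (br_zero _ _ _ _ _ _ _) [(0, 60, 3)] 2 2 (by decide +kernel)

theorem Cb_c2_8 : Br 128 ns Cb_p Cb_s (gen ns (sTop CbG_S2)) CbG_d2.p (Nat.shiftLeft 1 8) (InCs ns CbG_S2 []) :=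
  br_of_cnt ctx CbG_ex.1.tail.tail [81] (.pair 24 2 1 4 0) (by decide +kernel) _

noncomputable def Cb_B2_cs : List (List ℕ) :=
  []

noncomputable def Cb_B2_pl : List Pl :=
  [⟨.lst 0, []⟩, ⟨.free, []⟩]

noncomputable def Cb_B2_M0 : ℕ :=
  nat_lit 0x1000000000000000000

theorem Cb_B2_b0 : Br 128 ns Cb_p Cb_s (gen ns (sTop CbG_S2)) CbG_d2.p Cb_B2_M0 (InCs ns CbG_S2 Cb_B2_cs) :=
  br_of_brB ctx hE CbG_ex.1.tail.tail (pl := Cb_B2_pl) (bs := [40, 3]) (tps := [44, 88]) (by decide +kernel)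

theorem Cb_l2 : LevX 128 ns Cb_p Cb_s (gen ns (sTop CbG_S2)) Cb_k2 6 :=
  Cb_l3.step ctx CbG_ex.1.tail.tail Cb_g2 (((br_zero _ _ _ _ _ _ _).lor Cb_c2_8).lor Cb_B2_b0) [] 2 0 (by decide +kernel)

theorem Cb_l1 : LevX 128 ns Cb_p Cb_s (gen ns (sTop CbG_S1)) Cb_k1 6 :=
  Cb_l2.step ctx CbG_ex.1.tail Cb_g1 (br_zero _ _ _ _ _ _ _) [(0, 3, 0)] 0 0 (by decide +kernel)

theorem Cb_c0_34 : Br 128 ns Cb_p Cb_s (gen ns (sTop CbG_S0)) CbG_d0.p (Nat.shiftLeft 1 34) (InCs ns CbG_S0 []) :=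
  br_of_cnt ctx CbG_ex.1 [85] (.pair 0 3 3 0 0) (by decide +kernel) _

theorem Cb_l0 : LevX 128 ns Cb_p Cb_s (gen ns (sTop CbG_S0)) Cb_k0 240 :=
  Cb_l1.step ctx CbG_ex.1 Cb_g0 ((br_zero _ _ _ _ _ _ _).lor Cb_c0_34) [] 3 3 (by decide +kernel)

theorem Cb : CentEq ns (gen ns [[0], [2]]) Cb_as Cb_k0 240 :=
  centEq_of ctx CbG_ex.2.1 Cb_l0 Cb_g0 Cb_cm

noncomputable def CbD_S4 : List SD :=
  []

noncomputable def CbD_d3 : SD :=
  ⟨42, 2, [96], lab 1 1 (nat_lit 0x10000000000), 1⟩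

noncomputable def CbD_S3 : List SD :=
  CbD_d3 :: CbD_S4

noncomputable def CbD_d2 : SD :=
  ⟨66, 6, [98, 96], lab 2 3 (nat_lit 0x41000030438c00000000c000000000083404120040c0040302), 6⟩

noncomputable def CbD_S2 : List SD :=
  CbD_d2 :: CbD_S3

noncomputable def CbD_d1 : SD :=
  ⟨44, 4, [100, 98, 96], lab 3 7 (nat_lit 0x5443680030805414290441430040029400010000000c105b0d00cd7400136c8000052025a20), 5⟩

noncomputable def CbD_S1 : List SD :=
  CbD_d1 :: CbD_S2

noncomputable def CbD_d0 : SD :=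
  ⟨55, 3, [102, 100, 98, 96], lab 3 7 (nat_lit 0x113245308f9bf60d2f8154b1938011e63118233c51982251072009b795ec43a7dbd8ac987d9), 5⟩

noncomputable def CbD_S0 : List SD :=
  CbD_d0 :: CbD_S1

theorem kn_5 : Known ns (gen ns [[0], [2]]) 4503599627370495 :=
  kn_4.steps ctx (es := [(47, [14, 4, 11, 8, 15, 20, 26]),
 (48, [14, 4, 0, 26, 8, 17, 20, 24, 26, 28]),
 (49, [15, 2, 8, 10, 14, 14, 26, 28]),
 (50, [16, 5, 15, 12, 16, 14, 20]),
 (51, [11, 7, 8, 15, 8, 14])]) (by decide +kernel)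

theorem CbD_ex : Exact 128 ns CbD_S0 ∧ gen ns (sTop CbD_S0) = gen ns [[0], [2]] ∧ gen ns [[0], [2]] = gen ns [[0], [2]] :=
  exact_of_known ctx hn (le_rfl) kn_5 (by decide +kernel)

noncomputable def Cby_as : List (List ℕ × List ℕ) :=
  [([32], [32]), ([94], [94])]

noncomputable def Cby_cs : List (List ℕ) :=
  [[], [101, 103, 100, 99, 97, 101, 98, 97, 98], [97, 103, 100, 97, 98, 97], [103, 100, 97, 98, 96]]

noncomputable def Cby_pl : List Pl :=
  [⟨.lst 0, []⟩, ⟨.forced 0 0, []⟩, ⟨.forced 0 0, []⟩, ⟨.forced 0 1, []⟩]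

noncomputable def Cby_M0 : ℕ :=
  nat_lit 0x2a90440040c6002020c000d2

theorem Cby_b0 : Br 128 ns (derAs Cby_as [[2], [0]]) (derSs 128 7 ns Cby_as [[0], [2]]) (gen ns (sTop CbD_S0)) CbD_d0.p Cby_M0 (InCs ns CbD_S0 Cby_cs) :=
  br_of_brB ctx hE CbD_ex.1 (pl := Cby_pl) (bs := []) (tps := []) (by decide +kernel)

theorem Cby : SolList ns (gen ns [[0], [2]]) Cby_as [[94]] Cby_cs :=
  solList_of_br ctx CbD_ex.1 CbD_ex.2.1 kn_5 Cby_b0 (cons := []) (r := 4) (by decide +kernel)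

noncomputable def bs : List ℕ :=
  [0, 1, 2, 15, 10, 3, 4]

theorem mb : MB 128 7 ns (gen ns [[0], [2]]) 4503599627370495 E bs :=
  ⟨⟨ctx, kn_5, gen_le_supp ctx.ok _⟩, hE, bas_of_exact S_ex.1 S_ex.2.1 (by decide +kernel)⟩

instance fin : Finite Cfsg.Spor.J2 := mb.m.finite equiv

noncomputable def top : List ℕ := [34, 36, 38, 40, 42, 44, 30]

noncomputable def ts : List (List ℕ) := [[30], [32]]

theorem nc : Nc (ev equiv ns) top :=
  (mb.wm equiv).nc (hs := [([44], [[36, 40, 44], [38, 40, 30], [40], [42, 44, 30], [44], [30]]),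
 ([40], [[38, 42], [40], [42, 44, 30], [44, 30], [30]]),
 ([40, 42], [[40, 44, 30], [42, 44, 30], [44, 30], [30]]),
 ([30], [[42, 30], [44], [30]]),
 ([30], [[44], [30]]),
 ([], [[30]]),
 ([], [])]) (by decide +kernel)

theorem lb : 2 ^ top.length ≤ Nat.card (sg (ev equiv ns) top) :=
  le_card_sg mb.m equiv [(0, 4, [[36, 30], [38, 30], [34, 36, 44]]),
 (1, 1, [[34, 36, 44]])] (by decide +kernel)

theorem ser : Ser (ev equiv ns) top := nc.ser lb

noncomputable def cv1c : CT :=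
  (.two (.two (.two (.two (.two (.two .triv
 (.lf [] [30]))
 (.one [36] [] (.lf [20, 5, 26, 8, 26, 14, 20, 26] [30])))
 (.one [34] [30] (.one [40] [] (.no []))))
 (.two (.one [38] [30] (.one [42] [] (.no [])))
 (.one [34] [30] (.one [40] [] (.no [])))))
 (.one [34] [30] (.no [42])))
 (.two (.one [34] [44] (.no []))
 (.two (.one [36] [] (.one [40] [] (.one [34] [] (.lf [7, 19, 4, 8, 15, 20, 26] [32]))))
 (.one [36] [30] (.one [40] [] (.no [30]))))))

theorem cv1 : Cv (ev equiv ns) ts [36, 38, 40, 42, 44, 30] [] :=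
  ser.cv' (mb.wm equiv) cv1c 0 (p := 34) (by decide +kernel)

noncomputable def cv2c : CT :=
  (.two (.two (.one [36] [44] (.two (.one [42] [30] (.no []))
 (.one [34] [30] (.one [40] [] (.lf [18, 7, 17, 8, 24, 26] [32])))))
 (.one [38] [] (.one [36, 38] [30] (.no []))))
 (.two (.one [34] [44] (.one [34, 38] [44, 30] (.two (.one [44] [] (.no []))
 (.one [44] [] (.lf [6, 20, 24, 26, 28] [30])))))
 (.one [36] [42] (.two (.one [40] [] (.no [30]))
 (.one [34] [] (.one [40, 42] [] (.lf [3, 5, 11, 8] [32])))))))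

theorem cv2 : Cv (ev equiv ns) ts [36, 38, 40, 42, 44, 30] [34] :=
  ser.cv' (mb.wm equiv) cv2c 0 (p := 34) (by decide +kernel)

theorem cv0 : Cv (ev equiv ns) ts [34, 36, 38, 40, 42, 44, 30] [] :=
  ser.two (mb.wm equiv) 0 (by decide +kernel) cv1 cv2

theorem Ca_mix : MixG (Subgroup.centralizer ({ev equiv ns [30]} : Set Cfsg.Spor.J2)) :=
  mb.mix_pe' equiv Ca Cay 10 5 2 2 7 [2, 3, 5] [(0, 3, [[64], [72, 72, 74, 72, 71, 72, 69, 70, 68]])]
    (by norm_num) (fun h => absurd rfl h)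
    (by decide +kernel) (by decide +kernel) (by decide +kernel)

theorem Cb_mix : MixG (Subgroup.centralizer ({ev equiv ns [32]} : Set Cfsg.Spor.J2)) :=
  mb.mix_pe' equiv Cb Cby 20 5 2 2 4 [2, 3, 5] [(0, 4, [[94], [103, 100, 97, 98, 96], [97, 103, 100, 97, 98, 97]])]
    (by norm_num) (fun h => absurd rfl h)
    (by decide +kernel) (by decide +kernel) (by decide +kernel)

theorem invMix : InvMix Cfsg.Spor.J2 :=
  mb.invMix equiv hn nc lb (by decide +kernel) cv0 (List.forall_mem_cons.2 ⟨Ca_mix, List.forall_mem_cons.2 ⟨Cb_mix, fun _ h => absurd h List.not_mem_nil⟩⟩)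

end Cfsg.Agent.Spor.MixJ2
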