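import Cfsg.Agent.Spor.GolayModel
import Cfsg.Agent.Spor.M24Basic

set_option autoImplicit false
set_option maxRecDepth 4096

namespace Cfsg.Agent.Spor.ModelM22

open Cfsg.Agent.Comp

noncomputable def ns_0 : Net :=
 (Net.cons (nat_lit 16) 41264
 (Net.cons (nat_lit 8) (nat_lit 0xc10018)
 (Net.cons (nat_lit 4) 262154
 (Net.cons (nat_lit 2) (nat_lit 0x20300220)
 (Net.cons (nat_lit 1) (nat_lit 0x40000014)
 (Net.cons (nat_lit 2) (nat_lit 0x20000020)
 (Net.cons (nat_lit 4) 262152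
 (Net.cons (nat_lit 8) (nat_lit 0xc00018)
 (Net.cons (nat_lit 16) 41264
 Net.nil)))))))))

noncomputable def ns_1 : Net :=
 (Net.cons (nat_lit 16) 22032
 (Net.cons (nat_lit 8) (nat_lit 0x5e0080)
 (Net.cons (nat_lit 4) (nat_lit 0xe050008)
 (Net.cons (nat_lit 2) (nat_lit 0x122010)
 (Net.cons (nat_lit 1) (nat_lit 0x10040014)
 (Net.cons (nat_lit 2) (nat_lit 0x20020000)
 (Net.cons (nat_lit 4) (nat_lit 0xa000002)
 (Net.cons (nat_lit 8) (nat_lit 0x4c0088)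
 (Net.cons (nat_lit 16) 22032
 Net.nil)))))))))

noncomputable def ns_2 : Net :=
 (Net.cons (nat_lit 16) 5272
 (Net.cons (nat_lit 8) (nat_lit 0x600024)
 (Net.cons (nat_lit 4) 131592
 (Net.cons (nat_lit 2) (nat_lit 0x20000300)
 (Net.cons (nat_lit 1) (nat_lit 0x40144410)
 (Net.cons (nat_lit 2) (nat_lit 0x20000220)
 (Net.cons (nat_lit 4) (nat_lit 0x40a0a08)
 (Net.cons (nat_lit 8) (nat_lit 0x700024)
 (Net.cons (nat_lit 16) 5272
 Net.nil)))))))))

noncomputable def ns_3 : Net :=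
 (Net.cons (nat_lit 16) 1152
 (Net.cons (nat_lit 8) 146
 (Net.cons (nat_lit 4) 723724
 (Net.cons (nat_lit 2) (nat_lit 0x331022)
 (Net.cons (nat_lit 1) (nat_lit 0x144110)
 (Net.cons (nat_lit 2) (nat_lit 0x200020)
 (Net.cons (nat_lit 4) 920066
 (Net.cons (nat_lit 8) 262290
 (Net.cons (nat_lit 16) 1196
 Net.nil)))))))))

noncomputable def ns_4 : Net :=
 (Net.cons (nat_lit 16) 55800
 (Net.cons (nat_lit 8) 720964
 (Net.cons (nat_lit 4) 786434
 (Net.cons (nat_lit 2) (nat_lit 0x30302200)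
 (Net.cons (nat_lit 1) (nat_lit 0x11444414)
 (Net.cons (nat_lit 2) (nat_lit 0x20002200)
 (Net.cons (nat_lit 4) (nat_lit 0x8080000)
 (Net.cons (nat_lit 8) (nat_lit 0x820044)
 (Net.cons (nat_lit 16) 55804
 Net.nil)))))))))

noncomputable def ns_5 : Net :=
 (Net.cons (nat_lit 16) 38240
 (Net.cons (nat_lit 8) (nat_lit 0x8400b0)
 (Net.cons (nat_lit 4) (nat_lit 0x5040008)
 (Net.cons (nat_lit 2) (nat_lit 0x10123000)
 (Net.cons (nat_lit 1) (nat_lit 0x411040)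
 (Net.cons (nat_lit 2) 8192
 (Net.cons (nat_lit 4) (nat_lit 0x4040008)
 (Net.cons (nat_lit 8) (nat_lit 0x840090)
 (Net.cons (nat_lit 16) 38144
 Net.nil)))))))))

noncomputable def ns_6 : Net :=
 (Net.cons (nat_lit 16) 19082
 (Net.cons (nat_lit 8) (nat_lit 0x62003a)
 (Net.cons (nat_lit 4) (nat_lit 0x8010600)
 (Net.cons (nat_lit 2) (nat_lit 0x113230)
 (Net.cons (nat_lit 1) (nat_lit 0x40414140)
 (Net.cons (nat_lit 2) (nat_lit 0x20020020)
 (Net.cons (nat_lit 4) (nat_lit 0x8040c00)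
 (Net.cons (nat_lit 8) (nat_lit 0x22001a)
 (Net.cons (nat_lit 16) 19082
 Net.nil)))))))))

noncomputable def ns_7 : Net :=
 (Net.cons (nat_lit 16) 5976
 (Net.cons (nat_lit 8) 786624
 (Net.cons (nat_lit 4) (nat_lit 0xf070800)
 (Net.cons (nat_lit 2) (nat_lit 0x10130030)
 (Net.cons (nat_lit 1) (nat_lit 0x50044040)
 (Net.cons (nat_lit 2) 131072
 (Net.cons (nat_lit 4) (nat_lit 0xe040804)
 (Net.cons (nat_lit 8) (nat_lit 0x180068)
 (Net.cons (nat_lit 16) 5956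
 Net.nil)))))))))

noncomputable def ns_8 : Net :=
 (Net.cons (nat_lit 16) 35330
 (Net.cons (nat_lit 8) (nat_lit 0x5c0050)
 (Net.cons (nat_lit 4) (nat_lit 0x2020602)
 (Net.cons (nat_lit 2) 304
 (Net.cons (nat_lit 1) (nat_lit 0x14010150)
 (Net.cons (nat_lit 2) (nat_lit 0x20020000)
 (Net.cons (nat_lit 4) (nat_lit 0x6020600)
 (Net.cons (nat_lit 8) (nat_lit 0x5c0040)
 (Net.cons (nat_lit 16) 35330
 Net.nil)))))))))

noncomputable def ns_9 : Net :=
 (Net.cons (nat_lit 16) 27872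
 (Net.cons (nat_lit 8) (nat_lit 0x980090)
 (Net.cons (nat_lit 4) (nat_lit 0x8060100)
 (Net.cons (nat_lit 2) (nat_lit 0x10230030)
 (Net.cons (nat_lit 1) (nat_lit 0x14410110)
 (Net.cons (nat_lit 2) (nat_lit 0x220020)
 (Net.cons (nat_lit 4) (nat_lit 0x4000000)
 (Net.cons (nat_lit 8) (nat_lit 0xf40090)
 (Net.cons (nat_lit 16) 27872
 Net.nil)))))))))

noncomputable def ns_10 : Net :=
 (Net.cons (nat_lit 16) 17192
 (Net.cons (nat_lit 8) (nat_lit 0x530010)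
 (Net.cons (nat_lit 4) (nat_lit 0x3020c08)
 (Net.cons (nat_lit 2) (nat_lit 0x30213000)
 (Net.cons (nat_lit 1) (nat_lit 0x40400040)
 (Net.cons (nat_lit 2) (nat_lit 0x20200020)
 (Net.cons (nat_lit 4) (nat_lit 0x2040408)
 (Net.cons (nat_lit 8) (nat_lit 0x100000)
 (Net.cons (nat_lit 16) 17192
 Net.nil)))))))))

noncomputable def ns_11 : Net :=
 (Net.cons (nat_lit 16) 44984
 (Net.cons (nat_lit 8) (nat_lit 0xf50000)
 (Net.cons (nat_lit 4) (nat_lit 0xd020008)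
 (Net.cons (nat_lit 2) (nat_lit 0x21021020)
 (Net.cons (nat_lit 1) (nat_lit 0x41010040)
 (Net.cons (nat_lit 2) (nat_lit 0x22020000)
 (Net.cons (nat_lit 4) (nat_lit 0x8080008)
 (Net.cons (nat_lit 8) (nat_lit 0x7a0050)
 (Net.cons (nat_lit 16) 44928
 Net.nil)))))))))

noncomputable def ns_12 : Net :=
 (Net.cons (nat_lit 16) 26660
 (Net.cons (nat_lit 8) (nat_lit 0x3a00a0)
 (Net.cons (nat_lit 4) (nat_lit 0xe06040c)
 (Net.cons (nat_lit 2) (nat_lit 0x22031000)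
 (Net.cons (nat_lit 1) (nat_lit 0x14044104)
 (Net.cons (nat_lit 2) (nat_lit 0x22020000)
 (Net.cons (nat_lit 4) (nat_lit 0xc060608)
 (Net.cons (nat_lit 8) (nat_lit 0x3200a0)
 (Net.cons (nat_lit 16) 26660
 Net.nil)))))))))

noncomputable def ns : List Net := [ns_0, ns_1, ns_2, ns_3, ns_4, ns_5, ns_6, ns_7, ns_8, ns_9, ns_10, ns_11, ns_12]

theorem ctx : Ctx 32 5 ns := ctx_of (by decide +kernel)

noncomputable def G_C5 : List Lvl :=
  []

noncomputable def G_ss4 : List (List ℕ) :=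
  [[24]]

noncomputable def G_D4 : ℕ :=
  147488

noncomputable def G_l4 : Lvl :=
  ⟨5, [[24]],
  tabA [(17, 1280), (14, 1281)], 1⟩

noncomputable def G_C4 : List Lvl :=
  G_l4 :: G_C5

noncomputable def G_ss3 : List (List ℕ) :=
  [[16], [18], [20]]

noncomputable def G_D3 : ℕ :=
  nat_lit 0x7dbfd0

noncomputable def G_l3 : Lvl :=
  ⟨4, [[16], [18], [20], [24]],
  tabC 13 8191 [nat_lit 0x300d00e8043812414000904601000100040150190148064022001c0c0000000000000000000], 2⟩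

noncomputable def G_C3 : List Lvl :=
  G_l3 :: G_C4

noncomputable def G_ss2 : List (List ℕ) :=
  [[10], [12]]

noncomputable def G_D2 : ℕ :=
  nat_lit 0x7ffff8

noncomputable def G_l2 : Lvl :=
  ⟨3, [[10], [12], [22], [16], [18], [20], [24]],
  tabC 13 8191 [nat_lit 0xc02c07602b030c0a002305b02d00ac19608803c81060760a3040c06c089080000000000000], 3⟩

noncomputable def G_C2 : List Lvl :=
  G_l2 :: G_C3

noncomputable def G_ss1 : List (List ℕ) :=
  [[4], [6]]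

noncomputable def G_D1 : ℕ :=
  nat_lit 0x7ffffc

noncomputable def G_l1 : Lvl :=
  ⟨2, [[4], [6], [14], [10], [12], [22], [16], [18], [20], [24]],
  tabC 13 8191 [nat_lit 0x142ca0e8102851414a1a2042848814a085084018808a06201281080c40080f5020000000000], 2⟩

noncomputable def G_C1 : List Lvl :=
  G_l1 :: G_C2

noncomputable def G_ss0 : List (List ℕ) :=
  [[0], [2]]

noncomputable def G_D0 : ℕ :=
  nat_lit 0x7ffffe

noncomputable def G_l0 : Lvl :=
  ⟨1, [[0], [2], [8], [4], [6], [14], [10], [12], [22], [16], [18], [20], [24]],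
  tabC 13 8191 [nat_lit 0x5418200105a8bd442a15513a845446a1a60fa87d41ea3351830a0408206a033061820000000], 3⟩

noncomputable def G_C0 : List Lvl :=
  G_l0 :: G_C1

theorem G_ver5 : Ver ns G_C5 1 :=
  ver_nil _

theorem G_le4 : gen ns G_l4.ws ≤ gen ns G_ss4 :=
  gen_le_step ctx (tgt := [])
  (es := []) (le_refl (gen _ [])) (by decide +kernel)

theorem G_lv4 : chkLvl 32 ns G_l4 G_C5 G_D4 2 = true :=
  by decide +kernel

theorem G_pt4_0 : AllIn (PtOK 32 ns G_l4 G_C5 G_ss4 G_D4) 0 64 :=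
  ptOK_of_chkPts ctx G_ver5 (a := 0) (n := 1) (by decide +kernel)

theorem G_st4 : IsStab 32 (gen ns G_l4.ws) (cgrp ns G_C5) G_l4.b G_D4 :=
  isStab_plain ctx G_le4 G_lv4 (by norm_num) G_pt4_0

theorem G_ver4 : Ver ns G_C4 3 :=
  G_ver5.cons ctx G_st4 (by decide +kernel)

theorem G_le3 : gen ns G_l3.ws ≤ gen ns G_ss3 :=
  gen_le_step ctx (tgt := [[24]])
  (es := [([24], [0, 4])]) G_le4 (by decide +kernel)

theorem G_lv3 : chkLvl 32 ns G_l3 G_C4 G_D3 2 = true :=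
  by decide +kernel

theorem G_pt3_0 : AllIn (PtOK 32 ns G_l3 G_C4 G_ss3 G_D3) 0 64 :=
  ptOK_of_chkPts ctx G_ver4 (a := 0) (n := 1) (by decide +kernel)

theorem G_st3 : IsStab 32 (gen ns G_l3.ws) (cgrp ns G_C4) G_l3.b G_D3 :=
  isStab_plain ctx G_le3 G_lv3 (by norm_num) G_pt3_0

theorem G_ver3 : Ver ns G_C3 48 :=
  G_ver4.cons ctx G_st3 (by decide +kernel)

theorem G_le2 : gen ns G_l2.ws ≤ gen ns G_ss2 :=
  gen_le_step ctx (tgt := [[16], [18], [20], [22]])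
  (es := [([16], [0, 2, 2, 0, 3, 0]), ([18], [4, 3, 3, 5]), ([20], [5, 6, 5, 7, 5, 6]), ([22], [8, 6, 6, 8])]) G_le3 (by decide +kernel)

theorem G_lv2 : chkLvl 32 ns G_l2 G_C3 G_D2 2 = true :=
  by decide +kernel

theorem G_pt2_0 : AllIn (PtOK 32 ns G_l2 G_C3 G_ss2 G_D2) 0 64 :=
  ptOK_of_chkPts ctx G_ver3 (a := 0) (n := 1) (by decide +kernel)

theorem G_st2 : IsStab 32 (gen ns G_l2.ws) (cgrp ns G_C3) G_l2.b G_D2 :=
  isStab_plain ctx G_le2 G_lv2 (by norm_num) G_pt2_0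

theorem G_ver2 : Ver ns G_C2 960 :=
  G_ver3.cons ctx G_st2 (by decide +kernel)

theorem G_le1 : gen ns G_l1.ws ≤ gen ns G_ss1 :=
  gen_le_step ctx (tgt := [[10], [12], [14]])
  (es := [([10], [0, 2, 2, 0, 2, 0, 3, 1]), ([12], [3, 5, 5, 5, 3, 4, 2, 2, 4, 4, 4]), ([14], [5, 5, 6, 6])]) G_le2 (by decide +kernel)

theorem G_lv1 : chkLvl 32 ns G_l1 G_C2 G_D1 1 = true :=
  by decide +kernel

theorem G_pt1_0 : AllIn (PtOK 32 ns G_l1 G_C2 G_ss1 G_D1) 0 64 :=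
  ptOK_of_chkPts ctx G_ver2 (a := 0) (n := 1) (by decide +kernel)

theorem G_st1 : IsStab 32 (gen ns G_l1.ws) (cgrp ns G_C2) G_l1.b G_D1 :=
  isStab_plain ctx G_le1 G_lv1 (by norm_num) G_pt1_0

theorem G_ver1 : Ver ns G_C1 20160 :=
  G_ver2.cons ctx G_st1 (by decide +kernel)

theorem G_le0 : gen ns G_l0.ws ≤ gen ns G_ss0 :=
  gen_le_step ctx (tgt := [[4], [6], [8]])
  (es := [([4], [2, 1, 3, 1, 3, 3, 1, 2, 1, 2, 0, 3, 0, 3]), ([6], [3, 4, 4, 3, 5, 5, 5, 5, 5, 3, 4, 2, 4, 2]), ([8], [7, 7, 4, 4, 4])]) G_le1 (by decide +kernel)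

theorem G_lv0 : chkLvl 32 ns G_l0 G_C1 G_D0 1 = true :=
  by decide +kernel

theorem G_pt0_0 : AllIn (PtOK 32 ns G_l0 G_C1 G_ss0 G_D0) 0 64 :=
  ptOK_of_chkPts ctx G_ver1 (a := 0) (n := 1) (by decide +kernel)

theorem G_st0 : IsStab 32 (gen ns G_l0.ws) (cgrp ns G_C1) G_l0.b G_D0 :=
  isStab_plain ctx G_le0 G_lv0 (by norm_num) G_pt0_0

theorem G_ver0 : Ver ns G_C0 443520 :=
  G_ver1.cons ctx G_st0 (by decide +kernel)

theorem G_eq : gen ns G_ss0 = cgrp ns G_C0 :=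
  le_antisymm (gen_le_of_subsetL _ (by decide +kernel)) G_le0

theorem G_card : Nat.card (gen ns G_ss0) = 443520 :=
  by rw [G_eq]; exact G_ver0.card

theorem model : ∃ e : Cfsg.Spor.M22 ≃* gen ns G_ss0,
    ∀ g : Cfsg.Spor.M22, RepBy 24 pt (g : Equiv.Perm GolayPt) (e g : Equiv.Perm ℕ) :=
  exists_model_golay _ mem_M22_crit ctx (by decide +kernel) (isM22_M22.2.trans G_card.symm).le

noncomputable def equiv : Cfsg.Spor.M22 ≃* gen ns G_ss0 :=
  Classical.choose model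

theorem equiv_rep : ∀ g : Cfsg.Spor.M22, RepBy 24 pt (g : Equiv.Perm GolayPt) (equiv g : Equiv.Perm ℕ) :=
  Classical.choose_spec model

theorem G_supp : gen ns G_ss0 ≤ suppSub 24 :=
  gen_le_supp_of_suppW ctx (by decide +kernel)

end Cfsg.Agent.Spor.ModelM22
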