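import Cfsg.Agent.K.InvMo2
import Cfsg.Agent.Comp.LookT
import Cfsg.Agent.Spor.ModelM22

set_option autoImplicit false
set_option Elab.async false
set_option maxRecDepth 4096

namespace Cfsg.Agent.Spor.MixM22

open Cfsg.Agent.Comp

noncomputable def ns_2 : Net :=
 (Net.cons (nat_lit 16) 2116
 (Net.cons (nat_lit 8) 524352
 (Net.cons (nat_lit 4) 1284
 (Net.cons (nat_lit 2) (nat_lit 0x222002)
 (Net.cons (nat_lit 1) (nat_lit 0x440040)
 (Net.cons (nat_lit 2) (nat_lit 0x220000)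
 (Net.cons (nat_lit 4) 4
 (Net.cons (nat_lit 8) 64
 (Net.cons (nat_lit 16) 2116
 Net.nil)))))))))

noncomputable def ns_3 : Net :=
 (Net.cons (nat_lit 16) 53192
 (Net.cons (nat_lit 8) 393288
 (Net.cons (nat_lit 4) (nat_lit 0xc020804)
 (Net.cons (nat_lit 2) (nat_lit 0x1222010)
 (Net.cons (nat_lit 1) (nat_lit 0x45414010)
 (Net.cons (nat_lit 2) 131072
 (Net.cons (nat_lit 4) (nat_lit 0x80e0804)
 (Net.cons (nat_lit 8) (nat_lit 0x4a0048)
 (Net.cons (nat_lit 16) 53176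
 Net.nil)))))))))

noncomputable def ns_4 : Net :=
 (Net.cons (nat_lit 16) 38442
 (Net.cons (nat_lit 8) (nat_lit 0x340012)
 (Net.cons (nat_lit 4) (nat_lit 0x6090104)
 (Net.cons (nat_lit 2) (nat_lit 0x10110020)
 (Net.cons (nat_lit 1) (nat_lit 0x10401140)
 (Net.cons (nat_lit 2) (nat_lit 0x20000200)
 (Net.cons (nat_lit 4) (nat_lit 0x4080008)
 (Net.cons (nat_lit 8) (nat_lit 0x200012)
 (Net.cons (nat_lit 16) 38442
 Net.nil)))))))))

noncomputable def ns_5 : Net :=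
 (Net.cons (nat_lit 16) 51160
 (Net.cons (nat_lit 8) 131144
 (Net.cons (nat_lit 4) (nat_lit 0x6080804)
 (Net.cons (nat_lit 2) (nat_lit 0x1010010)
 (Net.cons (nat_lit 1) (nat_lit 0x40144010)
 (Net.cons (nat_lit 2) (nat_lit 0x20022000)
 (Net.cons (nat_lit 4) (nat_lit 0x2000804)
 (Net.cons (nat_lit 8) 131136
 (Net.cons (nat_lit 16) 51080
 Net.nil)))))))))

noncomputable def ns_6 : Net :=
 (Net.cons (nat_lit 16) 14184
 (Net.cons (nat_lit 8) (nat_lit 0x690000)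
 (Net.cons (nat_lit 4) (nat_lit 0xe010800)
 (Net.cons (nat_lit 2) (nat_lit 0x21030030)
 (Net.cons (nat_lit 1) (nat_lit 0x11044040)
 (Net.cons (nat_lit 2) 131072
 (Net.cons (nat_lit 4) (nat_lit 0x8020800)
 (Net.cons (nat_lit 8) (nat_lit 0x4a00c0)
 (Net.cons (nat_lit 16) 14160
 Net.nil)))))))))

noncomputable def ns_7 : Net :=
 (Net.cons (nat_lit 16) 61304
 (Net.cons (nat_lit 8) (nat_lit 0xb70000)
 (Net.cons (nat_lit 4) (nat_lit 0x1000000)
 (Net.cons (nat_lit 2) (nat_lit 0x12010000)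
 (Net.cons (nat_lit 1) (nat_lit 0x15410040)
 (Net.cons (nat_lit 4) (nat_lit 0x20a0008)
 (Net.cons (nat_lit 8) (nat_lit 0xb00000)
 (Net.cons (nat_lit 16) 61216
 Net.nil))))))))

noncomputable def ns_8 : Net :=
 (Net.cons (nat_lit 16) 18952
 (Net.cons (nat_lit 8) (nat_lit 0x420028)
 (Net.cons (nat_lit 4) (nat_lit 0x40e0300)
 (Net.cons (nat_lit 2) (nat_lit 0x2312310)
 (Net.cons (nat_lit 1) (nat_lit 0x4411040)
 (Net.cons (nat_lit 2) 8224
 (Net.cons (nat_lit 4) (nat_lit 0x40c0200)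
 (Net.cons (nat_lit 8) 524296
 (Net.cons (nat_lit 16) 19040
 Net.nil)))))))))

noncomputable def ns_9 : Net :=
 (Net.cons (nat_lit 16) 16752
 (Net.cons (nat_lit 8) (nat_lit 0x5d0090)
 (Net.cons (nat_lit 4) (nat_lit 0x4060600)
 (Net.cons (nat_lit 2) (nat_lit 0x12021210)
 (Net.cons (nat_lit 1) (nat_lit 0x1041010)
 (Net.cons (nat_lit 2) (nat_lit 0x2020000)
 (Net.cons (nat_lit 4) 265728
 (Net.cons (nat_lit 8) (nat_lit 0x5c0090)
 (Net.cons (nat_lit 16) 16752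
 Net.nil)))))))))

noncomputable def ns_10 : Net :=
 (Net.cons (nat_lit 16) 27872
 (Net.cons (nat_lit 8) (nat_lit 0xf40090)
 (Net.cons (nat_lit 4) (nat_lit 0x4000300)
 (Net.cons (nat_lit 2) (nat_lit 0x30210010)
 (Net.cons (nat_lit 1) (nat_lit 0x44441040)
 (Net.cons (nat_lit 2) (nat_lit 0x20200000)
 (Net.cons (nat_lit 4) (nat_lit 0x8060200)
 (Net.cons (nat_lit 8) (nat_lit 0x980090)
 (Net.cons (nat_lit 16) 27872
 Net.nil)))))))))

noncomputable def ns_11 : Net :=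
 (Net.cons (nat_lit 16) 17192
 (Net.cons (nat_lit 8) (nat_lit 0x670000)
 (Net.cons (nat_lit 4) (nat_lit 0x4050408)
 (Net.cons (nat_lit 2) (nat_lit 0x21013020)
 (Net.cons (nat_lit 1) (nat_lit 0x40010040)
 (Net.cons (nat_lit 2) (nat_lit 0x20000000)
 (Net.cons (nat_lit 4) (nat_lit 0x2040c08)
 (Net.cons (nat_lit 8) (nat_lit 0x240010)
 (Net.cons (nat_lit 16) 17192
 Net.nil)))))))))

noncomputable def ns_12 : Net :=
 (Net.cons (nat_lit 16) 39568
 (Net.cons (nat_lit 8) (nat_lit 0x6a0040)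
 (Net.cons (nat_lit 4) 525312
 (Net.cons (nat_lit 2) 8448
 (Net.cons (nat_lit 1) (nat_lit 0x50054000)
 (Net.cons (nat_lit 2) 8192
 (Net.cons (nat_lit 4) 525312
 (Net.cons (nat_lit 8) (nat_lit 0x620040)
 (Net.cons (nat_lit 16) 39552
 Net.nil)))))))))

noncomputable def ns_13 : Net :=
 (Net.cons (nat_lit 16) 43264
 (Net.cons (nat_lit 8) (nat_lit 0xf100d0)
 (Net.cons (nat_lit 4) (nat_lit 0x80c0400)
 (Net.cons (nat_lit 2) (nat_lit 0x200200)
 (Net.cons (nat_lit 1) (nat_lit 0x50404400)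
 (Net.cons (nat_lit 2) (nat_lit 0x200200)
 (Net.cons (nat_lit 4) (nat_lit 0x8040400)
 (Net.cons (nat_lit 8) (nat_lit 0xf000c0)
 (Net.cons (nat_lit 16) 43264
 Net.nil)))))))))

noncomputable def ns_14 : Net :=
 (Net.cons (nat_lit 16) 5904
 (Net.cons (nat_lit 8) (nat_lit 0x390080)
 (Net.cons (nat_lit 4) (nat_lit 0x3050800)
 (Net.cons (nat_lit 2) 8208
 (Net.cons (nat_lit 1) (nat_lit 0x4000000)
 (Net.cons (nat_lit 4) 2048
 (Net.cons (nat_lit 8) (nat_lit 0x280000)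
 (Net.cons (nat_lit 16) 5904
 Net.nil))))))))

noncomputable def ns_15 : Net :=
 (Net.cons (nat_lit 16) 5256
 (Net.cons (nat_lit 8) (nat_lit 0x140020)
 (Net.cons (nat_lit 4) (nat_lit 0x4050208)
 (Net.cons (nat_lit 2) (nat_lit 0x10312200)
 (Net.cons (nat_lit 1) 336
 (Net.cons (nat_lit 2) 512
 (Net.cons (nat_lit 4) (nat_lit 0x4000208)
 (Net.cons (nat_lit 8) 32
 (Net.cons (nat_lit 16) 5256
 Net.nil)))))))))

noncomputable def ns_16 : Net :=
 (Net.cons (nat_lit 16) 33348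
 (Net.cons (nat_lit 8) (nat_lit 0x8800a0)
 (Net.cons (nat_lit 4) 2060
 (Net.cons (nat_lit 2) (nat_lit 0x2310002)
 (Net.cons (nat_lit 1) (nat_lit 0x501444)
 (Net.cons (nat_lit 2) 2
 (Net.cons (nat_lit 4) 2060
 (Net.cons (nat_lit 8) (nat_lit 0x8800a0)
 (Net.cons (nat_lit 16) 33348
 Net.nil)))))))))

noncomputable def ns_17 : Net :=
 (Net.cons (nat_lit 16) 37476
 (Net.cons (nat_lit 8) (nat_lit 0x180014)
 (Net.cons (nat_lit 4) (nat_lit 0xa03010a)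
 (Net.cons (nat_lit 2) (nat_lit 0x20012020)
 (Net.cons (nat_lit 1) (nat_lit 0x10014044)
 (Net.cons (nat_lit 2) 8224
 (Net.cons (nat_lit 4) (nat_lit 0x2020000)
 (Net.cons (nat_lit 8) (nat_lit 0x180010)
 (Net.cons (nat_lit 16) 37412
 Net.nil)))))))))

noncomputable def ns_18 : Net :=
 (Net.cons (nat_lit 16) 15452
 (Net.cons (nat_lit 8) 786598
 (Net.cons (nat_lit 4) (nat_lit 0x40f0002)
 (Net.cons (nat_lit 2) (nat_lit 0x10232200)
 (Net.cons (nat_lit 1) (nat_lit 0x10040450)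
 (Net.cons (nat_lit 2) 131584
 (Net.cons (nat_lit 4) (nat_lit 0x40a000a)
 (Net.cons (nat_lit 8) (nat_lit 0x3800a4)
 (Net.cons (nat_lit 16) 15476
 Net.nil)))))))))

noncomputable def ns_19 : Net :=
 (Net.cons (nat_lit 16) 5728
 (Net.cons (nat_lit 8) (nat_lit 0x2c0088)
 (Net.cons (nat_lit 4) (nat_lit 0xa01080a)
 (Net.cons (nat_lit 2) (nat_lit 0x20000000)
 (Net.cons (nat_lit 1) (nat_lit 0x10000004)
 (Net.cons (nat_lit 2) (nat_lit 0x20000000)
 (Net.cons (nat_lit 4) (nat_lit 0x8000008)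
 (Net.cons (nat_lit 8) (nat_lit 0x280088)
 (Net.cons (nat_lit 16) 5664
 Net.nil)))))))))

noncomputable def ns_20 : Net :=
 (Net.cons (nat_lit 16) 42140
 (Net.cons (nat_lit 8) (nat_lit 0x6c0036)
 (Net.cons (nat_lit 4) (nat_lit 0xc08040a)
 (Net.cons (nat_lit 2) (nat_lit 0x20013130)
 (Net.cons (nat_lit 1) (nat_lit 0x4144040)
 (Net.cons (nat_lit 2) 8192
 (Net.cons (nat_lit 4) (nat_lit 0x408040a)
 (Net.cons (nat_lit 8) (nat_lit 0x680024)
 (Net.cons (nat_lit 16) 42228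
 Net.nil)))))))))

noncomputable def ns_21 : Net :=
 (Net.cons (nat_lit 16) 548
 (Net.cons (nat_lit 8) 524432
 (Net.cons (nat_lit 4) 1030
 (Net.cons (nat_lit 2) (nat_lit 0x2010122)
 (Net.cons (nat_lit 1) (nat_lit 0x101010)
 (Net.cons (nat_lit 2) 32
 (Net.cons (nat_lit 4) 1026
 (Net.cons (nat_lit 8) 524432
 (Net.cons (nat_lit 16) 548
 Net.nil)))))))))

noncomputable def ns_22 : Net :=
 (Net.cons (nat_lit 16) 600
 (Net.cons (nat_lit 8) 131084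
 (Net.cons (nat_lit 4) 262144
 (Net.cons (nat_lit 2) (nat_lit 0x202002)
 (Net.cons (nat_lit 1) (nat_lit 0x451454)
 (Net.cons (nat_lit 2) (nat_lit 0x202002)
 (Net.cons (nat_lit 4) 262144
 (Net.cons (nat_lit 8) 131084
 (Net.cons (nat_lit 16) 600
 Net.nil)))))))))

noncomputable def ns_23 : Net :=
 (Net.cons (nat_lit 16) 32326
 (Net.cons (nat_lit 8) (nat_lit 0x300080)
 (Net.cons (nat_lit 4) (nat_lit 0xe0a0000)
 (Net.cons (nat_lit 2) (nat_lit 0x32030020)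
 (Net.cons (nat_lit 1) (nat_lit 0x4440004)
 (Net.cons (nat_lit 2) (nat_lit 0x2020002)
 (Net.cons (nat_lit 4) (nat_lit 0xc0a0000)
 (Net.cons (nat_lit 8) (nat_lit 0x680000)
 (Net.cons (nat_lit 16) 32326
 Net.nil)))))))))

noncomputable def ns_24 : Net :=
 (Net.cons (nat_lit 16) 51200
 (Net.cons (nat_lit 8) (nat_lit 0xe000e8)
 (Net.cons (nat_lit 4) (nat_lit 0x8020700)
 (Net.cons (nat_lit 2) (nat_lit 0x20303100)
 (Net.cons (nat_lit 1) 267264
 (Net.cons (nat_lit 2) 8192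
 (Net.cons (nat_lit 4) (nat_lit 0x8020800)
 (Net.cons (nat_lit 8) (nat_lit 0xe000e8)
 (Net.cons (nat_lit 16) 51200
 Net.nil)))))))))

noncomputable def ns_25 : Net :=
 (Net.cons (nat_lit 16) 29124
 (Net.cons (nat_lit 8) (nat_lit 0xb8000c)
 (Net.cons (nat_lit 4) (nat_lit 0x402000c)
 (Net.cons (nat_lit 2) (nat_lit 0x21310000)
 (Net.cons (nat_lit 1) (nat_lit 0x14410440)
 (Net.cons (nat_lit 2) (nat_lit 0x200020)
 (Net.cons (nat_lit 4) (nat_lit 0x402080c)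
 (Net.cons (nat_lit 8) (nat_lit 0xb80000)
 (Net.cons (nat_lit 16) 29124
 Net.nil)))))))))

noncomputable def ns_26 : Net :=
 (Net.cons (nat_lit 16) 28236
 (Net.cons (nat_lit 8) (nat_lit 0x560030)
 (Net.cons (nat_lit 4) (nat_lit 0xa000a08)
 (Net.cons (nat_lit 2) (nat_lit 0x12220010)
 (Net.cons (nat_lit 1) (nat_lit 0x14410140)
 (Net.cons (nat_lit 2) (nat_lit 0x22200200)
 (Net.cons (nat_lit 4) (nat_lit 0xc040a08)
 (Net.cons (nat_lit 8) (nat_lit 0x560030)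
 (Net.cons (nat_lit 16) 28236
 Net.nil)))))))))

noncomputable def ns_27 : Net :=
 (Net.cons (nat_lit 16) 2162
 (Net.cons (nat_lit 8) 524310
 (Net.cons (nat_lit 4) 787716
 (Net.cons (nat_lit 2) 8208
 (Net.cons (nat_lit 1) (nat_lit 0x415014)
 (Net.cons (nat_lit 2) (nat_lit 0x200000)
 (Net.cons (nat_lit 4) 787462
 (Net.cons (nat_lit 8) 524322
 (Net.cons (nat_lit 16) 2096
 Net.nil)))))))))

noncomputable def ns_28 : Net :=
 (Net.cons (nat_lit 16) 61282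
 (Net.cons (nat_lit 8) (nat_lit 0xbe0038)
 (Net.cons (nat_lit 4) (nat_lit 0xc020804)
 (Net.cons (nat_lit 2) (nat_lit 0x10202012)
 (Net.cons (nat_lit 1) (nat_lit 0x11451044)
 (Net.cons (nat_lit 2) (nat_lit 0x20200002)
 (Net.cons (nat_lit 4) (nat_lit 0x80c0804)
 (Net.cons (nat_lit 8) (nat_lit 0xb00028)
 (Net.cons (nat_lit 16) 61306
 Net.nil)))))))))

noncomputable def ns_29 : Net :=
 (Net.cons (nat_lit 16) 53440
 (Net.cons (nat_lit 8) (nat_lit 0x700000)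
 (Net.cons (nat_lit 4) 786440
 (Net.cons (nat_lit 2) (nat_lit 0x30120320)
 (Net.cons (nat_lit 1) (nat_lit 0x50040500)
 (Net.cons (nat_lit 2) 131072
 (Net.cons (nat_lit 4) 262152
 (Net.cons (nat_lit 8) (nat_lit 0x700000)
 (Net.cons (nat_lit 16) 53440
 Net.nil)))))))))

noncomputable def ns_30 : Net :=
 (Net.cons (nat_lit 16) 264
 (Net.cons (nat_lit 8) 131236
 (Net.cons (nat_lit 4) 2048
 (Net.cons (nat_lit 2) 512
 (Net.cons (nat_lit 1) (nat_lit 0x1145044)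
 (Net.cons (nat_lit 4) 2048
 (Net.cons (nat_lit 8) 131236
 (Net.cons (nat_lit 16) 264
 Net.nil))))))))

noncomputable def ns_31 : Net :=
 (Net.cons (nat_lit 16) 7904
 (Net.cons (nat_lit 8) (nat_lit 0x800080)
 (Net.cons (nat_lit 4) (nat_lit 0xa05040a)
 (Net.cons (nat_lit 2) (nat_lit 0x230102)
 (Net.cons (nat_lit 1) (nat_lit 0x14400004)
 (Net.cons (nat_lit 2) (nat_lit 0x20200000)
 (Net.cons (nat_lit 4) (nat_lit 0x2060408)
 (Net.cons (nat_lit 8) (nat_lit 0x8e0080)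
 (Net.cons (nat_lit 16) 7848
 Net.nil)))))))))

noncomputable def ns_32 : Net :=
 (Net.cons (nat_lit 16) 38634
 (Net.cons (nat_lit 8) (nat_lit 0x5a0002)
 (Net.cons (nat_lit 4) (nat_lit 0xc03080c)
 (Net.cons (nat_lit 2) (nat_lit 0x10010000)
 (Net.cons (nat_lit 1) (nat_lit 0x44014140)
 (Net.cons (nat_lit 2) (nat_lit 0x2000020)
 (Net.cons (nat_lit 4) 2056
 (Net.cons (nat_lit 8) (nat_lit 0xd80002)
 (Net.cons (nat_lit 16) 38542
 Net.nil)))))))))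

noncomputable def ns_33 : Net :=
 (Net.cons (nat_lit 16) 24246
 (Net.cons (nat_lit 8) (nat_lit 0x540082)
 (Net.cons (nat_lit 4) (nat_lit 0xc0c020c)
 (Net.cons (nat_lit 2) (nat_lit 0x32020010)
 (Net.cons (nat_lit 1) (nat_lit 0x14150154)
 (Net.cons (nat_lit 2) (nat_lit 0x22000000)
 (Net.cons (nat_lit 4) (nat_lit 0x8040008)
 (Net.cons (nat_lit 8) (nat_lit 0x1a0082)
 (Net.cons (nat_lit 16) 24246
 Net.nil)))))))))

noncomputable def ns : List Net := [ModelM22.ns_0, ModelM22.ns_1, ns_2, ns_3, ns_4, ns_5, ns_6, ns_7, ns_8, ns_9, ns_10, ns_11, ns_12, ns_13, ns_14, ns_15, ns_16, ns_17, ns_18, ns_19, ns_20, ns_21, ns_22, ns_23, ns_24, ns_25, ns_26, ns_27, ns_28, ns_29, ns_30, ns_31, ns_32, ns_33]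

theorem ctx : Ctx 32 5 ns := ctx_of (by decide +kernel)

theorem lctx : LCtx 32 5 8 31 trN5 ns := lctx_of ctx trOK5 (by decide +kernel)

noncomputable def E : List ℕ → ℕ → ℕ := pfW0 32 5 8 31 trN5 ns

theorem hE : Evl 32 ns E := evl_pfW0 lctx

open Cfsg.Agent.K Cfsg.Agent.Comp.IC

theorem geq : gen ModelM22.ns ModelM22.G_ss0 = gen ns [[0], [2]] :=
  gen_eq_of_take (ns := ModelM22.ns) (ns' := ns) (k := 2) rfl (ws := ModelM22.G_ss0) (by decide +kernel)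

theorem hn : Nat.card (gen ns [[0], [2]]) = 443520 :=
  geq ▸ ModelM22.G_card

noncomputable def equiv : Cfsg.Spor.M22 ≃* ↥(gen ns [[0], [2]]) :=
  ModelM22.equiv.trans (MulEquiv.subgroupCongr geq)

theorem kn_0 : Known ns (gen ns [[0], [2]]) 3 :=
  known_gen (by decide +kernel)

noncomputable def S_S5 : List SD :=
  []

noncomputable def S_d4 : SD :=
  ⟨4, 1, [24, 26, 28, 30], lab 3 7 (nat_lit 0x190d84c32da4d00000), 4⟩

noncomputable def S_S4 : List SD :=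
  S_d4 :: S_S5

noncomputable def S_d3 : SD :=
  ⟨5, 1, [18, 20, 22, 24, 26, 28, 30], lab 4 15 (nat_lit 0x100000000000000), 1⟩

noncomputable def S_S3 : List SD :=
  S_d3 :: S_S4

noncomputable def S_d2 : SD :=
  ⟨3, 1, [12, 14, 16, 18, 20, 22, 24, 26, 28, 30], lab 5 31 (nat_lit 0x961048c619ca1640071888a00000), 2⟩

noncomputable def S_S2 : List SD :=
  S_d2 :: S_S3

noncomputable def S_d1 : SD :=
  ⟨2, 1, [6, 8, 10, 12, 14, 16, 18, 20, 22, 24, 26, 28, 30], lab 5 31 (nat_lit 0x30241b0eb39c511c1c6108a038000), 2⟩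

noncomputable def S_S1 : List SD :=
  S_d1 :: S_S2

noncomputable def S_d0 : SD :=
  ⟨1, 1, [0, 2, 4, 6, 8, 10, 12, 14, 16, 18, 20, 22, 24, 26, 28, 30], lab 5 31 (nat_lit 0x480bb4db1034d33b3984086a21800), 2⟩

noncomputable def S_S0 : List SD :=
  S_d0 :: S_S1

theorem kn_1 : Known ns (gen ns [[0], [2]]) 65535 :=
  kn_0.steps ctx (es := [(2, [3, 3, 3, 1, 3]),
 (3, [3, 3, 5, 1, 2, 4, 2, 0]),
 (4, [3, 5, 0, 3, 0, 2]),
 (5, [7, 7, 7]),
 (6, [9, 10, 8, 10]),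
 (7, [6, 9, 7, 11, 11, 6, 9, 11]),
 (8, [15, 12, 15]),
 (9, [15, 12, 14, 12, 16, 13]),
 (10, [13, 16, 13, 13]),
 (11, [15, 12, 12, 17, 14, 17]),
 (12, [19, 20]),
 (13, [19, 20, 22, 19]),
 (14, [20, 18, 23, 21]),
 (15, [19, 20, 22, 21, 19, 22])]) (by decide +kernel)

theorem S_ex : Exact 32 ns S_S0 ∧ gen ns (sTop S_S0) = gen ns [[0], [2]] ∧ gen ns [[0], [2]] = gen ns [[0], [2]] :=
  exact_of_known ctx hn (le_rfl) kn_1 (by decide +kernel)

noncomputable def CaG_S5 : List SD :=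
  []

noncomputable def CaG_d4 : SD :=
  ⟨11, 2, [46], lab 1 1 (nat_lit 0x200000), 1⟩

noncomputable def CaG_S4 : List SD :=
  CaG_d4 :: CaG_S5

noncomputable def CaG_d3 : SD :=
  ⟨8, 2, [48, 50, 46], lab 3 7 (nat_lit 0x20610083b28000a00), 3⟩

noncomputable def CaG_S3 : List SD :=
  CaG_d3 :: CaG_S4

noncomputable def CaG_d2 : SD :=
  ⟨22, 2, [52, 48, 50, 46], lab 3 7 (nat_lit 0xf0a8b419b4500c00), 3⟩

noncomputable def CaG_S2 : List SD :=
  CaG_d2 :: CaG_S3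

noncomputable def CaG_d1 : SD :=
  ⟨1, 2, [54, 52, 48, 50, 46], lab 4 15 (nat_lit 0x20338014466793167309200), 3⟩

noncomputable def CaG_S1 : List SD :=
  CaG_d1 :: CaG_S2

noncomputable def CaG_d0 : SD :=
  ⟨4, 2, [56, 54, 52, 48, 50, 46], lab 4 15 (nat_lit 0x51302b444543865bb009200), 3⟩

noncomputable def CaG_S0 : List SD :=
  CaG_d0 :: CaG_S1

theorem kn_2 : Known ns (gen ns [[0], [2]]) 17179869183 :=
  kn_1.steps ctx (es := [(16, [18, 0, 9, 13, 24]),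
 (17, [0, 9, 6, 22, 13, 19]),
 (18, [11, 0, 18, 6, 19, 30, 24]),
 (19, [0, 11, 13, 14, 18, 26, 24]),
 (20, [22, 0, 28, 12, 19, 24]),
 (21, [17, 7, 13, 14, 18, 28, 26]),
 (22, [12, 2, 13, 6, 18, 12, 18, 30, 26, 24]),
 (23, [8, 6, 15, 30, 28, 26, 24]),
 (24, [28, 12, 19, 30, 26]),
 (25, [17, 7, 30, 13, 18, 28, 26]),
 (26, [10, 19, 30, 28, 26]),
 (27, [13, 2, 13, 6, 17, 12, 19, 28]),
 (28, [17, 0, 18, 7, 14, 19, 28, 26, 24]),
 (29, [47, 48, 46]),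
 (30, [50, 48, 46]),
 (31, [48, 54, 51, 52, 46, 48]),
 (32, [46, 54, 52, 50, 52, 48, 51]),
 (33, [55, 56, 50, 55, 50, 53, 47, 48, 46])]) (by decide +kernel)

theorem CaG_ex : Exact 32 ns CaG_S0 ∧ gen ns (sTop CaG_S0) = gen ns [[0], [2]] ∧ gen ns [[0], [2]] = gen ns [[0], [2]] :=
  exact_of_known ctx hn (le_rfl) kn_2 (by decide +kernel)

noncomputable def Ca_as : List (List ℕ) :=
  [[32]]

noncomputable def Ca_p : List (List ℕ × List ℕ) :=
  derAs (dg Ca_as) [[0]]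

noncomputable def Ca_s : List (ℕ × ℕ) :=
  derSs 32 5 ns (dg Ca_as) [[0]]

noncomputable def Ca_k0 : List (List ℕ) :=
  [[66], [62], [64], [58], [60]]

noncomputable def Ca_k1 : List (List ℕ) :=
  [[62], [64], [58], [60]]

noncomputable def Ca_k2 : List (List ℕ) :=
  [[58], [60]]

noncomputable def Ca_k3 : List (List ℕ) :=
  [[58], [60]]

noncomputable def Ca_k4 : List (List ℕ) :=
  []

noncomputable def Ca_k5 : List (List ℕ) :=
  []

theorem Ca_cm : commB 32 5 ns (dg Ca_as) Ca_k0 = true :=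
  by decide +kernel

theorem Ca_g0 : Good 32 ns Ca_p Ca_s (gen ns (sTop CaG_S0)) Ca_k0 :=
  good_der ctx kn_2 (CaG_ex.2.1.trans CaG_ex.2.2.symm) _ _ ((and'_eq_true _ _).2 ⟨by decide +kernel, Ca_cm⟩)

theorem Ca_g1 : Good 32 ns Ca_p Ca_s (gen ns (sTop CaG_S1)) Ca_k1 :=
  Ca_g0.tail ctx CaG_ex.1 (by decide +kernel)

theorem Ca_g2 : Good 32 ns Ca_p Ca_s (gen ns (sTop CaG_S2)) Ca_k2 :=
  Ca_g1.tail ctx CaG_ex.1.tail (by decide +kernel)

theorem Ca_g3 : Good 32 ns Ca_p Ca_s (gen ns (sTop CaG_S3)) Ca_k3 :=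
  Ca_g2.tail ctx CaG_ex.1.tail.tail (by decide +kernel)

theorem Ca_g4 : Good 32 ns Ca_p Ca_s (gen ns (sTop CaG_S4)) Ca_k4 :=
  Ca_g3.tail ctx CaG_ex.1.tail.tail.tail (by decide +kernel)

theorem Ca_l5 : LevX 32 ns Ca_p Ca_s (gen ns (sTop CaG_S5)) Ca_k5 1 :=
  levX_nil _ _ _ _

theorem Ca_l4 : LevX 32 ns Ca_p Ca_s (gen ns (sTop CaG_S4)) Ca_k4 1 :=
  Ca_l5.step ctx CaG_ex.1.tail.tail.tail.tail Ca_g4 (br_zero _ _ _ _ _ _ _) [] 0 0 (by decide +kernel)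

theorem Ca_l3 : LevX 32 ns Ca_p Ca_s (gen ns (sTop CaG_S3)) Ca_k3 4 :=
  Ca_l4.step ctx CaG_ex.1.tail.tail.tail Ca_g3 (br_zero _ _ _ _ _ _ _) [] 1 1 (by decide +kernel)

theorem Ca_l2 : LevX 32 ns Ca_p Ca_s (gen ns (sTop CaG_S2)) Ca_k2 4 :=
  Ca_l3.step ctx CaG_ex.1.tail.tail Ca_g2 (br_zero _ _ _ _ _ _ _) [(0, 1, 0)] 0 0 (by decide +kernel)

theorem Ca_l1 : LevX 32 ns Ca_p Ca_s (gen ns (sTop CaG_S1)) Ca_k1 64 :=
  Ca_l2.step ctx CaG_ex.1.tail Ca_g1 (br_zero _ _ _ _ _ _ _) [] 2 2 (by decide +kernel)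

theorem Ca_l0 : LevX 32 ns Ca_p Ca_s (gen ns (sTop CaG_S0)) Ca_k0 384 :=
  Ca_l1.step ctx CaG_ex.1 Ca_g0 (br_zero _ _ _ _ _ _ _) [] 2 2 (by decide +kernel)

theorem Ca : CentEq ns (gen ns [[0], [2]]) Ca_as Ca_k0 384 :=
  centEq_of ctx CaG_ex.2.1 Ca_l0 Ca_g0 Ca_cm

noncomputable def bs : List ℕ :=
  [1, 2, 3, 5, 4]

theorem mb : MB 32 5 ns (gen ns [[0], [2]]) 17179869183 E bs :=
  ⟨⟨ctx, kn_2, gen_le_supp ctx.ok _⟩, hE, bas_of_exact S_ex.1 S_ex.2.1 (by decide +kernel)⟩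

instance fin : Finite Cfsg.Spor.M22 := mb.m.finite equiv

noncomputable def top : List ℕ := [34, 36, 38, 40, 42, 44, 32]

noncomputable def ts : List (List ℕ) := [[32]]

theorem nc : Nc (ev equiv ns) top :=
  (mb.wm equiv).nc (hs := [([32], [[36, 40, 32], [38, 32], [40, 32], [42, 44, 32], [44], [32]]),
 ([40, 42, 32], [[38, 40, 42], [40, 44], [42, 44], [44, 32], [32]]),
 ([], [[40, 44, 32], [42, 44, 32], [44], [32]]),
 ([32], [[42, 32], [44], [32]]),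
 ([], [[44], [32]]),
 ([], [[32]]),
 ([], [])]) (by decide +kernel)

theorem lb : 2 ^ top.length ≤ Nat.card (sg (ev equiv ns) top) :=
  le_card_sg mb.m equiv [(1, 3, [[36, 32], [], [34, 38, 32], [], [36, 38, 42, 44]]),
 (2, 2, [[], [34, 38, 32], [], [36, 38, 42, 44]]),
 (3, 1, [[], [36, 38, 42, 44]])] (by decide +kernel)

theorem ser : Ser (ev equiv ns) top := nc.ser lb

noncomputable def cv1c : CT :=
  (.two (.two (.two (.two (.two (.two .triv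
 (.lf [] [32]))
 (.one [36] [] (.lf [0, 3, 11, 19, 12, 26, 24] [32])))
 (.one [36] [] (.one [40] [] (.lf [0, 3, 8, 18, 30, 26] [32]))))
 (.two (.one [36] [] (.one [34] [] (.no [])))
 (.one [34] [] (.one [40] [] (.lf [4, 8, 7, 15, 12, 18] [32])))))
 (.one [36] [42] (.two (.one [40] [32] (.one [34] [] (.lf [19, 2, 11, 15, 30, 26, 24] [32])))
 (.one [34] [] (.no [32])))))
 (.two (.one [34] [32] (.no [42, 32]))
 (.one [36] [42] (.one [34, 38] [] (.two (.one [44] [] (.no []))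
 (.one [44] [] (.lf [3, 9, 6, 18, 30, 26] [32])))))))

theorem cv1 : Cv (ev equiv ns) ts [36, 38, 40, 42, 44, 32] [] :=
  ser.cv' (mb.wm equiv) cv1c 0 (p := 34) (by decide +kernel)

noncomputable def cv2c : CT :=
  (.two (.two (.one [36] [44, 32] (.two (.one [42] [32] (.one [38] [] (.no [])))
 (.one [38] [] (.no []))))
 (.two (.one [36] [32] (.one [40] [] (.one [34] [] (.lf [19, 0, 13, 8, 17, 12, 24] [32]))))
 (.one [36] [44] (.one [38] [] (.no [32])))))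
 (.two (.one [34] [32] (.one [36, 38] [32] (.no [44])))
 (.one [34] [44, 32] (.no [44]))))

theorem cv2 : Cv (ev equiv ns) ts [36, 38, 40, 42, 44, 32] [34] :=
  ser.cv' (mb.wm equiv) cv2c 0 (p := 34) (by decide +kernel)

theorem cv0 : Cv (ev equiv ns) ts [34, 36, 38, 40, 42, 44, 32] [] :=
  ser.two (mb.wm equiv) 0 (by decide +kernel) cv1 cv2

theorem Ca_mix : MixG (Subgroup.centralizer ({ev equiv ns [32]} : Set Cfsg.Spor.M22)) :=
  mb.mix_card equiv Ca 7 3 (by decide +kernel) (by norm_num)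

theorem invMix : InvMix Cfsg.Spor.M22 :=
  mb.invMix equiv hn nc lb (by decide +kernel) cv0 (List.forall_mem_cons.2 ⟨Ca_mix, fun _ h => absurd h List.not_mem_nil⟩)

end Cfsg.Agent.Spor.MixM22
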