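import Cfsg.Agent.Spor.GolayModel
import Cfsg.Agent.Spor.M24Basic

set_option autoImplicit false
set_option maxRecDepth 4096

namespace Cfsg.Agent.Spor.ModelM23

open Cfsg.Agent.Comp

noncomputable def ns_0 : Net :=
 (Net.cons (nat_lit 16) 6224
 (Net.cons (nat_lit 8) (nat_lit 0x700020)
 (Net.cons (nat_lit 4) (nat_lit 0x802080c)
 (Net.cons (nat_lit 2) (nat_lit 0x30010010)
 (Net.cons (nat_lit 1) (nat_lit 0x100400)
 (Net.cons (nat_lit 4) (nat_lit 0x8020804)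
 (Net.cons (nat_lit 8) (nat_lit 0x700000)
 (Net.cons (nat_lit 16) 6224
 Net.nil))))))))

noncomputable def ns_1 : Net :=
 (Net.cons (nat_lit 16) 36477
 (Net.cons (nat_lit 8) (nat_lit 0x220068)
 (Net.cons (nat_lit 4) (nat_lit 0x201060f)
 (Net.cons (nat_lit 2) (nat_lit 0x2030110)
 (Net.cons (nat_lit 1) 263428
 (Net.cons (nat_lit 2) 131074
 (Net.cons (nat_lit 4) (nat_lit 0x800060c)
 (Net.cons (nat_lit 8) (nat_lit 0x260068)
 (Net.cons (nat_lit 16) 36456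
 Net.nil)))))))))

noncomputable def ns_2 : Net :=
 (Net.cons (nat_lit 16) 37506
 (Net.cons (nat_lit 8) 262206
 (Net.cons (nat_lit 4) (nat_lit 0x6000d08)
 (Net.cons (nat_lit 2) (nat_lit 0x30001100)
 (Net.cons (nat_lit 1) (nat_lit 0x40404140)
 (Net.cons (nat_lit 2) (nat_lit 0x20002020)
 (Net.cons (nat_lit 4) (nat_lit 0x6000a08)
 (Net.cons (nat_lit 8) (nat_lit 0x840012)
 (Net.cons (nat_lit 16) 37504
 Net.nil)))))))))

noncomputable def ns_3 : Net :=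
 (Net.cons (nat_lit 16) 65136
 (Net.cons (nat_lit 8) (nat_lit 0xda0040)
 (Net.cons (nat_lit 4) (nat_lit 0x6000404)
 (Net.cons (nat_lit 2) (nat_lit 0x12330112)
 (Net.cons (nat_lit 1) (nat_lit 0x10540000)
 (Net.cons (nat_lit 2) 131072
 (Net.cons (nat_lit 4) (nat_lit 0x200040c)
 (Net.cons (nat_lit 8) (nat_lit 0xe20040)
 (Net.cons (nat_lit 16) 65104
 Net.nil)))))))))

noncomputable def ns_4 : Net :=
 (Net.cons (nat_lit 16) 1360
 (Net.cons (nat_lit 8) (nat_lit 0x2000e8)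
 (Net.cons (nat_lit 4) (nat_lit 0x2010c0b)
 (Net.cons (nat_lit 2) 560
 (Net.cons (nat_lit 1) (nat_lit 0x1041414)
 (Net.cons (nat_lit 2) 139810
 (Net.cons (nat_lit 4) (nat_lit 0x204060c)
 (Net.cons (nat_lit 8) (nat_lit 0x240062)
 (Net.cons (nat_lit 16) 1312
 Net.nil)))))))))

noncomputable def ns_5 : Net :=
 (Net.cons (nat_lit 16) 32688
 (Net.cons (nat_lit 8) (nat_lit 0xd20080)
 (Net.cons (nat_lit 4) (nat_lit 0x60c000c)
 (Net.cons (nat_lit 2) (nat_lit 0x32110000)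
 (Net.cons (nat_lit 1) (nat_lit 0x5410004)
 (Net.cons (nat_lit 2) (nat_lit 0x200002)
 (Net.cons (nat_lit 4) (nat_lit 0x60a0004)
 (Net.cons (nat_lit 8) (nat_lit 0xee0080)
 (Net.cons (nat_lit 16) 32656
 Net.nil)))))))))

noncomputable def ns_6 : Net :=
 (Net.cons (nat_lit 16) 65336
 (Net.cons (nat_lit 8) (nat_lit 0x270000)
 (Net.cons (nat_lit 4) (nat_lit 0xe05000a)
 (Net.cons (nat_lit 2) (nat_lit 0x10310000)
 (Net.cons (nat_lit 1) (nat_lit 0x44400040)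
 (Net.cons (nat_lit 2) (nat_lit 0x22200020)
 (Net.cons (nat_lit 4) (nat_lit 0x2040000)
 (Net.cons (nat_lit 8) (nat_lit 0x440000)
 (Net.cons (nat_lit 16) 65320
 Net.nil)))))))))

noncomputable def ns_7 : Net :=
 (Net.cons (nat_lit 16) 20682
 (Net.cons (nat_lit 8) (nat_lit 0xa0001a)
 (Net.cons (nat_lit 4) 527620
 (Net.cons (nat_lit 2) (nat_lit 0x323002)
 (Net.cons (nat_lit 1) (nat_lit 0x40141104)
 (Net.cons (nat_lit 2) (nat_lit 0x20220202)
 (Net.cons (nat_lit 4) 790016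
 (Net.cons (nat_lit 8) (nat_lit 0xf00010)
 (Net.cons (nat_lit 16) 20620
 Net.nil)))))))))

noncomputable def ns_8 : Net :=
 (Net.cons (nat_lit 16) 59744
 (Net.cons (nat_lit 8) (nat_lit 0x6200b8)
 (Net.cons (nat_lit 4) (nat_lit 0xc090a00)
 (Net.cons (nat_lit 2) (nat_lit 0x21212000)
 (Net.cons (nat_lit 1) (nat_lit 0x1101400)
 (Net.cons (nat_lit 2) (nat_lit 0x2202000)
 (Net.cons (nat_lit 4) (nat_lit 0xc0c0000)
 (Net.cons (nat_lit 8) (nat_lit 0x4200a8)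
 (Net.cons (nat_lit 16) 59648
 Net.nil)))))))))

noncomputable def ns_9 : Net :=
 (Net.cons (nat_lit 16) 42928
 (Net.cons (nat_lit 8) (nat_lit 0x5f0020)
 (Net.cons (nat_lit 4) (nat_lit 0x2040800)
 (Net.cons (nat_lit 2) (nat_lit 0x33000010)
 (Net.cons (nat_lit 1) (nat_lit 0x45404000)
 (Net.cons (nat_lit 2) (nat_lit 0x20202000)
 (Net.cons (nat_lit 4) (nat_lit 0xa040800)
 (Net.cons (nat_lit 8) (nat_lit 0x580070)
 (Net.cons (nat_lit 16) 42984
 Net.nil)))))))))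

noncomputable def ns_10 : Net :=
 (Net.cons (nat_lit 16) 54564
 (Net.cons (nat_lit 8) (nat_lit 0x790012)
 (Net.cons (nat_lit 4) (nat_lit 0xd010008)
 (Net.cons (nat_lit 2) (nat_lit 0x1100202)
 (Net.cons (nat_lit 1) (nat_lit 0x14011044)
 (Net.cons (nat_lit 2) 2
 (Net.cons (nat_lit 4) 512
 (Net.cons (nat_lit 8) (nat_lit 0x680038)
 (Net.cons (nat_lit 16) 54534
 Net.nil)))))))))

noncomputable def ns_11 : Net :=
 (Net.cons (nat_lit 16) 1280
 (Net.cons (nat_lit 8) (nat_lit 0x6000b0)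
 (Net.cons (nat_lit 4) (nat_lit 0x6010a00)
 (Net.cons (nat_lit 2) 48
 (Net.cons (nat_lit 1) (nat_lit 0x1041000)
 (Net.cons (nat_lit 4) (nat_lit 0x2000200)
 (Net.cons (nat_lit 8) (nat_lit 0x6000b0)
 (Net.cons (nat_lit 16) 1280
 Net.nil))))))))

noncomputable def ns_12 : Net :=
 (Net.cons (nat_lit 16) 21044
 (Net.cons (nat_lit 8) (nat_lit 0x6a0040)
 (Net.cons (nat_lit 4) (nat_lit 0x8030804)
 (Net.cons (nat_lit 2) (nat_lit 0x30100110)
 (Net.cons (nat_lit 1) (nat_lit 0x40100010)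
 (Net.cons (nat_lit 4) (nat_lit 0xa020404)
 (Net.cons (nat_lit 8) (nat_lit 0x3800c0)
 (Net.cons (nat_lit 16) 21044
 Net.nil))))))))

noncomputable def ns_13 : Net :=
 (Net.cons (nat_lit 16) 27872
 (Net.cons (nat_lit 8) (nat_lit 0xf40090)
 (Net.cons (nat_lit 4) (nat_lit 0x4000300)
 (Net.cons (nat_lit 2) (nat_lit 0x30210010)
 (Net.cons (nat_lit 1) (nat_lit 0x44441040)
 (Net.cons (nat_lit 2) (nat_lit 0x20200000)
 (Net.cons (nat_lit 4) (nat_lit 0x8060200)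
 (Net.cons (nat_lit 8) (nat_lit 0x980090)
 (Net.cons (nat_lit 16) 27872
 Net.nil)))))))))

noncomputable def ns_14 : Net :=
 (Net.cons (nat_lit 16) 8252
 (Net.cons (nat_lit 8) (nat_lit 0x2a00d4)
 (Net.cons (nat_lit 4) (nat_lit 0x206050c)
 (Net.cons (nat_lit 2) (nat_lit 0x2010330)
 (Net.cons (nat_lit 1) 65616
 (Net.cons (nat_lit 4) 396292
 (Net.cons (nat_lit 8) (nat_lit 0x2a00d0)
 (Net.cons (nat_lit 16) 8252
 Net.nil))))))))

noncomputable def ns_15 : Net :=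
 (Net.cons (nat_lit 16) 26660
 (Net.cons (nat_lit 8) (nat_lit 0x6a00a4)
 (Net.cons (nat_lit 4) (nat_lit 0x20e0604)
 (Net.cons (nat_lit 2) (nat_lit 0x20213000)
 (Net.cons (nat_lit 1) (nat_lit 0x40111140)
 (Net.cons (nat_lit 2) (nat_lit 0x20202000)
 (Net.cons (nat_lit 4) 918528
 (Net.cons (nat_lit 8) 131104
 (Net.cons (nat_lit 16) 26660
 Net.nil)))))))))

noncomputable def ns : List Net := [ns_0, ns_1, ns_2, ns_3, ns_4, ns_5, ns_6, ns_7, ns_8, ns_9, ns_10, ns_11, ns_12, ns_13, ns_14, ns_15]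

theorem ctx : Ctx 32 5 ns := ctx_of (by decide +kernel)

noncomputable def G_C6 : List Lvl :=
  []

noncomputable def G_ss5 : List (List ℕ) :=
  [[30]]

noncomputable def G_D5 : ℕ :=
  147488

noncomputable def G_l5 : Lvl :=
  ⟨5, [[30]],
  tabA [(14, 1280), (17, 1281)], 1⟩

noncomputable def G_C5 : List Lvl :=
  G_l5 :: G_C6

noncomputable def G_ss4 : List (List ℕ) :=
  [[22], [24], [26]]

noncomputable def G_D4 : ℕ :=
  nat_lit 0x7dbfd0

noncomputable def G_l4 : Lvl :=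
  ⟨4, [[22], [24], [26], [30]],
  tabC 13 8191 [nat_lit 0x100920f0004814c00000403b020002c0e903802d800800405982200c0000000000000000000], 3⟩

noncomputable def G_C4 : List Lvl :=
  G_l4 :: G_C5

noncomputable def G_ss3 : List (List ℕ) :=
  [[16], [18]]

noncomputable def G_D3 : ℕ :=
  nat_lit 0x7ffff8

noncomputable def G_l3 : Lvl :=
  ⟨3, [[16], [18], [28], [22], [24], [26], [30]],
  tabC 13 8191 [nat_lit 0x281940b301181a81060aa0b18114254043015050c01810a095002820608c010000000000000], 2⟩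

noncomputable def G_C3 : List Lvl :=
  G_l3 :: G_C4

noncomputable def G_ss2 : List (List ℕ) :=
  [[10], [12]]

noncomputable def G_D2 : ℕ :=
  nat_lit 0x7ffffa

noncomputable def G_l2 : Lvl :=
  ⟨1, [[10], [12], [20], [16], [18], [28], [22], [24], [26], [30]],
  tabC 13 8191 [nat_lit 0x181820460a301184cc115043005422a0a104a84983ea0e60b08184006147060808000000000], 2⟩

noncomputable def G_C2 : List Lvl :=
  G_l2 :: G_C3

noncomputable def G_ss1 : List (List ℕ) :=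
  [[4], [6]]

noncomputable def G_D1 : ℕ :=
  nat_lit 0x7ffffe

noncomputable def G_l1 : Lvl :=
  ⟨2, [[4], [6], [14], [10], [12], [20], [16], [18], [28], [22], [24], [26], [30]],
  tabC 13 8191 [nat_lit 0x282d4222022022841406a065051025410a0750b080140aa04506081541e2015068000c0e000], 2⟩

noncomputable def G_C1 : List Lvl :=
  G_l1 :: G_C2

noncomputable def G_ss0 : List (List ℕ) :=
  [[0], [2]]

noncomputable def G_D0 : ℕ :=
  nat_lit 0x7fffff

noncomputable def G_l0 : Lvl :=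
  ⟨0, [[0], [2], [8], [4], [6], [14], [10], [12], [20], [16], [18], [28], [22], [24], [26], [30]],
  tabC 13 8191 [nat_lit 0x5052834002a08d06e02140480ad04283b40aa0f503840b41660f505d80940f6050015822000], 3⟩

noncomputable def G_C0 : List Lvl :=
  G_l0 :: G_C1

theorem G_ver6 : Ver ns G_C6 1 :=
  ver_nil _

theorem G_le5 : gen ns G_l5.ws ≤ gen ns G_ss5 :=
  gen_le_step ctx (tgt := [])
  (es := []) (le_refl (gen _ [])) (by decide +kernel)

theorem G_lv5 : chkLvl 32 ns G_l5 G_C6 G_D5 2 = true :=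
  by decide +kernel

theorem G_pt5_0 : AllIn (PtOK 32 ns G_l5 G_C6 G_ss5 G_D5) 0 64 :=
  ptOK_of_chkPts ctx G_ver6 (a := 0) (n := 1) (by decide +kernel)

theorem G_st5 : IsStab 32 (gen ns G_l5.ws) (cgrp ns G_C6) G_l5.b G_D5 :=
  isStab_plain ctx G_le5 G_lv5 (by norm_num) G_pt5_0

theorem G_ver5 : Ver ns G_C5 3 :=
  G_ver6.cons ctx G_st5 (by decide +kernel)

theorem G_le4 : gen ns G_l4.ws ≤ gen ns G_ss4 :=
  gen_le_step ctx (tgt := [[30]])
  (es := [([30], [3, 5, 1, 5, 5, 2, 0, 5])]) G_le5 (by decide +kernel)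

theorem G_lv4 : chkLvl 32 ns G_l4 G_C5 G_D4 2 = true :=
  by decide +kernel

theorem G_pt4_0 : AllIn (PtOK 32 ns G_l4 G_C5 G_ss4 G_D4) 0 64 :=
  ptOK_of_chkPts ctx G_ver5 (a := 0) (n := 1) (by decide +kernel)

theorem G_st4 : IsStab 32 (gen ns G_l4.ws) (cgrp ns G_C5) G_l4.b G_D4 :=
  isStab_plain ctx G_le4 G_lv4 (by norm_num) G_pt4_0

theorem G_ver4 : Ver ns G_C4 48 :=
  G_ver5.cons ctx G_st4 (by decide +kernel)

theorem G_le3 : gen ns G_l3.ws ≤ gen ns G_ss3 :=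
  gen_le_step ctx (tgt := [[22], [24], [26], [28]])
  (es := [([22], [1, 1, 2, 1, 3, 1, 3]), ([24], [5, 5, 2, 5]), ([26], [5, 6, 5, 7, 5, 5]), ([28], [9, 7, 7, 7, 7])]) G_le4 (by decide +kernel)

theorem G_lv3 : chkLvl 32 ns G_l3 G_C4 G_D3 1 = true :=
  by decide +kernel

theorem G_pt3_0 : AllIn (PtOK 32 ns G_l3 G_C4 G_ss3 G_D3) 0 64 :=
  ptOK_of_chkPts ctx G_ver4 (a := 0) (n := 1) (by decide +kernel)

theorem G_st3 : IsStab 32 (gen ns G_l3.ws) (cgrp ns G_C4) G_l3.b G_D3 :=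
  isStab_plain ctx G_le3 G_lv3 (by norm_num) G_pt3_0

theorem G_ver3 : Ver ns G_C3 960 :=
  G_ver4.cons ctx G_st3 (by decide +kernel)

theorem G_le2 : gen ns G_l2.ws ≤ gen ns G_ss2 :=
  gen_le_step ctx (tgt := [[16], [18], [20]])
  (es := [([16], [0, 3, 0, 0, 0, 0, 3, 1]), ([18], [5, 2, 5, 2, 4]), ([20], [7, 7, 4, 4])]) G_le3 (by decide +kernel)

theorem G_lv2 : chkLvl 32 ns G_l2 G_C3 G_D2 1 = true :=
  by decide +kernel

theorem G_pt2_0 : AllIn (PtOK 32 ns G_l2 G_C3 G_ss2 G_D2) 0 64 :=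
  ptOK_of_chkPts ctx G_ver3 (a := 0) (n := 1) (by decide +kernel)

theorem G_st2 : IsStab 32 (gen ns G_l2.ws) (cgrp ns G_C3) G_l2.b G_D2 :=
  isStab_plain ctx G_le2 G_lv2 (by norm_num) G_pt2_0

theorem G_ver2 : Ver ns G_C2 20160 :=
  G_ver3.cons ctx G_st2 (by decide +kernel)

theorem G_le1 : gen ns G_l1.ws ≤ gen ns G_ss1 :=
  gen_le_step ctx (tgt := [[10], [12], [14]])
  (es := [([10], [3, 3, 1, 3, 3, 1, 2, 2]), ([12], [3, 4, 4, 2, 4, 2, 4, 4, 3]), ([14], [7, 7, 7, 7, 5, 7])]) G_le2 (by decide +kernel)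

theorem G_lv1 : chkLvl 32 ns G_l1 G_C2 G_D1 1 = true :=
  by decide +kernel

theorem G_pt1_0 : AllIn (PtOK 32 ns G_l1 G_C2 G_ss1 G_D1) 0 64 :=
  ptOK_of_chkPts ctx G_ver2 (a := 0) (n := 1) (by decide +kernel)

theorem G_st1 : IsStab 32 (gen ns G_l1.ws) (cgrp ns G_C2) G_l1.b G_D1 :=
  isStab_plain ctx G_le1 G_lv1 (by norm_num) G_pt1_0

theorem G_ver1 : Ver ns G_C1 443520 :=
  G_ver2.cons ctx G_st1 (by decide +kernel)

theorem G_le0 : gen ns G_l0.ws ≤ gen ns G_ss0 :=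
  gen_le_step ctx (tgt := [[4], [6], [8]])
  (es := [([4], [3, 1, 2, 2, 1, 2, 2, 2]), ([6], [2, 5, 5]), ([8], [7, 4, 6, 4, 4, 6])]) G_le1 (by decide +kernel)

theorem G_lv0 : chkLvl 32 ns G_l0 G_C1 G_D0 1 = true :=
  by decide +kernel

theorem G_pt0_0 : AllIn (PtOK 32 ns G_l0 G_C1 G_ss0 G_D0) 0 64 :=
  ptOK_of_chkPts ctx G_ver1 (a := 0) (n := 1) (by decide +kernel)

theorem G_st0 : IsStab 32 (gen ns G_l0.ws) (cgrp ns G_C1) G_l0.b G_D0 :=
  isStab_plain ctx G_le0 G_lv0 (by norm_num) G_pt0_0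

theorem G_ver0 : Ver ns G_C0 10200960 :=
  G_ver1.cons ctx G_st0 (by decide +kernel)

theorem G_eq : gen ns G_ss0 = cgrp ns G_C0 :=
  le_antisymm (gen_le_of_subsetL _ (by decide +kernel)) G_le0

theorem G_card : Nat.card (gen ns G_ss0) = 10200960 :=
  by rw [G_eq]; exact G_ver0.card

theorem model : ∃ e : Cfsg.Spor.M23 ≃* gen ns G_ss0,
    ∀ g : Cfsg.Spor.M23, RepBy 24 pt (g : Equiv.Perm GolayPt) (e g : Equiv.Perm ℕ) :=
  exists_model_golay _ mem_M23_crit ctx (by decide +kernel) (isM23_M23.2.trans G_card.symm).le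

noncomputable def equiv : Cfsg.Spor.M23 ≃* gen ns G_ss0 :=
  Classical.choose model

theorem equiv_rep : ∀ g : Cfsg.Spor.M23, RepBy 24 pt (g : Equiv.Perm GolayPt) (equiv g : Equiv.Perm ℕ) :=
  Classical.choose_spec model

theorem G_supp : gen ns G_ss0 ≤ suppSub 24 :=
  gen_le_supp_of_suppW ctx (by decide +kernel)

end Cfsg.Agent.Spor.ModelM23
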