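import Cfsg.Agent.K.InvMo2
import Cfsg.Agent.Comp.LookT
import Cfsg.Agent.Spor.ModelM23

set_option autoImplicit false
set_option Elab.async false
set_option maxRecDepth 4096

namespace Cfsg.Agent.Spor.MixM23

open Cfsg.Agent.Comp

noncomputable def ns_2 : Net :=
 (Net.cons (nat_lit 16) 49770
 (Net.cons (nat_lit 8) (nat_lit 0xea0010)
 (Net.cons (nat_lit 4) (nat_lit 0x60d0408)
 (Net.cons (nat_lit 2) (nat_lit 0x132201)
 (Net.cons (nat_lit 1) (nat_lit 0x4014150)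
 (Net.cons (nat_lit 2) (nat_lit 0x2002200)
 (Net.cons (nat_lit 4) (nat_lit 0x4080408)
 (Net.cons (nat_lit 8) (nat_lit 0xa80038)
 (Net.cons (nat_lit 16) 49770
 Net.nil)))))))))

noncomputable def ns_3 : Net :=
 (Net.cons (nat_lit 16) 39826
 (Net.cons (nat_lit 8) (nat_lit 0x830050)
 (Net.cons (nat_lit 4) (nat_lit 0x8040406)
 (Net.cons (nat_lit 2) (nat_lit 0x2121020)
 (Net.cons (nat_lit 1) (nat_lit 0x1440044)
 (Net.cons (nat_lit 2) (nat_lit 0x220022)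
 (Net.cons (nat_lit 8) (nat_lit 0x920010)
 (Net.cons (nat_lit 16) 39862
 Net.nil))))))))

noncomputable def ns_4 : Net :=
 (Net.cons (nat_lit 16) 11008
 (Net.cons (nat_lit 8) (nat_lit 0x6a0040)
 (Net.cons (nat_lit 4) (nat_lit 0x4000c00)
 (Net.cons (nat_lit 2) (nat_lit 0x1001022)
 (Net.cons (nat_lit 1) 66624
 (Net.cons (nat_lit 2) 32
 (Net.cons (nat_lit 4) (nat_lit 0x4000c00)
 (Net.cons (nat_lit 8) (nat_lit 0x420040)
 (Net.cons (nat_lit 16) 11008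
 Net.nil)))))))))

noncomputable def ns_5 : Net :=
 (Net.cons (nat_lit 16) 6200
 (Net.cons (nat_lit 8) 524486
 (Net.cons (nat_lit 4) 396812
 (Net.cons (nat_lit 2) (nat_lit 0x312210)
 (Net.cons (nat_lit 1) (nat_lit 0x404104)
 (Net.cons (nat_lit 2) (nat_lit 0x202000)
 (Net.cons (nat_lit 4) 3072
 (Net.cons (nat_lit 8) (nat_lit 0x100064)
 (Net.cons (nat_lit 16) 6244
 Net.nil)))))))))

noncomputable def ns_6 : Net :=
 (Net.cons (nat_lit 16) 46348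
 (Net.cons (nat_lit 8) (nat_lit 0x850040)
 (Net.cons (nat_lit 4) (nat_lit 0x60c080c)
 (Net.cons (nat_lit 2) (nat_lit 0x10210030)
 (Net.cons (nat_lit 1) (nat_lit 0x1014050)
 (Net.cons (nat_lit 2) 131072
 (Net.cons (nat_lit 4) (nat_lit 0x6080800)
 (Net.cons (nat_lit 8) (nat_lit 0xb40008)
 (Net.cons (nat_lit 16) 46448
 Net.nil)))))))))

noncomputable def ns_7 : Net :=
 (Net.cons (nat_lit 16) 44984
 (Net.cons (nat_lit 8) (nat_lit 0xf50000)
 (Net.cons (nat_lit 4) (nat_lit 0xd020008)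
 (Net.cons (nat_lit 2) (nat_lit 0x21021020)
 (Net.cons (nat_lit 1) (nat_lit 0x41010040)
 (Net.cons (nat_lit 2) (nat_lit 0x22020000)
 (Net.cons (nat_lit 4) (nat_lit 0x8080008)
 (Net.cons (nat_lit 8) (nat_lit 0x7a0050)
 (Net.cons (nat_lit 16) 44928
 Net.nil)))))))))

noncomputable def ns_8 : Net :=
 (Net.cons (nat_lit 16) 62562
 (Net.cons (nat_lit 8) (nat_lit 0xa0000e)
 (Net.cons (nat_lit 4) 786444
 (Net.cons (nat_lit 2) (nat_lit 0x30330202)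
 (Net.cons (nat_lit 1) (nat_lit 0x40510514)
 (Net.cons (nat_lit 2) (nat_lit 0x20020022)
 (Net.cons (nat_lit 4) (nat_lit 0x4000004)
 (Net.cons (nat_lit 8) (nat_lit 0xa40004)
 (Net.cons (nat_lit 16) 62482
 Net.nil)))))))))

noncomputable def ns_9 : Net :=
 (Net.cons (nat_lit 16) 6280
 (Net.cons (nat_lit 8) (nat_lit 0xd80000)
 (Net.cons (nat_lit 4) 919560
 (Net.cons (nat_lit 2) (nat_lit 0x300230)
 (Net.cons (nat_lit 1) (nat_lit 0x40110400)
 (Net.cons (nat_lit 2) (nat_lit 0x200000)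
 (Net.cons (nat_lit 4) (nat_lit 0x80c0808)
 (Net.cons (nat_lit 8) (nat_lit 0xd80060)
 (Net.cons (nat_lit 16) 6280
 Net.nil)))))))))

noncomputable def ns_10 : Net :=
 (Net.cons (nat_lit 16) 44928
 (Net.cons (nat_lit 8) (nat_lit 0x850050)
 (Net.cons (nat_lit 4) (nat_lit 0xa070008)
 (Net.cons (nat_lit 2) (nat_lit 0x2121000)
 (Net.cons (nat_lit 1) (nat_lit 0x1440040)
 (Net.cons (nat_lit 2) (nat_lit 0x2220020)
 (Net.cons (nat_lit 4) 131080
 (Net.cons (nat_lit 8) 655360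
 (Net.cons (nat_lit 16) 44984
 Net.nil)))))))))

noncomputable def ns_11 : Net :=
 (Net.cons (nat_lit 16) 8728
 (Net.cons (nat_lit 8) (nat_lit 0x220004)
 (Net.cons (nat_lit 4) (nat_lit 0x2010d00)
 (Net.cons (nat_lit 2) 8240
 (Net.cons (nat_lit 1) (nat_lit 0x101444)
 (Net.cons (nat_lit 2) 8224
 (Net.cons (nat_lit 4) 3072
 (Net.cons (nat_lit 8) (nat_lit 0x200084)
 (Net.cons (nat_lit 16) 8720
 Net.nil)))))))))

noncomputable def ns_12 : Net :=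
 (Net.cons (nat_lit 16) 43264
 (Net.cons (nat_lit 8) (nat_lit 0xf100d0)
 (Net.cons (nat_lit 4) (nat_lit 0x80c0400)
 (Net.cons (nat_lit 2) (nat_lit 0x200200)
 (Net.cons (nat_lit 1) (nat_lit 0x50404400)
 (Net.cons (nat_lit 2) (nat_lit 0x200200)
 (Net.cons (nat_lit 4) (nat_lit 0x8040400)
 (Net.cons (nat_lit 8) (nat_lit 0xf000c0)
 (Net.cons (nat_lit 16) 43264
 Net.nil)))))))))

noncomputable def ns_13 : Net :=
 (Net.cons (nat_lit 16) 55456
 (Net.cons (nat_lit 8) (nat_lit 0xae0034)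
 (Net.cons (nat_lit 4) (nat_lit 0x4080204)
 (Net.cons (nat_lit 2) (nat_lit 0x32320020)
 (Net.cons (nat_lit 1) (nat_lit 0x14111040)
 (Net.cons (nat_lit 2) (nat_lit 0x22220020)
 (Net.cons (nat_lit 4) (nat_lit 0xe000000)
 (Net.cons (nat_lit 8) (nat_lit 0x360034)
 (Net.cons (nat_lit 16) 55456
 Net.nil)))))))))

noncomputable def ns_14 : Net :=
 (Net.cons (nat_lit 16) 21044
 (Net.cons (nat_lit 8) (nat_lit 0x3800c0)
 (Net.cons (nat_lit 4) (nat_lit 0xa050c04)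
 (Net.cons (nat_lit 2) (nat_lit 0x30030130)
 (Net.cons (nat_lit 1) (nat_lit 0x10040040)
 (Net.cons (nat_lit 2) 131104
 (Net.cons (nat_lit 4) (nat_lit 0x8040004)
 (Net.cons (nat_lit 8) (nat_lit 0x6a0040)
 (Net.cons (nat_lit 16) 21044
 Net.nil)))))))))

noncomputable def ns_15 : Net :=
 (Net.cons (nat_lit 16) 5904
 (Net.cons (nat_lit 8) (nat_lit 0x390080)
 (Net.cons (nat_lit 4) (nat_lit 0x3050800)
 (Net.cons (nat_lit 2) 8208
 (Net.cons (nat_lit 1) (nat_lit 0x4000000)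
 (Net.cons (nat_lit 4) 2048
 (Net.cons (nat_lit 8) (nat_lit 0x280000)
 (Net.cons (nat_lit 16) 5904
 Net.nil))))))))

noncomputable def ns_16 : Net :=
 (Net.cons (nat_lit 16) 36864
 (Net.cons (nat_lit 8) (nat_lit 0xc000d0)
 (Net.cons (nat_lit 4) 659200
 (Net.cons (nat_lit 2) (nat_lit 0x10232000)
 (Net.cons (nat_lit 1) (nat_lit 0x101100)
 (Net.cons (nat_lit 2) (nat_lit 0x200200)
 (Net.cons (nat_lit 4) 655360
 (Net.cons (nat_lit 8) (nat_lit 0xc000d0)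
 (Net.cons (nat_lit 16) 36864
 Net.nil)))))))))

noncomputable def ns_17 : Net :=
 (Net.cons (nat_lit 16) 656
 (Net.cons (nat_lit 8) 262352
 (Net.cons (nat_lit 4) 591872
 (Net.cons (nat_lit 2) (nat_lit 0x2323120)
 (Net.cons (nat_lit 1) (nat_lit 0x4515010)
 (Net.cons (nat_lit 2) (nat_lit 0x2020020)
 (Net.cons (nat_lit 4) 2048
 (Net.cons (nat_lit 8) 262352
 (Net.cons (nat_lit 16) 656
 Net.nil)))))))))

noncomputable def ns_18 : Net :=
 (Net.cons (nat_lit 16) 6208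
 (Net.cons (nat_lit 8) (nat_lit 0x100058)
 (Net.cons (nat_lit 4) (nat_lit 0x80a0508)
 (Net.cons (nat_lit 2) (nat_lit 0x20002202)
 (Net.cons (nat_lit 1) (nat_lit 0x10504000)
 (Net.cons (nat_lit 2) (nat_lit 0x20002000)
 (Net.cons (nat_lit 4) (nat_lit 0x80a0408)
 (Net.cons (nat_lit 8) (nat_lit 0x100018)
 (Net.cons (nat_lit 16) 6208
 Net.nil)))))))))

noncomputable def ns_19 : Net :=
 (Net.cons (nat_lit 16) 20082
 (Net.cons (nat_lit 8) 524376
 (Net.cons (nat_lit 4) (nat_lit 0xc0a0904)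
 (Net.cons (nat_lit 2) (nat_lit 0x2212030)
 (Net.cons (nat_lit 1) (nat_lit 0x44104050)
 (Net.cons (nat_lit 2) (nat_lit 0x2000000)
 (Net.cons (nat_lit 4) (nat_lit 0x80a0804)
 (Net.cons (nat_lit 8) 524360
 (Net.cons (nat_lit 16) 20016
 Net.nil)))))))))

noncomputable def ns_20 : Net :=
 (Net.cons (nat_lit 16) 1118
 (Net.cons (nat_lit 8) 655592
 (Net.cons (nat_lit 4) 68366
 (Net.cons (nat_lit 2) (nat_lit 0x2311202)
 (Net.cons (nat_lit 1) (nat_lit 0x4401014)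
 (Net.cons (nat_lit 2) (nat_lit 0x200000)
 (Net.cons (nat_lit 4) 264710
 (Net.cons (nat_lit 8) 655360
 (Net.cons (nat_lit 16) 1024
 Net.nil)))))))))

noncomputable def ns_21 : Net :=
 (Net.cons (nat_lit 16) 100
 (Net.cons (nat_lit 8) 138
 (Net.cons (nat_lit 4) 658186
 (Net.cons (nat_lit 2) 66082
 (Net.cons (nat_lit 1) (nat_lit 0x501114)
 (Net.cons (nat_lit 2) 8706
 (Net.cons (nat_lit 4) 655882
 (Net.cons (nat_lit 8) 144
 (Net.cons (nat_lit 16) 100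
 Net.nil)))))))))

noncomputable def ns_22 : Net :=
 (Net.cons (nat_lit 16) 1152
 (Net.cons (nat_lit 8) 262144
 (Net.cons (nat_lit 4) 526348
 (Net.cons (nat_lit 2) (nat_lit 0x120022)
 (Net.cons (nat_lit 1) 282900
 (Net.cons (nat_lit 2) 131106
 (Net.cons (nat_lit 4) 2060
 (Net.cons (nat_lit 8) 262144
 (Net.cons (nat_lit 16) 1152
 Net.nil)))))))))

noncomputable def ns_23 : Net :=
 (Net.cons (nat_lit 16) 13664
 (Net.cons (nat_lit 8) (nat_lit 0x71009a)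
 (Net.cons (nat_lit 4) (nat_lit 0x4090804)
 (Net.cons (nat_lit 2) (nat_lit 0x11231220)
 (Net.cons (nat_lit 1) (nat_lit 0x140044)
 (Net.cons (nat_lit 2) (nat_lit 0x220020)
 (Net.cons (nat_lit 4) 655364
 (Net.cons (nat_lit 8) (nat_lit 0x6400d8)
 (Net.cons (nat_lit 16) 13616
 Net.nil)))))))))

noncomputable def ns_24 : Net :=
 (Net.cons (nat_lit 16) 1032
 (Net.cons (nat_lit 8) (nat_lit 0x400002)
 (Net.cons (nat_lit 4) (nat_lit 0x4020804)
 (Net.cons (nat_lit 2) 12322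
 (Net.cons (nat_lit 1) (nat_lit 0x105114)
 (Net.cons (nat_lit 2) 34
 (Net.cons (nat_lit 4) 133124
 (Net.cons (nat_lit 8) (nat_lit 0x400002)
 (Net.cons (nat_lit 16) 1024
 Net.nil)))))))))

noncomputable def ns_25 : Net :=
 (Net.cons (nat_lit 16) 32296
 (Net.cons (nat_lit 8) (nat_lit 0x5c0010)
 (Net.cons (nat_lit 4) (nat_lit 0xe050908)
 (Net.cons (nat_lit 2) (nat_lit 0x12030200)
 (Net.cons (nat_lit 1) (nat_lit 0x54010140)
 (Net.cons (nat_lit 2) (nat_lit 0x2000220)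
 (Net.cons (nat_lit 4) (nat_lit 0x8040808)
 (Net.cons (nat_lit 8) 16
 (Net.cons (nat_lit 16) 32296
 Net.nil)))))))))

noncomputable def ns_26 : Net :=
 (Net.cons (nat_lit 16) 34824
 (Net.cons (nat_lit 8) (nat_lit 0x840020)
 (Net.cons (nat_lit 4) 262400
 (Net.cons (nat_lit 2) (nat_lit 0x232200)
 (Net.cons (nat_lit 1) (nat_lit 0x4104410)
 (Net.cons (nat_lit 2) (nat_lit 0x202200)
 (Net.cons (nat_lit 4) 262144
 (Net.cons (nat_lit 8) (nat_lit 0x840020)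
 (Net.cons (nat_lit 16) 34824
 Net.nil)))))))))

noncomputable def ns_27 : Net :=
 (Net.cons (nat_lit 16) 49408
 (Net.cons (nat_lit 8) (nat_lit 0x42000c)
 (Net.cons (nat_lit 4) 330252
 (Net.cons (nat_lit 2) 8240
 (Net.cons (nat_lit 1) (nat_lit 0x41001000)
 (Net.cons (nat_lit 2) 8192
 (Net.cons (nat_lit 4) 2060
 (Net.cons (nat_lit 8) (nat_lit 0x42000c)
 (Net.cons (nat_lit 16) 49408
 Net.nil)))))))))

noncomputable def ns_28 : Net :=
 (Net.cons (nat_lit 16) 32336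
 (Net.cons (nat_lit 8) (nat_lit 0x1600d8)
 (Net.cons (nat_lit 4) (nat_lit 0xc020c00)
 (Net.cons (nat_lit 2) (nat_lit 0x312120)
 (Net.cons (nat_lit 1) (nat_lit 0x40411400)
 (Net.cons (nat_lit 2) (nat_lit 0x20222000)
 (Net.cons (nat_lit 4) (nat_lit 0x8020400)
 (Net.cons (nat_lit 8) (nat_lit 0x2000d8)
 (Net.cons (nat_lit 16) 32368
 Net.nil)))))))))

noncomputable def ns_29 : Net :=
 (Net.cons (nat_lit 16) 61780
 (Net.cons (nat_lit 8) (nat_lit 0x39003e)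
 (Net.cons (nat_lit 4) (nat_lit 0x806080c)
 (Net.cons (nat_lit 2) (nat_lit 0x30010202)
 (Net.cons (nat_lit 1) (nat_lit 0x10011404)
 (Net.cons (nat_lit 2) (nat_lit 0x20002200)
 (Net.cons (nat_lit 4) 395784
 (Net.cons (nat_lit 8) 524344
 (Net.cons (nat_lit 16) 61782
 Net.nil)))))))))

noncomputable def ns_30 : Net :=
 (Net.cons (nat_lit 16) 50148
 (Net.cons (nat_lit 8) (nat_lit 0xc2006c)
 (Net.cons (nat_lit 4) (nat_lit 0x8090402)
 (Net.cons (nat_lit 2) (nat_lit 0x211002)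
 (Net.cons (nat_lit 1) (nat_lit 0x1541000)
 (Net.cons (nat_lit 2) (nat_lit 0x2000000)
 (Net.cons (nat_lit 4) (nat_lit 0x80a0000)
 (Net.cons (nat_lit 8) (nat_lit 0x800050)
 (Net.cons (nat_lit 16) 50062
 Net.nil)))))))))

noncomputable def ns_31 : Net :=
 (Net.cons (nat_lit 16) 32801
 (Net.cons (nat_lit 8) (nat_lit 0x800079)
 (Net.cons (nat_lit 4) 262159
 (Net.cons (nat_lit 2) (nat_lit 0x101201)
 (Net.cons (nat_lit 1) (nat_lit 0x101014)
 (Net.cons (nat_lit 2) (nat_lit 0x200020)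
 (Net.cons (nat_lit 4) 917506
 (Net.cons (nat_lit 8) (nat_lit 0x80006c)
 (Net.cons (nat_lit 16) 32826
 Net.nil)))))))))

noncomputable def ns_32 : Net :=
 (Net.cons (nat_lit 16) 19456
 (Net.cons (nat_lit 8) (nat_lit 0x420038)
 (Net.cons (nat_lit 4) (nat_lit 0x8000100)
 (Net.cons (nat_lit 2) (nat_lit 0x2112200)
 (Net.cons (nat_lit 1) (nat_lit 0x44000010)
 (Net.cons (nat_lit 2) (nat_lit 0x2000000)
 (Net.cons (nat_lit 4) (nat_lit 0x8000000)
 (Net.cons (nat_lit 8) (nat_lit 0x420038)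
 (Net.cons (nat_lit 16) 19456
 Net.nil)))))))))

noncomputable def ns_33 : Net :=
 (Net.cons (nat_lit 16) 36896
 (Net.cons (nat_lit 8) (nat_lit 0xd00058)
 (Net.cons (nat_lit 4) 655880
 (Net.cons (nat_lit 2) (nat_lit 0x10030300)
 (Net.cons (nat_lit 1) (nat_lit 0x151540)
 (Net.cons (nat_lit 4) 655880
 (Net.cons (nat_lit 8) (nat_lit 0xd00058)
 (Net.cons (nat_lit 16) 36896
 Net.nil))))))))

noncomputable def ns_34 : Net :=
 (Net.cons (nat_lit 16) 16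
 (Net.cons (nat_lit 8) 72
 (Net.cons (nat_lit 4) 656128
 (Net.cons (nat_lit 2) 34
 (Net.cons (nat_lit 1) (nat_lit 0x500410)
 (Net.cons (nat_lit 2) 32
 (Net.cons (nat_lit 4) 655360
 (Net.cons (nat_lit 8) 8
 (Net.cons (nat_lit 16) 16
 Net.nil)))))))))

noncomputable def ns_35 : Net :=
 (Net.cons (nat_lit 16) 64552
 (Net.cons (nat_lit 8) (nat_lit 0x5c0040)
 (Net.cons (nat_lit 4) (nat_lit 0x80a0408)
 (Net.cons (nat_lit 2) (nat_lit 0x30000320)
 (Net.cons (nat_lit 1) (nat_lit 0x44410410)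
 (Net.cons (nat_lit 2) (nat_lit 0x20200220)
 (Net.cons (nat_lit 4) (nat_lit 0x80e0400)
 (Net.cons (nat_lit 8) (nat_lit 0x4c0042)
 (Net.cons (nat_lit 16) 64544
 Net.nil)))))))))

noncomputable def ns_36 : Net :=
 (Net.cons (nat_lit 16) 33462
 (Net.cons (nat_lit 8) 393246
 (Net.cons (nat_lit 4) (nat_lit 0x8070108)
 (Net.cons (nat_lit 2) 78384
 (Net.cons (nat_lit 1) (nat_lit 0x4154110)
 (Net.cons (nat_lit 2) 8736
 (Net.cons (nat_lit 4) (nat_lit 0x80c020c)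
 (Net.cons (nat_lit 8) 262150
 (Net.cons (nat_lit 16) 33496
 Net.nil)))))))))

noncomputable def ns_37 : Net :=
 (Net.cons (nat_lit 16) 36604
 (Net.cons (nat_lit 8) (nat_lit 0x840043)
 (Net.cons (nat_lit 4) (nat_lit 0xc07030b)
 (Net.cons (nat_lit 2) (nat_lit 0x2100020)
 (Net.cons (nat_lit 1) (nat_lit 0x40151011)
 (Net.cons (nat_lit 2) (nat_lit 0x200020)
 (Net.cons (nat_lit 4) (nat_lit 0x404000a)
 (Net.cons (nat_lit 8) 655394
 (Net.cons (nat_lit 16) 36560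
 Net.nil)))))))))

noncomputable def ns_38 : Net :=
 (Net.cons (nat_lit 16) 32878
 (Net.cons (nat_lit 8) (nat_lit 0x8000c1)
 (Net.cons (nat_lit 4) 393486
 (Net.cons (nat_lit 2) (nat_lit 0x110121)
 (Net.cons (nat_lit 1) (nat_lit 0x111411)
 (Net.cons (nat_lit 2) (nat_lit 0x200020)
 (Net.cons (nat_lit 4) 3086
 (Net.cons (nat_lit 8) (nat_lit 0x8000b0)
 (Net.cons (nat_lit 16) 32776
 Net.nil)))))))))

noncomputable def ns_39 : Net :=
 (Net.cons (nat_lit 16) 54913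
 (Net.cons (nat_lit 8) (nat_lit 0x4c0018)
 (Net.cons (nat_lit 4) (nat_lit 0xc0e080c)
 (Net.cons (nat_lit 2) (nat_lit 0x22002000)
 (Net.cons (nat_lit 1) (nat_lit 0x14051040)
 (Net.cons (nat_lit 2) (nat_lit 0x22000020)
 (Net.cons (nat_lit 4) 657420
 (Net.cons (nat_lit 8) 524336
 (Net.cons (nat_lit 16) 54912
 Net.nil)))))))))

noncomputable def ns_40 : Net :=
 (Net.cons (nat_lit 16) 37816
 (Net.cons (nat_lit 8) (nat_lit 0x6c0044)
 (Net.cons (nat_lit 4) (nat_lit 0x6010c04)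
 (Net.cons (nat_lit 2) (nat_lit 0x31200001)
 (Net.cons (nat_lit 1) (nat_lit 0x44104004)
 (Net.cons (nat_lit 2) (nat_lit 0x2202000)
 (Net.cons (nat_lit 4) (nat_lit 0x8000c04)
 (Net.cons (nat_lit 8) (nat_lit 0x6c0044)
 (Net.cons (nat_lit 16) 37784
 Net.nil)))))))))

noncomputable def ns_41 : Net :=
 (Net.cons (nat_lit 16) 33360
 (Net.cons (nat_lit 8) (nat_lit 0x820094)
 (Net.cons (nat_lit 4) 591879
 (Net.cons (nat_lit 2) 8977
 (Net.cons (nat_lit 1) (nat_lit 0x114105)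
 (Net.cons (nat_lit 2) (nat_lit 0x220200)
 (Net.cons (nat_lit 4) 1026
 (Net.cons (nat_lit 8) (nat_lit 0x820094)
 (Net.cons (nat_lit 16) 33360
 Net.nil)))))))))

noncomputable def ns_42 : Net :=
 (Net.cons (nat_lit 16) 43528
 (Net.cons (nat_lit 8) (nat_lit 0xac00e1)
 (Net.cons (nat_lit 4) 134400
 (Net.cons (nat_lit 2) (nat_lit 0x2001111)
 (Net.cons (nat_lit 1) (nat_lit 0x4411400)
 (Net.cons (nat_lit 2) 131072
 (Net.cons (nat_lit 4) 133120
 (Net.cons (nat_lit 8) (nat_lit 0x8c00e0)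
 (Net.cons (nat_lit 16) 43520
 Net.nil)))))))))

noncomputable def ns_43 : Net :=
 (Net.cons (nat_lit 16) 12287
 (Net.cons (nat_lit 8) (nat_lit 0x630046)
 (Net.cons (nat_lit 4) (nat_lit 0xa030206)
 (Net.cons (nat_lit 2) (nat_lit 0x3011001)
 (Net.cons (nat_lit 1) (nat_lit 0x44115001)
 (Net.cons (nat_lit 2) (nat_lit 0x2200002)
 (Net.cons (nat_lit 4) (nat_lit 0xa000606)
 (Net.cons (nat_lit 8) (nat_lit 0x460046)
 (Net.cons (nat_lit 16) 12214
 Net.nil)))))))))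

noncomputable def ns_44 : Net :=
 (Net.cons (nat_lit 16) 16898
 (Net.cons (nat_lit 8) (nat_lit 0x4000ae)
 (Net.cons (nat_lit 4) (nat_lit 0x4020c07)
 (Net.cons (nat_lit 2) (nat_lit 0x2233220)
 (Net.cons (nat_lit 1) (nat_lit 0x4414014)
 (Net.cons (nat_lit 2) (nat_lit 0x2220022)
 (Net.cons (nat_lit 4) (nat_lit 0x404040a)
 (Net.cons (nat_lit 8) 158
 (Net.cons (nat_lit 16) 16904
 Net.nil)))))))))

noncomputable def ns_45 : Net :=
 (Net.cons (nat_lit 16) 55384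
 (Net.cons (nat_lit 8) (nat_lit 0x6000e7)
 (Net.cons (nat_lit 4) (nat_lit 0x2030c00)
 (Net.cons (nat_lit 2) (nat_lit 0x22302303)
 (Net.cons (nat_lit 1) (nat_lit 0x10444014)
 (Net.cons (nat_lit 2) (nat_lit 0x20202000)
 (Net.cons (nat_lit 4) (nat_lit 0xa060e00)
 (Net.cons (nat_lit 8) (nat_lit 0x6000c0)
 (Net.cons (nat_lit 16) 55360
 Net.nil)))))))))

noncomputable def ns : List Net := [ModelM23.ns_0, ModelM23.ns_1, ns_2, ns_3, ns_4, ns_5, ns_6, ns_7, ns_8, ns_9, ns_10, ns_11, ns_12, ns_13, ns_14, ns_15, ns_16, ns_17, ns_18, ns_19, ns_20, ns_21, ns_22, ns_23, ns_24, ns_25, ns_26, ns_27, ns_28, ns_29, ns_30, ns_31, ns_32, ns_33, ns_34, ns_35, ns_36, ns_37, ns_38, ns_39, ns_40, ns_41, ns_42, ns_43, ns_44, ns_45]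

theorem ctx : Ctx 32 5 ns := ctx_of (by decide +kernel)

theorem lctx : LCtx 32 5 8 31 trN5 ns := lctx_of ctx trOK5 (by decide +kernel)

noncomputable def E : List ℕ → ℕ → ℕ := pfW0 32 5 8 31 trN5 ns

theorem hE : Evl 32 ns E := evl_pfW0 lctx

open Cfsg.Agent.K Cfsg.Agent.Comp.IC

theorem geq : gen ModelM23.ns ModelM23.G_ss0 = gen ns [[0], [2]] :=
  gen_eq_of_take (ns := ModelM23.ns) (ns' := ns) (k := 2) rfl (ws := ModelM23.G_ss0) (by decide +kernel)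

theorem hn : Nat.card (gen ns [[0], [2]]) = 10200960 :=
  geq ▸ ModelM23.G_card

noncomputable def equiv : Cfsg.Spor.M23 ≃* ↥(gen ns [[0], [2]]) :=
  ModelM23.equiv.trans (MulEquiv.subgroupCongr geq)

theorem kn_0 : Known ns (gen ns [[0], [2]]) 3 :=
  known_gen (by decide +kernel)

noncomputable def S_S6 : List SD :=
  []

noncomputable def S_d5 : SD :=
  ⟨4, 1, [30, 24, 32, 34], lab 3 7 (nat_lit 0x136d02c229b0d80000), 4⟩

noncomputable def S_S5 : List SD :=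
  S_d5 :: S_S6

noncomputable def S_d4 : SD :=
  ⟨5, 1, [26, 28, 30, 24, 32, 34], lab 4 15 (nat_lit 0x100000000000000000), 1⟩

noncomputable def S_S4 : List SD :=
  S_d4 :: S_S5

noncomputable def S_d3 : SD :=
  ⟨3, 2, [18, 20, 22, 26, 28, 30, 24, 32, 34], lab 5 31 (nat_lit 0x2062a842110ae611c308c6800000), 2⟩

noncomputable def S_S3 : List SD :=
  S_d3 :: S_S4

noncomputable def S_d2 : SD :=
  ⟨2, 1, [12, 14, 16, 18, 20, 22, 26, 28, 30, 24, 32, 34], lab 5 31 (nat_lit 0x3c562188b501452919059da158000), 3⟩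

noncomputable def S_S2 : List SD :=
  S_d2 :: S_S3

noncomputable def S_d1 : SD :=
  ⟨1, 1, [6, 8, 10, 12, 14, 16, 18, 20, 22, 26, 28, 30, 24, 32, 34], lab 5 31 (nat_lit 0x1189994c051e360ac80e18f011400), 2⟩

noncomputable def S_S1 : List SD :=
  S_d1 :: S_S2

noncomputable def S_d0 : SD :=
  ⟨0, 2, [0, 2, 4, 6, 8, 10, 12, 14, 16, 18, 20, 22, 26, 28, 30, 24, 32, 34], lab 6 63 (nat_lit 0x1940230440e44744a88618c6165cd184280), 3⟩

noncomputable def S_S0 : List SD :=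
  S_d0 :: S_S1

theorem kn_1 : Known ns (gen ns [[0], [2]]) 262143 :=
  kn_0.steps ctx (es := [(2, [0, 2, 0]),
 (3, [3, 5, 3, 3, 3, 5, 3, 1, 3, 0, 3]),
 (4, [5, 5]),
 (5, [8, 6]),
 (6, [7, 7, 11, 11, 9, 10, 7, 11, 11, 9]),
 (7, [6, 9, 11, 11, 9, 6, 11, 8]),
 (8, [15, 13, 13]),
 (9, [13, 15, 16, 16, 13, 15, 12, 17, 15, 16]),
 (10, [14, 14, 14, 14]),
 (11, [19, 20, 18, 21, 18]),
 (12, [23, 19, 22, 18, 18, 23, 20, 22, 19]),
 (13, [21, 19, 20, 20, 22]),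
 (14, [21, 23, 19, 21]),
 (15, [26, 28, 28, 27, 24, 29, 26, 26]),
 (16, [26, 28, 26]),
 (17, [27, 28])]) (by decide +kernel)

theorem S_ex : Exact 32 ns S_S0 ∧ gen ns (sTop S_S0) = gen ns [[0], [2]] ∧ gen ns [[0], [2]] = gen ns [[0], [2]] :=
  exact_of_known ctx hn (le_rfl) kn_1 (by decide +kernel)

noncomputable def CaG_S6 : List SD :=
  []

noncomputable def CaG_d5 : SD :=
  ⟨15, 2, [50], lab 1 1 256, 1⟩

noncomputable def CaG_S5 : List SD :=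
  CaG_d5 :: CaG_S6

noncomputable def CaG_d4 : SD :=
  ⟨5, 2, [52, 54, 50], lab 3 7 (nat_lit 0x40ad02a502002800), 4⟩

noncomputable def CaG_S4 : List SD :=
  CaG_d4 :: CaG_S5

noncomputable def CaG_d3 : SD :=
  ⟨7, 2, [56, 52, 54, 50], lab 3 7 (nat_lit 0x48e545c6eb9046000), 4⟩

noncomputable def CaG_S3 : List SD :=
  CaG_d3 :: CaG_S4

noncomputable def CaG_d2 : SD :=
  ⟨1, 3, [58, 56, 52, 54, 50], lab 4 15 (nat_lit 0x18239008882213603464000), 3⟩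

noncomputable def CaG_S2 : List SD :=
  CaG_d2 :: CaG_S3

noncomputable def CaG_d1 : SD :=
  ⟨2, 2, [60, 58, 56, 52, 54, 50], lab 4 15 (nat_lit 0x85035b10223a50b504a3010), 3⟩

noncomputable def CaG_S1 : List SD :=
  CaG_d1 :: CaG_S2

noncomputable def CaG_d0 : SD :=
  ⟨0, 2, [62, 60, 58, 56, 52, 54, 50], lab 4 15 (nat_lit 0x86acad15042676102843030), 3⟩

noncomputable def CaG_S0 : List SD :=
  CaG_d0 :: CaG_S1

theorem kn_2 : Known ns (gen ns [[0], [2]]) 274877906943 :=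
  kn_1.steps ctx (es := [(18, [34, 6, 14, 12, 32, 24, 30]),
 (19, [12, 6, 16, 13, 20, 18, 26, 34]),
 (20, [15, 6, 34, 17, 22, 19, 26, 34, 24]),
 (21, [22, 6, 22, 13, 23, 34, 32, 30]),
 (22, [12, 8, 13, 28, 18, 34, 32]),
 (23, [10, 22, 13, 32, 18, 27, 24]),
 (24, [6, 6, 22, 12, 21, 26, 34, 32]),
 (25, [20, 19, 34, 24]),
 (26, [20, 19, 27, 34, 24]),
 (27, [32, 18, 26, 34, 32, 24]),
 (28, [21, 19, 27, 34, 32]),
 (29, [12, 6, 27, 12, 32, 19]),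
 (30, [6, 29, 13, 20, 26, 30]),
 (31, [7, 2, 6, 6, 34, 17, 26, 18, 27, 34, 32, 24, 30]),
 (32, [52, 50, 54, 51]),
 (33, [54, 52]),
 (34, [56, 50, 58, 52, 56, 56, 54, 50, 52]),
 (35, [54, 58, 57, 54, 51, 52]),
 (36, [57, 61, 52, 50, 58, 51, 56, 56, 54]),
 (37, [56, 63, 51, 58, 60, 50, 59, 51, 57, 52, 56, 54, 50, 54, 52])]) (by decide +kernel)

theorem CaG_ex : Exact 32 ns CaG_S0 ∧ gen ns (sTop CaG_S0) = gen ns [[0], [2]] ∧ gen ns [[0], [2]] = gen ns [[0], [2]] :=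
  exact_of_known ctx hn (le_rfl) kn_2 (by decide +kernel)

noncomputable def Ca_as : List (List ℕ) :=
  [[36]]

noncomputable def Ca_p : List (List ℕ × List ℕ) :=
  derAs (dg Ca_as) [[0]]

noncomputable def Ca_s : List (ℕ × ℕ) :=
  derSs 32 5 ns (dg Ca_as) [[0]]

noncomputable def Ca_k0 : List (List ℕ) :=
  [[74], [72], [68], [70], [64], [66]]

noncomputable def Ca_k1 : List (List ℕ) :=
  [[72], [68], [70], [64], [66]]

noncomputable def Ca_k2 : List (List ℕ) :=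
  [[68], [70], [64], [66]]

noncomputable def Ca_k3 : List (List ℕ) :=
  [[64], [66]]

noncomputable def Ca_k4 : List (List ℕ) :=
  [[64], [66]]

noncomputable def Ca_k5 : List (List ℕ) :=
  []

noncomputable def Ca_k6 : List (List ℕ) :=
  []

theorem Ca_cm : commB 32 5 ns (dg Ca_as) Ca_k0 = true :=
  by decide +kernel

theorem Ca_g0 : Good 32 ns Ca_p Ca_s (gen ns (sTop CaG_S0)) Ca_k0 :=
  good_der ctx kn_2 (CaG_ex.2.1.trans CaG_ex.2.2.symm) _ _ ((and'_eq_true _ _).2 ⟨by decide +kernel, Ca_cm⟩)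

theorem Ca_g1 : Good 32 ns Ca_p Ca_s (gen ns (sTop CaG_S1)) Ca_k1 :=
  Ca_g0.tail ctx CaG_ex.1 (by decide +kernel)

theorem Ca_g2 : Good 32 ns Ca_p Ca_s (gen ns (sTop CaG_S2)) Ca_k2 :=
  Ca_g1.tail ctx CaG_ex.1.tail (by decide +kernel)

theorem Ca_g3 : Good 32 ns Ca_p Ca_s (gen ns (sTop CaG_S3)) Ca_k3 :=
  Ca_g2.tail ctx CaG_ex.1.tail.tail (by decide +kernel)

theorem Ca_g4 : Good 32 ns Ca_p Ca_s (gen ns (sTop CaG_S4)) Ca_k4 :=
  Ca_g3.tail ctx CaG_ex.1.tail.tail.tail (by decide +kernel)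

theorem Ca_g5 : Good 32 ns Ca_p Ca_s (gen ns (sTop CaG_S5)) Ca_k5 :=
  Ca_g4.tail ctx CaG_ex.1.tail.tail.tail.tail (by decide +kernel)

theorem Ca_l6 : LevX 32 ns Ca_p Ca_s (gen ns (sTop CaG_S6)) Ca_k6 1 :=
  levX_nil _ _ _ _

theorem Ca_l5 : LevX 32 ns Ca_p Ca_s (gen ns (sTop CaG_S5)) Ca_k5 1 :=
  Ca_l6.step ctx CaG_ex.1.tail.tail.tail.tail.tail Ca_g5 (br_zero _ _ _ _ _ _ _) [] 0 0 (by decide +kernel)

theorem Ca_l4 : LevX 32 ns Ca_p Ca_s (gen ns (sTop CaG_S4)) Ca_k4 4 :=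
  Ca_l5.step ctx CaG_ex.1.tail.tail.tail.tail Ca_g4 (br_zero _ _ _ _ _ _ _) [] 1 1 (by decide +kernel)

theorem Ca_l3 : LevX 32 ns Ca_p Ca_s (gen ns (sTop CaG_S3)) Ca_k3 4 :=
  Ca_l4.step ctx CaG_ex.1.tail.tail.tail Ca_g3 (br_zero _ _ _ _ _ _ _) [(0, 1, 0)] 0 0 (by decide +kernel)

theorem Ca_l2 : LevX 32 ns Ca_p Ca_s (gen ns (sTop CaG_S2)) Ca_k2 64 :=
  Ca_l3.step ctx CaG_ex.1.tail.tail Ca_g2 (br_zero _ _ _ _ _ _ _) [] 2 2 (by decide +kernel)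

theorem Ca_l1 : LevX 32 ns Ca_p Ca_s (gen ns (sTop CaG_S1)) Ca_k1 384 :=
  Ca_l2.step ctx CaG_ex.1.tail Ca_g1 (br_zero _ _ _ _ _ _ _) [] 2 2 (by decide +kernel)

theorem Ca_l0 : LevX 32 ns Ca_p Ca_s (gen ns (sTop CaG_S0)) Ca_k0 2688 :=
  Ca_l1.step ctx CaG_ex.1 Ca_g0 (br_zero _ _ _ _ _ _ _) [] 2 2 (by decide +kernel)

theorem Ca : CentEq ns (gen ns [[0], [2]]) Ca_as Ca_k0 2688 :=
  centEq_of ctx CaG_ex.2.1 Ca_l0 Ca_g0 Ca_cm

noncomputable def CaD_S6 : List SD :=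
  []

noncomputable def CaD_d5 : SD :=
  ⟨10, 2, [78], lab 1 1 (nat_lit 0x400000), 1⟩

noncomputable def CaD_S5 : List SD :=
  CaD_d5 :: CaD_S6

noncomputable def CaD_d4 : SD :=
  ⟨8, 2, [80, 82, 78], lab 3 7 (nat_lit 0x281434c3108419a02), 3⟩

noncomputable def CaD_S4 : List SD :=
  CaD_d4 :: CaD_S5

noncomputable def CaD_d3 : SD :=
  ⟨6, 2, [84, 80, 82, 78], lab 3 7 (nat_lit 0x178786c9f419820200), 3⟩

noncomputable def CaD_S3 : List SD :=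
  CaD_d3 :: CaD_S4

noncomputable def CaD_d2 : SD :=
  ⟨17, 2, [86, 84, 80, 82, 78], lab 4 15 (nat_lit 0x3084022741084530715506), 3⟩

noncomputable def CaD_S2 : List SD :=
  CaD_d2 :: CaD_S3

noncomputable def CaD_d1 : SD :=
  ⟨1, 2, [88, 86, 84, 80, 82, 78], lab 4 15 (nat_lit 0x66051262820054203371509), 3⟩

noncomputable def CaD_S1 : List SD :=
  CaD_d1 :: CaD_S2

noncomputable def CaD_d0 : SD :=
  ⟨20, 2, [90, 88, 86, 84, 80, 82, 78], lab 4 15 (nat_lit 0xa308c349037012ab2160319), 3⟩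

noncomputable def CaD_S0 : List SD :=
  CaD_d0 :: CaD_S1

theorem kn_3 : Known ns (gen ns [[0], [2]]) 70368744177663 :=
  kn_2.steps ctx (es := [(38, [16, 2, 6, 30, 13, 21, 19, 34, 32, 24, 30]),
 (39, [14, 2, 23, 6, 26, 13, 21, 19, 26, 30]),
 (40, [7, 2, 11, 6, 22, 12, 18, 27, 34, 24, 30]),
 (41, [23, 2, 23, 6, 14, 12, 28, 18, 24]),
 (42, [4, 13, 6, 22, 12, 26, 18, 24]),
 (43, [16, 2, 23, 6, 22, 13, 18, 27, 34, 24]),
 (44, [13, 4, 22, 6, 12, 18, 26, 34, 30]),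
 (45, [6, 2, 10, 6, 14, 12, 22, 19, 30])]) (by decide +kernel)

theorem CaD_ex : Exact 32 ns CaD_S0 ∧ gen ns (sTop CaD_S0) = gen ns [[0], [2]] ∧ gen ns [[0], [2]] = gen ns [[0], [2]] :=
  exact_of_known ctx hn (le_rfl) kn_3 (by decide +kernel)

noncomputable def Cay_as : List (List ℕ × List ℕ) :=
  [([36], [36]), ([76], [76])]

noncomputable def Cay_cs : List (List ℕ) :=
  [[90, 80, 87, 88, 83, 86, 78, 84, 78], []]

noncomputable def Cay_pl : List Pl :=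
  [⟨.lst 0, []⟩, ⟨.forced 0 0, []⟩, ⟨.forced 0 0, []⟩, ⟨.forced 0 0, []⟩, ⟨.forced 0 0, []⟩, ⟨.forced 0 0, []⟩]

noncomputable def Cay_M0 : ℕ :=
  nat_lit 0x104000

theorem Cay_b0 : Br 32 ns (derAs Cay_as [[2], [0]]) (derSs 32 5 ns Cay_as [[0], [2]]) (gen ns (sTop CaD_S0)) CaD_d0.p Cay_M0 (InCs ns CaD_S0 Cay_cs) :=
  br_of_brB ctx hE CaD_ex.1 (pl := Cay_pl) (bs := []) (tps := []) (by decide +kernel)

theorem Cay : SolList ns (gen ns [[0], [2]]) Cay_as [[76]] Cay_cs :=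
  solList_of_br ctx CaD_ex.1 CaD_ex.2.1 kn_3 Cay_b0 (cons := []) (r := 6) (by decide +kernel)

noncomputable def bs : List ℕ :=
  [0, 1, 2, 3, 5, 4]

theorem mb : MB 32 5 ns (gen ns [[0], [2]]) 70368744177663 E bs :=
  ⟨⟨ctx, kn_3, gen_le_supp ctx.ok _⟩, hE, bas_of_exact S_ex.1 S_ex.2.1 (by decide +kernel)⟩

instance fin : Finite Cfsg.Spor.M23 := mb.m.finite equiv

noncomputable def top : List ℕ := [38, 40, 42, 44, 46, 48, 36]

noncomputable def ts : List (List ℕ) := [[36]]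

theorem nc : Nc (ev equiv ns) top :=
  (mb.wm equiv).nc (hs := [([48, 36], [[40, 44, 36], [42, 36], [44, 36], [46, 48], [48], [36]]),
 ([46, 48], [[42, 44, 46, 36], [44, 48, 36], [46, 36], [48, 36], [36]]),
 ([], [[44, 48], [46, 48], [48], [36]]),
 ([], [[46, 36], [48], [36]]),
 ([36], [[48], [36]]),
 ([], [[36]]),
 ([], [])]) (by decide +kernel)

theorem lb : 2 ^ top.length ≤ Nat.card (sg (ev equiv ns) top) :=
  le_card_sg mb.m equiv [(1, 3, [[38, 46], [42, 48, 36], [], [], [38, 40, 42, 44, 46]]),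
 (2, 2, [[42, 48, 36], [], [], [38, 40, 42, 44, 46]]),
 (3, 1, [[], [], [38, 40, 42, 44, 46]])] (by decide +kernel)

theorem ser : Ser (ev equiv ns) top := nc.ser lb

noncomputable def cv1c : CT :=
  (.two (.two (.two (.two (.two (.two .triv
 (.lf [] [36]))
 (.one [40] [] (.lf [4, 34, 6, 29, 13, 20, 34, 32, 24] [36])))
 (.one [38] [] (.one [40] [] (.no []))))
 (.two (.one [42] [] (.one [38] [] (.lf [22, 6, 14, 12, 22, 19] [36])))
 (.one [40] [] (.one [44] [] (.lf [6, 29, 13, 21, 19, 26, 32, 30] [36])))))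
 (.one [40] [46, 36] (.two (.one [44] [] (.one [38] [] (.lf [23, 2, 10, 12, 34, 24, 30] [36])))
 (.one [42] [] (.no [36])))))
 (.two (.one [38] [36] (.one [38, 42] [] (.no [48])))
 (.one [38] [48] (.no []))))

theorem cv1 : Cv (ev equiv ns) ts [40, 42, 44, 46, 48, 36] [] :=
  ser.cv' (mb.wm equiv) cv1c 0 (p := 38) (by decide +kernel)

noncomputable def cv2c : CT :=
  (.two (.two (.one [40] [48, 36] (.two (.one [46] [] (.no [36]))
 (.one [38] [] (.one [42, 46] [] (.lf [4, 2, 10, 6, 23, 12, 18, 27, 34, 24] [36])))))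
 (.two (.one [40] [] (.one [44] [36] (.no [])))
 (.one [40] [48] (.one [42] [36] (.one [46] [] (.no []))))))
 (.two (.one [40] [] (.no [46, 48]))
 (.one [38] [48] (.one [40] [48, 36] (.two (.one [44] [] (.no []))
 (.one [44] [] (.lf [12, 6, 23, 12, 20, 26] [36])))))))

theorem cv2 : Cv (ev equiv ns) ts [40, 42, 44, 46, 48, 36] [38] :=
  ser.cv' (mb.wm equiv) cv2c 0 (p := 38) (by decide +kernel)

theorem cv0 : Cv (ev equiv ns) ts [38, 40, 42, 44, 46, 48, 36] [] :=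
  ser.two (mb.wm equiv) 0 (by decide +kernel) cv1 cv2

theorem Ca_mix : MixG (Subgroup.centralizer ({ev equiv ns [36]} : Set Cfsg.Spor.M23)) :=
  mb.mix_pe' equiv Ca Cay 14 7 2 2 7 [2, 3, 7] [(0, 6, [[76], [76, 90, 80, 87, 88, 83, 86, 78, 84, 78]]),
 (1, 1, [[76, 90, 80, 87, 88, 83, 86, 78, 84, 78]])]
    (by norm_num) (fun h => absurd rfl h)
    (by decide +kernel) (by decide +kernel) (by decide +kernel)

theorem invMix : InvMix Cfsg.Spor.M23 :=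
  mb.invMix equiv hn nc lb (by decide +kernel) cv0 (List.forall_mem_cons.2 ⟨Ca_mix, fun _ h => absurd h List.not_mem_nil⟩)

end Cfsg.Agent.Spor.MixM23
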