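import Cfsg.Agent.K.InvMo2
import Cfsg.Agent.Comp.LookT
import Cfsg.Agent.Spor.ModelM24

set_option autoImplicit false
set_option Elab.async false
set_option maxRecDepth 4096

namespace Cfsg.Agent.Spor.MixM24

open Cfsg.Agent.Comp

noncomputable def ns_2 : Net :=
 (Net.cons (nat_lit 16) 648
 (Net.cons (nat_lit 8) (nat_lit 0x2800dc)
 (Net.cons (nat_lit 4) (nat_lit 0xa020c0f)
 (Net.cons (nat_lit 2) (nat_lit 0x20000031)
 (Net.cons (nat_lit 1) (nat_lit 0x104015)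
 (Net.cons (nat_lit 2) (nat_lit 0x200020)
 (Net.cons (nat_lit 4) (nat_lit 0x8020802)
 (Net.cons (nat_lit 8) (nat_lit 0x28004c)
 (Net.cons (nat_lit 16) 648
 Net.nil)))))))))

noncomputable def ns_3 : Net :=
 (Net.cons (nat_lit 16) 4948
 (Net.cons (nat_lit 8) (nat_lit 0x4900f8)
 (Net.cons (nat_lit 4) (nat_lit 0xb050400)
 (Net.cons (nat_lit 2) (nat_lit 0x10103000)
 (Net.cons (nat_lit 1) (nat_lit 0x50015044)
 (Net.cons (nat_lit 2) 32
 (Net.cons (nat_lit 4) (nat_lit 0xa060400)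
 (Net.cons (nat_lit 8) (nat_lit 0x5a00d8)
 (Net.cons (nat_lit 16) 4936
 Net.nil)))))))))

noncomputable def ns_4 : Net :=
 (Net.cons (nat_lit 16) 29656
 (Net.cons (nat_lit 8) (nat_lit 0x820018)
 (Net.cons (nat_lit 4) (nat_lit 0x4040404)
 (Net.cons (nat_lit 2) (nat_lit 0x23021020)
 (Net.cons (nat_lit 1) (nat_lit 0x14040004)
 (Net.cons (nat_lit 2) (nat_lit 0x2000002)
 (Net.cons (nat_lit 4) (nat_lit 0x4040404)
 (Net.cons (nat_lit 8) (nat_lit 0x820098)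
 (Net.cons (nat_lit 16) 29640
 Net.nil)))))))))

noncomputable def ns_5 : Net :=
 (Net.cons (nat_lit 16) 32382
 (Net.cons (nat_lit 8) (nat_lit 0x3600c6)
 (Net.cons (nat_lit 4) (nat_lit 0x20c0200)
 (Net.cons (nat_lit 2) (nat_lit 0x30110100)
 (Net.cons (nat_lit 1) (nat_lit 0x44144010)
 (Net.cons (nat_lit 2) (nat_lit 0x20222000)
 (Net.cons (nat_lit 4) (nat_lit 0x6040600)
 (Net.cons (nat_lit 8) (nat_lit 0x440046)
 (Net.cons (nat_lit 16) 32384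
 Net.nil)))))))))

noncomputable def ns_6 : Net :=
 (Net.cons (nat_lit 16) 26034
 (Net.cons (nat_lit 8) (nat_lit 0x890014)
 (Net.cons (nat_lit 4) (nat_lit 0xc050c00)
 (Net.cons (nat_lit 2) (nat_lit 0x22310232)
 (Net.cons (nat_lit 1) (nat_lit 0x41404040)
 (Net.cons (nat_lit 2) (nat_lit 0x2200020)
 (Net.cons (nat_lit 4) (nat_lit 0x8040c02)
 (Net.cons (nat_lit 8) (nat_lit 0x880084)
 (Net.cons (nat_lit 16) 25938
 Net.nil)))))))))

noncomputable def ns_7 : Net :=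
 (Net.cons (nat_lit 16) 63806
 (Net.cons (nat_lit 8) (nat_lit 0x79002a)
 (Net.cons (nat_lit 4) (nat_lit 0x7040e00)
 (Net.cons (nat_lit 2) (nat_lit 0x23212010)
 (Net.cons (nat_lit 1) (nat_lit 0x14144000)
 (Net.cons (nat_lit 2) (nat_lit 0x22000000)
 (Net.cons (nat_lit 4) (nat_lit 0x6080c04)
 (Net.cons (nat_lit 8) 524328
 (Net.cons (nat_lit 16) 63786
 Net.nil)))))))))

noncomputable def ns_8 : Net :=
 (Net.cons (nat_lit 16) 30506
 (Net.cons (nat_lit 8) (nat_lit 0x170040)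
 (Net.cons (nat_lit 4) (nat_lit 0x6000002)
 (Net.cons (nat_lit 2) (nat_lit 0x1200000)
 (Net.cons (nat_lit 1) (nat_lit 0x1144014)
 (Net.cons (nat_lit 2) (nat_lit 0x220022)
 (Net.cons (nat_lit 4) (nat_lit 0x2080808)
 (Net.cons (nat_lit 8) 393408
 (Net.cons (nat_lit 16) 30514
 Net.nil)))))))))

noncomputable def ns_9 : Net :=
 (Net.cons (nat_lit 16) 37066
 (Net.cons (nat_lit 8) (nat_lit 0x9000c0)
 (Net.cons (nat_lit 4) 591370
 (Net.cons (nat_lit 2) (nat_lit 0x230300)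
 (Net.cons (nat_lit 1) (nat_lit 0x114450)
 (Net.cons (nat_lit 2) 139776
 (Net.cons (nat_lit 4) 262152
 (Net.cons (nat_lit 8) (nat_lit 0x1000c0)
 (Net.cons (nat_lit 16) 37082
 Net.nil)))))))))

noncomputable def ns_10 : Net :=
 (Net.cons (nat_lit 16) 32462
 (Net.cons (nat_lit 8) (nat_lit 0x880040)
 (Net.cons (nat_lit 4) (nat_lit 0xa060c08)
 (Net.cons (nat_lit 2) (nat_lit 0x32030320)
 (Net.cons (nat_lit 1) (nat_lit 0x14010114)
 (Net.cons (nat_lit 2) 546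
 (Net.cons (nat_lit 4) (nat_lit 0xc060c00)
 (Net.cons (nat_lit 8) (nat_lit 0xd000c0)
 (Net.cons (nat_lit 16) 32294
 Net.nil)))))))))

noncomputable def ns_11 : Net :=
 (Net.cons (nat_lit 16) 61530
 (Net.cons (nat_lit 8) (nat_lit 0x10000e)
 (Net.cons (nat_lit 4) 458764
 (Net.cons (nat_lit 2) (nat_lit 0x20010212)
 (Net.cons (nat_lit 1) (nat_lit 0x40040154)
 (Net.cons (nat_lit 2) (nat_lit 0x20020202)
 (Net.cons (nat_lit 4) 655364
 (Net.cons (nat_lit 8) (nat_lit 0xf00004)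
 (Net.cons (nat_lit 16) 61474
 Net.nil)))))))))

noncomputable def ns_12 : Net :=
 (Net.cons (nat_lit 16) 4206
 (Net.cons (nat_lit 8) (nat_lit 0x5000f8)
 (Net.cons (nat_lit 4) 66314
 (Net.cons (nat_lit 2) (nat_lit 0x10200320)
 (Net.cons (nat_lit 1) (nat_lit 0x101444)
 (Net.cons (nat_lit 2) (nat_lit 0x200020)
 (Net.cons (nat_lit 4) 3076
 (Net.cons (nat_lit 8) (nat_lit 0x40007a)
 (Net.cons (nat_lit 16) 4174
 Net.nil)))))))))

noncomputable def ns_13 : Net :=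
 (Net.cons (nat_lit 16) 48786
 (Net.cons (nat_lit 8) (nat_lit 0x700010)
 (Net.cons (nat_lit 4) (nat_lit 0x40b0102)
 (Net.cons (nat_lit 2) (nat_lit 0x2210020)
 (Net.cons (nat_lit 1) (nat_lit 0x44110000)
 (Net.cons (nat_lit 2) (nat_lit 0x20220000)
 (Net.cons (nat_lit 4) (nat_lit 0x4020000)
 (Net.cons (nat_lit 8) (nat_lit 0x700010)
 (Net.cons (nat_lit 16) 48770
 Net.nil)))))))))

noncomputable def ns_14 : Net :=
 (Net.cons (nat_lit 16) 19200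
 (Net.cons (nat_lit 8) (nat_lit 0x1300f0)
 (Net.cons (nat_lit 4) (nat_lit 0x8000600)
 (Net.cons (nat_lit 2) (nat_lit 0x30033200)
 (Net.cons (nat_lit 1) (nat_lit 0x10451400)
 (Net.cons (nat_lit 2) (nat_lit 0x20202200)
 (Net.cons (nat_lit 4) (nat_lit 0x8000600)
 (Net.cons (nat_lit 8) (nat_lit 0x1000d0)
 (Net.cons (nat_lit 16) 19200
 Net.nil)))))))))

noncomputable def ns_15 : Net :=
 (Net.cons (nat_lit 16) 49728
 (Net.cons (nat_lit 8) (nat_lit 0xd80080)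
 (Net.cons (nat_lit 4) (nat_lit 0x40a0600)
 (Net.cons (nat_lit 2) (nat_lit 0x22031000)
 (Net.cons (nat_lit 1) (nat_lit 0x14004100)
 (Net.cons (nat_lit 2) (nat_lit 0x22000000)
 (Net.cons (nat_lit 4) (nat_lit 0xc0c0600)
 (Net.cons (nat_lit 8) (nat_lit 0xd800a0)
 (Net.cons (nat_lit 16) 49664
 Net.nil)))))))))

noncomputable def ns_16 : Net :=
 (Net.cons (nat_lit 16) 16976
 (Net.cons (nat_lit 8) (nat_lit 0x820080)
 (Net.cons (nat_lit 4) (nat_lit 0xc040500)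
 (Net.cons (nat_lit 2) (nat_lit 0x2211230)
 (Net.cons (nat_lit 1) (nat_lit 0x4444110)
 (Net.cons (nat_lit 2) (nat_lit 0x222220)
 (Net.cons (nat_lit 4) (nat_lit 0xc020c00)
 (Net.cons (nat_lit 8) (nat_lit 0x820080)
 (Net.cons (nat_lit 16) 16976
 Net.nil)))))))))

noncomputable def ns_17 : Net :=
 (Net.cons (nat_lit 16) 57700
 (Net.cons (nat_lit 8) (nat_lit 0x910000)
 (Net.cons (nat_lit 4) 655364
 (Net.cons (nat_lit 2) 544
 (Net.cons (nat_lit 1) (nat_lit 0x50000040)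
 (Net.cons (nat_lit 2) 32
 (Net.cons (nat_lit 4) 4
 (Net.cons (nat_lit 8) (nat_lit 0x900000)
 (Net.cons (nat_lit 16) 57636
 Net.nil)))))))))

noncomputable def ns_18 : Net :=
 (Net.cons (nat_lit 16) 19200
 (Net.cons (nat_lit 8) (nat_lit 0xf400c0)
 (Net.cons (nat_lit 4) (nat_lit 0xb040000)
 (Net.cons (nat_lit 2) (nat_lit 0x13032020)
 (Net.cons (nat_lit 1) (nat_lit 0x41004000)
 (Net.cons (nat_lit 2) (nat_lit 0x2002000)
 (Net.cons (nat_lit 4) (nat_lit 0x4040000)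
 (Net.cons (nat_lit 8) (nat_lit 0xf400c0)
 (Net.cons (nat_lit 16) 19200
 Net.nil)))))))))

noncomputable def ns_19 : Net :=
 (Net.cons (nat_lit 16) 2304
 (Net.cons (nat_lit 8) (nat_lit 0x840000)
 (Net.cons (nat_lit 4) (nat_lit 0x80a0400)
 (Net.cons (nat_lit 2) (nat_lit 0x1302220)
 (Net.cons (nat_lit 1) (nat_lit 0x510440)
 (Net.cons (nat_lit 2) 544
 (Net.cons (nat_lit 4) 656384
 (Net.cons (nat_lit 8) (nat_lit 0x840000)
 (Net.cons (nat_lit 16) 2304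
 Net.nil)))))))))

noncomputable def ns_20 : Net :=
 (Net.cons (nat_lit 16) 41792
 (Net.cons (nat_lit 8) (nat_lit 0xa00000)
 (Net.cons (nat_lit 4) (nat_lit 0x2020800)
 (Net.cons (nat_lit 2) (nat_lit 0x20330020)
 (Net.cons (nat_lit 1) (nat_lit 0x1504040)
 (Net.cons (nat_lit 2) 32
 (Net.cons (nat_lit 4) (nat_lit 0x2020800)
 (Net.cons (nat_lit 8) (nat_lit 0xa00000)
 (Net.cons (nat_lit 16) 41792
 Net.nil)))))))))

noncomputable def ns_21 : Net :=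
 (Net.cons (nat_lit 16) 43264
 (Net.cons (nat_lit 8) (nat_lit 0xaa0040)
 (Net.cons (nat_lit 4) (nat_lit 0x20d0400)
 (Net.cons (nat_lit 2) (nat_lit 0x22130220)
 (Net.cons (nat_lit 1) (nat_lit 0x1410440)
 (Net.cons (nat_lit 2) (nat_lit 0x2020220)
 (Net.cons (nat_lit 4) (nat_lit 0x2000400)
 (Net.cons (nat_lit 8) (nat_lit 0x8a0040)
 (Net.cons (nat_lit 16) 43264
 Net.nil)))))))))

noncomputable def ns_22 : Net :=
 (Net.cons (nat_lit 16) 41408
 (Net.cons (nat_lit 8) (nat_lit 0x290008)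
 (Net.cons (nat_lit 4) (nat_lit 0xa060004)
 (Net.cons (nat_lit 2) (nat_lit 0x301202)
 (Net.cons (nat_lit 1) (nat_lit 0x1010004)
 (Net.cons (nat_lit 2) 2
 (Net.cons (nat_lit 4) (nat_lit 0x2060004)
 (Net.cons (nat_lit 8) 524296
 (Net.cons (nat_lit 16) 41408
 Net.nil)))))))))

noncomputable def ns_23 : Net :=
 (Net.cons (nat_lit 16) 9416
 (Net.cons (nat_lit 8) (nat_lit 0x380066)
 (Net.cons (nat_lit 4) 396046
 (Net.cons (nat_lit 2) 73729
 (Net.cons (nat_lit 1) (nat_lit 0x14404410)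
 (Net.cons (nat_lit 2) 512
 (Net.cons (nat_lit 4) 263174
 (Net.cons (nat_lit 8) (nat_lit 0x380066)
 (Net.cons (nat_lit 16) 9416
 Net.nil)))))))))

noncomputable def ns_24 : Net :=
 (Net.cons (nat_lit 16) 58250
 (Net.cons (nat_lit 8) (nat_lit 0x280060)
 (Net.cons (nat_lit 4) 592904
 (Net.cons (nat_lit 2) (nat_lit 0x2201021)
 (Net.cons (nat_lit 1) (nat_lit 0x41455014)
 (Net.cons (nat_lit 2) (nat_lit 0x22200020)
 (Net.cons (nat_lit 4) (nat_lit 0x20c0800)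
 (Net.cons (nat_lit 8) (nat_lit 0x28007c)
 (Net.cons (nat_lit 16) 58240
 Net.nil)))))))))

noncomputable def ns_25 : Net :=
 (Net.cons (nat_lit 16) 31627
 (Net.cons (nat_lit 8) (nat_lit 0x5f0084)
 (Net.cons (nat_lit 4) (nat_lit 0x9070801)
 (Net.cons (nat_lit 2) (nat_lit 0x12010030)
 (Net.cons (nat_lit 1) (nat_lit 0x44150444)
 (Net.cons (nat_lit 2) (nat_lit 0x2000002)
 (Net.cons (nat_lit 4) (nat_lit 0xe0c080e)
 (Net.cons (nat_lit 8) (nat_lit 0x240080)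
 (Net.cons (nat_lit 16) 31680
 Net.nil)))))))))

noncomputable def ns_26 : Net :=
 (Net.cons (nat_lit 16) 62410
 (Net.cons (nat_lit 8) (nat_lit 0xa50010)
 (Net.cons (nat_lit 4) (nat_lit 0xb010c06)
 (Net.cons (nat_lit 2) (nat_lit 0x2221002)
 (Net.cons (nat_lit 1) (nat_lit 0x5414004)
 (Net.cons (nat_lit 2) (nat_lit 0x220000)
 (Net.cons (nat_lit 4) (nat_lit 0x8000c04)
 (Net.cons (nat_lit 8) (nat_lit 0x460014)
 (Net.cons (nat_lit 16) 62370
 Net.nil)))))))))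

noncomputable def ns_27 : Net :=
 (Net.cons (nat_lit 16) 17152
 (Net.cons (nat_lit 8) (nat_lit 0x460010)
 (Net.cons (nat_lit 4) 10
 (Net.cons (nat_lit 2) (nat_lit 0x1022000)
 (Net.cons (nat_lit 1) (nat_lit 0x110010)
 (Net.cons (nat_lit 2) 131072
 (Net.cons (nat_lit 4) 2
 (Net.cons (nat_lit 8) 262160
 (Net.cons (nat_lit 16) 17152
 Net.nil)))))))))

noncomputable def ns_28 : Net :=
 (Net.cons (nat_lit 16) 8592
 (Net.cons (nat_lit 8) (nat_lit 0x200000)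
 (Net.cons (nat_lit 4) (nat_lit 0x204000e)
 (Net.cons (nat_lit 2) (nat_lit 0x201003)
 (Net.cons (nat_lit 1) (nat_lit 0x1010015)
 (Net.cons (nat_lit 4) (nat_lit 0x200000e)
 (Net.cons (nat_lit 8) (nat_lit 0x200000)
 (Net.cons (nat_lit 16) 8592
 Net.nil))))))))

noncomputable def ns_29 : Net :=
 (Net.cons (nat_lit 16) 41346
 (Net.cons (nat_lit 8) (nat_lit 0x28001c)
 (Net.cons (nat_lit 4) 854542
 (Net.cons (nat_lit 2) (nat_lit 0x22101020)
 (Net.cons (nat_lit 1) (nat_lit 0x1145015)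
 (Net.cons (nat_lit 2) (nat_lit 0x2020020)
 (Net.cons (nat_lit 4) (nat_lit 0x80c0a0e)
 (Net.cons (nat_lit 8) (nat_lit 0x280000)
 (Net.cons (nat_lit 16) 41344
 Net.nil)))))))))

noncomputable def ns_30 : Net :=
 (Net.cons (nat_lit 16) 320
 (Net.cons (nat_lit 8) (nat_lit 0x20000c)
 (Net.cons (nat_lit 4) (nat_lit 0x20c000a)
 (Net.cons (nat_lit 2) (nat_lit 0x101030)
 (Net.cons (nat_lit 1) (nat_lit 0x1040051)
 (Net.cons (nat_lit 4) (nat_lit 0x20c000a)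
 (Net.cons (nat_lit 8) (nat_lit 0x200008)
 (Net.cons (nat_lit 16) 320
 Net.nil))))))))

noncomputable def ns_31 : Net :=
 (Net.cons (nat_lit 16) 33152
 (Net.cons (nat_lit 8) (nat_lit 0xa0007c)
 (Net.cons (nat_lit 4) (nat_lit 0x2080e09)
 (Net.cons (nat_lit 2) 12819
 (Net.cons (nat_lit 1) (nat_lit 0x1000441)
 (Net.cons (nat_lit 2) 514
 (Net.cons (nat_lit 4) (nat_lit 0x2000e04)
 (Net.cons (nat_lit 8) (nat_lit 0xa0007c)
 (Net.cons (nat_lit 16) 33152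
 Net.nil)))))))))

noncomputable def ns_32 : Net :=
 (Net.cons (nat_lit 16) 8949
 (Net.cons (nat_lit 8) (nat_lit 0x68004c)
 (Net.cons (nat_lit 4) 920843
 (Net.cons (nat_lit 2) (nat_lit 0x22120012)
 (Net.cons (nat_lit 1) (nat_lit 0x40010055)
 (Net.cons (nat_lit 2) (nat_lit 0x20020000)
 (Net.cons (nat_lit 4) 786436
 (Net.cons (nat_lit 8) (nat_lit 0x68004c)
 (Net.cons (nat_lit 16) 8820
 Net.nil)))))))))

noncomputable def ns_33 : Net :=
 (Net.cons (nat_lit 16) 10002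
 (Net.cons (nat_lit 8) (nat_lit 0x230090)
 (Net.cons (nat_lit 4) (nat_lit 0x20c0c0a)
 (Net.cons (nat_lit 2) (nat_lit 0x3022030)
 (Net.cons (nat_lit 1) (nat_lit 0x4411410)
 (Net.cons (nat_lit 2) (nat_lit 0x2202000)
 (Net.cons (nat_lit 4) (nat_lit 0x2060402)
 (Net.cons (nat_lit 8) 131136
 (Net.cons (nat_lit 16) 10002
 Net.nil)))))))))

noncomputable def ns_34 : Net :=
 (Net.cons (nat_lit 16) 43288
 (Net.cons (nat_lit 8) (nat_lit 0xac0000)
 (Net.cons (nat_lit 4) 132110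
 (Net.cons (nat_lit 2) (nat_lit 0x23000220)
 (Net.cons (nat_lit 1) (nat_lit 0x1010414)
 (Net.cons (nat_lit 2) (nat_lit 0x2020222)
 (Net.cons (nat_lit 4) 655374
 (Net.cons (nat_lit 8) 786448
 (Net.cons (nat_lit 16) 43288
 Net.nil)))))))))

noncomputable def ns_35 : Net :=
 (Net.cons (nat_lit 16) 25704
 (Net.cons (nat_lit 8) (nat_lit 0x200000)
 (Net.cons (nat_lit 4) (nat_lit 0x4080208)
 (Net.cons (nat_lit 2) (nat_lit 0x20320000)
 (Net.cons (nat_lit 1) (nat_lit 0x40051000)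
 (Net.cons (nat_lit 2) (nat_lit 0x20002000)
 (Net.cons (nat_lit 4) (nat_lit 0x4020200)
 (Net.cons (nat_lit 8) (nat_lit 0x600008)
 (Net.cons (nat_lit 16) 25672
 Net.nil)))))))))

noncomputable def ns_36 : Net :=
 (Net.cons (nat_lit 16) 3034
 (Net.cons (nat_lit 8) (nat_lit 0x410054)
 (Net.cons (nat_lit 4) (nat_lit 0x40a000c)
 (Net.cons (nat_lit 2) 65584
 (Net.cons (nat_lit 1) (nat_lit 0x4011054)
 (Net.cons (nat_lit 2) (nat_lit 0x2020000)
 (Net.cons (nat_lit 4) (nat_lit 0x40a0006)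
 (Net.cons (nat_lit 8) (nat_lit 0x4800f4)
 (Net.cons (nat_lit 16) 2970
 Net.nil)))))))))

noncomputable def ns_37 : Net :=
 (Net.cons (nat_lit 16) 34720
 (Net.cons (nat_lit 8) (nat_lit 0xb100c0)
 (Net.cons (nat_lit 4) (nat_lit 0xe080002)
 (Net.cons (nat_lit 2) (nat_lit 0x32013022)
 (Net.cons (nat_lit 1) (nat_lit 0x41451040)
 (Net.cons (nat_lit 2) (nat_lit 0x22000020)
 (Net.cons (nat_lit 4) (nat_lit 0xc080000)
 (Net.cons (nat_lit 8) (nat_lit 0x3000c0)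
 (Net.cons (nat_lit 16) 34720
 Net.nil)))))))))

noncomputable def ns_38 : Net :=
 (Net.cons (nat_lit 16) 11640
 (Net.cons (nat_lit 8) (nat_lit 0x3900ba)
 (Net.cons (nat_lit 4) (nat_lit 0xc000a0c)
 (Net.cons (nat_lit 2) (nat_lit 0x30211200)
 (Net.cons (nat_lit 1) (nat_lit 0x40445004)
 (Net.cons (nat_lit 2) (nat_lit 0x200002)
 (Net.cons (nat_lit 4) (nat_lit 0xc04080c)
 (Net.cons (nat_lit 8) (nat_lit 0x1000e8)
 (Net.cons (nat_lit 16) 11640
 Net.nil)))))))))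

noncomputable def ns_39 : Net :=
 (Net.cons (nat_lit 16) 47132
 (Net.cons (nat_lit 8) (nat_lit 0x900090)
 (Net.cons (nat_lit 4) 787716
 (Net.cons (nat_lit 2) (nat_lit 0x20110100)
 (Net.cons (nat_lit 1) (nat_lit 0x10414000)
 (Net.cons (nat_lit 2) (nat_lit 0x220000)
 (Net.cons (nat_lit 4) 787456
 (Net.cons (nat_lit 8) (nat_lit 0x9800d0)
 (Net.cons (nat_lit 16) 47262
 Net.nil)))))))))

noncomputable def ns_40 : Net :=
 (Net.cons (nat_lit 16) 5423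
 (Net.cons (nat_lit 8) (nat_lit 0x500000)
 (Net.cons (nat_lit 4) (nat_lit 0x1050003)
 (Net.cons (nat_lit 2) (nat_lit 0x1102213)
 (Net.cons (nat_lit 1) (nat_lit 0x410040)
 (Net.cons (nat_lit 4) (nat_lit 0x4040008)
 (Net.cons (nat_lit 8) (nat_lit 0x440020)
 (Net.cons (nat_lit 16) 5536
 Net.nil))))))))

noncomputable def ns_41 : Net :=
 (Net.cons (nat_lit 16) 16608
 (Net.cons (nat_lit 8) (nat_lit 0x600000)
 (Net.cons (nat_lit 4) 393224
 (Net.cons (nat_lit 2) (nat_lit 0x20302020)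
 (Net.cons (nat_lit 1) (nat_lit 0x40041500)
 (Net.cons (nat_lit 2) (nat_lit 0x20002000)
 (Net.cons (nat_lit 4) 393224
 (Net.cons (nat_lit 8) (nat_lit 0x600000)
 (Net.cons (nat_lit 16) 16608
 Net.nil)))))))))

noncomputable def ns_42 : Net :=
 (Net.cons (nat_lit 16) 4480
 (Net.cons (nat_lit 8) (nat_lit 0x280028)
 (Net.cons (nat_lit 4) (nat_lit 0xa0a0608)
 (Net.cons (nat_lit 2) (nat_lit 0x20000200)
 (Net.cons (nat_lit 1) (nat_lit 0x11144440)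
 (Net.cons (nat_lit 2) (nat_lit 0x20002000)
 (Net.cons (nat_lit 4) (nat_lit 0xa0a0808)
 (Net.cons (nat_lit 8) (nat_lit 0x280028)
 (Net.cons (nat_lit 16) 4480
 Net.nil)))))))))

noncomputable def ns_43 : Net :=
 (Net.cons (nat_lit 16) 54028
 (Net.cons (nat_lit 8) (nat_lit 0x280060)
 (Net.cons (nat_lit 4) (nat_lit 0x7050402)
 (Net.cons (nat_lit 2) (nat_lit 0x1012022)
 (Net.cons (nat_lit 1) (nat_lit 0x14014404)
 (Net.cons (nat_lit 2) (nat_lit 0x22002002)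
 (Net.cons (nat_lit 4) (nat_lit 0xe040400)
 (Net.cons (nat_lit 8) (nat_lit 0x280060)
 (Net.cons (nat_lit 16) 54020
 Net.nil)))))))))

noncomputable def ns_44 : Net :=
 (Net.cons (nat_lit 16) 30026
 (Net.cons (nat_lit 8) (nat_lit 0x4500ca)
 (Net.cons (nat_lit 4) (nat_lit 0x30f080a)
 (Net.cons (nat_lit 2) (nat_lit 0x3230022)
 (Net.cons (nat_lit 1) (nat_lit 0x4044000)
 (Net.cons (nat_lit 2) (nat_lit 0x2020000)
 (Net.cons (nat_lit 4) (nat_lit 0x60a0000)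
 (Net.cons (nat_lit 8) 72
 (Net.cons (nat_lit 16) 30016
 Net.nil)))))))))

noncomputable def ns_45 : Net :=
 (Net.cons (nat_lit 16) 53280
 (Net.cons (nat_lit 8) (nat_lit 0x100012)
 (Net.cons (nat_lit 4) 396296
 (Net.cons (nat_lit 2) (nat_lit 0x30101000)
 (Net.cons (nat_lit 1) (nat_lit 0x10444140)
 (Net.cons (nat_lit 2) (nat_lit 0x20020020)
 (Net.cons (nat_lit 4) 658440
 (Net.cons (nat_lit 8) (nat_lit 0x100010)
 (Net.cons (nat_lit 16) 53312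
 Net.nil)))))))))

noncomputable def ns_46 : Net :=
 (Net.cons (nat_lit 16) 25234
 (Net.cons (nat_lit 8) (nat_lit 0x280070)
 (Net.cons (nat_lit 4) 2058
 (Net.cons (nat_lit 2) (nat_lit 0x2113000)
 (Net.cons (nat_lit 1) (nat_lit 0x515014)
 (Net.cons (nat_lit 4) 3074
 (Net.cons (nat_lit 8) (nat_lit 0x6a00fc)
 (Net.cons (nat_lit 16) 25088
 Net.nil))))))))

noncomputable def ns_47 : Net :=
 (Net.cons (nat_lit 16) 2609
 (Net.cons (nat_lit 8) (nat_lit 0x720060)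
 (Net.cons (nat_lit 4) (nat_lit 0x8000503)
 (Net.cons (nat_lit 2) (nat_lit 0x10031003)
 (Net.cons (nat_lit 1) (nat_lit 0x10011044)
 (Net.cons (nat_lit 2) (nat_lit 0x20002020)
 (Net.cons (nat_lit 4) (nat_lit 0x8080000)
 (Net.cons (nat_lit 8) (nat_lit 0x7a0080)
 (Net.cons (nat_lit 16) 2806
 Net.nil)))))))))

noncomputable def ns_48 : Net :=
 (Net.cons (nat_lit 16) 54144
 (Net.cons (nat_lit 8) (nat_lit 0xfe0000)
 (Net.cons (nat_lit 4) (nat_lit 0xa020001)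
 (Net.cons (nat_lit 2) (nat_lit 0x2200001)
 (Net.cons (nat_lit 1) (nat_lit 0x41100410)
 (Net.cons (nat_lit 2) (nat_lit 0x2000000)
 (Net.cons (nat_lit 4) (nat_lit 0x4020004)
 (Net.cons (nat_lit 8) (nat_lit 0xac0004)
 (Net.cons (nat_lit 16) 54154
 Net.nil)))))))))

noncomputable def ns_49 : Net :=
 (Net.cons (nat_lit 16) 16656
 (Net.cons (nat_lit 8) (nat_lit 0x440000)
 (Net.cons (nat_lit 4) 12
 (Net.cons (nat_lit 2) (nat_lit 0x1220021)
 (Net.cons (nat_lit 1) (nat_lit 0x110440)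
 (Net.cons (nat_lit 2) (nat_lit 0x220020)
 (Net.cons (nat_lit 4) 4
 (Net.cons (nat_lit 8) 262144
 (Net.cons (nat_lit 16) 16656
 Net.nil)))))))))

noncomputable def ns_50 : Net :=
 (Net.cons (nat_lit 16) 228
 (Net.cons (nat_lit 8) 88
 (Net.cons (nat_lit 4) 526348
 (Net.cons (nat_lit 2) (nat_lit 0x212101)
 (Net.cons (nat_lit 1) 4160
 (Net.cons (nat_lit 2) 8192
 (Net.cons (nat_lit 4) 526348
 (Net.cons (nat_lit 8) 88
 (Net.cons (nat_lit 16) 36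
 Net.nil)))))))))

noncomputable def ns_51 : Net :=
 (Net.cons (nat_lit 16) 17512
 (Net.cons (nat_lit 8) (nat_lit 0xe00090)
 (Net.cons (nat_lit 4) (nat_lit 0x80c0908)
 (Net.cons (nat_lit 2) (nat_lit 0x20012201)
 (Net.cons (nat_lit 1) (nat_lit 0x44401140)
 (Net.cons (nat_lit 2) (nat_lit 0x20002200)
 (Net.cons (nat_lit 4) (nat_lit 0x80c0008)
 (Net.cons (nat_lit 8) (nat_lit 0xe00090)
 (Net.cons (nat_lit 16) 17512
 Net.nil)))))))))

noncomputable def ns_52 : Net :=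
 (Net.cons (nat_lit 16) 448
 (Net.cons (nat_lit 8) 524328
 (Net.cons (nat_lit 4) 1025
 (Net.cons (nat_lit 2) (nat_lit 0x2012000)
 (Net.cons (nat_lit 1) (nat_lit 0x1404444)
 (Net.cons (nat_lit 2) (nat_lit 0x2002000)
 (Net.cons (nat_lit 4) 1024
 (Net.cons (nat_lit 8) 524328
 (Net.cons (nat_lit 16) 256
 Net.nil)))))))))

noncomputable def ns_53 : Net :=
 (Net.cons (nat_lit 16) 2086
 (Net.cons (nat_lit 8) (nat_lit 0xc000b1)
 (Net.cons (nat_lit 4) (nat_lit 0x80c0d0a)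
 (Net.cons (nat_lit 2) 769
 (Net.cons (nat_lit 1) (nat_lit 0x40400140)
 (Net.cons (nat_lit 2) (nat_lit 0x200200)
 (Net.cons (nat_lit 4) 788492
 (Net.cons (nat_lit 8) (nat_lit 0xc000d4)
 (Net.cons (nat_lit 16) 2086
 Net.nil)))))))))

noncomputable def ns_54 : Net :=
 (Net.cons (nat_lit 16) 1194
 (Net.cons (nat_lit 8) (nat_lit 0x8000f1)
 (Net.cons (nat_lit 4) (nat_lit 0x8000a0e)
 (Net.cons (nat_lit 2) (nat_lit 0x233023)
 (Net.cons (nat_lit 1) (nat_lit 0x4411104)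
 (Net.cons (nat_lit 2) (nat_lit 0x220202)
 (Net.cons (nat_lit 4) (nat_lit 0x800020c)
 (Net.cons (nat_lit 8) (nat_lit 0x8000b2)
 (Net.cons (nat_lit 16) 1198
 Net.nil)))))))))

noncomputable def ns_55 : Net :=
 (Net.cons (nat_lit 16) 2190
 (Net.cons (nat_lit 8) (nat_lit 0x6400c6)
 (Net.cons (nat_lit 4) (nat_lit 0x4080000)
 (Net.cons (nat_lit 2) (nat_lit 0x20022032)
 (Net.cons (nat_lit 1) (nat_lit 0x44014104)
 (Net.cons (nat_lit 2) (nat_lit 0x20022000)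
 (Net.cons (nat_lit 4) 1540
 (Net.cons (nat_lit 8) (nat_lit 0x6c0046)
 (Net.cons (nat_lit 16) 2094
 Net.nil)))))))))

noncomputable def ns_56 : Net :=
 (Net.cons (nat_lit 16) 10057
 (Net.cons (nat_lit 8) (nat_lit 0xd60068)
 (Net.cons (nat_lit 4) (nat_lit 0xe020801)
 (Net.cons (nat_lit 2) (nat_lit 0x12012013)
 (Net.cons (nat_lit 1) (nat_lit 0x5040041)
 (Net.cons (nat_lit 2) 131074
 (Net.cons (nat_lit 4) (nat_lit 0xc020804)
 (Net.cons (nat_lit 8) (nat_lit 0xd000a0)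
 (Net.cons (nat_lit 16) 10084
 Net.nil)))))))))

noncomputable def ns_57 : Net :=
 (Net.cons (nat_lit 16) 22286
 (Net.cons (nat_lit 8) (nat_lit 0x900068)
 (Net.cons (nat_lit 4) (nat_lit 0x8070809)
 (Net.cons (nat_lit 2) (nat_lit 0x12000020)
 (Net.cons (nat_lit 1) (nat_lit 0x5014014)
 (Net.cons (nat_lit 2) 2
 (Net.cons (nat_lit 4) (nat_lit 0xc020802)
 (Net.cons (nat_lit 8) (nat_lit 0xd400c0)
 (Net.cons (nat_lit 16) 22378
 Net.nil)))))))))

noncomputable def ns_58 : Net :=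
 (Net.cons (nat_lit 16) 10734
 (Net.cons (nat_lit 8) (nat_lit 0x24001c)
 (Net.cons (nat_lit 4) (nat_lit 0x20b0601)
 (Net.cons (nat_lit 2) (nat_lit 0x1302020)
 (Net.cons (nat_lit 1) (nat_lit 0x5105000)
 (Net.cons (nat_lit 4) (nat_lit 0x2080a00)
 (Net.cons (nat_lit 8) (nat_lit 0x240018)
 (Net.cons (nat_lit 16) 10502
 Net.nil))))))))

noncomputable def ns_59 : Net :=
 (Net.cons (nat_lit 16) 13440
 (Net.cons (nat_lit 8) (nat_lit 0x280020)
 (Net.cons (nat_lit 4) (nat_lit 0xc030a04)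
 (Net.cons (nat_lit 2) (nat_lit 0x30002020)
 (Net.cons (nat_lit 1) (nat_lit 0x50110114)
 (Net.cons (nat_lit 2) 32
 (Net.cons (nat_lit 4) (nat_lit 0xc000a04)
 (Net.cons (nat_lit 8) (nat_lit 0x280020)
 (Net.cons (nat_lit 16) 13440
 Net.nil)))))))))

noncomputable def ns_60 : Net :=
 (Net.cons (nat_lit 16) 12816
 (Net.cons (nat_lit 8) (nat_lit 0x300040)
 (Net.cons (nat_lit 4) (nat_lit 0x20b0c08)
 (Net.cons (nat_lit 2) (nat_lit 0x220120)
 (Net.cons (nat_lit 1) 16384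
 (Net.cons (nat_lit 4) 3080
 (Net.cons (nat_lit 8) (nat_lit 0x300040)
 (Net.cons (nat_lit 16) 12800
 Net.nil))))))))

noncomputable def ns_61 : Net :=
 (Net.cons (nat_lit 16) 2784
 (Net.cons (nat_lit 8) (nat_lit 0x120010)
 (Net.cons (nat_lit 4) (nat_lit 0x80a060a)
 (Net.cons (nat_lit 2) (nat_lit 0x20001022)
 (Net.cons (nat_lit 1) (nat_lit 0x10410110)
 (Net.cons (nat_lit 2) (nat_lit 0x20000020)
 (Net.cons (nat_lit 4) (nat_lit 0x80a060a)
 (Net.cons (nat_lit 8) (nat_lit 0x100010)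
 (Net.cons (nat_lit 16) 2784
 Net.nil)))))))))

noncomputable def ns_62 : Net :=
 (Net.cons (nat_lit 16) 2440
 (Net.cons (nat_lit 8) (nat_lit 0x3a0000)
 (Net.cons (nat_lit 4) (nat_lit 0x800060c)
 (Net.cons (nat_lit 2) (nat_lit 0x20021000)
 (Net.cons (nat_lit 1) (nat_lit 0x11010014)
 (Net.cons (nat_lit 2) 131104
 (Net.cons (nat_lit 4) (nat_lit 0x800040c)
 (Net.cons (nat_lit 8) (nat_lit 0x3a0000)
 (Net.cons (nat_lit 16) 2480
 Net.nil)))))))))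

noncomputable def ns_63 : Net :=
 (Net.cons (nat_lit 16) 3176
 (Net.cons (nat_lit 8) (nat_lit 0x720080)
 (Net.cons (nat_lit 4) (nat_lit 0xe00010c)
 (Net.cons (nat_lit 2) (nat_lit 0x2020020)
 (Net.cons (nat_lit 1) (nat_lit 0x14010004)
 (Net.cons (nat_lit 2) (nat_lit 0x22020000)
 (Net.cons (nat_lit 4) (nat_lit 0xa080008)
 (Net.cons (nat_lit 8) (nat_lit 0x7200b0)
 (Net.cons (nat_lit 16) 3176
 Net.nil)))))))))

noncomputable def ns_64 : Net :=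
 (Net.cons (nat_lit 16) 9538
 (Net.cons (nat_lit 8) (nat_lit 0xd80086)
 (Net.cons (nat_lit 4) (nat_lit 0xd00040c)
 (Net.cons (nat_lit 2) (nat_lit 0x33001200)
 (Net.cons (nat_lit 1) (nat_lit 0x11010014)
 (Net.cons (nat_lit 2) (nat_lit 0x2000002)
 (Net.cons (nat_lit 4) 1038
 (Net.cons (nat_lit 8) (nat_lit 0xf8009c)
 (Net.cons (nat_lit 16) 9528
 Net.nil)))))))))

noncomputable def ns_65 : Net :=
 (Net.cons (nat_lit 16) 48094
 (Net.cons (nat_lit 8) (nat_lit 0x400068)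
 (Net.cons (nat_lit 4) (nat_lit 0xb000c06)
 (Net.cons (nat_lit 2) (nat_lit 0x2000020)
 (Net.cons (nat_lit 1) (nat_lit 0x51014050)
 (Net.cons (nat_lit 2) 8192
 (Net.cons (nat_lit 4) 133126
 (Net.cons (nat_lit 8) (nat_lit 0x4a0068)
 (Net.cons (nat_lit 16) 48006
 Net.nil)))))))))

noncomputable def ns_66 : Net :=
 (Net.cons (nat_lit 16) 13978
 (Net.cons (nat_lit 8) (nat_lit 0x3e0086)
 (Net.cons (nat_lit 4) (nat_lit 0xe040808)
 (Net.cons (nat_lit 2) (nat_lit 0x10310330)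
 (Net.cons (nat_lit 1) (nat_lit 0x40500410)
 (Net.cons (nat_lit 2) (nat_lit 0x20000020)
 (Net.cons (nat_lit 4) (nat_lit 0xc040800)
 (Net.cons (nat_lit 8) 786574
 (Net.cons (nat_lit 16) 13862
 Net.nil)))))))))

noncomputable def ns_67 : Net :=
 (Net.cons (nat_lit 16) 33224
 (Net.cons (nat_lit 8) (nat_lit 0xbb006e)
 (Net.cons (nat_lit 4) (nat_lit 0x108020a)
 (Net.cons (nat_lit 2) (nat_lit 0x20033010)
 (Net.cons (nat_lit 1) (nat_lit 0x11014454)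
 (Net.cons (nat_lit 2) (nat_lit 0x20022202)
 (Net.cons (nat_lit 4) (nat_lit 0xa080008)
 (Net.cons (nat_lit 8) (nat_lit 0x3a0010)
 (Net.cons (nat_lit 16) 33040
 Net.nil)))))))))

noncomputable def ns_68 : Net :=
 (Net.cons (nat_lit 16) 5655
 (Net.cons (nat_lit 8) (nat_lit 0x220073)
 (Net.cons (nat_lit 4) (nat_lit 0x40b0708)
 (Net.cons (nat_lit 2) (nat_lit 0x10122301)
 (Net.cons (nat_lit 1) (nat_lit 0x10110440)
 (Net.cons (nat_lit 2) 131072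
 (Net.cons (nat_lit 4) (nat_lit 0x4020400)
 (Net.cons (nat_lit 8) (nat_lit 0x26009a)
 (Net.cons (nat_lit 16) 5700
 Net.nil)))))))))

noncomputable def ns_69 : Net :=
 (Net.cons (nat_lit 16) 8464
 (Net.cons (nat_lit 8) (nat_lit 0x200078)
 (Net.cons (nat_lit 4) (nat_lit 0x2010600)
 (Net.cons (nat_lit 2) (nat_lit 0x222200)
 (Net.cons (nat_lit 1) (nat_lit 0x1004400)
 (Net.cons (nat_lit 2) 8704
 (Net.cons (nat_lit 4) (nat_lit 0x2000000)
 (Net.cons (nat_lit 8) (nat_lit 0x200060)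
 (Net.cons (nat_lit 16) 8464
 Net.nil)))))))))

noncomputable def ns_70 : Net :=
 (Net.cons (nat_lit 16) 3696
 (Net.cons (nat_lit 8) (nat_lit 0x940008)
 (Net.cons (nat_lit 4) (nat_lit 0xa060900)
 (Net.cons (nat_lit 2) (nat_lit 0x232000)
 (Net.cons (nat_lit 1) (nat_lit 0x10400010)
 (Net.cons (nat_lit 2) (nat_lit 0x200000)
 (Net.cons (nat_lit 4) (nat_lit 0x2060800)
 (Net.cons (nat_lit 8) (nat_lit 0x940008)
 (Net.cons (nat_lit 16) 3696
 Net.nil)))))))))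

noncomputable def ns_71 : Net :=
 (Net.cons (nat_lit 16) 47372
 (Net.cons (nat_lit 8) (nat_lit 0x780006)
 (Net.cons (nat_lit 4) (nat_lit 0x605000c)
 (Net.cons (nat_lit 2) (nat_lit 0x23320032)
 (Net.cons (nat_lit 1) (nat_lit 0x14010054)
 (Net.cons (nat_lit 2) (nat_lit 0x22000002)
 (Net.cons (nat_lit 4) (nat_lit 0x6040008)
 (Net.cons (nat_lit 8) (nat_lit 0x400004)
 (Net.cons (nat_lit 16) 47380
 Net.nil)))))))))

noncomputable def ns_72 : Net :=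
 (Net.cons (nat_lit 16) 3804
 (Net.cons (nat_lit 8) (nat_lit 0x5e00a6)
 (Net.cons (nat_lit 4) (nat_lit 0x6080908)
 (Net.cons (nat_lit 2) (nat_lit 0x10210220)
 (Net.cons (nat_lit 1) (nat_lit 0x14041510)
 (Net.cons (nat_lit 2) 131104
 (Net.cons (nat_lit 4) (nat_lit 0x6020808)
 (Net.cons (nat_lit 8) (nat_lit 0x520096)
 (Net.cons (nat_lit 16) 3690
 Net.nil)))))))))

noncomputable def ns_73 : Net :=
 (Net.cons (nat_lit 16) 17068
 (Net.cons (nat_lit 8) (nat_lit 0x3000dd)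
 (Net.cons (nat_lit 4) (nat_lit 0x20c050e)
 (Net.cons (nat_lit 2) (nat_lit 0x10032230)
 (Net.cons (nat_lit 1) (nat_lit 0x451151)
 (Net.cons (nat_lit 2) 514
 (Net.cons (nat_lit 4) 786438
 (Net.cons (nat_lit 8) (nat_lit 0x300064)
 (Net.cons (nat_lit 16) 17068
 Net.nil)))))))))

noncomputable def ns_74 : Net :=
 (Net.cons (nat_lit 16) 37761
 (Net.cons (nat_lit 8) (nat_lit 0x920018)
 (Net.cons (nat_lit 4) (nat_lit 0x904000e)
 (Net.cons (nat_lit 2) (nat_lit 0x2301001)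
 (Net.cons (nat_lit 1) (nat_lit 0x1450041)
 (Net.cons (nat_lit 2) (nat_lit 0x2200020)
 (Net.cons (nat_lit 4) (nat_lit 0x8000008)
 (Net.cons (nat_lit 8) (nat_lit 0x120058)
 (Net.cons (nat_lit 16) 37632
 Net.nil)))))))))

noncomputable def ns_75 : Net :=
 (Net.cons (nat_lit 16) 9452
 (Net.cons (nat_lit 8) (nat_lit 0xa4008b)
 (Net.cons (nat_lit 4) (nat_lit 0x40a0c00)
 (Net.cons (nat_lit 2) (nat_lit 0x210320)
 (Net.cons (nat_lit 1) (nat_lit 0x40000411)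
 (Net.cons (nat_lit 2) (nat_lit 0x20000020)
 (Net.cons (nat_lit 4) (nat_lit 0x40c0c08)
 (Net.cons (nat_lit 8) (nat_lit 0xa40088)
 (Net.cons (nat_lit 16) 9452
 Net.nil)))))))))

noncomputable def ns_76 : Net :=
 (Net.cons (nat_lit 16) 2562
 (Net.cons (nat_lit 8) (nat_lit 0x980060)
 (Net.cons (nat_lit 4) (nat_lit 0x2000e0e)
 (Net.cons (nat_lit 2) (nat_lit 0x20000030)
 (Net.cons (nat_lit 1) (nat_lit 0x10010104)
 (Net.cons (nat_lit 2) 131584
 (Net.cons (nat_lit 4) (nat_lit 0x2000a08)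
 (Net.cons (nat_lit 8) (nat_lit 0x980024)
 (Net.cons (nat_lit 16) 2562
 Net.nil)))))))))

noncomputable def ns_77 : Net :=
 (Net.cons (nat_lit 16) 1216
 (Net.cons (nat_lit 8) 262337
 (Net.cons (nat_lit 4) 14
 (Net.cons (nat_lit 2) (nat_lit 0x110202)
 (Net.cons (nat_lit 1) 16
 (Net.cons (nat_lit 4) 10
 (Net.cons (nat_lit 8) 262336
 (Net.cons (nat_lit 16) 1088
 Net.nil))))))))

noncomputable def ns_78 : Net :=
 (Net.cons (nat_lit 16) 34282
 (Net.cons (nat_lit 8) (nat_lit 0x2e00aa)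
 (Net.cons (nat_lit 4) 513
 (Net.cons (nat_lit 2) (nat_lit 0x20012000)
 (Net.cons (nat_lit 1) (nat_lit 0x1000014)
 (Net.cons (nat_lit 2) 2
 (Net.cons (nat_lit 4) (nat_lit 0xa040000)
 (Net.cons (nat_lit 8) (nat_lit 0xae00aa)
 (Net.cons (nat_lit 16) 34120
 Net.nil)))))))))

noncomputable def ns_79 : Net :=
 (Net.cons (nat_lit 16) 230
 (Net.cons (nat_lit 8) 181
 (Net.cons (nat_lit 4) 985864
 (Net.cons (nat_lit 2) 135713
 (Net.cons (nat_lit 1) 327748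
 (Net.cons (nat_lit 2) 32
 (Net.cons (nat_lit 4) 655366
 (Net.cons (nat_lit 8) 94
 (Net.cons (nat_lit 16) 70
 Net.nil)))))))))

noncomputable def ns_80 : Net :=
 (Net.cons (nat_lit 16) 59847
 (Net.cons (nat_lit 8) (nat_lit 0xac00f6)
 (Net.cons (nat_lit 4) (nat_lit 0xe0f0200)
 (Net.cons (nat_lit 2) (nat_lit 0x3203003)
 (Net.cons (nat_lit 1) (nat_lit 0x44144001)
 (Net.cons (nat_lit 2) (nat_lit 0x2000000)
 (Net.cons (nat_lit 4) (nat_lit 0xe0e0000)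
 (Net.cons (nat_lit 8) (nat_lit 0x4c00f6)
 (Net.cons (nat_lit 16) 59654
 Net.nil)))))))))

noncomputable def ns_81 : Net :=
 (Net.cons (nat_lit 16) 60705
 (Net.cons (nat_lit 8) (nat_lit 0xf80000)
 (Net.cons (nat_lit 4) (nat_lit 0xf0e000b)
 (Net.cons (nat_lit 2) (nat_lit 0x30020002)
 (Net.cons (nat_lit 1) (nat_lit 0x15010040)
 (Net.cons (nat_lit 2) (nat_lit 0x20000000)
 (Net.cons (nat_lit 4) (nat_lit 0x602000c)
 (Net.cons (nat_lit 8) (nat_lit 0x340000)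
 (Net.cons (nat_lit 16) 60824
 Net.nil)))))))))

noncomputable def ns_82 : Net :=
 (Net.cons (nat_lit 16) 22272
 (Net.cons (nat_lit 8) (nat_lit 0x3300c0)
 (Net.cons (nat_lit 4) (nat_lit 0x701080b)
 (Net.cons (nat_lit 2) (nat_lit 0x1222023)
 (Net.cons (nat_lit 1) (nat_lit 0x154014)
 (Net.cons (nat_lit 2) (nat_lit 0x200002)
 (Net.cons (nat_lit 4) (nat_lit 0x4040808)
 (Net.cons (nat_lit 8) (nat_lit 0x240048)
 (Net.cons (nat_lit 16) 22436
 Net.nil)))))))))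

noncomputable def ns : List Net := [ModelM24.ns_0, ModelM24.ns_1, ns_2, ns_3, ns_4, ns_5, ns_6, ns_7, ns_8, ns_9, ns_10, ns_11, ns_12, ns_13, ns_14, ns_15, ns_16, ns_17, ns_18, ns_19, ns_20, ns_21, ns_22, ns_23, ns_24, ns_25, ns_26, ns_27, ns_28, ns_29, ns_30, ns_31, ns_32, ns_33, ns_34, ns_35, ns_36, ns_37, ns_38, ns_39, ns_40, ns_41, ns_42, ns_43, ns_44, ns_45, ns_46, ns_47, ns_48, ns_49, ns_50, ns_51, ns_52, ns_53, ns_54, ns_55, ns_56, ns_57, ns_58, ns_59, ns_60, ns_61, ns_62, ns_63, ns_64, ns_65, ns_66, ns_67, ns_68, ns_69, ns_70, ns_71, ns_72, ns_73, ns_74, ns_75, ns_76, ns_77, ns_78, ns_79, ns_80, ns_81, ns_82]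

theorem ctx : Ctx 32 5 ns := ctx_of (by decide +kernel)

theorem lctx : LCtx 32 5 8 31 trN5 ns := lctx_of ctx trOK5 (by decide +kernel)

noncomputable def E : List ℕ → ℕ → ℕ := pfW0 32 5 8 31 trN5 ns

theorem hE : Evl 32 ns E := evl_pfW0 lctx

open Cfsg.Agent.K Cfsg.Agent.Comp.IC

theorem geq : gen ModelM24.ns ModelM24.G_ss0 = gen ns [[0], [2]] :=
  gen_eq_of_take (ns := ModelM24.ns) (ns' := ns) (k := 2) rfl (ws := ModelM24.G_ss0) (by decide +kernel)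

theorem hn : Nat.card (gen ns [[0], [2]]) = 244823040 :=
  geq ▸ ModelM24.G_card

noncomputable def equiv : Cfsg.M24 ≃* ↥(gen ns [[0], [2]]) :=
  ModelM24.equiv.trans (MulEquiv.subgroupCongr geq)

theorem kn_0 : Known ns (gen ns [[0], [2]]) 3 :=
  known_gen (by decide +kernel)

noncomputable def S_S7 : List SD :=
  []

noncomputable def S_d6 : SD :=
  ⟨5, 1, [36, 38, 40, 42], lab 3 7 (nat_lit 0xd349a6190c36080000), 4⟩

noncomputable def S_S6 : List SD :=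
  S_d6 :: S_S7

noncomputable def S_d5 : SD :=
  ⟨7, 1, [30, 32, 34, 36, 38, 40, 42], lab 4 15 (nat_lit 0x10000000000), 1⟩

noncomputable def S_S5 : List SD :=
  S_d5 :: S_S6

noncomputable def S_d4 : SD :=
  ⟨4, 1, [24, 26, 28, 30, 32, 34, 36, 38, 40, 42], lab 5 31 (nat_lit 0x80d83494920b806114022198000000), 2⟩

noncomputable def S_S4 : List SD :=
  S_d4 :: S_S5

noncomputable def S_d3 : SD :=
  ⟨3, 1, [18, 20, 22, 24, 26, 28, 30, 32, 34, 36, 38, 40, 42], lab 5 31 (nat_lit 0x112034804d614a138d542000100000), 2⟩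

noncomputable def S_S3 : List SD :=
  S_d3 :: S_S4

noncomputable def S_d2 : SD :=
  ⟨2, 1, [12, 14, 16, 18, 20, 22, 24, 26, 28, 30, 32, 34, 36, 38, 40, 42], lab 5 31 (nat_lit 0xd0c0220ca9a404102d0a2938740000), 2⟩

noncomputable def S_S2 : List SD :=
  S_d2 :: S_S3

noncomputable def S_d1 : SD :=
  ⟨1, 1, [6, 8, 10, 12, 14, 16, 18, 20, 22, 24, 26, 28, 30, 32, 34, 36, 38, 40, 42], lab 6 63 (nat_lit 0x30219a5454476d63940d35093d9887348000), 2⟩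

noncomputable def S_S1 : List SD :=
  S_d1 :: S_S2

noncomputable def S_d0 : SD :=
  ⟨0, 1, [0, 2, 4, 6, 8, 10, 12, 14, 16, 18, 20, 22, 24, 26, 28, 30, 32, 34, 36, 38, 40, 42], lab 6 63 (nat_lit 0x20854a0cb4cf2452ce247982094112084000), 3⟩

noncomputable def S_S0 : List SD :=
  S_d0 :: S_S1

theorem kn_1 : Known ns (gen ns [[0], [2]]) 4194303 :=
  kn_0.steps ctx (es := [(2, [0, 2, 0]),
 (3, [4, 2, 4, 3, 3, 5, 3, 1, 3, 0, 3]),
 (4, [5, 2, 5, 0, 4, 1, 3, 3, 4]),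
 (5, [8, 7]),
 (6, [10, 9, 11, 7, 8, 10, 8, 6]),
 (7, [9, 7, 10]),
 (8, [12, 14, 13, 13, 13]),
 (9, [13, 13]),
 (10, [16, 12, 15, 16, 14, 16]),
 (11, [18, 21, 19, 19, 21, 18]),
 (12, [23, 19, 20, 22, 22, 19, 22, 21, 21, 21]),
 (13, [21, 19, 19, 20, 18, 22, 19]),
 (14, [27, 24, 24, 26, 26]),
 (15, [24, 28, 27, 24, 26, 28, 27]),
 (16, [26, 24, 28, 25, 26, 25, 26, 29]),
 (17, [29, 27, 28, 25, 29]),
 (18, [32, 34, 31]),
 (19, [31, 32, 30, 35, 33]),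
 (20, [30, 34, 33, 34, 33, 30]),
 (21, [31, 34, 31, 31])]) (by decide +kernel)

theorem S_ex : Exact 32 ns S_S0 ∧ gen ns (sTop S_S0) = gen ns [[0], [2]] ∧ gen ns [[0], [2]] = gen ns [[0], [2]] :=
  exact_of_known ctx hn (le_rfl) kn_1 (by decide +kernel)

noncomputable def CaG_S7 : List SD :=
  []

noncomputable def CaG_d6 : SD :=
  ⟨6, 2, [66], lab 1 1 131072, 1⟩

noncomputable def CaG_S6 : List SD :=
  CaG_d6 :: CaG_S7

noncomputable def CaG_d5 : SD :=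
  ⟨5, 2, [68, 70, 66], lab 3 7 (nat_lit 0x134e82846c4200800), 3⟩

noncomputable def CaG_S5 : List SD :=
  CaG_d5 :: CaG_S6

noncomputable def CaG_d4 : SD :=
  ⟨22, 2, [72, 68, 70, 66], lab 3 7 (nat_lit 0x21dab958710b858000), 3⟩

noncomputable def CaG_S4 : List SD :=
  CaG_d4 :: CaG_S5

noncomputable def CaG_d3 : SD :=
  ⟨1, 2, [74, 72, 68, 70, 66], lab 4 15 (nat_lit 0x230934738138342527700000), 3⟩

noncomputable def CaG_S3 : List SD :=
  CaG_d3 :: CaG_S4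

noncomputable def CaG_d2 : SD :=
  ⟨4, 2, [76, 74, 72, 68, 70, 66], lab 4 15 (nat_lit 0x45939a53674b102b81004020), 3⟩

noncomputable def CaG_S2 : List SD :=
  CaG_d2 :: CaG_S3

noncomputable def CaG_d1 : SD :=
  ⟨2, 2, [78, 76, 74, 72, 68, 70, 66], lab 4 15 (nat_lit 0x474d68b2cd310c62a5b20050), 3⟩

noncomputable def CaG_S1 : List SD :=
  CaG_d1 :: CaG_S2

noncomputable def CaG_d0 : SD :=
  ⟨0, 2, [80, 78, 76, 74, 72, 68, 70, 66], lab 4 15 (nat_lit 0x8040e0756346d3f812a1b350), 3⟩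

noncomputable def CaG_S0 : List SD :=
  CaG_d0 :: CaG_S1

theorem kn_2 : Known ns (gen ns [[0], [2]]) 281474976710655 :=
  kn_1.steps ctx (es := [(22, [8, 18, 18, 36, 25, 30, 42, 40, 38, 36]),
 (23, [5, 31, 8, 12, 22, 20, 33, 24, 42, 40, 36]),
 (24, [4, 3, 0, 13, 11, 22, 12, 18, 20, 29, 30, 38]),
 (25, [18, 4, 13, 8, 20, 14, 18, 18, 26, 42, 36]),
 (26, [26, 11, 19, 14, 22, 20, 38, 24, 31, 42, 38]),
 (27, [26, 11, 17, 12, 18, 24, 24, 30, 42, 38, 36]),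
 (28, [8, 4, 18, 8, 22, 12, 31, 18, 28, 24, 31, 42, 40, 38]),
 (29, [4, 32, 8, 28, 12, 22, 36, 24, 30, 42, 40, 38]),
 (30, [4, 8, 40, 15, 22, 20, 29, 31, 42, 40, 38, 36]),
 (31, [8, 4, 13, 11, 19, 14, 22, 20, 28, 24, 30, 42]),
 (32, [8, 4, 18, 8, 38, 12, 22, 20, 30, 28, 31, 42, 40, 38]),
 (33, [30, 20, 25, 42, 38, 36]),
 (34, [18, 36, 25, 42, 40, 36]),
 (35, [18, 36, 25, 30, 42, 40]),
 (36, [28, 18, 24, 24, 30, 42, 36]),
 (37, [19, 11, 17, 12, 28, 18, 25, 42, 38, 36]),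
 (38, [8, 20, 25, 42, 40, 38]),
 (39, [33, 8, 20, 12, 22, 28, 31, 42, 38, 36]),
 (40, [11, 0, 15, 8, 15, 23, 18, 27, 24, 30, 42, 40, 38, 36]),
 (41, [68, 66]),
 (42, [71, 66]),
 (43, [68, 74, 70, 67]),
 (44, [66, 74, 67, 73, 71, 67, 68, 66]),
 (45, [76, 66, 74, 67, 72, 69]),
 (46, [71, 74, 78, 75, 76, 68, 74, 73, 68]),
 (47, [79, 69, 80, 70, 78, 78, 70, 77, 75, 68, 72, 72, 66, 70, 68])]) (by decide +kernel)

theorem CaG_ex : Exact 32 ns CaG_S0 ∧ gen ns (sTop CaG_S0) = gen ns [[0], [2]] ∧ gen ns [[0], [2]] = gen ns [[0], [2]] :=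
  exact_of_known ctx hn (le_rfl) kn_2 (by decide +kernel)

noncomputable def Ca_as : List (List ℕ) :=
  [[44]]

noncomputable def Ca_p : List (List ℕ × List ℕ) :=
  derAs (dg Ca_as) [[0]]

noncomputable def Ca_s : List (ℕ × ℕ) :=
  derSs 32 5 ns (dg Ca_as) [[0]]

noncomputable def Ca_k0 : List (List ℕ) :=
  [[94], [92], [90], [86], [88], [82], [84]]

noncomputable def Ca_k1 : List (List ℕ) :=
  [[92], [90], [86], [88], [82], [84]]

noncomputable def Ca_k2 : List (List ℕ) :=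
  [[90], [86], [88], [82], [84]]

noncomputable def Ca_k3 : List (List ℕ) :=
  [[86], [88], [82], [84]]

noncomputable def Ca_k4 : List (List ℕ) :=
  [[82], [84]]

noncomputable def Ca_k5 : List (List ℕ) :=
  [[82], [84]]

noncomputable def Ca_k6 : List (List ℕ) :=
  []

noncomputable def Ca_k7 : List (List ℕ) :=
  []

theorem Ca_cm : commB 32 5 ns (dg Ca_as) Ca_k0 = true :=
  by decide +kernel

theorem Ca_g0 : Good 32 ns Ca_p Ca_s (gen ns (sTop CaG_S0)) Ca_k0 :=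
  good_der ctx kn_2 (CaG_ex.2.1.trans CaG_ex.2.2.symm) _ _ ((and'_eq_true _ _).2 ⟨by decide +kernel, Ca_cm⟩)

theorem Ca_g1 : Good 32 ns Ca_p Ca_s (gen ns (sTop CaG_S1)) Ca_k1 :=
  Ca_g0.tail ctx CaG_ex.1 (by decide +kernel)

theorem Ca_g2 : Good 32 ns Ca_p Ca_s (gen ns (sTop CaG_S2)) Ca_k2 :=
  Ca_g1.tail ctx CaG_ex.1.tail (by decide +kernel)

theorem Ca_g3 : Good 32 ns Ca_p Ca_s (gen ns (sTop CaG_S3)) Ca_k3 :=
  Ca_g2.tail ctx CaG_ex.1.tail.tail (by decide +kernel)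

theorem Ca_g4 : Good 32 ns Ca_p Ca_s (gen ns (sTop CaG_S4)) Ca_k4 :=
  Ca_g3.tail ctx CaG_ex.1.tail.tail.tail (by decide +kernel)

theorem Ca_g5 : Good 32 ns Ca_p Ca_s (gen ns (sTop CaG_S5)) Ca_k5 :=
  Ca_g4.tail ctx CaG_ex.1.tail.tail.tail.tail (by decide +kernel)

theorem Ca_g6 : Good 32 ns Ca_p Ca_s (gen ns (sTop CaG_S6)) Ca_k6 :=
  Ca_g5.tail ctx CaG_ex.1.tail.tail.tail.tail.tail (by decide +kernel)

theorem Ca_l7 : LevX 32 ns Ca_p Ca_s (gen ns (sTop CaG_S7)) Ca_k7 1 :=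
  levX_nil _ _ _ _

theorem Ca_l6 : LevX 32 ns Ca_p Ca_s (gen ns (sTop CaG_S6)) Ca_k6 1 :=
  Ca_l7.step ctx CaG_ex.1.tail.tail.tail.tail.tail.tail Ca_g6 (br_zero _ _ _ _ _ _ _) [] 0 0 (by decide +kernel)

theorem Ca_l5 : LevX 32 ns Ca_p Ca_s (gen ns (sTop CaG_S5)) Ca_k5 4 :=
  Ca_l6.step ctx CaG_ex.1.tail.tail.tail.tail.tail Ca_g5 (br_zero _ _ _ _ _ _ _) [] 1 1 (by decide +kernel)

theorem Ca_l4 : LevX 32 ns Ca_p Ca_s (gen ns (sTop CaG_S4)) Ca_k4 4 :=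
  Ca_l5.step ctx CaG_ex.1.tail.tail.tail.tail Ca_g4 (br_zero _ _ _ _ _ _ _) [(0, 1, 0)] 0 0 (by decide +kernel)

theorem Ca_l3 : LevX 32 ns Ca_p Ca_s (gen ns (sTop CaG_S3)) Ca_k3 64 :=
  Ca_l4.step ctx CaG_ex.1.tail.tail.tail Ca_g3 (br_zero _ _ _ _ _ _ _) [] 2 2 (by decide +kernel)

theorem Ca_l2 : LevX 32 ns Ca_p Ca_s (gen ns (sTop CaG_S2)) Ca_k2 384 :=
  Ca_l3.step ctx CaG_ex.1.tail.tail Ca_g2 (br_zero _ _ _ _ _ _ _) [] 2 2 (by decide +kernel)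

theorem Ca_l1 : LevX 32 ns Ca_p Ca_s (gen ns (sTop CaG_S1)) Ca_k1 2688 :=
  Ca_l2.step ctx CaG_ex.1.tail Ca_g1 (br_zero _ _ _ _ _ _ _) [] 2 2 (by decide +kernel)

theorem Ca_l0 : LevX 32 ns Ca_p Ca_s (gen ns (sTop CaG_S0)) Ca_k0 21504 :=
  Ca_l1.step ctx CaG_ex.1 Ca_g0 (br_zero _ _ _ _ _ _ _) [] 2 2 (by decide +kernel)

theorem Ca : CentEq ns (gen ns [[0], [2]]) Ca_as Ca_k0 21504 :=
  centEq_of ctx CaG_ex.2.1 Ca_l0 Ca_g0 Ca_cm

noncomputable def CaD_S7 : List SD :=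
  []

noncomputable def CaD_d6 : SD :=
  ⟨8, 1, [98, 100, 102, 104], lab 3 7 (nat_lit 0x980c061804809b4986), 4⟩

noncomputable def CaD_S6 : List SD :=
  CaD_d6 :: CaD_S7

noncomputable def CaD_d5 : SD :=
  ⟨21, 2, [106, 98, 100, 102, 104], lab 4 15 (nat_lit 0x10000000000000), 1⟩

noncomputable def CaD_S5 : List SD :=
  CaD_d5 :: CaD_S6

noncomputable def CaD_d4 : SD :=
  ⟨9, 2, [108, 106, 98, 100, 102, 104], lab 4 15 (nat_lit 0x1200a428033036002aa44001), 3⟩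

noncomputable def CaD_S4 : List SD :=
  CaD_d4 :: CaD_S5

noncomputable def CaD_d3 : SD :=
  ⟨15, 2, [110, 108, 106, 98, 100, 102, 104], lab 4 15 (nat_lit 0x41002430c505a238c260102), 3⟩

noncomputable def CaD_S3 : List SD :=
  CaD_d3 :: CaD_S4

noncomputable def CaD_d2 : SD :=
  ⟨20, 2, [112, 110, 108, 106, 98, 100, 102, 104], lab 4 15 (nat_lit 0xce60300e0620a11803e65407), 3⟩

noncomputable def CaD_S2 : List SD :=
  CaD_d2 :: CaD_S3

noncomputable def CaD_d1 : SD :=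
  ⟨12, 2, [114, 112, 110, 108, 106, 98, 100, 102, 104], lab 5 31 (nat_lit 0x31802541001b820288a72382431c02), 3⟩

noncomputable def CaD_S1 : List SD :=
  CaD_d1 :: CaD_S2

noncomputable def CaD_d0 : SD :=
  ⟨1, 2, [116, 114, 112, 110, 108, 106, 98, 100, 102, 104], lab 5 31 (nat_lit 0x28d4209c8c1ac02198e6380415ac0c), 3⟩

noncomputable def CaD_S0 : List SD :=
  CaD_d0 :: CaD_S1

theorem kn_3 : Known ns (gen ns [[0], [2]]) 576460752303423487 :=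
  kn_2.steps ctx (es := [(48, [4, 3, 0, 9, 17, 12, 38, 18, 28, 30]),
 (49, [20, 4, 20, 12, 19, 29, 24, 31, 42, 40, 36]),
 (50, [5, 21, 12, 22, 26, 24, 31, 42, 38]),
 (51, [4, 3, 0, 40, 8, 28, 18, 28, 24, 31, 36]),
 (52, [18, 4, 19, 14, 18, 20, 24, 42, 38]),
 (53, [11, 0, 18, 8, 16, 12, 18, 24, 30, 42]),
 (54, [5, 21, 12, 30, 20, 24, 42, 40, 36]),
 (55, [12, 31, 18, 25, 42, 40, 36]),
 (56, [9, 0, 18, 8, 21, 12, 27, 18, 25, 30, 38, 36]),
 (57, [18, 4, 23, 12, 34, 18, 28, 40]),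
 (58, [14, 4, 13, 11, 14, 22, 20, 27, 30, 42])]) (by decide +kernel)

theorem CaD_ex : Exact 32 ns CaD_S0 ∧ gen ns (sTop CaD_S0) = gen ns [[0], [2]] ∧ gen ns [[0], [2]] = gen ns [[0], [2]] :=
  exact_of_known ctx hn (le_rfl) kn_3 (by decide +kernel)

noncomputable def Cay_as : List (List ℕ × List ℕ) :=
  [([44], [44]), ([96], [96])]

noncomputable def Cay_cs : List (List ℕ) :=
  [[], [117, 104, 114, 102, 113, 106, 110, 104, 100, 108, 107, 104, 102, 98]]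

noncomputable def Cay_pl : List Pl :=
  [⟨.lst 0, []⟩, ⟨.forced 0 0, []⟩, ⟨.forced 0 0, []⟩, ⟨.forced 0 0, []⟩, ⟨.forced 0 0, []⟩, ⟨.forced 0 0, []⟩, ⟨.forced 0 1, []⟩]

noncomputable def Cay_M0 : ℕ :=
  524290

theorem Cay_b0 : Br 32 ns (derAs Cay_as [[2], [0]]) (derSs 32 5 ns Cay_as [[0], [2]]) (gen ns (sTop CaD_S0)) CaD_d0.p Cay_M0 (InCs ns CaD_S0 Cay_cs) :=
  br_of_brB ctx hE CaD_ex.1 (pl := Cay_pl) (bs := []) (tps := []) (by decide +kernel)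

theorem Cay : SolList ns (gen ns [[0], [2]]) Cay_as [[96]] Cay_cs :=
  solList_of_br ctx CaD_ex.1 CaD_ex.2.1 kn_3 Cay_b0 (cons := []) (r := 6) (by decide +kernel)

noncomputable def CbG_S7 : List SD :=
  []

noncomputable def CbG_d6 : SD :=
  ⟨3, 1, [118, 120, 122, 124], lab 3 7 (nat_lit 0xc36834024db2016000), 4⟩

noncomputable def CbG_S6 : List SD :=
  CbG_d6 :: CbG_S7

noncomputable def CbG_d5 : SD :=
  ⟨2, 2, [126, 118, 120, 122, 124], lab 4 15 (nat_lit 0x10000000000000000000000), 1⟩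

noncomputable def CbG_S5 : List SD :=
  CbG_d5 :: CbG_S6

noncomputable def CbG_d4 : SD :=
  ⟨1, 2, [128, 126, 118, 120, 122, 124], lab 4 15 (nat_lit 0x412600110043a8820880a100), 4⟩

noncomputable def CbG_S4 : List SD :=
  CbG_d4 :: CbG_S5

noncomputable def CbG_d3 : SD :=
  ⟨18, 2, [130, 128, 126, 118, 120, 122, 124], lab 4 15 (nat_lit 0x11a03002302843ac0cc15200), 3⟩

noncomputable def CbG_S3 : List SD :=
  CbG_d3 :: CbG_S4

noncomputable def CbG_d2 : SD :=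
  ⟨7, 2, [132, 130, 128, 126, 118, 120, 122, 124], lab 4 15 (nat_lit 0x454132e8203675400a870030), 3⟩

noncomputable def CbG_S2 : List SD :=
  CbG_d2 :: CbG_S3

noncomputable def CbG_d1 : SD :=
  ⟨14, 2, [134, 132, 130, 128, 126, 118, 120, 122, 124], lab 5 31 (nat_lit 0x19070189c5380440804a0202628000), 3⟩

noncomputable def CbG_S1 : List SD :=
  CbG_d1 :: CbG_S2

noncomputable def CbG_d0 : SD :=
  ⟨0, 2, [136, 134, 132, 130, 128, 126, 118, 120, 122, 124], lab 5 31 (nat_lit 0x18e0430081280e512a002856b49000), 3⟩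

noncomputable def CbG_S0 : List SD :=
  CbG_d0 :: CbG_S1

theorem kn_4 : Known ns (gen ns [[0], [2]]) 18889465931478580854783 :=
  kn_3.steps ctx (es := [(59, [18, 18, 26]),
 (60, [18, 20, 25, 31, 42, 38]),
 (61, [19, 24, 24, 31]),
 (62, [19, 21, 40, 24, 31, 40, 38, 36]),
 (63, [32, 14, 21, 19, 26, 42, 40, 38, 36]),
 (64, [13, 11, 14, 12, 22, 38, 24, 30, 42, 40, 36]),
 (65, [26, 11, 17, 12, 34, 18, 30, 28, 38]),
 (66, [26, 8, 20, 12, 18, 36, 24, 31, 38, 36]),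
 (67, [25, 8, 21, 12, 34, 18, 27, 24, 31, 38]),
 (68, [11, 0, 21, 8, 12, 15, 18, 18, 36, 24, 31, 42, 38, 36]),
 (69, [124, 122, 120]),
 (70, [122, 120, 118]),
 (71, [122, 128, 128, 122]),
 (72, [130, 128, 132, 130, 130, 126, 128, 124, 118]),
 (73, [122, 135, 136, 130, 132, 124, 131, 124, 128, 127, 124, 122, 118])]) (by decide +kernel)

theorem CbG_ex : Exact 32 ns CbG_S0 ∧ gen ns (sTop CbG_S0) = gen ns [[0], [2]] ∧ gen ns [[0], [2]] = gen ns [[0], [2]] :=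
  exact_of_known ctx hn (le_rfl) kn_4 (by decide +kernel)

noncomputable def Cb_as : List (List ℕ) :=
  [[46]]

noncomputable def Cb_p : List (List ℕ × List ℕ) :=
  derAs (dg Cb_as) [[0]]

noncomputable def Cb_s : List (ℕ × ℕ) :=
  derSs 32 5 ns (dg Cb_as) [[0]]

noncomputable def Cb_k0 : List (List ℕ) :=
  [[146], [144], [142], [120], [138], [140]]

noncomputable def Cb_k1 : List (List ℕ) :=
  [[144], [142], [120], [138], [140]]

noncomputable def Cb_k2 : List (List ℕ) :=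
  [[144], [142], [120], [138], [140]]

noncomputable def Cb_k3 : List (List ℕ) :=
  [[142], [120], [138], [140]]

noncomputable def Cb_k4 : List (List ℕ) :=
  [[142], [120], [138], [140]]

noncomputable def Cb_k5 : List (List ℕ) :=
  [[120], [138], [140]]

noncomputable def Cb_k6 : List (List ℕ) :=
  [[120], [138], [140]]

noncomputable def Cb_k7 : List (List ℕ) :=
  []

theorem Cb_cm : commB 32 5 ns (dg Cb_as) Cb_k0 = true :=
  by decide +kernel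

theorem Cb_g0 : Good 32 ns Cb_p Cb_s (gen ns (sTop CbG_S0)) Cb_k0 :=
  good_der ctx kn_4 (CbG_ex.2.1.trans CbG_ex.2.2.symm) _ _ ((and'_eq_true _ _).2 ⟨by decide +kernel, Cb_cm⟩)

theorem Cb_g1 : Good 32 ns Cb_p Cb_s (gen ns (sTop CbG_S1)) Cb_k1 :=
  Cb_g0.tail ctx CbG_ex.1 (by decide +kernel)

theorem Cb_g2 : Good 32 ns Cb_p Cb_s (gen ns (sTop CbG_S2)) Cb_k2 :=
  Cb_g1.tail ctx CbG_ex.1.tail (by decide +kernel)

theorem Cb_g3 : Good 32 ns Cb_p Cb_s (gen ns (sTop CbG_S3)) Cb_k3 :=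
  Cb_g2.tail ctx CbG_ex.1.tail.tail (by decide +kernel)

theorem Cb_g4 : Good 32 ns Cb_p Cb_s (gen ns (sTop CbG_S4)) Cb_k4 :=
  Cb_g3.tail ctx CbG_ex.1.tail.tail.tail (by decide +kernel)

theorem Cb_g5 : Good 32 ns Cb_p Cb_s (gen ns (sTop CbG_S5)) Cb_k5 :=
  Cb_g4.tail ctx CbG_ex.1.tail.tail.tail.tail (by decide +kernel)

theorem Cb_g6 : Good 32 ns Cb_p Cb_s (gen ns (sTop CbG_S6)) Cb_k6 :=
  Cb_g5.tail ctx CbG_ex.1.tail.tail.tail.tail.tail (by decide +kernel)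

theorem Cb_l7 : LevX 32 ns Cb_p Cb_s (gen ns (sTop CbG_S7)) Cb_k7 1 :=
  levX_nil _ _ _ _

theorem Cb_c6_4 : Br 32 ns Cb_p Cb_s (gen ns (sTop CbG_S6)) CbG_d6.p (Nat.shiftLeft 1 4) (InCs ns CbG_S6 []) :=
  br_of_cnt ctx CbG_ex.1.tail.tail.tail.tail.tail.tail [124] (.pair 12 0 4 0 0) (by decide +kernel) _

theorem Cb_l6 : LevX 32 ns Cb_p Cb_s (gen ns (sTop CbG_S6)) Cb_k6 8 :=
  Cb_l7.step ctx CbG_ex.1.tail.tail.tail.tail.tail.tail Cb_g6 ((br_zero _ _ _ _ _ _ _).lor Cb_c6_4) [] 1 1 (by decide +kernel)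

theorem Cb_l5 : LevX 32 ns Cb_p Cb_s (gen ns (sTop CbG_S5)) Cb_k5 8 :=
  Cb_l6.step ctx CbG_ex.1.tail.tail.tail.tail.tail Cb_g5 (br_zero _ _ _ _ _ _ _) [(0, 1, 0)] 0 0 (by decide +kernel)

theorem Cb_l4 : LevX 32 ns Cb_p Cb_s (gen ns (sTop CbG_S4)) Cb_k4 160 :=
  Cb_l5.step ctx CbG_ex.1.tail.tail.tail.tail Cb_g4 (br_zero _ _ _ _ _ _ _) [] 2 2 (by decide +kernel)

theorem Cb_l3 : LevX 32 ns Cb_p Cb_s (gen ns (sTop CbG_S3)) Cb_k3 160 :=
  Cb_l4.step ctx CbG_ex.1.tail.tail.tail Cb_g3 (br_zero _ _ _ _ _ _ _) [(0, 7, 0)] 0 0 (by decide +kernel)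

noncomputable def Cb_B2_cs : List (List ℕ) :=
  []

noncomputable def Cb_B2_pl : List Pl :=
  [⟨.lst 0, []⟩, ⟨.forced 0 0, []⟩, ⟨.free, []⟩, ⟨.forced 0 0, []⟩, ⟨.free, []⟩]

noncomputable def Cb_B2_M0 : ℕ :=
  256

theorem Cb_B2_b0 : Br 32 ns Cb_p Cb_s (gen ns (sTop CbG_S2)) CbG_d2.p Cb_B2_M0 (InCs ns CbG_S2 Cb_B2_cs) :=
  br_of_brB ctx hE CbG_ex.1.tail.tail (pl := Cb_B2_pl) (bs := [14, 0]) (tps := [19]) (by decide +kernel)

theorem Cb_l2 : LevX 32 ns Cb_p Cb_s (gen ns (sTop CbG_S2)) Cb_k2 320 :=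
  Cb_l3.step ctx CbG_ex.1.tail.tail Cb_g2 ((br_zero _ _ _ _ _ _ _).lor Cb_B2_b0) [] 2 1 (by decide +kernel)

theorem Cb_l1 : LevX 32 ns Cb_p Cb_s (gen ns (sTop CbG_S1)) Cb_k1 320 :=
  Cb_l2.step ctx CbG_ex.1.tail Cb_g1 (br_zero _ _ _ _ _ _ _) [(0, 0, 0)] 0 0 (by decide +kernel)

theorem Cb_l0 : LevX 32 ns Cb_p Cb_s (gen ns (sTop CbG_S0)) Cb_k0 7680 :=
  Cb_l1.step ctx CbG_ex.1 Cb_g0 (br_zero _ _ _ _ _ _ _) [] 2 2 (by decide +kernel)

theorem Cb : CentEq ns (gen ns [[0], [2]]) Cb_as Cb_k0 7680 :=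
  centEq_of ctx CbG_ex.2.1 Cb_l0 Cb_g0 Cb_cm

noncomputable def CbD_S7 : List SD :=
  []

noncomputable def CbD_d6 : SD :=
  ⟨8, 2, [150], lab 1 1 2, 1⟩

noncomputable def CbD_S6 : List SD :=
  CbD_d6 :: CbD_S7

noncomputable def CbD_d5 : SD :=
  ⟨20, 2, [152, 154, 150], lab 3 7 (nat_lit 0x4a0054a4a004c), 3⟩

noncomputable def CbD_S5 : List SD :=
  CbD_d5 :: CbD_S6

noncomputable def CbD_d4 : SD :=
  ⟨21, 3, [156, 152, 154, 150], lab 3 7 (nat_lit 0x300b7884b0e5438c), 4⟩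

noncomputable def CbD_S4 : List SD :=
  CbD_d4 :: CbD_S5

noncomputable def CbD_d3 : SD :=
  ⟨22, 2, [158, 156, 152, 154, 150], lab 4 15 (nat_lit 0x903400538530301642424260), 3⟩

noncomputable def CbD_S3 : List SD :=
  CbD_d3 :: CbD_S4

noncomputable def CbD_d2 : SD :=
  ⟨19, 2, [160, 158, 156, 152, 154, 150], lab 4 15 (nat_lit 0x228001468304557a327500b), 4⟩

noncomputable def CbD_S2 : List SD :=
  CbD_d2 :: CbD_S3

noncomputable def CbD_d1 : SD :=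
  ⟨18, 2, [162, 160, 158, 156, 152, 154, 150], lab 4 15 (nat_lit 0x2173003892305150d904756a), 3⟩

noncomputable def CbD_S1 : List SD :=
  CbD_d1 :: CbD_S2

noncomputable def CbD_d0 : SD :=
  ⟨12, 2, [164, 162, 160, 158, 156, 152, 154, 150], lab 4 15 (nat_lit 0x6033001025a0b5ba6913b4a7), 3⟩

noncomputable def CbD_S0 : List SD :=
  CbD_d0 :: CbD_S1

theorem kn_5 : Known ns (gen ns [[0], [2]]) 9671406556917033397649407 :=
  kn_4.steps ctx (es := [(74, [4, 14, 8, 38, 12, 18, 36, 25, 31, 40, 38, 36]),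
 (75, [38, 5, 11, 14, 12, 19, 21, 38, 24, 42, 40, 36]),
 (76, [9, 20, 12, 21, 24, 30, 40]),
 (77, [2, 4, 13, 11, 38, 12, 40, 24, 40, 38, 36]),
 (78, [18, 4, 23, 8, 32, 14, 38, 18, 24, 24, 42]),
 (79, [7, 4, 40, 15, 30, 20, 33, 24, 30, 40, 38]),
 (80, [2, 0, 40, 15, 27, 18, 27, 30, 42, 40, 36]),
 (81, [18, 4, 25, 8, 15, 12, 21, 19, 40, 24, 38]),
 (82, [4, 3, 0, 23, 8, 17, 12, 33, 24, 31, 40])]) (by decide +kernel)

theorem CbD_ex : Exact 32 ns CbD_S0 ∧ gen ns (sTop CbD_S0) = gen ns [[0], [2]] ∧ gen ns [[0], [2]] = gen ns [[0], [2]] :=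
  exact_of_known ctx hn (le_rfl) kn_5 (by decide +kernel)

noncomputable def Cby_as : List (List ℕ × List ℕ) :=
  [([46], [46]), ([148], [148])]

noncomputable def Cby_cs : List (List ℕ) :=
  [[157, 164, 153, 158, 162, 159, 160, 156, 158, 150, 152, 156, 152, 154, 152], [], [162, 164, 159, 163, 159, 160, 156, 158, 158, 152, 150, 156, 150, 154, 152], [164, 163, 154, 159, 160, 159, 156, 154, 150, 152, 151]]

noncomputable def Cby_pl : List Pl :=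
  [⟨.lst 0, []⟩, ⟨.forced 0 0, []⟩, ⟨.forced 0 0, []⟩, ⟨.forced 0 0, []⟩, ⟨.forced 0 0, []⟩, ⟨.forced 0 1, []⟩, ⟨.forced 0 0, []⟩]

noncomputable def Cby_M0 : ℕ :=
  102464

theorem Cby_b0 : Br 32 ns (derAs Cby_as [[2], [0]]) (derSs 32 5 ns Cby_as [[0], [2]]) (gen ns (sTop CbD_S0)) CbD_d0.p Cby_M0 (InCs ns CbD_S0 Cby_cs) :=
  br_of_brB ctx hE CbD_ex.1 (pl := Cby_pl) (bs := []) (tps := []) (by decide +kernel)

theorem Cby : SolList ns (gen ns [[0], [2]]) Cby_as [[148]] Cby_cs :=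
  solList_of_br ctx CbD_ex.1 CbD_ex.2.1 kn_5 Cby_b0 (cons := []) (r := 4) (by decide +kernel)

noncomputable def bs : List ℕ :=
  [0, 1, 2, 3, 4, 7, 5]

theorem mb : MB 32 5 ns (gen ns [[0], [2]]) 9671406556917033397649407 E bs :=
  ⟨⟨ctx, kn_5, gen_le_supp ctx.ok _⟩, hE, bas_of_exact S_ex.1 S_ex.2.1 (by decide +kernel)⟩

instance fin : Finite Cfsg.M24 := mb.m.finite equiv

noncomputable def top : List ℕ := [48, 50, 52, 54, 56, 58, 60, 62, 64, 44]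

noncomputable def ts : List (List ℕ) := [[44], [46]]

theorem nc : Nc (ev equiv ns) top :=
  (mb.wm equiv).nc (hs := [([60, 64, 44], [[50, 56], [52, 56, 60, 62, 64, 44], [54, 62, 64, 44], [56, 62], [58, 62, 64, 44], [60, 44], [62], [64, 44], [44]]),
 ([56, 58, 62, 64, 44], [[52, 60, 62, 64, 44], [54, 58, 60, 62, 64], [56, 64, 44], [58, 64, 44], [60, 62], [62, 44], [64, 44], [44]]),
 ([56, 58, 60, 62, 44], [[54, 58, 60, 62, 64], [56, 62, 64], [58, 64], [60, 62, 44], [62, 44], [64], [44]]),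
 ([], [[56, 62, 64, 44], [58], [60], [62, 44], [64, 44], [44]]),
 ([], [[58, 44], [60], [62], [64], [44]]),
 ([44], [[60, 44], [62], [64], [44]]),
 ([], [[62], [64], [44]]),
 ([], [[64], [44]]),
 ([], [[44]]),
 ([], [])]) (by decide +kernel)

theorem lb : 2 ^ top.length ≤ Nat.card (sg (ev equiv ns) top) :=
  le_card_sg mb.m equiv [(0, 2, [[48, 56, 64], [48, 50, 56, 60], [52, 54, 58, 60, 44], [48, 50, 54, 58, 62, 44]]),
 (1, 3, [[48, 50, 56, 60], [52, 54, 58, 60, 44], [48, 50, 54, 58, 62, 44]]),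
 (2, 2, [[52, 54, 58, 60, 44], [48, 50, 54, 58, 62, 44]]),
 (3, 1, [[48, 50, 54, 58, 62, 44]])] (by decide +kernel)

theorem ser : Ser (ev equiv ns) top := nc.ser lb

noncomputable def cv1c : CT :=
  (.two (.two (.two (.two (.two (.two (.two (.two (.two .triv
 (.lf [] [44]))
 (.one [48] [] (.lf [9, 14, 38, 18, 25, 31, 40, 38] [46])))
 (.two (.one [50] [] (.lf [15, 5, 19, 11, 28, 12, 18, 27, 24, 38] [44]))
 (.one [48] [] (.lf [9, 0, 9, 21, 12, 27, 18, 42, 25, 42, 38] [44]))))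
 (.one [50] [] (.two (.one [48] [] (.lf [3, 0, 40, 8, 13, 14, 21, 19, 26, 30, 42] [44]))
 (.one [54] [] (.lf [21, 4, 9, 20, 12, 22, 26, 24, 31, 40] [46])))))
 (.two (.one [48] [64, 44] (.one [52] [] (.one [56] [] (.no []))))
 (.one [48] [64] (.two (.one [56] [] (.lf [7, 4, 8, 14, 20, 27, 31, 42, 36] [44]))
 (.one [54] [] (.lf [2, 4, 20, 8, 38, 12, 22, 20, 36, 25, 40, 36] [46]))))))
 (.two (.two (.one [48] [] (.one [50] [44] (.one [58] [] (.lf [7, 4, 31, 8, 14, 30, 20, 27, 30, 38] [44]))))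
 (.one [48] [44] (.one [52] [44] (.two (.lf [5, 20, 8, 20, 14, 28, 18, 28, 30, 42] [44])
 (.lf [8, 0, 25, 8, 40, 15, 22, 20, 25, 38] [46])))))
 (.two (.one [52] [] (.one [48] [44] (.one [56] [] (.lf [0, 26, 11, 17, 12, 27, 18, 42, 25, 40, 38] [46]))))
 (.one [50] [] (.one [48] [] (.one [52] [] (.no [])))))))
 (.two (.one [50] [60, 62, 64] (.two (.one [48] [64, 44] (.two (.one [62] [] (.lf [18, 4, 26, 11, 15, 12, 38, 18, 27] [44]))
 (.one [54] [] (.no []))))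
 (.one [48] [64] (.two (.one [58] [] (.lf [8, 14, 12, 21, 19, 28, 31, 42] [46]))
 (.one [54] [] (.no []))))))
 (.one [50] [60, 62] (.two (.one [54] [64, 44] (.no [64, 44]))
 (.one [54] [64, 44] (.no [64, 44]))))))
 (.two (.one [48] [60, 62, 64, 44] (.no [58, 60, 62, 44]))
 (.one [48] [60, 62, 64, 44] (.no [62]))))
 (.two (.two (.one [48] [] (.no [58, 62, 64, 44]))
 (.one [48] [] (.no [60, 62, 64, 44])))
 (.two (.two (.two (.one [48] [] (.one [54] [64] (.no [])))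
 (.one [52] [44] (.one [56] [] (.no [44]))))
 (.two (.one [48] [62] (.one [56] [44] (.two (.one [54] [] (.no []))
 (.one [58] [] (.lf [2, 4, 25, 8, 19, 14, 21, 26, 30, 36] [44])))))
 (.one [48] [64] (.one [56] [] (.two (.one [54] [] (.no []))
 (.one [58] [] (.lf [21, 8, 17, 12, 20, 28, 24, 31, 42, 40] [46])))))))
 (.two (.one [50] [] (.one [48] [62, 64, 44] (.one [54] [64] (.one [56] [44] (.no [])))))
 (.one [50] [64] (.one [48] [64, 44] (.two (.one [56] [44] (.one [54] [] (.no [])))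
 (.one [56] [44] (.one [58] [] (.lf [2, 4, 40, 15, 22, 20, 26, 42, 38] [46]))))))))))

theorem cv1 : Cv (ev equiv ns) ts [50, 52, 54, 56, 58, 60, 62, 64, 44] [] :=
  ser.cv' (mb.wm equiv) cv1c 0 (p := 48) (by decide +kernel)

noncomputable def cv2c : CT :=
  (.two (.two (.two (.one [52] [60] (.two (.one [50, 52] [44] (.no [64, 44]))
 (.one [50, 52] [] (.no [62]))))
 (.one [52] [58] (.two (.one [50, 52] [62, 64] (.no [62, 44]))
 (.one [50, 52] [62, 64, 44] (.no [64])))))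
 (.two (.one [52] [60, 64, 44] (.one [54] [60, 62, 64] (.no [60, 62, 64])))
 (.one [52] [58, 64] (.one [54] [60, 62, 64] (.two (.one [56] [] (.two (.two (.lf [8, 0, 40, 8, 18, 18, 31, 38, 36] [44])
 (.lf [14, 4, 22, 12, 22, 30, 24, 31, 42, 40, 38] [46]))
 (.one [50, 52, 60] [] (.lf [20, 4, 21, 8, 22, 12, 38, 18, 36, 25, 42, 38] [46]))))
 (.one [56] [] (.no [])))))))
 (.two (.two (.one [48] [] (.one [54] [60, 62, 64, 44] (.no [60, 64, 44])))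
 (.one [48] [] (.one [54] [60, 62, 64, 44] (.two (.one [58] [44] (.no []))
 (.one [58] [] (.two (.one [64] [] (.no []))
 (.one [64] [] (.lf [18, 4, 11, 16, 23, 18, 30, 28, 38] [44]))))))))
 (.two (.one [50] [60, 62, 44] (.two (.one [48] [] (.one [58] [64, 44] (.no [64])))
 (.one [48] [62, 64] (.one [58] [64, 44] (.two (.one [54] [] (.lf [2, 5, 12, 8, 14, 31, 18, 27, 42, 36] [44]))
 (.two (.lf [2, 0, 28, 9, 40, 15, 18, 29, 42, 40, 38] [46])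
 (.lf [2, 4, 12, 8, 13, 14, 22, 26, 31, 40] [44])))))))
 (.one [50] [58, 62] (.two (.one [48] [62, 64, 44] (.one [56] [64] (.no [64, 44])))
 (.one [48] [44] (.one [56] [64, 44] (.two (.one [54] [] (.no []))
 (.one [62] [] (.lf [9, 0, 14, 8, 23, 12, 22, 20, 40, 24, 42, 36] [46]))))))))))

theorem cv2 : Cv (ev equiv ns) ts [50, 52, 54, 56, 58, 60, 62, 64, 44] [48] :=
  ser.cv' (mb.wm equiv) cv2c 0 (p := 48) (by decide +kernel)

theorem cv0 : Cv (ev equiv ns) ts [48, 50, 52, 54, 56, 58, 60, 62, 64, 44] [] :=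
  ser.two (mb.wm equiv) 0 (by decide +kernel) cv1 cv2

theorem Ca_mix : MixG (Subgroup.centralizer ({ev equiv ns [44]} : Set Cfsg.M24)) :=
  mb.mix_pe' equiv Ca Cay 14 7 2 2 10 [2, 3, 7] [(0, 6, [[96], [96, 96, 96, 96, 117, 104, 114, 102, 113, 106, 110, 104, 100, 108, 107, 104, 102, 98]]),
 (1, 1, [[96, 96, 96, 96, 117, 104, 114, 102, 113, 106, 110, 104, 100, 108, 107, 104, 102, 98]])]
    (by norm_num) (fun h => absurd rfl h)
    (by decide +kernel) (by decide +kernel) (by decide +kernel)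

theorem Cb_mix : MixG (Subgroup.centralizer ({ev equiv ns [46]} : Set Cfsg.M24)) :=
  mb.mix_pe' equiv Cb Cby 20 5 2 2 9 [2, 3, 5] [(0, 3, [[148], [164, 163, 154, 159, 160, 159, 156, 154, 150, 152, 151], [162, 164, 159, 163, 159, 160, 156, 158, 158, 152, 150, 156, 150, 154, 152]])]
    (by norm_num) (fun h => absurd rfl h)
    (by decide +kernel) (by decide +kernel) (by decide +kernel)

theorem invMix : InvMix Cfsg.M24 :=
  mb.invMix equiv hn nc lb (by decide +kernel) cv0 (List.forall_mem_cons.2 ⟨Ca_mix, List.forall_mem_cons.2 ⟨Cb_mix, fun _ h => absurd h List.not_mem_nil⟩⟩)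

end Cfsg.Agent.Spor.MixM24
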