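import Cfsg.Agent.Comp.Known
import Cfsg.Agent.Spor.ModelM12

set_option autoImplicit false
set_option maxRecDepth 4096

namespace Cfsg.Agent.Spor.OutM12

open Cfsg.Agent.Comp

noncomputable def ns_2 : Net :=
 (Net.cons (nat_lit 16) 41909
 (Net.cons (nat_lit 8) (nat_lit 0x7900b4)
 (Net.cons (nat_lit 4) (nat_lit 0x2020405)
 (Net.cons (nat_lit 2) (nat_lit 0x32231000)
 (Net.cons (nat_lit 1) (nat_lit 0x40044004)
 (Net.cons (nat_lit 2) (nat_lit 0x20022000)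
 (Net.cons (nat_lit 4) (nat_lit 0x8000400)
 (Net.cons (nat_lit 8) (nat_lit 0x5a00f0)
 (Net.cons (nat_lit 16) 41828
 Net.nil)))))))))

noncomputable def ns_3 : Net :=
 (Net.cons (nat_lit 16) 34735
 (Net.cons (nat_lit 8) (nat_lit 0xe40038)
 (Net.cons (nat_lit 4) 526343
 (Net.cons (nat_lit 2) (nat_lit 0x23220020)
 (Net.cons (nat_lit 1) (nat_lit 0x4144014)
 (Net.cons (nat_lit 2) (nat_lit 0x2220000)
 (Net.cons (nat_lit 4) (nat_lit 0x4000804)
 (Net.cons (nat_lit 8) (nat_lit 0x600020)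
 (Net.cons (nat_lit 16) 34804
 Net.nil)))))))))

noncomputable def ns_4 : Net :=
 (Net.cons (nat_lit 16) 55022
 (Net.cons (nat_lit 8) (nat_lit 0xb40000)
 (Net.cons (nat_lit 4) (nat_lit 0x20c0206)
 (Net.cons (nat_lit 2) (nat_lit 0x12310032)
 (Net.cons (nat_lit 1) (nat_lit 0x14110110)
 (Net.cons (nat_lit 2) (nat_lit 0x2220000)
 (Net.cons (nat_lit 4) (nat_lit 0x4000206)
 (Net.cons (nat_lit 8) (nat_lit 0x200008)
 (Net.cons (nat_lit 16) 55032
 Net.nil)))))))))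

noncomputable def ns_5 : Net :=
 (Net.cons (nat_lit 16) 16560
 (Net.cons (nat_lit 8) (nat_lit 0xd40052)
 (Net.cons (nat_lit 4) 393218
 (Net.cons (nat_lit 2) (nat_lit 0x30021000)
 (Net.cons (nat_lit 1) (nat_lit 0x10040414)
 (Net.cons (nat_lit 2) (nat_lit 0x20020202)
 (Net.cons (nat_lit 4) (nat_lit 0x4040200)
 (Net.cons (nat_lit 8) (nat_lit 0xd40078)
 (Net.cons (nat_lit 16) 16608
 Net.nil)))))))))

noncomputable def ns_6 : Net :=
 (Net.cons (nat_lit 16) 33920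
 (Net.cons (nat_lit 8) (nat_lit 0x84005c)
 (Net.cons (nat_lit 4) 3584
 (Net.cons (nat_lit 2) (nat_lit 0x222020)
 (Net.cons (nat_lit 1) (nat_lit 0x140140)
 (Net.cons (nat_lit 2) (nat_lit 0x220020)
 (Net.cons (nat_lit 4) 2560
 (Net.cons (nat_lit 8) (nat_lit 0x84004c)
 (Net.cons (nat_lit 16) 33792
 Net.nil)))))))))

noncomputable def ns_7 : Net :=
 (Net.cons (nat_lit 16) 33968
 (Net.cons (nat_lit 8) (nat_lit 0x500042)
 (Net.cons (nat_lit 4) 131594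
 (Net.cons (nat_lit 2) (nat_lit 0x30212022)
 (Net.cons (nat_lit 1) (nat_lit 0x10044110)
 (Net.cons (nat_lit 2) (nat_lit 0x20002020)
 (Net.cons (nat_lit 4) (nat_lit 0x4000002)
 (Net.cons (nat_lit 8) (nat_lit 0xd40040)
 (Net.cons (nat_lit 16) 33932
 Net.nil)))))))))

noncomputable def ns_8 : Net :=
 (Net.cons (nat_lit 16) 51542
 (Net.cons (nat_lit 8) (nat_lit 0x3300ba)
 (Net.cons (nat_lit 4) (nat_lit 0x5040406)
 (Net.cons (nat_lit 2) (nat_lit 0x20013222)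
 (Net.cons (nat_lit 1) (nat_lit 0x5404044)
 (Net.cons (nat_lit 2) 34
 (Net.cons (nat_lit 4) (nat_lit 0xc080c00)
 (Net.cons (nat_lit 8) (nat_lit 0x3200b8)
 (Net.cons (nat_lit 16) 51486
 Net.nil)))))))))

noncomputable def ns_9 : Net :=
 (Net.cons (nat_lit 16) 8984
 (Net.cons (nat_lit 8) (nat_lit 0xe30000)
 (Net.cons (nat_lit 4) (nat_lit 0xe060406)
 (Net.cons (nat_lit 2) (nat_lit 0x220032)
 (Net.cons (nat_lit 1) (nat_lit 0x4414450)
 (Net.cons (nat_lit 2) (nat_lit 0x2200000)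
 (Net.cons (nat_lit 4) (nat_lit 0xc060006)
 (Net.cons (nat_lit 8) (nat_lit 0xe20000)
 (Net.cons (nat_lit 16) 8988
 Net.nil)))))))))

noncomputable def ns_10 : Net :=
 (Net.cons (nat_lit 16) 50450
 (Net.cons (nat_lit 8) (nat_lit 0x700070)
 (Net.cons (nat_lit 4) (nat_lit 0x9000600)
 (Net.cons (nat_lit 2) (nat_lit 0x10020200)
 (Net.cons (nat_lit 1) (nat_lit 0x14441404)
 (Net.cons (nat_lit 2) 514
 (Net.cons (nat_lit 4) (nat_lit 0x8000408)
 (Net.cons (nat_lit 8) (nat_lit 0xf00078)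
 (Net.cons (nat_lit 16) 50536
 Net.nil)))))))))

noncomputable def ns_11 : Net :=
 (Net.cons (nat_lit 16) 18768
 (Net.cons (nat_lit 8) (nat_lit 0xdc008c)
 (Net.cons (nat_lit 4) (nat_lit 0x90a0e02)
 (Net.cons (nat_lit 2) (nat_lit 0x1200012)
 (Net.cons (nat_lit 1) (nat_lit 0x404044)
 (Net.cons (nat_lit 2) 8194
 (Net.cons (nat_lit 4) (nat_lit 0x4080c02)
 (Net.cons (nat_lit 8) (nat_lit 0xdc000c)
 (Net.cons (nat_lit 16) 18768
 Net.nil)))))))))

noncomputable def ns_12 : Net :=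
 (Net.cons (nat_lit 16) 35128
 (Net.cons (nat_lit 8) (nat_lit 0x8c0026)
 (Net.cons (nat_lit 4) 131080
 (Net.cons (nat_lit 2) (nat_lit 0x3320210)
 (Net.cons (nat_lit 1) (nat_lit 0x1100450)
 (Net.cons (nat_lit 2) (nat_lit 0x2200200)
 (Net.cons (nat_lit 8) 786468
 (Net.cons (nat_lit 16) 35304
 Net.nil))))))))

noncomputable def ns_13 : Net :=
 (Net.cons (nat_lit 16) 10640
 (Net.cons (nat_lit 8) (nat_lit 0x5400be)
 (Net.cons (nat_lit 4) (nat_lit 0x9080004)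
 (Net.cons (nat_lit 2) (nat_lit 0x1221202)
 (Net.cons (nat_lit 1) (nat_lit 0x50004044)
 (Net.cons (nat_lit 2) 8194
 (Net.cons (nat_lit 4) (nat_lit 0x8000004)
 (Net.cons (nat_lit 8) (nat_lit 0x5400bc)
 (Net.cons (nat_lit 16) 10544
 Net.nil)))))))))

noncomputable def ns_14 : Net :=
 (Net.cons (nat_lit 16) 17412
 (Net.cons (nat_lit 8) (nat_lit 0x4000fe)
 (Net.cons (nat_lit 4) (nat_lit 0x40a0c0a)
 (Net.cons (nat_lit 2) 144128
 (Net.cons (nat_lit 1) (nat_lit 0x501400)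
 (Net.cons (nat_lit 4) 512
 (Net.cons (nat_lit 8) (nat_lit 0x4000fc)
 (Net.cons (nat_lit 16) 17572
 Net.nil))))))))

noncomputable def ns_15 : Net :=
 (Net.cons (nat_lit 16) 49188
 (Net.cons (nat_lit 8) (nat_lit 0x400022)
 (Net.cons (nat_lit 4) 917510
 (Net.cons (nat_lit 2) (nat_lit 0x220000)
 (Net.cons (nat_lit 1) (nat_lit 0x40140514)
 (Net.cons (nat_lit 2) (nat_lit 0x220002)
 (Net.cons (nat_lit 4) 262146
 (Net.cons (nat_lit 8) (nat_lit 0x400020)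
 (Net.cons (nat_lit 16) 49284
 Net.nil)))))))))

noncomputable def ns_16 : Net :=
 (Net.cons (nat_lit 16) 360
 (Net.cons (nat_lit 8) (nat_lit 0x41003c)
 (Net.cons (nat_lit 4) (nat_lit 0x4020c0c)
 (Net.cons (nat_lit 2) (nat_lit 0x1211200)
 (Net.cons (nat_lit 1) 279572
 (Net.cons (nat_lit 2) 8704
 (Net.cons (nat_lit 4) (nat_lit 0x4020208)
 (Net.cons (nat_lit 8) (nat_lit 0x40002c)
 (Net.cons (nat_lit 16) 456
 Net.nil)))))))))

noncomputable def ns_17 : Net :=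
 (Net.cons (nat_lit 16) 18953
 (Net.cons (nat_lit 8) (nat_lit 0x6a0065)
 (Net.cons (nat_lit 4) (nat_lit 0x60c0101)
 (Net.cons (nat_lit 2) (nat_lit 0x2202021)
 (Net.cons (nat_lit 1) (nat_lit 0x4154001)
 (Net.cons (nat_lit 2) (nat_lit 0x202002)
 (Net.cons (nat_lit 4) (nat_lit 0x40c0408)
 (Net.cons (nat_lit 8) (nat_lit 0x6800c0)
 (Net.cons (nat_lit 16) 19110
 Net.nil)))))))))

noncomputable def ns_18 : Net :=
 (Net.cons (nat_lit 16) 38891
 (Net.cons (nat_lit 8) (nat_lit 0xcf004c)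
 (Net.cons (nat_lit 4) (nat_lit 0xd04040b)
 (Net.cons (nat_lit 2) (nat_lit 0x23302022)
 (Net.cons (nat_lit 1) (nat_lit 0x14114440)
 (Net.cons (nat_lit 2) (nat_lit 0x22002000)
 (Net.cons (nat_lit 4) (nat_lit 0xc040400)
 (Net.cons (nat_lit 8) (nat_lit 0xcc004c)
 (Net.cons (nat_lit 16) 38858
 Net.nil)))))))))

noncomputable def ns_19 : Net :=
 (Net.cons (nat_lit 16) 32330
 (Net.cons (nat_lit 8) (nat_lit 0x8e0084)
 (Net.cons (nat_lit 4) 65537
 (Net.cons (nat_lit 2) (nat_lit 0x2110110)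
 (Net.cons (nat_lit 1) (nat_lit 0x54050040)
 (Net.cons (nat_lit 2) 32
 (Net.cons (nat_lit 4) (nat_lit 0x2000002)
 (Net.cons (nat_lit 8) (nat_lit 0x9c0084)
 (Net.cons (nat_lit 16) 32380
 Net.nil)))))))))

noncomputable def ns_20 : Net :=
 (Net.cons (nat_lit 16) 9719
 (Net.cons (nat_lit 8) (nat_lit 0x57007a)
 (Net.cons (nat_lit 4) (nat_lit 0x1000804)
 (Net.cons (nat_lit 2) (nat_lit 0x21003012)
 (Net.cons (nat_lit 1) (nat_lit 0x41044044)
 (Net.cons (nat_lit 2) (nat_lit 0x20000002)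
 (Net.cons (nat_lit 4) (nat_lit 0x4000208)
 (Net.cons (nat_lit 8) (nat_lit 0x560070)
 (Net.cons (nat_lit 16) 9718
 Net.nil)))))))))

noncomputable def ns_21 : Net :=
 (Net.cons (nat_lit 16) 60529
 (Net.cons (nat_lit 8) (nat_lit 0xa0007f)
 (Net.cons (nat_lit 4) 395520
 (Net.cons (nat_lit 2) (nat_lit 0x20230100)
 (Net.cons (nat_lit 1) (nat_lit 0x44144001)
 (Net.cons (nat_lit 2) (nat_lit 0x20222000)
 (Net.cons (nat_lit 4) (nat_lit 0xc0a0c00)
 (Net.cons (nat_lit 8) (nat_lit 0x20007e)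
 (Net.cons (nat_lit 16) 60492
 Net.nil)))))))))

noncomputable def ns_22 : Net :=
 (Net.cons (nat_lit 16) 58928
 (Net.cons (nat_lit 8) (nat_lit 0x740019)
 (Net.cons (nat_lit 4) 393487
 (Net.cons (nat_lit 2) (nat_lit 0x22010202)
 (Net.cons (nat_lit 1) (nat_lit 0x14010114)
 (Net.cons (nat_lit 2) (nat_lit 0x2000222)
 (Net.cons (nat_lit 4) (nat_lit 0x602000c)
 (Net.cons (nat_lit 8) (nat_lit 0x500000)
 (Net.cons (nat_lit 16) 58948
 Net.nil)))))))))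

noncomputable def ns_23 : Net :=
 (Net.cons (nat_lit 16) 36016
 (Net.cons (nat_lit 8) (nat_lit 0x98000d)
 (Net.cons (nat_lit 4) (nat_lit 0x4080a00)
 (Net.cons (nat_lit 2) (nat_lit 0x10210110)
 (Net.cons (nat_lit 1) 278848
 (Net.cons (nat_lit 2) 32
 (Net.cons (nat_lit 4) (nat_lit 0x4040800)
 (Net.cons (nat_lit 8) (nat_lit 0x94004c)
 (Net.cons (nat_lit 16) 35976
 Net.nil)))))))))

noncomputable def ns_24 : Net :=
 (Net.cons (nat_lit 16) 23590
 (Net.cons (nat_lit 8) (nat_lit 0x140052)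
 (Net.cons (nat_lit 4) (nat_lit 0xc0d0700)
 (Net.cons (nat_lit 2) (nat_lit 0x10210303)
 (Net.cons (nat_lit 1) (nat_lit 0x40510401)
 (Net.cons (nat_lit 2) 512
 (Net.cons (nat_lit 4) (nat_lit 0xc0a0600)
 (Net.cons (nat_lit 8) (nat_lit 0x400052)
 (Net.cons (nat_lit 16) 23558
 Net.nil)))))))))

noncomputable def ns_25 : Net :=
 (Net.cons (nat_lit 16) 34816
 (Net.cons (nat_lit 8) (nat_lit 0xc00050)
 (Net.cons (nat_lit 4) (nat_lit 0x8020200)
 (Net.cons (nat_lit 2) (nat_lit 0x230020)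
 (Net.cons (nat_lit 1) (nat_lit 0x40100141)
 (Net.cons (nat_lit 2) (nat_lit 0x200020)
 (Net.cons (nat_lit 4) (nat_lit 0x8020200)
 (Net.cons (nat_lit 8) (nat_lit 0xc00040)
 (Net.cons (nat_lit 16) 34816
 Net.nil)))))))))

noncomputable def ns_26 : Net :=
 (Net.cons (nat_lit 16) 4216
 (Net.cons (nat_lit 8) (nat_lit 0x4c0030)
 (Net.cons (nat_lit 4) (nat_lit 0x8010000)
 (Net.cons (nat_lit 2) (nat_lit 0x30002003)
 (Net.cons (nat_lit 1) (nat_lit 0x10001504)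
 (Net.cons (nat_lit 2) (nat_lit 0x20000002)
 (Net.cons (nat_lit 4) (nat_lit 0xc000402)
 (Net.cons (nat_lit 8) (nat_lit 0x4c0038)
 (Net.cons (nat_lit 16) 4184
 Net.nil)))))))))

noncomputable def ns_27 : Net :=
 (Net.cons (nat_lit 16) 29252
 (Net.cons (nat_lit 8) (nat_lit 0x520030)
 (Net.cons (nat_lit 4) 525568
 (Net.cons (nat_lit 2) (nat_lit 0x10300003)
 (Net.cons (nat_lit 1) (nat_lit 0x10114001)
 (Net.cons (nat_lit 2) 8192
 (Net.cons (nat_lit 4) 789504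
 (Net.cons (nat_lit 8) 131120
 (Net.cons (nat_lit 16) 29252
 Net.nil)))))))))

noncomputable def ns_28 : Net :=
 (Net.cons (nat_lit 16) 49972
 (Net.cons (nat_lit 8) (nat_lit 0xd10030)
 (Net.cons (nat_lit 4) (nat_lit 0x2000c07)
 (Net.cons (nat_lit 2) 12321
 (Net.cons (nat_lit 1) (nat_lit 0x10404044)
 (Net.cons (nat_lit 2) (nat_lit 0x200022)
 (Net.cons (nat_lit 4) (nat_lit 0x2080c00)
 (Net.cons (nat_lit 8) (nat_lit 0xd00030)
 (Net.cons (nat_lit 16) 49968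
 Net.nil)))))))))

noncomputable def ns_29 : Net :=
 (Net.cons (nat_lit 16) 3098
 (Net.cons (nat_lit 8) 393390
 (Net.cons (nat_lit 4) 526351
 (Net.cons (nat_lit 2) (nat_lit 0x2031202)
 (Net.cons (nat_lit 1) (nat_lit 0x114504)
 (Net.cons (nat_lit 2) 131072
 (Net.cons (nat_lit 4) 265228
 (Net.cons (nat_lit 8) 131150
 (Net.cons (nat_lit 16) 3258
 Net.nil)))))))))

noncomputable def ns : List Net := [ModelM12.ns_0, ModelM12.ns_1, ns_2, ns_3, ns_4, ns_5, ns_6, ns_7, ns_8, ns_9, ns_10, ns_11, ns_12, ns_13, ns_14, ns_15, ns_16, ns_17, ns_18, ns_19, ns_20, ns_21, ns_22, ns_23, ns_24, ns_25, ns_26, ns_27, ns_28, ns_29]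

theorem ctx : Ctx 32 5 ns := ctx_of (by decide +kernel)

theorem lctx : LCtx 32 5 8 31 trN5 ns := lctx_of ctx trOK5 (by decide +kernel)

noncomputable def E : List ℕ → ℕ → ℕ := pfW0 32 5 8 31 trN5 ns

theorem hE : Evl 32 ns E := evl_pfW0 lctx

theorem geq : gen ModelM12.ns ModelM12.G_ss0 = gen ns [[0], [2]] :=
  gen_eq_of_take (ns := ModelM12.ns) (ns' := ns) (k := 2) rfl (ws := ModelM12.G_ss0) (by decide +kernel)

theorem hn : Nat.card (gen ns [[0], [2]]) = 95040 :=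
  geq ▸ ModelM12.G_card

theorem kn_0 : Known ns (gen ns [[0], [2]]) 3 :=
  known_gen (by decide +kernel)

noncomputable def A_S5 : List SD :=
  []

noncomputable def A_d4 : SD :=
  ⟨13, 2, [26, 28, 30], lab 3 7 (nat_lit 0x10101a18), 2⟩

noncomputable def A_S4 : List SD :=
  A_d4 :: A_S5

noncomputable def A_d3 : SD :=
  ⟨2, 1, [20, 22, 24, 26, 28, 30], lab 4 15 (nat_lit 0x30005506090010), 2⟩

noncomputable def A_S3 : List SD :=
  A_d3 :: A_S4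

noncomputable def A_d2 : SD :=
  ⟨16, 1, [14, 16, 18, 20, 22, 24, 26, 28, 30], lab 5 31 (nat_lit 0x40000a50080308080), 2⟩

noncomputable def A_S2 : List SD :=
  A_d2 :: A_S3

noncomputable def A_d1 : SD :=
  ⟨12, 1, [8, 10, 12, 14, 16, 18, 20, 22, 24, 26, 28, 30], lab 5 31 (nat_lit 0x2809000600000600404200e0), 2⟩

noncomputable def A_S1 : List SD :=
  A_d1 :: A_S2

noncomputable def A_d0 : SD :=
  ⟨0, 1, [0, 2, 6, 8, 10, 12, 14, 16, 18, 20, 22, 24, 26, 28, 30], lab 5 31 (nat_lit 0x5005000c40006204c12b11c0), 2⟩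

noncomputable def A_S0 : List SD :=
  A_d0 :: A_S1

theorem kn_1 : Known ns (gen ns [[0], [2]]) 262143 :=
  kn_0.steps ctx (es := [(2, [1, 3]),
 (3, [0, 2, 1, 2]),
 (4, [2, 6, 6, 1, 3, 0, 6, 2, 7, 7]),
 (5, [3, 7, 1, 3, 7, 3, 1, 1, 6, 0, 6]),
 (6, [8, 8, 8]),
 (7, [13, 8, 12, 12, 8, 10]),
 (8, [8, 11, 8, 11, 13, 11, 11, 13]),
 (9, [17, 15, 15, 15]),
 (10, [18, 15, 17, 15, 18, 18, 18, 17, 18]),
 (11, [18, 14, 19, 15, 15, 15, 18]),
 (12, [20, 23, 23, 21, 22, 22]),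
 (13, [24, 21, 22, 25, 20, 24, 21, 22, 25]),
 (14, [21, 23, 25]),
 (15, [26, 29, 26, 28, 26, 29]),
 (16, [8, 8, 26, 21, 30]),
 (17, [16, 2, 15, 8, 16, 23, 26])]) (by decide +kernel)

theorem A_ex : Exact 32 ns A_S0 ∧ gen ns (sTop A_S0) = gen ns [[0], [2]] ∧ gen ns [[0], [2]] = gen ns [[0], [2]] :=
  exact_of_known ctx hn (le_rfl) kn_1 (by decide +kernel)

theorem km_0 : Known ns (gen ns [[4], [32], [34]]) 196612 :=
  known_gen (by decide +kernel)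

noncomputable def B_S5 : List SD :=
  []

noncomputable def B_d4 : SD :=
  ⟨10, 2, [52, 54, 56], lab 3 7 (nat_lit 0x25200400000018000), 2⟩

noncomputable def B_S4 : List SD :=
  B_d4 :: B_S5

noncomputable def B_d3 : SD :=
  ⟨22, 1, [48, 44, 50, 52, 54, 56], lab 4 15 (nat_lit 0x184000a000430000000000), 2⟩

noncomputable def B_S3 : List SD :=
  B_d3 :: B_S4

noncomputable def B_d2 : SD :=
  ⟨23, 1, [42, 46, 48, 44, 50, 52, 54, 56], lab 4 15 (nat_lit 0x8250000f300140000e00000), 2⟩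

noncomputable def B_S2 : List SD :=
  B_d2 :: B_S3

noncomputable def B_d1 : SD :=
  ⟨17, 1, [36, 38, 40, 42, 46, 48, 44, 50, 52, 54, 56], lab 5 31 (nat_lit 0x2c7230000a0400208000014000000), 2⟩

noncomputable def B_S1 : List SD :=
  B_d1 :: B_S2

noncomputable def B_d0 : SD :=
  ⟨7, 1, [4, 32, 34, 36, 38, 40, 42, 46, 48, 44, 50, 52, 54, 56], lab 5 31 (nat_lit 0x79400680401900038c000002000000), 2⟩

noncomputable def B_S0 : List SD :=
  B_d0 :: B_S1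

theorem km_1 : Known ns (gen ns [[4], [32], [34]]) 536805380 :=
  km_0.steps ctx (es := [(18, [33, 4, 33, 5, 34, 32, 32, 32, 4, 33]),
 (19, [35, 5, 33]),
 (20, [36, 39, 39, 37, 39, 36]),
 (21, [37, 41, 41, 41, 38, 38, 38]),
 (22, [38, 38, 36, 40, 39, 36, 38]),
 (23, [43, 43, 43]),
 (24, [42, 45, 43, 47, 47, 42, 46, 44, 43, 43, 44]),
 (25, [49, 44, 48, 45]),
 (26, [48, 44]),
 (27, [48, 51, 48, 48, 51]),
 (28, [54, 53])]) (by decide +kernel)

theorem B_ex : Exact 32 ns B_S0 ∧ gen ns (sTop B_S0) = gen ns [[0], [2]] ∧ gen ns [[4], [32], [34]] = gen ns [[0], [2]] :=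
  exact_of_known ctx hn (kn_1.gen_le (by decide +kernel)) km_1 (by decide +kernel)

theorem kG_0 : Known ns (gen ns [[0], [2]]) 536870911 :=
  kn_1.lor (km_1.mono B_ex.2.2.le)

noncomputable def CA_as : List (List ℕ × List ℕ) :=
  [([4], [4])]

noncomputable def CA_cs : List (List ℕ) :=
  [[]]

noncomputable def CA_pl : List Pl :=
  [⟨.lst 0, []⟩, ⟨.forced 0 0, []⟩, ⟨.forced 0 0, []⟩, ⟨.forced 0 0, []⟩, ⟨.forced 0 0, []⟩]

noncomputable def CA_M0 : ℕ :=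
  1

theorem CA_b0 : Br 32 ns (derAs CA_as [[0]]) (derSs 32 5 ns CA_as [[0]]) (gen ns (sTop A_S0)) A_d0.p CA_M0 (InCs ns A_S0 CA_cs) :=
  br_of_brB ctx hE A_ex.1 (pl := CA_pl) (bs := []) (tps := []) (by decide +kernel)

theorem CA : SolList ns (gen ns [[0], [2]]) CA_as [[4]] CA_cs :=
  solList_of_br ctx A_ex.1 A_ex.2.1 kG_0 CA_b0 (cons := []) (r := 10) (by decide +kernel)

noncomputable def XB_as : List (List ℕ × List ℕ) :=
  [(powW [32] 1, powW [32] 1)]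

noncomputable def XB_cs : List (List ℕ) :=
  [[], [34]]

noncomputable def XB_pl : List Pl :=
  [⟨.lst 0, []⟩, ⟨.forced 0 0, []⟩, ⟨.forced 0 0, []⟩, ⟨.forced 0 0, []⟩, ⟨.forced 0 0, []⟩]

noncomputable def XB_M0 : ℕ :=
  16512

theorem XB_b0 : Br 32 ns (derAs XB_as [[0]]) (derSs 32 5 ns XB_as [[0]]) (gen ns (sTop B_S0)) B_d0.p XB_M0 (InCs ns B_S0 XB_cs) :=
  br_of_brB ctx hE B_ex.1 (pl := XB_pl) (bs := []) (tps := []) (by decide +kernel)

theorem XB : SolList ns (gen ns [[0], [2]]) XB_as [[32]] XB_cs :=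
  solList_of_br ctx B_ex.1 B_ex.2.1 kG_0 XB_b0 (cons := []) (r := 4) (by decide +kernel)

noncomputable def od : OD :=
  ⟨[4], [32], [34], 11, 3, 5, 1, 1, [1, 2], 0, [[0, 4, 3, 1, 0, 4, 3, 1], [0, 4, 0, 4, 0, 4, 0, 4, 0, 4, 0, 4]]⟩

theorem od_chk : od.chk 32 5 ns 95040 = true :=
  by decide +kernel

theorem od_kill : ∀ c ∈ XB_cs, od.kill 32 E [(1, od.c), (2, [34])] [0, 1] c = true :=
  forall_mem_of_allL (by decide +kernel)

noncomputable def NI_as : List (List ℕ × List ℕ) :=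
  [(od.a, powW od.a 2), (od.b, od.b)]

noncomputable def NI_cs : List (List ℕ) :=
  []

noncomputable def NI_pl : List Pl :=
  [⟨.lst 0, []⟩, ⟨.forced 0 0, []⟩, ⟨.forced 0 0, []⟩, ⟨.forced 0 0, []⟩, ⟨.forced 0 0, []⟩]

noncomputable def NI_M0 : ℕ :=
  1

theorem NI_b0 : Br 32 ns (derAs NI_as [[0], [2]]) (derSs 32 5 ns NI_as [[0], [2]]) (gen ns (sTop A_S0)) A_d0.p NI_M0 (InCs ns A_S0 NI_cs) :=
  br_of_brB ctx hE A_ex.1 (pl := NI_pl) (bs := []) (tps := [8]) (by decide +kernel)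

theorem NI : SolList ns (gen ns [[0], [2]]) NI_as [] NI_cs :=
  solList_of_br ctx A_ex.1 A_ex.2.1 kG_0 NI_b0 (cons := []) (r := 0) (by decide +kernel)

theorem ninn : ∀ x ∈ gen ns [[0], [2]], ¬ ∀ e ∈ NI_as, x * wp ns e.1 = wp ns e.2 * x :=
  NI.none

theorem out_of : ∀ ψ : MulAut (gen ns [[0], [2]]), ActsOn ns ψ [(od.a, powW od.a 2), (od.b, od.b), (od.c, [34])] → Nat.card (Cfsg.Out (gen ns [[0], [2]])) = 2 :=
  fun _ hψ => OD.out_two (o := od) ctx hE hn (by norm_num [od]) B_ex.2.2.symm od_chk CA.cent XB.one od_kill hψ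
    (hψ.not_inn (es' := NI_as) (by simp [NI_as])
      (fun e he => kG_0.word (forall_mem_of_allL (p := fun e => inK 536870911 e.1) (by decide +kernel) e he)) ninn)

theorem out : Nat.card (Cfsg.Out (gen ns [[0], [2]])) = 2 :=
  (exists_actsOn_conj ctx (π := [58]) (es := [(od.a, powW od.a 2), (od.b, od.b), (od.c, [34])]) B_ex.2.2.symm
    (fun e he => kG_0.word (forall_mem_of_allL (p := fun e => inK 536870911 e.2) (by decide +kernel) e he))
    (by decide +kernel)).elim out_of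

theorem out_card : Nat.card (Cfsg.Out Cfsg.Spor.M12) = 2 :=
  (card_out_eq (ModelM12.equiv.trans (MulEquiv.subgroupCongr geq))).trans out

end Cfsg.Agent.Spor.OutM12
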