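import Cfsg.Agent.Comp.Known
import Cfsg.Agent.Spor.ModelM22

set_option autoImplicit false
set_option maxRecDepth 4096

namespace Cfsg.Agent.Spor.OutM22

open Cfsg.Agent.Comp

noncomputable def ns_2 : Net :=
 (Net.cons (nat_lit 16) 24392
 (Net.cons (nat_lit 8) (nat_lit 0x4b0084)
 (Net.cons (nat_lit 4) 984074
 (Net.cons (nat_lit 2) (nat_lit 0x12232032)
 (Net.cons (nat_lit 1) (nat_lit 0x4044010)
 (Net.cons (nat_lit 2) (nat_lit 0x2022020)
 (Net.cons (nat_lit 4) (nat_lit 0x40e0400)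
 (Net.cons (nat_lit 8) (nat_lit 0x1c0004)
 (Net.cons (nat_lit 16) 24420
 Net.nil)))))))))

noncomputable def ns_3 : Net :=
 (Net.cons (nat_lit 16) 2116
 (Net.cons (nat_lit 8) 524352
 (Net.cons (nat_lit 4) 1284
 (Net.cons (nat_lit 2) (nat_lit 0x222002)
 (Net.cons (nat_lit 1) (nat_lit 0x440040)
 (Net.cons (nat_lit 2) (nat_lit 0x220000)
 (Net.cons (nat_lit 4) 4
 (Net.cons (nat_lit 8) 64
 (Net.cons (nat_lit 16) 2116
 Net.nil)))))))))

noncomputable def ns_4 : Net :=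
 (Net.cons (nat_lit 16) 52552
 (Net.cons (nat_lit 8) (nat_lit 0x8200a0)
 (Net.cons (nat_lit 4) (nat_lit 0x4000004)
 (Net.cons (nat_lit 2) (nat_lit 0x3302000)
 (Net.cons (nat_lit 1) (nat_lit 0x1141010)
 (Net.cons (nat_lit 4) (nat_lit 0x4000200)
 (Net.cons (nat_lit 8) (nat_lit 0x8600a0)
 (Net.cons (nat_lit 16) 52544
 Net.nil))))))))

noncomputable def ns_5 : Net :=
 (Net.cons (nat_lit 16) 29940
 (Net.cons (nat_lit 8) (nat_lit 0x58007c)
 (Net.cons (nat_lit 4) (nat_lit 0x8090a00)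
 (Net.cons (nat_lit 2) (nat_lit 0x30033100)
 (Net.cons (nat_lit 1) (nat_lit 0x50045100)
 (Net.cons (nat_lit 4) (nat_lit 0xc080800)
 (Net.cons (nat_lit 8) (nat_lit 0x380074)
 (Net.cons (nat_lit 16) 29828
 Net.nil))))))))

noncomputable def ns_6 : Net :=
 (Net.cons (nat_lit 16) 28476
 (Net.cons (nat_lit 8) (nat_lit 0x3f0078)
 (Net.cons (nat_lit 4) (nat_lit 0xb060004)
 (Net.cons (nat_lit 2) (nat_lit 0x23211010)
 (Net.cons (nat_lit 1) (nat_lit 0x4445000)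
 (Net.cons (nat_lit 2) (nat_lit 0x2200000)
 (Net.cons (nat_lit 4) (nat_lit 0x8020804)
 (Net.cons (nat_lit 8) (nat_lit 0x5a0078)
 (Net.cons (nat_lit 16) 28488
 Net.nil)))))))))

noncomputable def ns_7 : Net :=
 (Net.cons (nat_lit 16) 3648
 (Net.cons (nat_lit 8) (nat_lit 0x4c00d0)
 (Net.cons (nat_lit 4) (nat_lit 0x401000c)
 (Net.cons (nat_lit 2) (nat_lit 0x2003010)
 (Net.cons (nat_lit 1) (nat_lit 0x4054050)
 (Net.cons (nat_lit 2) (nat_lit 0x2000000)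
 (Net.cons (nat_lit 4) 8
 (Net.cons (nat_lit 8) (nat_lit 0x4400a0)
 (Net.cons (nat_lit 16) 3648
 Net.nil)))))))))

noncomputable def ns_8 : Net :=
 (Net.cons (nat_lit 16) 21154
 (Net.cons (nat_lit 8) (nat_lit 0x600048)
 (Net.cons (nat_lit 4) 788492
 (Net.cons (nat_lit 2) (nat_lit 0x30120130)
 (Net.cons (nat_lit 1) (nat_lit 0x40414040)
 (Net.cons (nat_lit 2) (nat_lit 0x20022000)
 (Net.cons (nat_lit 4) (nat_lit 0x2000c0e)
 (Net.cons (nat_lit 8) (nat_lit 0x300048)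
 (Net.cons (nat_lit 16) 21154
 Net.nil)))))))))

noncomputable def ns_9 : Net :=
 (Net.cons (nat_lit 16) 16036
 (Net.cons (nat_lit 8) (nat_lit 0x1c0048)
 (Net.cons (nat_lit 4) (nat_lit 0xe0a0404)
 (Net.cons (nat_lit 2) (nat_lit 0x10320310)
 (Net.cons (nat_lit 1) (nat_lit 0x40410100)
 (Net.cons (nat_lit 2) 512
 (Net.cons (nat_lit 4) (nat_lit 0xc040400)
 (Net.cons (nat_lit 8) (nat_lit 0x280008)
 (Net.cons (nat_lit 16) 16028
 Net.nil)))))))))

noncomputable def ns_10 : Net :=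
 (Net.cons (nat_lit 16) 9312
 (Net.cons (nat_lit 8) (nat_lit 0x300014)
 (Net.cons (nat_lit 4) (nat_lit 0x40e0808)
 (Net.cons (nat_lit 2) (nat_lit 0x10010230)
 (Net.cons (nat_lit 1) (nat_lit 0x404400)
 (Net.cons (nat_lit 2) 512
 (Net.cons (nat_lit 4) (nat_lit 0x40c0808)
 (Net.cons (nat_lit 8) (nat_lit 0x300014)
 (Net.cons (nat_lit 16) 9312
 Net.nil)))))))))

noncomputable def ns_11 : Net :=
 (Net.cons (nat_lit 16) 14920
 (Net.cons (nat_lit 8) 655416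
 (Net.cons (nat_lit 4) 393988
 (Net.cons (nat_lit 2) 196608
 (Net.cons (nat_lit 1) (nat_lit 0x10010500)
 (Net.cons (nat_lit 2) 131072
 (Net.cons (nat_lit 4) 262656
 (Net.cons (nat_lit 8) (nat_lit 0x180038)
 (Net.cons (nat_lit 16) 14916
 Net.nil)))))))))

noncomputable def ns_12 : Net :=
 (Net.cons (nat_lit 16) 18256
 (Net.cons (nat_lit 8) (nat_lit 0x3e0028)
 (Net.cons (nat_lit 4) (nat_lit 0xb040002)
 (Net.cons (nat_lit 2) (nat_lit 0x2010012)
 (Net.cons (nat_lit 1) (nat_lit 0x54011004)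
 (Net.cons (nat_lit 2) (nat_lit 0x2000000)
 (Net.cons (nat_lit 4) (nat_lit 0xc000002)
 (Net.cons (nat_lit 8) (nat_lit 0x780038)
 (Net.cons (nat_lit 16) 18208
 Net.nil)))))))))

noncomputable def ns_13 : Net :=
 (Net.cons (nat_lit 16) 19500
 (Net.cons (nat_lit 8) (nat_lit 0x420032)
 (Net.cons (nat_lit 4) 852234
 (Net.cons (nat_lit 2) (nat_lit 0x2000030)
 (Net.cons (nat_lit 1) (nat_lit 0x4101050)
 (Net.cons (nat_lit 2) (nat_lit 0x200000)
 (Net.cons (nat_lit 4) 524296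
 (Net.cons (nat_lit 8) (nat_lit 0x420022)
 (Net.cons (nat_lit 16) 19472
 Net.nil)))))))))

noncomputable def ns_14 : Net :=
 (Net.cons (nat_lit 16) 25308
 (Net.cons (nat_lit 8) (nat_lit 0x620048)
 (Net.cons (nat_lit 4) 263436
 (Net.cons (nat_lit 2) (nat_lit 0x232010)
 (Net.cons (nat_lit 1) (nat_lit 0x141440)
 (Net.cons (nat_lit 2) (nat_lit 0x222020)
 (Net.cons (nat_lit 4) 920588
 (Net.cons (nat_lit 8) (nat_lit 0x600050)
 (Net.cons (nat_lit 16) 25248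
 Net.nil)))))))))

noncomputable def ns_15 : Net :=
 (Net.cons (nat_lit 16) 26684
 (Net.cons (nat_lit 8) (nat_lit 0x3c00a2)
 (Net.cons (nat_lit 4) (nat_lit 0x604070c)
 (Net.cons (nat_lit 2) (nat_lit 0x12013030)
 (Net.cons (nat_lit 1) (nat_lit 0x4015110)
 (Net.cons (nat_lit 2) (nat_lit 0x2020020)
 (Net.cons (nat_lit 4) (nat_lit 0x206060c)
 (Net.cons (nat_lit 8) (nat_lit 0x5400a2)
 (Net.cons (nat_lit 16) 26720
 Net.nil)))))))))

noncomputable def ns_16 : Net :=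
 (Net.cons (nat_lit 16) 64544
 (Net.cons (nat_lit 8) (nat_lit 0x4c0042)
 (Net.cons (nat_lit 4) (nat_lit 0x80e0400)
 (Net.cons (nat_lit 2) (nat_lit 0x10200120)
 (Net.cons (nat_lit 1) (nat_lit 0x14410110)
 (Net.cons (nat_lit 2) 32
 (Net.cons (nat_lit 4) (nat_lit 0x80a0408)
 (Net.cons (nat_lit 8) (nat_lit 0x5c0040)
 (Net.cons (nat_lit 16) 64552
 Net.nil)))))))))

noncomputable def ns_17 : Net :=
 (Net.cons (nat_lit 16) 20504
 (Net.cons (nat_lit 8) (nat_lit 0x500030)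
 (Net.cons (nat_lit 4) 852238
 (Net.cons (nat_lit 2) (nat_lit 0x302100)
 (Net.cons (nat_lit 1) 70916
 (Net.cons (nat_lit 2) 2
 (Net.cons (nat_lit 4) 524292
 (Net.cons (nat_lit 8) (nat_lit 0x500018)
 (Net.cons (nat_lit 16) 20512
 Net.nil)))))))))

noncomputable def ns_18 : Net :=
 (Net.cons (nat_lit 16) 1152
 (Net.cons (nat_lit 8) 262144
 (Net.cons (nat_lit 4) 526348
 (Net.cons (nat_lit 2) (nat_lit 0x120022)
 (Net.cons (nat_lit 1) 282900
 (Net.cons (nat_lit 2) 131106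
 (Net.cons (nat_lit 4) 2060
 (Net.cons (nat_lit 8) 262144
 (Net.cons (nat_lit 16) 1152
 Net.nil)))))))))

noncomputable def ns_19 : Net :=
 (Net.cons (nat_lit 16) 50800
 (Net.cons (nat_lit 8) (nat_lit 0x8200c8)
 (Net.cons (nat_lit 4) 984322
 (Net.cons (nat_lit 2) (nat_lit 0x2012100)
 (Net.cons (nat_lit 1) (nat_lit 0x4441400)
 (Net.cons (nat_lit 2) (nat_lit 0x2002000)
 (Net.cons (nat_lit 4) (nat_lit 0x4000400)
 (Net.cons (nat_lit 8) (nat_lit 0x8600f8)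
 (Net.cons (nat_lit 16) 50688
 Net.nil)))))))))

noncomputable def ns_20 : Net :=
 (Net.cons (nat_lit 16) 54562
 (Net.cons (nat_lit 8) (nat_lit 0xb60042)
 (Net.cons (nat_lit 4) (nat_lit 0x1080600)
 (Net.cons (nat_lit 2) (nat_lit 0x12010222)
 (Net.cons (nat_lit 1) (nat_lit 0x4040410)
 (Net.cons (nat_lit 2) (nat_lit 0x2000220)
 (Net.cons (nat_lit 4) (nat_lit 0x204040a)
 (Net.cons (nat_lit 8) (nat_lit 0xe20040)
 (Net.cons (nat_lit 16) 54648
 Net.nil)))))))))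

noncomputable def ns_21 : Net :=
 (Net.cons (nat_lit 16) 366
 (Net.cons (nat_lit 8) (nat_lit 0x710080)
 (Net.cons (nat_lit 4) (nat_lit 0x1000a0e)
 (Net.cons (nat_lit 2) (nat_lit 0x30003200)
 (Net.cons (nat_lit 1) (nat_lit 0x40014050)
 (Net.cons (nat_lit 2) (nat_lit 0x20002000)
 (Net.cons (nat_lit 4) 2568
 (Net.cons (nat_lit 8) (nat_lit 0x700000)
 (Net.cons (nat_lit 16) 348
 Net.nil)))))))))

noncomputable def ns_22 : Net :=
 (Net.cons (nat_lit 16) 9288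
 (Net.cons (nat_lit 8) (nat_lit 0x700020)
 (Net.cons (nat_lit 4) (nat_lit 0x60a0808)
 (Net.cons (nat_lit 2) (nat_lit 0x12202210)
 (Net.cons (nat_lit 1) (nat_lit 0x4014000)
 (Net.cons (nat_lit 2) (nat_lit 0x2002000)
 (Net.cons (nat_lit 4) (nat_lit 0x60a0800)
 (Net.cons (nat_lit 8) (nat_lit 0x700020)
 (Net.cons (nat_lit 16) 9288
 Net.nil)))))))))

noncomputable def ns_23 : Net :=
 (Net.cons (nat_lit 16) 9320
 (Net.cons (nat_lit 8) (nat_lit 0x1400d0)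
 (Net.cons (nat_lit 4) 131596
 (Net.cons (nat_lit 2) (nat_lit 0x230020)
 (Net.cons (nat_lit 1) (nat_lit 0x10405004)
 (Net.cons (nat_lit 2) (nat_lit 0x200000)
 (Net.cons (nat_lit 4) 131596
 (Net.cons (nat_lit 8) (nat_lit 0x140010)
 (Net.cons (nat_lit 16) 9280
 Net.nil)))))))))

noncomputable def ns_24 : Net :=
 (Net.cons (nat_lit 16) 8340
 (Net.cons (nat_lit 8) (nat_lit 0xa20000)
 (Net.cons (nat_lit 4) (nat_lit 0x20d0c0e)
 (Net.cons (nat_lit 2) (nat_lit 0x20011010)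
 (Net.cons (nat_lit 1) (nat_lit 0x100450)
 (Net.cons (nat_lit 2) (nat_lit 0x200200)
 (Net.cons (nat_lit 4) 789514
 (Net.cons (nat_lit 8) (nat_lit 0xa20014)
 (Net.cons (nat_lit 16) 8396
 Net.nil)))))))))

noncomputable def ns_25 : Net :=
 (Net.cons (nat_lit 16) 41200
 (Net.cons (nat_lit 8) (nat_lit 0x320008)
 (Net.cons (nat_lit 4) (nat_lit 0x8080400)
 (Net.cons (nat_lit 2) (nat_lit 0x2220200)
 (Net.cons (nat_lit 1) (nat_lit 0x10010010)
 (Net.cons (nat_lit 2) 131072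
 (Net.cons (nat_lit 4) (nat_lit 0x8080000)
 (Net.cons (nat_lit 8) (nat_lit 0x320008)
 (Net.cons (nat_lit 16) 41088
 Net.nil)))))))))

noncomputable def ns_26 : Net :=
 (Net.cons (nat_lit 16) 9304
 (Net.cons (nat_lit 8) (nat_lit 0x240020)
 (Net.cons (nat_lit 4) 918028
 (Net.cons (nat_lit 2) (nat_lit 0x310020)
 (Net.cons (nat_lit 1) (nat_lit 0x504014)
 (Net.cons (nat_lit 2) 32
 (Net.cons (nat_lit 4) 917516
 (Net.cons (nat_lit 8) 262176
 (Net.cons (nat_lit 16) 9280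
 Net.nil)))))))))

noncomputable def ns_27 : Net :=
 (Net.cons (nat_lit 16) 42846
 (Net.cons (nat_lit 8) (nat_lit 0xe70070)
 (Net.cons (nat_lit 4) (nat_lit 0x60d080a)
 (Net.cons (nat_lit 2) (nat_lit 0x21022000)
 (Net.cons (nat_lit 1) (nat_lit 0x41410014)
 (Net.cons (nat_lit 2) (nat_lit 0x20200020)
 (Net.cons (nat_lit 4) (nat_lit 0x4060802)
 (Net.cons (nat_lit 8) (nat_lit 0xe00020)
 (Net.cons (nat_lit 16) 42790
 Net.nil)))))))))

noncomputable def ns : List Net := [ModelM22.ns_0, ModelM22.ns_1, ns_2, ns_3, ns_4, ns_5, ns_6, ns_7, ns_8, ns_9, ns_10, ns_11, ns_12, ns_13, ns_14, ns_15, ns_16, ns_17, ns_18, ns_19, ns_20, ns_21, ns_22, ns_23, ns_24, ns_25, ns_26, ns_27]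

theorem ctx : Ctx 32 5 ns := ctx_of (by decide +kernel)

theorem lctx : LCtx 32 5 8 31 trN5 ns := lctx_of ctx trOK5 (by decide +kernel)

noncomputable def E : List ℕ → ℕ → ℕ := pfW0 32 5 8 31 trN5 ns

theorem hE : Evl 32 ns E := evl_pfW0 lctx

theorem geq : gen ModelM22.ns ModelM22.G_ss0 = gen ns [[0], [2]] :=
  gen_eq_of_take (ns := ModelM22.ns) (ns' := ns) (k := 2) rfl (ws := ModelM22.G_ss0) (by decide +kernel)

theorem hn : Nat.card (gen ns [[0], [2]]) = 443520 :=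
  geq ▸ ModelM22.G_card

theorem kn_0 : Known ns (gen ns [[0], [2]]) 3 :=
  known_gen (by decide +kernel)

noncomputable def A_S5 : List SD :=
  []

noncomputable def A_d4 : SD :=
  ⟨4, 2, [26], lab 1 1 256, 1⟩

noncomputable def A_S4 : List SD :=
  A_d4 :: A_S5

noncomputable def A_d3 : SD :=
  ⟨22, 2, [20, 22, 24, 26], lab 3 7 (nat_lit 0x220dc1d8a00140e80), 3⟩

noncomputable def A_S3 : List SD :=
  A_d3 :: A_S4

noncomputable def A_d2 : SD :=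
  ⟨7, 2, [14, 16, 18, 20, 22, 24, 26], lab 4 15 (nat_lit 0x442c4130384362805105200), 2⟩

noncomputable def A_S2 : List SD :=
  A_d2 :: A_S3

noncomputable def A_d1 : SD :=
  ⟨15, 1, [8, 10, 12, 14, 16, 18, 20, 22, 24, 26], lab 5 31 (nat_lit 0x140122904040901b1434816562400), 2⟩

noncomputable def A_S1 : List SD :=
  A_d1 :: A_S2

noncomputable def A_d0 : SD :=
  ⟨1, 1, [0, 2, 6, 8, 10, 12, 14, 16, 18, 20, 22, 24, 26], lab 5 31 (nat_lit 0x5c028b1d23a956aae093886b23c00), 2⟩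

noncomputable def A_S0 : List SD :=
  A_d0 :: A_S1

theorem kn_1 : Known ns (gen ns [[0], [2]]) 65535 :=
  kn_0.steps ctx (es := [(2, [1, 3]),
 (3, [2, 1, 3, 1, 1]),
 (4, [0, 6, 2]),
 (5, [2, 1, 7, 0, 2, 0, 3, 1, 3, 1, 6]),
 (6, [9, 10, 10, 10, 8, 11]),
 (7, [13, 9, 10, 12, 9, 11, 8]),
 (8, [9, 12, 12, 10, 9, 13]),
 (9, [14, 14, 16, 14, 14, 17]),
 (10, [16, 15, 19, 19]),
 (11, [16, 19]),
 (12, [19, 19, 16, 14]),
 (13, [22, 21, 25, 23, 24, 24, 22, 20, 24]),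
 (14, [13, 15, 16, 27, 20]),
 (15, [13, 3, 13, 8, 19, 16, 24])]) (by decide +kernel)

theorem A_ex : Exact 32 ns A_S0 ∧ gen ns (sTop A_S0) = gen ns [[0], [2]] ∧ gen ns [[0], [2]] = gen ns [[0], [2]] :=
  exact_of_known ctx hn (le_rfl) kn_1 (by decide +kernel)

theorem km_0 : Known ns (gen ns [[4], [28], [30]]) 49156 :=
  known_gen (by decide +kernel)

noncomputable def B_S6 : List SD :=
  []

noncomputable def B_d5 : SD :=
  ⟨3, 1, [46, 50, 52, 44], lab 3 7 (nat_lit 0x184836da0190da2000), 4⟩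

noncomputable def B_S5 : List SD :=
  B_d5 :: B_S6

noncomputable def B_d4 : SD :=
  ⟨18, 0, [46, 50, 52, 44], lab 3 7 0, 0⟩

noncomputable def B_S4 : List SD :=
  B_d4 :: B_S5

noncomputable def B_d3 : SD :=
  ⟨12, 2, [48, 46, 50, 52, 44], lab 4 15 (nat_lit 0x1000000000000000000), 1⟩

noncomputable def B_S3 : List SD :=
  B_d3 :: B_S4

noncomputable def B_d2 : SD :=
  ⟨8, 2, [38, 40, 42, 48, 46, 50, 52, 44], lab 4 15 (nat_lit 0x72035788210e2013ae6000), 3⟩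

noncomputable def B_S2 : List SD :=
  B_d2 :: B_S3

noncomputable def B_d1 : SD :=
  ⟨11, 1, [32, 34, 36, 38, 40, 42, 48, 46, 50, 52, 44], lab 5 31 (nat_lit 0x19460c29310420006a6b10da0100), 2⟩

noncomputable def B_S1 : List SD :=
  B_d1 :: B_S2

noncomputable def B_d0 : SD :=
  ⟨2, 1, [4, 28, 30, 32, 34, 36, 38, 40, 42, 48, 46, 50, 52, 44], lab 5 31 (nat_lit 0x1ca490d228b82011a20201af68240), 2⟩

noncomputable def B_S0 : List SD :=
  B_d0 :: B_S1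

theorem km_1 : Known ns (gen ns [[4], [28], [30]]) 134201348 :=
  km_0.steps ctx (es := [(16, [29, 29, 5, 5, 30, 5]),
 (17, [4, 29, 4, 4, 30, 29, 31]),
 (18, [33, 33]),
 (19, [33, 34, 32, 32, 32, 32, 36, 34, 34]),
 (20, [32, 36, 35]),
 (21, [39, 39, 41, 41, 41, 39]),
 (22, [42, 38, 42, 41, 39, 43]),
 (23, [43, 40]),
 (24, [41, 38, 41, 42, 41, 43, 39, 42, 41]),
 (25, [48, 47, 49]),
 (26, [48, 45, 49, 47, 44, 46])]) (by decide +kernel)

theorem B_ex : Exact 32 ns B_S0 ∧ gen ns (sTop B_S0) = gen ns [[0], [2]] ∧ gen ns [[4], [28], [30]] = gen ns [[0], [2]] :=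
  exact_of_known ctx hn (kn_1.gen_le (by decide +kernel)) km_1 (by decide +kernel)

theorem kG_0 : Known ns (gen ns [[0], [2]]) 134217727 :=
  kn_1.lor (km_1.mono B_ex.2.2.le)

noncomputable def CA_as : List (List ℕ × List ℕ) :=
  [([4], [4])]

noncomputable def CA_cs : List (List ℕ) :=
  [[]]

noncomputable def CA_pl : List Pl :=
  [⟨.lst 0, []⟩, ⟨.forced 0 0, []⟩, ⟨.forced 0 0, []⟩, ⟨.forced 0 0, []⟩, ⟨.forced 0 0, []⟩]

noncomputable def CA_M0 : ℕ :=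
  258

theorem CA_b0 : Br 32 ns (derAs CA_as [[0]]) (derSs 32 5 ns CA_as [[0]]) (gen ns (sTop A_S0)) A_d0.p CA_M0 (InCs ns A_S0 CA_cs) :=
  br_of_brB ctx hE A_ex.1 (pl := CA_pl) (bs := []) (tps := []) (by decide +kernel)

theorem CA : SolList ns (gen ns [[0], [2]]) CA_as [[4]] CA_cs :=
  solList_of_br ctx A_ex.1 A_ex.2.1 kG_0 CA_b0 (cons := []) (r := 10) (by decide +kernel)

noncomputable def XB_as : List (List ℕ × List ℕ) :=
  [(powW [28] 1, powW [28] 2)]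

noncomputable def XB_cs : List (List ℕ) :=
  [[30]]

noncomputable def XB_pl : List Pl :=
  [⟨.lst 0, []⟩, ⟨.forced 0 0, []⟩, ⟨.forced 0 0, []⟩, ⟨.forced 0 0, []⟩, ⟨.forced 0 0, []⟩, ⟨.free, []⟩]

noncomputable def XB_M0 : ℕ :=
  nat_lit 0x502004

theorem XB_b0 : Br 32 ns (derAs XB_as [[0]]) (derSs 32 5 ns XB_as [[0]]) (gen ns (sTop B_S0)) B_d0.p XB_M0 (InCs ns B_S0 XB_cs) :=
  br_of_brB ctx hE B_ex.1 (pl := XB_pl) (bs := []) (tps := [10]) (by decide +kernel)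

theorem XB : SolList ns (gen ns [[0], [2]]) XB_as [[28]] XB_cs :=
  solList_of_br ctx B_ex.1 B_ex.2.1 kG_0 XB_b0 (cons := []) (r := 4) (by decide +kernel)

noncomputable def od : OD :=
  ⟨[4], [28], [30], 11, 3, 5, 1, 2, [1, 2], 1, [[0, 5, 5, 0, 5, 5, 0, 5, 5]]⟩

theorem od_chk : od.chk 32 5 ns 443520 = true :=
  by decide +kernel

theorem od_kill : ∀ c ∈ XB_cs, od.kill 32 E [(1, od.c), (2, [28, 28, 28, 30])] [1, 2] c = true :=
  forall_mem_of_allL (by decide +kernel)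

noncomputable def NI_as : List (List ℕ × List ℕ) :=
  [(od.a, powW od.a 2), (od.b, od.b)]

noncomputable def NI_cs : List (List ℕ) :=
  []

noncomputable def NI_pl : List Pl :=
  [⟨.lst 0, []⟩, ⟨.forced 0 0, []⟩, ⟨.forced 0 0, []⟩, ⟨.forced 0 0, []⟩, ⟨.forced 0 0, []⟩]

noncomputable def NI_M0 : ℕ :=
  1026

theorem NI_b0 : Br 32 ns (derAs NI_as [[0], [2]]) (derSs 32 5 ns NI_as [[0], [2]]) (gen ns (sTop A_S0)) A_d0.p NI_M0 (InCs ns A_S0 NI_cs) :=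
  br_of_brB ctx hE A_ex.1 (pl := NI_pl) (bs := []) (tps := [10]) (by decide +kernel)

theorem NI : SolList ns (gen ns [[0], [2]]) NI_as [] NI_cs :=
  solList_of_br ctx A_ex.1 A_ex.2.1 kG_0 NI_b0 (cons := []) (r := 0) (by decide +kernel)

theorem ninn : ∀ x ∈ gen ns [[0], [2]], ¬ ∀ e ∈ NI_as, x * wp ns e.1 = wp ns e.2 * x :=
  NI.none

theorem out_of : ∀ ψ : MulAut (gen ns [[0], [2]]), ActsOn ns ψ [(od.a, powW od.a 2), (od.b, od.b), (od.c, [28, 28, 28, 30])] → Nat.card (Cfsg.Out (gen ns [[0], [2]])) = 2 :=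
  fun _ hψ => OD.out_two (o := od) ctx hE hn (by norm_num [od]) B_ex.2.2.symm od_chk CA.cent XB.one od_kill hψ
    (hψ.not_inn (es' := NI_as) (by simp [NI_as])
      (fun e he => kG_0.word (forall_mem_of_allL (p := fun e => inK 134217727 e.1) (by decide +kernel) e he)) ninn)

theorem out : Nat.card (Cfsg.Out (gen ns [[0], [2]])) = 2 :=
  (exists_actsOn_conj ctx (π := [54]) (es := [(od.a, powW od.a 2), (od.b, od.b), (od.c, [28, 28, 28, 30])]) B_ex.2.2.symm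
    (fun e he => kG_0.word (forall_mem_of_allL (p := fun e => inK 134217727 e.2) (by decide +kernel) e he))
    (by decide +kernel)).elim out_of

theorem out_card : Nat.card (Cfsg.Out Cfsg.Spor.M22) = 2 :=
  (card_out_eq (ModelM22.equiv.trans (MulEquiv.subgroupCongr geq))).trans out

end Cfsg.Agent.Spor.OutM22
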