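import Cfsg.Agent.Comp.Known
import Cfsg.Agent.Spor.ModelM23

set_option autoImplicit false
set_option maxRecDepth 4096

namespace Cfsg.Agent.Spor.OutM23

open Cfsg.Agent.Comp

noncomputable def ns_2 : Net :=
 (Net.cons (nat_lit 16) 48648
 (Net.cons (nat_lit 8) (nat_lit 0x2e0099)
 (Net.cons (nat_lit 4) (nat_lit 0xa070500)
 (Net.cons (nat_lit 2) (nat_lit 0x2100303)
 (Net.cons (nat_lit 1) (nat_lit 0x10140104)
 (Net.cons (nat_lit 2) (nat_lit 0x20000202)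
 (Net.cons (nat_lit 4) (nat_lit 0x8040c06)
 (Net.cons (nat_lit 8) 262360
 (Net.cons (nat_lit 16) 48692
 Net.nil)))))))))

noncomputable def ns_3 : Net :=
 (Net.cons (nat_lit 16) 7988
 (Net.cons (nat_lit 8) (nat_lit 0x2e0028)
 (Net.cons (nat_lit 4) 589833
 (Net.cons (nat_lit 2) (nat_lit 0x2022012)
 (Net.cons (nat_lit 1) (nat_lit 0x11444004)
 (Net.cons (nat_lit 2) (nat_lit 0x2020000)
 (Net.cons (nat_lit 4) (nat_lit 0x20c080e)
 (Net.cons (nat_lit 8) (nat_lit 0x2600c8)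
 (Net.cons (nat_lit 16) 8000
 Net.nil)))))))))

noncomputable def ns_4 : Net :=
 (Net.cons (nat_lit 16) 65136
 (Net.cons (nat_lit 8) (nat_lit 0xda0040)
 (Net.cons (nat_lit 4) (nat_lit 0x6000404)
 (Net.cons (nat_lit 2) (nat_lit 0x12330112)
 (Net.cons (nat_lit 1) (nat_lit 0x10540000)
 (Net.cons (nat_lit 2) 131072
 (Net.cons (nat_lit 4) (nat_lit 0x200040c)
 (Net.cons (nat_lit 8) (nat_lit 0xe20040)
 (Net.cons (nat_lit 16) 65104
 Net.nil)))))))))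

noncomputable def ns_5 : Net :=
 (Net.cons (nat_lit 16) 4096
 (Net.cons (nat_lit 8) (nat_lit 0x1000e4)
 (Net.cons (nat_lit 4) 788490
 (Net.cons (nat_lit 2) (nat_lit 0x320222)
 (Net.cons (nat_lit 1) 278784
 (Net.cons (nat_lit 2) 131584
 (Net.cons (nat_lit 4) 788480
 (Net.cons (nat_lit 8) (nat_lit 0x1000e0)
 (Net.cons (nat_lit 16) 4096
 Net.nil)))))))))

noncomputable def ns_6 : Net :=
 (Net.cons (nat_lit 16) 41228
 (Net.cons (nat_lit 8) 655558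
 (Net.cons (nat_lit 4) (nat_lit 0x8040604)
 (Net.cons (nat_lit 2) (nat_lit 0x2010012)
 (Net.cons (nat_lit 1) (nat_lit 0x1005404)
 (Net.cons (nat_lit 2) 2
 (Net.cons (nat_lit 4) (nat_lit 0x2000200)
 (Net.cons (nat_lit 8) (nat_lit 0x2a00c4)
 (Net.cons (nat_lit 16) 41272
 Net.nil)))))))))

noncomputable def ns_7 : Net :=
 (Net.cons (nat_lit 16) 28664
 (Net.cons (nat_lit 8) (nat_lit 0xb600b0)
 (Net.cons (nat_lit 4) (nat_lit 0x70c0008)
 (Net.cons (nat_lit 2) (nat_lit 0x1210022)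
 (Net.cons (nat_lit 1) (nat_lit 0x51001010)
 (Net.cons (nat_lit 2) 32
 (Net.cons (nat_lit 4) (nat_lit 0x8080000)
 (Net.cons (nat_lit 8) (nat_lit 0xd000a0)
 (Net.cons (nat_lit 16) 28624
 Net.nil)))))))))

noncomputable def ns_8 : Net :=
 (Net.cons (nat_lit 16) 49064
 (Net.cons (nat_lit 8) (nat_lit 0x900078)
 (Net.cons (nat_lit 4) (nat_lit 0xb090804)
 (Net.cons (nat_lit 2) (nat_lit 0x23313002)
 (Net.cons (nat_lit 1) (nat_lit 0x4154004)
 (Net.cons (nat_lit 2) (nat_lit 0x2200002)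
 (Net.cons (nat_lit 4) 788484
 (Net.cons (nat_lit 8) (nat_lit 0x220038)
 (Net.cons (nat_lit 16) 49144
 Net.nil)))))))))

noncomputable def ns_9 : Net :=
 (Net.cons (nat_lit 16) 30344
 (Net.cons (nat_lit 8) (nat_lit 0xc60008)
 (Net.cons (nat_lit 4) 8
 (Net.cons (nat_lit 2) (nat_lit 0x20320220)
 (Net.cons (nat_lit 1) (nat_lit 0x50410150)
 (Net.cons (nat_lit 2) (nat_lit 0x220200)
 (Net.cons (nat_lit 4) (nat_lit 0x2060808)
 (Net.cons (nat_lit 8) (nat_lit 0xc00008)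
 (Net.cons (nat_lit 16) 30448
 Net.nil)))))))))

noncomputable def ns_10 : Net :=
 (Net.cons (nat_lit 16) 55984
 (Net.cons (nat_lit 8) (nat_lit 0xd20060)
 (Net.cons (nat_lit 4) (nat_lit 0x60a0002)
 (Net.cons (nat_lit 2) (nat_lit 0x200102)
 (Net.cons (nat_lit 1) (nat_lit 0x14110000)
 (Net.cons (nat_lit 2) (nat_lit 0x20020000)
 (Net.cons (nat_lit 4) (nat_lit 0x60a0400)
 (Net.cons (nat_lit 8) (nat_lit 0x920060)
 (Net.cons (nat_lit 16) 55984
 Net.nil)))))))))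

noncomputable def ns_11 : Net :=
 (Net.cons (nat_lit 16) 57066
 (Net.cons (nat_lit 8) (nat_lit 0x9c0012)
 (Net.cons (nat_lit 4) (nat_lit 0x4080108)
 (Net.cons (nat_lit 2) (nat_lit 0x20310000)
 (Net.cons (nat_lit 1) (nat_lit 0x14411140)
 (Net.cons (nat_lit 2) (nat_lit 0x20200020)
 (Net.cons (nat_lit 4) (nat_lit 0xc040008)
 (Net.cons (nat_lit 8) (nat_lit 0x860032)
 (Net.cons (nat_lit 16) 56960
 Net.nil)))))))))

noncomputable def ns_12 : Net :=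
 (Net.cons (nat_lit 16) 60514
 (Net.cons (nat_lit 8) (nat_lit 0x240012)
 (Net.cons (nat_lit 4) (nat_lit 0xc0e030a)
 (Net.cons (nat_lit 2) (nat_lit 0x20310032)
 (Net.cons (nat_lit 1) (nat_lit 0x4411010)
 (Net.cons (nat_lit 2) 32
 (Net.cons (nat_lit 4) (nat_lit 0xc0a0200)
 (Net.cons (nat_lit 8) (nat_lit 0x4c0000)
 (Net.cons (nat_lit 16) 60448
 Net.nil)))))))))

noncomputable def ns_13 : Net :=
 (Net.cons (nat_lit 8) 90
 (Net.cons (nat_lit 4) 592130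
 (Net.cons (nat_lit 2) (nat_lit 0x302022)
 (Net.cons (nat_lit 1) (nat_lit 0x401540)
 (Net.cons (nat_lit 2) 8224
 (Net.cons (nat_lit 4) 657920
 (Net.cons (nat_lit 8) 240
 (Net.cons (nat_lit 16) 56
 Net.nil))))))))

noncomputable def ns_14 : Net :=
 (Net.cons (nat_lit 16) 2336
 (Net.cons (nat_lit 8) (nat_lit 0x4a0080)
 (Net.cons (nat_lit 4) (nat_lit 0x40a040a)
 (Net.cons (nat_lit 2) (nat_lit 0x3201200)
 (Net.cons (nat_lit 1) (nat_lit 0x4114410)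
 (Net.cons (nat_lit 2) (nat_lit 0x2200220)
 (Net.cons (nat_lit 4) (nat_lit 0x40a060a)
 (Net.cons (nat_lit 8) (nat_lit 0x420080)
 (Net.cons (nat_lit 16) 2304
 Net.nil)))))))))

noncomputable def ns_15 : Net :=
 (Net.cons (nat_lit 16) 7168
 (Net.cons (nat_lit 8) (nat_lit 0x5800c2)
 (Net.cons (nat_lit 4) (nat_lit 0xc0b0804)
 (Net.cons (nat_lit 2) (nat_lit 0x200222)
 (Net.cons (nat_lit 1) (nat_lit 0x40000114)
 (Net.cons (nat_lit 2) 2
 (Net.cons (nat_lit 4) (nat_lit 0x8080a06)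
 (Net.cons (nat_lit 8) (nat_lit 0x480060)
 (Net.cons (nat_lit 16) 7168
 Net.nil)))))))))

noncomputable def ns_16 : Net :=
 (Net.cons (nat_lit 16) 4480
 (Net.cons (nat_lit 8) (nat_lit 0x6100c2)
 (Net.cons (nat_lit 4) 69130
 (Net.cons (nat_lit 2) (nat_lit 0x10220022)
 (Net.cons (nat_lit 1) (nat_lit 0x10114040)
 (Net.cons (nat_lit 2) (nat_lit 0x202020)
 (Net.cons (nat_lit 4) 527360
 (Net.cons (nat_lit 8) (nat_lit 0x6000e8)
 (Net.cons (nat_lit 16) 4480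
 Net.nil)))))))))

noncomputable def ns_17 : Net :=
 (Net.cons (nat_lit 16) 36990
 (Net.cons (nat_lit 8) (nat_lit 0x94009a)
 (Net.cons (nat_lit 4) (nat_lit 0x40f0d06)
 (Net.cons (nat_lit 2) (nat_lit 0x10210200)
 (Net.cons (nat_lit 1) 327940
 (Net.cons (nat_lit 2) 514
 (Net.cons (nat_lit 4) (nat_lit 0x40c0004)
 (Net.cons (nat_lit 8) (nat_lit 0x8400f2)
 (Net.cons (nat_lit 16) 36960
 Net.nil)))))))))

noncomputable def ns_18 : Net :=
 (Net.cons (nat_lit 16) 1562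
 (Net.cons (nat_lit 8) (nat_lit 0x7400fa)
 (Net.cons (nat_lit 4) (nat_lit 0x4000b08)
 (Net.cons (nat_lit 2) (nat_lit 0x30032210)
 (Net.cons (nat_lit 1) (nat_lit 0x40040154)
 (Net.cons (nat_lit 2) (nat_lit 0x20020000)
 (Net.cons (nat_lit 4) (nat_lit 0x2000208)
 (Net.cons (nat_lit 8) (nat_lit 0x7200e2)
 (Net.cons (nat_lit 16) 1566
 Net.nil)))))))))

noncomputable def ns_19 : Net :=
 (Net.cons (nat_lit 16) 54938
 (Net.cons (nat_lit 8) (nat_lit 0x560000)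
 (Net.cons (nat_lit 4) (nat_lit 0xe08020e)
 (Net.cons (nat_lit 2) (nat_lit 0x30010021)
 (Net.cons (nat_lit 1) (nat_lit 0x44140141)
 (Net.cons (nat_lit 2) (nat_lit 0x20000000)
 (Net.cons (nat_lit 4) (nat_lit 0xe0c0208)
 (Net.cons (nat_lit 8) (nat_lit 0x940000)
 (Net.cons (nat_lit 16) 55002
 Net.nil)))))))))

noncomputable def ns_20 : Net :=
 (Net.cons (nat_lit 16) 1566
 (Net.cons (nat_lit 8) (nat_lit 0x7200e2)
 (Net.cons (nat_lit 4) (nat_lit 0x200090c)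
 (Net.cons (nat_lit 2) (nat_lit 0x10010220)
 (Net.cons (nat_lit 1) (nat_lit 0x10011054)
 (Net.cons (nat_lit 2) 8192
 (Net.cons (nat_lit 4) (nat_lit 0x4000000)
 (Net.cons (nat_lit 8) (nat_lit 0x7400fa)
 (Net.cons (nat_lit 16) 1562
 Net.nil)))))))))

noncomputable def ns_21 : Net :=
 (Net.cons (nat_lit 16) 12864
 (Net.cons (nat_lit 8) (nat_lit 0x26005a)
 (Net.cons (nat_lit 4) (nat_lit 0x40e0900)
 (Net.cons (nat_lit 2) (nat_lit 0x10210220)
 (Net.cons (nat_lit 1) (nat_lit 0x10110104)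
 (Net.cons (nat_lit 4) (nat_lit 0x60c0804)
 (Net.cons (nat_lit 8) (nat_lit 0x14001a)
 (Net.cons (nat_lit 16) 12864
 Net.nil))))))))

noncomputable def ns_22 : Net :=
 (Net.cons (nat_lit 16) 25980
 (Net.cons (nat_lit 8) (nat_lit 0x460088)
 (Net.cons (nat_lit 4) (nat_lit 0x2010004)
 (Net.cons (nat_lit 2) (nat_lit 0x1202212)
 (Net.cons (nat_lit 1) (nat_lit 0x401001)
 (Net.cons (nat_lit 2) (nat_lit 0x202002)
 (Net.cons (nat_lit 4) (nat_lit 0x400080c)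
 (Net.cons (nat_lit 8) (nat_lit 0x620002)
 (Net.cons (nat_lit 16) 25980
 Net.nil)))))))))

noncomputable def ns_23 : Net :=
 (Net.cons (nat_lit 16) 10257
 (Net.cons (nat_lit 8) (nat_lit 0x280003)
 (Net.cons (nat_lit 4) 787723
 (Net.cons (nat_lit 2) (nat_lit 0x111232)
 (Net.cons (nat_lit 1) (nat_lit 0x414441)
 (Net.cons (nat_lit 2) (nat_lit 0x200220)
 (Net.cons (nat_lit 4) 787464
 (Net.cons (nat_lit 8) (nat_lit 0x200080)
 (Net.cons (nat_lit 16) 10256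
 Net.nil)))))))))

noncomputable def ns_24 : Net :=
 (Net.cons (nat_lit 16) 58608
 (Net.cons (nat_lit 8) (nat_lit 0x220003)
 (Net.cons (nat_lit 4) (nat_lit 0x20d0b00)
 (Net.cons (nat_lit 2) (nat_lit 0x22130010)
 (Net.cons (nat_lit 1) (nat_lit 0x44111000)
 (Net.cons (nat_lit 2) (nat_lit 0x2222000)
 (Net.cons (nat_lit 4) 2564
 (Net.cons (nat_lit 8) (nat_lit 0x420010)
 (Net.cons (nat_lit 16) 58546
 Net.nil)))))))))

noncomputable def ns_25 : Net :=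
 (Net.cons (nat_lit 16) 17291
 (Net.cons (nat_lit 8) (nat_lit 0xd5005c)
 (Net.cons (nat_lit 4) (nat_lit 0xc040c05)
 (Net.cons (nat_lit 2) (nat_lit 0x11023032)
 (Net.cons (nat_lit 1) (nat_lit 0x5041041)
 (Net.cons (nat_lit 2) 139298
 (Net.cons (nat_lit 4) (nat_lit 0x8040006)
 (Net.cons (nat_lit 8) (nat_lit 0x940050)
 (Net.cons (nat_lit 16) 17292
 Net.nil)))))))))

noncomputable def ns_26 : Net :=
 (Net.cons (nat_lit 16) 4374
 (Net.cons (nat_lit 8) (nat_lit 0x580020)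
 (Net.cons (nat_lit 4) (nat_lit 0x401080d)
 (Net.cons (nat_lit 2) (nat_lit 0x3012203)
 (Net.cons (nat_lit 1) (nat_lit 0x1004400)
 (Net.cons (nat_lit 2) (nat_lit 0x2000200)
 (Net.cons (nat_lit 4) (nat_lit 0x400080c)
 (Net.cons (nat_lit 8) (nat_lit 0x580024)
 (Net.cons (nat_lit 16) 4372
 Net.nil)))))))))

noncomputable def ns_27 : Net :=
 (Net.cons (nat_lit 16) 20450
 (Net.cons (nat_lit 8) (nat_lit 0xef0094)
 (Net.cons (nat_lit 4) (nat_lit 0x6040403)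
 (Net.cons (nat_lit 2) (nat_lit 0x23121030)
 (Net.cons (nat_lit 1) (nat_lit 0x40010040)
 (Net.cons (nat_lit 2) 131072
 (Net.cons (nat_lit 4) 1026
 (Net.cons (nat_lit 8) (nat_lit 0xe40094)
 (Net.cons (nat_lit 16) 20400
 Net.nil)))))))))

noncomputable def ns_28 : Net :=
 (Net.cons (nat_lit 16) 16628
 (Net.cons (nat_lit 8) (nat_lit 0x400084)
 (Net.cons (nat_lit 4) 721156
 (Net.cons (nat_lit 2) (nat_lit 0x310203)
 (Net.cons (nat_lit 1) (nat_lit 0x540144)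
 (Net.cons (nat_lit 2) 131586
 (Net.cons (nat_lit 4) 131076
 (Net.cons (nat_lit 8) 128
 (Net.cons (nat_lit 16) 16566
 Net.nil)))))))))

noncomputable def ns_29 : Net :=
 (Net.cons (nat_lit 16) 192
 (Net.cons (nat_lit 8) 100
 (Net.cons (nat_lit 4) 526341
 (Net.cons (nat_lit 2) (nat_lit 0x100102)
 (Net.cons (nat_lit 1) 86020
 (Net.cons (nat_lit 2) 2
 (Net.cons (nat_lit 4) 2052
 (Net.cons (nat_lit 8) 100
 (Net.cons (nat_lit 16) 192
 Net.nil)))))))))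

noncomputable def ns_30 : Net :=
 (Net.cons (nat_lit 16) 34161
 (Net.cons (nat_lit 8) (nat_lit 0x4600d0)
 (Net.cons (nat_lit 4) (nat_lit 0x4000005)
 (Net.cons (nat_lit 2) (nat_lit 0x3000013)
 (Net.cons (nat_lit 1) (nat_lit 0x44104004)
 (Net.cons (nat_lit 2) (nat_lit 0x2000002)
 (Net.cons (nat_lit 4) (nat_lit 0x4000800)
 (Net.cons (nat_lit 8) (nat_lit 0x4200d0)
 (Net.cons (nat_lit 16) 34144
 Net.nil)))))))))

noncomputable def ns_31 : Net :=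
 (Net.cons (nat_lit 16) 56723
 (Net.cons (nat_lit 8) (nat_lit 0x570000)
 (Net.cons (nat_lit 4) (nat_lit 0x8080003)
 (Net.cons (nat_lit 2) (nat_lit 0x100002)
 (Net.cons (nat_lit 1) (nat_lit 0x5000014)
 (Net.cons (nat_lit 2) 2
 (Net.cons (nat_lit 4) (nat_lit 0x8000006)
 (Net.cons (nat_lit 8) (nat_lit 0x4a0000)
 (Net.cons (nat_lit 16) 56720
 Net.nil)))))))))

noncomputable def ns : List Net := [ModelM23.ns_0, ModelM23.ns_1, ns_2, ns_3, ns_4, ns_5, ns_6, ns_7, ns_8, ns_9, ns_10, ns_11, ns_12, ns_13, ns_14, ns_15, ns_16, ns_17, ns_18, ns_19, ns_20, ns_21, ns_22, ns_23, ns_24, ns_25, ns_26, ns_27, ns_28, ns_29, ns_30, ns_31]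

theorem ctx : Ctx 32 5 ns := ctx_of (by decide +kernel)

theorem lctx : LCtx 32 5 8 31 trN5 ns := lctx_of ctx trOK5 (by decide +kernel)

noncomputable def E : List ℕ → ℕ → ℕ := pfW0 32 5 8 31 trN5 ns

theorem hE : Evl 32 ns E := evl_pfW0 lctx

theorem geq : gen ModelM23.ns ModelM23.G_ss0 = gen ns [[0], [2]] :=
  gen_eq_of_take (ns := ModelM23.ns) (ns' := ns) (k := 2) rfl (ws := ModelM23.G_ss0) (by decide +kernel)

theorem hn : Nat.card (gen ns [[0], [2]]) = 10200960 :=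
  geq ▸ ModelM23.G_card

theorem kn_0 : Known ns (gen ns [[0], [2]]) 3 :=
  known_gen (by decide +kernel)

noncomputable def A_S6 : List SD :=
  []

noncomputable def A_d5 : SD :=
  ⟨9, 2, [32], lab 1 1 16384, 1⟩

noncomputable def A_S5 : List SD :=
  A_d5 :: A_S6

noncomputable def A_d4 : SD :=
  ⟨4, 2, [26, 28, 30, 32], lab 3 7 (nat_lit 0x9812806943018610), 2⟩

noncomputable def A_S4 : List SD :=
  A_d4 :: A_S5

noncomputable def A_d3 : SD :=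
  ⟨6, 1, [20, 22, 24, 26, 28, 30, 32], lab 4 15 (nat_lit 0x833202c67247150a0546060), 3⟩

noncomputable def A_S3 : List SD :=
  A_d3 :: A_S4

noncomputable def A_d2 : SD :=
  ⟨18, 1, [14, 16, 18, 20, 22, 24, 26, 28, 30, 32], lab 5 31 (nat_lit 0x248c2804039d5009473080c420100), 2⟩

noncomputable def A_S2 : List SD :=
  A_d2 :: A_S3

noncomputable def A_d1 : SD :=
  ⟨2, 2, [8, 10, 12, 14, 16, 18, 20, 22, 24, 26, 28, 30, 32], lab 5 31 (nat_lit 0x16e03293391d1720889c20e590260), 2⟩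

noncomputable def A_S1 : List SD :=
  A_d1 :: A_S2

noncomputable def A_d0 : SD :=
  ⟨0, 2, [0, 2, 6, 8, 10, 12, 14, 16, 18, 20, 22, 24, 26, 28, 30, 32], lab 5 31 (nat_lit 0x2f62615e49b6dd828fff39abc1680), 3⟩

noncomputable def A_S0 : List SD :=
  A_d0 :: A_S1

theorem kn_1 : Known ns (gen ns [[0], [2]]) 524287 :=
  kn_0.steps ctx (es := [(2, [1, 3]),
 (3, [3, 0]),
 (4, [2, 6, 6, 1, 3]),
 (5, [3, 7, 2, 1, 2]),
 (6, [11, 8, 10, 9, 9]),
 (7, [12, 12, 8, 8, 8, 13, 13, 8, 8]),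
 (8, [9, 13, 10, 8, 8]),
 (9, [14, 16, 14, 14, 16]),
 (10, [18, 16, 14, 16, 18, 17, 18]),
 (11, [15, 17, 19, 16, 19, 15, 16, 18]),
 (12, [20, 20, 22]),
 (13, [21, 24, 23, 24, 21, 23]),
 (14, [21, 23, 24, 24]),
 (15, [20, 25, 21, 25]),
 (16, [29, 31]),
 (17, [18, 10, 19, 14, 24, 20, 26, 30]),
 (18, [27, 12, 14, 14, 28, 27, 33])]) (by decide +kernel)

theorem A_ex : Exact 32 ns A_S0 ∧ gen ns (sTop A_S0) = gen ns [[0], [2]] ∧ gen ns [[0], [2]] = gen ns [[0], [2]] :=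
  exact_of_known ctx hn (le_rfl) kn_1 (by decide +kernel)

theorem km_0 : Known ns (gen ns [[4], [34], [36]]) 393220 :=
  known_gen (by decide +kernel)

noncomputable def B_S6 : List SD :=
  []

noncomputable def B_d5 : SD :=
  ⟨10, 2, [62], lab 1 1 262144, 1⟩

noncomputable def B_S5 : List SD :=
  B_d5 :: B_S6

noncomputable def B_d4 : SD :=
  ⟨22, 2, [56, 58, 60, 62], lab 3 7 (nat_lit 0x7e02100404972079), 3⟩

noncomputable def B_S4 : List SD :=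
  B_d4 :: B_S5

noncomputable def B_d3 : SD :=
  ⟨9, 1, [50, 52, 54, 56, 58, 60, 62], lab 4 15 (nat_lit 0x1435174058201a4050807), 2⟩

noncomputable def B_S3 : List SD :=
  B_d3 :: B_S4

noncomputable def B_d2 : SD :=
  ⟨13, 1, [44, 46, 48, 50, 52, 54, 56, 58, 60, 62], lab 5 31 (nat_lit 0x80618824200124ac704b00202c51), 2⟩

noncomputable def B_S2 : List SD :=
  B_d2 :: B_S3

noncomputable def B_d1 : SD :=
  ⟨21, 1, [38, 40, 42, 44, 46, 48, 50, 52, 54, 56, 58, 60, 62], lab 5 31 (nat_lit 0x8041140e3e4603a0633269803ef1), 2⟩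

noncomputable def B_S1 : List SD :=
  B_d1 :: B_S2

noncomputable def B_d0 : SD :=
  ⟨3, 1, [4, 34, 36, 38, 40, 42, 44, 46, 48, 50, 52, 54, 56, 58, 60, 62], lab 5 31 (nat_lit 0x18451408e8002de004301c6e04eac), 2⟩

noncomputable def B_S0 : List SD :=
  B_d0 :: B_S1

theorem km_1 : Known ns (gen ns [[4], [34], [36]]) 4294836228 :=
  km_0.steps ctx (es := [(19, [35, 36, 35, 35, 36, 5]),
 (20, [4, 35, 5, 5, 34, 37]),
 (21, [39, 40, 39, 41, 38]),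
 (22, [43, 39, 42]),
 (23, [39, 43, 40, 38, 43, 43, 43, 43]),
 (24, [47, 45, 45]),
 (25, [46, 49, 46, 46, 46, 44]),
 (26, [44, 47, 47, 49, 49, 45, 48, 44, 46]),
 (27, [51, 51, 52]),
 (28, [55, 51, 53, 54, 53]),
 (29, [54, 52, 55, 53, 55, 55, 53, 54]),
 (30, [52, 55, 53, 51, 53, 55]),
 (31, [57, 58, 58, 61, 56, 56, 59])]) (by decide +kernel)

theorem B_ex : Exact 32 ns B_S0 ∧ gen ns (sTop B_S0) = gen ns [[0], [2]] ∧ gen ns [[4], [34], [36]] = gen ns [[0], [2]] :=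
  exact_of_known ctx hn (kn_1.gen_le (by decide +kernel)) km_1 (by decide +kernel)

theorem kG_0 : Known ns (gen ns [[0], [2]]) 4294967295 :=
  kn_1.lor (km_1.mono B_ex.2.2.le)

noncomputable def CA_as : List (List ℕ × List ℕ) :=
  [([4], [4])]

noncomputable def CA_cs : List (List ℕ) :=
  [[]]

noncomputable def CA_pl : List Pl :=
  [⟨.lst 0, []⟩, ⟨.forced 0 0, []⟩, ⟨.forced 0 0, []⟩, ⟨.forced 0 0, []⟩, ⟨.forced 0 0, []⟩, ⟨.forced 0 0, []⟩]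

noncomputable def CA_M0 : ℕ :=
  1

theorem CA_b0 : Br 32 ns (derAs CA_as [[0]]) (derSs 32 5 ns CA_as [[0]]) (gen ns (sTop A_S0)) A_d0.p CA_M0 (InCs ns A_S0 CA_cs) :=
  br_of_brB ctx hE A_ex.1 (pl := CA_pl) (bs := []) (tps := []) (by decide +kernel)

theorem CA : SolList ns (gen ns [[0], [2]]) CA_as [[4]] CA_cs :=
  solList_of_br ctx A_ex.1 A_ex.2.1 kG_0 CA_b0 (cons := []) (r := 22) (by decide +kernel)

noncomputable def XB_as : List (List ℕ × List ℕ) :=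
  [(powW [34] 1, powW [34] 3)]

noncomputable def XB_cs : List (List ℕ) :=
  [[36]]

noncomputable def XB_pl : List Pl :=
  [⟨.lst 0, []⟩, ⟨.forced 0 0, []⟩, ⟨.forced 0 0, []⟩, ⟨.forced 0 0, []⟩, ⟨.forced 0 0, []⟩, ⟨.forced 0 0, []⟩]

noncomputable def XB_M0 : ℕ :=
  136

theorem XB_b0 : Br 32 ns (derAs XB_as [[0]]) (derSs 32 5 ns XB_as [[0]]) (gen ns (sTop B_S0)) B_d0.p XB_M0 (InCs ns B_S0 XB_cs) :=
  br_of_brB ctx hE B_ex.1 (pl := XB_pl) (bs := []) (tps := []) (by decide +kernel)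

theorem XB : SolList ns (gen ns [[0], [2]]) XB_as [[34]] XB_cs :=
  solList_of_br ctx B_ex.1 B_ex.2.1 kG_0 XB_b0 (cons := []) (r := 10) (by decide +kernel)

noncomputable def od : OD :=
  ⟨[4], [34], [36], 23, 2, 11, 1, 3, [1, 5], 0, [[1, 5, 1, 5, 1, 5, 1, 5, 1, 5, 1, 5], [4, 1, 3, 4, 1, 3, 4, 1, 3, 4, 1, 3, 4, 1, 3, 4, 1, 3]]⟩

theorem od_chk : od.chk 32 5 ns 10200960 = true :=
  by decide +kernel

theorem od_kill : ∀ c ∈ XB_cs, od.kill 32 E [(1, od.c)] [0, 1] c = true :=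
  forall_mem_of_allL (by decide +kernel)

theorem out : Nat.card (Cfsg.Out (gen ns [[0], [2]])) = 1 :=
  OD.out_one (o := od) ctx hE hn (by norm_num [od]) B_ex.2.2.symm od_chk CA.cent XB.one od_kill

theorem out_card : Nat.card (Cfsg.Out Cfsg.Spor.M23) = 1 :=
  (card_out_eq (ModelM23.equiv.trans (MulEquiv.subgroupCongr geq))).trans out

end Cfsg.Agent.Spor.OutM23
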