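import Cfsg.Agent.Comp.Known
import Cfsg.Agent.Spor.ModelM24

set_option autoImplicit false
set_option maxRecDepth 4096

namespace Cfsg.Agent.Spor.OutM24

open Cfsg.Agent.Comp

noncomputable def ns_2 : Net :=
 (Net.cons (nat_lit 16) 17520
 (Net.cons (nat_lit 8) 131244
 (Net.cons (nat_lit 4) (nat_lit 0x40a000d)
 (Net.cons (nat_lit 2) (nat_lit 0x2032220)
 (Net.cons (nat_lit 1) (nat_lit 0x4011515)
 (Net.cons (nat_lit 2) (nat_lit 0x2002020)
 (Net.cons (nat_lit 4) 133134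
 (Net.cons (nat_lit 8) (nat_lit 0x460024)
 (Net.cons (nat_lit 16) 17622
 Net.nil)))))))))

noncomputable def ns_3 : Net :=
 (Net.cons (nat_lit 16) 47204
 (Net.cons (nat_lit 8) (nat_lit 0x98000d)
 (Net.cons (nat_lit 4) (nat_lit 0x80f0006)
 (Net.cons (nat_lit 2) (nat_lit 0x20130320)
 (Net.cons (nat_lit 1) (nat_lit 0x140040)
 (Net.cons (nat_lit 4) (nat_lit 0x8000400)
 (Net.cons (nat_lit 8) (nat_lit 0x20000a)
 (Net.cons (nat_lit 16) 47232
 Net.nil))))))))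

noncomputable def ns_4 : Net :=
 (Net.cons (nat_lit 16) 30680
 (Net.cons (nat_lit 8) (nat_lit 0x720088)
 (Net.cons (nat_lit 4) (nat_lit 0x5040002)
 (Net.cons (nat_lit 2) (nat_lit 0x11000022)
 (Net.cons (nat_lit 1) (nat_lit 0x1140040)
 (Net.cons (nat_lit 2) (nat_lit 0x220000)
 (Net.cons (nat_lit 4) 262152
 (Net.cons (nat_lit 8) (nat_lit 0x300008)
 (Net.cons (nat_lit 16) 30664
 Net.nil)))))))))

noncomputable def ns_5 : Net :=
 (Net.cons (nat_lit 16) 15628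
 (Net.cons (nat_lit 8) (nat_lit 0x70009e)
 (Net.cons (nat_lit 4) (nat_lit 0x90b0e00)
 (Net.cons (nat_lit 2) 208928
 (Net.cons (nat_lit 1) (nat_lit 0x40114000)
 (Net.cons (nat_lit 2) (nat_lit 0x20200000)
 (Net.cons (nat_lit 4) (nat_lit 0x80a0a00)
 (Net.cons (nat_lit 8) (nat_lit 0x64009c)
 (Net.cons (nat_lit 16) 15680
 Net.nil)))))))))

noncomputable def ns_6 : Net :=
 (Net.cons (nat_lit 16) 1088
 (Net.cons (nat_lit 8) 262234
 (Net.cons (nat_lit 4) 131598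
 (Net.cons (nat_lit 2) (nat_lit 0x132000)
 (Net.cons (nat_lit 1) (nat_lit 0x154114)
 (Net.cons (nat_lit 2) (nat_lit 0x202020)
 (Net.cons (nat_lit 4) 786434
 (Net.cons (nat_lit 8) 98
 (Net.cons (nat_lit 16) 1056
 Net.nil)))))))))

noncomputable def ns_7 : Net :=
 (Net.cons (nat_lit 16) 2576
 (Net.cons (nat_lit 8) (nat_lit 0x5a0098)
 (Net.cons (nat_lit 4) (nat_lit 0xa020004)
 (Net.cons (nat_lit 2) 209664
 (Net.cons (nat_lit 1) (nat_lit 0x50041140)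
 (Net.cons (nat_lit 2) 139808
 (Net.cons (nat_lit 4) (nat_lit 0xa020004)
 (Net.cons (nat_lit 8) (nat_lit 0x500098)
 (Net.cons (nat_lit 16) 2576
 Net.nil)))))))))

noncomputable def ns_8 : Net :=
 (Net.cons (nat_lit 16) 58992
 (Net.cons (nat_lit 8) 786568
 (Net.cons (nat_lit 4) (nat_lit 0xc0e010c)
 (Net.cons (nat_lit 2) (nat_lit 0x20130210)
 (Net.cons (nat_lit 1) (nat_lit 0x4150110)
 (Net.cons (nat_lit 2) (nat_lit 0x2000220)
 (Net.cons (nat_lit 4) (nat_lit 0x408080c)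
 (Net.cons (nat_lit 8) (nat_lit 0xcc0098)
 (Net.cons (nat_lit 16) 58900
 Net.nil)))))))))

noncomputable def ns_9 : Net :=
 (Net.cons (nat_lit 16) 4092
 (Net.cons (nat_lit 8) (nat_lit 0x650008)
 (Net.cons (nat_lit 4) (nat_lit 0xa080808)
 (Net.cons (nat_lit 2) 77824
 (Net.cons (nat_lit 1) (nat_lit 0x41040014)
 (Net.cons (nat_lit 2) (nat_lit 0x20000000)
 (Net.cons (nat_lit 4) (nat_lit 0xe080008)
 (Net.cons (nat_lit 8) (nat_lit 0x640098)
 (Net.cons (nat_lit 16) 4012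
 Net.nil)))))))))

noncomputable def ns_10 : Net :=
 (Net.cons (nat_lit 16) 44896
 (Net.cons (nat_lit 8) (nat_lit 0xd80050)
 (Net.cons (nat_lit 4) (nat_lit 0x50e000c)
 (Net.cons (nat_lit 2) (nat_lit 0x2001030)
 (Net.cons (nat_lit 1) (nat_lit 0x45410040)
 (Net.cons (nat_lit 2) 131072
 (Net.cons (nat_lit 4) (nat_lit 0x606000c)
 (Net.cons (nat_lit 8) (nat_lit 0x760050)
 (Net.cons (nat_lit 16) 45044
 Net.nil)))))))))

noncomputable def ns_11 : Net :=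
 (Net.cons (nat_lit 16) 15808
 (Net.cons (nat_lit 8) (nat_lit 0x860020)
 (Net.cons (nat_lit 4) (nat_lit 0x10e0204)
 (Net.cons (nat_lit 2) (nat_lit 0x20012000)
 (Net.cons (nat_lit 1) (nat_lit 0x11410040)
 (Net.cons (nat_lit 2) (nat_lit 0x22000000)
 (Net.cons (nat_lit 4) 917504
 (Net.cons (nat_lit 8) (nat_lit 0xb20020)
 (Net.cons (nat_lit 16) 15868
 Net.nil)))))))))

noncomputable def ns_12 : Net :=
 (Net.cons (nat_lit 16) 39886
 (Net.cons (nat_lit 8) 851980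
 (Net.cons (nat_lit 4) (nat_lit 0xa060c0e)
 (Net.cons (nat_lit 2) (nat_lit 0x20230012)
 (Net.cons (nat_lit 1) (nat_lit 0x14144010)
 (Net.cons (nat_lit 2) (nat_lit 0x202000)
 (Net.cons (nat_lit 4) (nat_lit 0xa060c0a)
 (Net.cons (nat_lit 8) (nat_lit 0x8c002c)
 (Net.cons (nat_lit 16) 39730
 Net.nil)))))))))

noncomputable def ns_13 : Net :=
 (Net.cons (nat_lit 16) 14526
 (Net.cons (nat_lit 8) (nat_lit 0x400024)
 (Net.cons (nat_lit 4) (nat_lit 0x8090c0c)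
 (Net.cons (nat_lit 2) (nat_lit 0x10012012)
 (Net.cons (nat_lit 1) (nat_lit 0x40144140)
 (Net.cons (nat_lit 2) (nat_lit 0x20002200)
 (Net.cons (nat_lit 4) (nat_lit 0x8000e04)
 (Net.cons (nat_lit 8) (nat_lit 0x680024)
 (Net.cons (nat_lit 16) 14526
 Net.nil)))))))))

noncomputable def ns_14 : Net :=
 (Net.cons (nat_lit 16) 11730
 (Net.cons (nat_lit 8) (nat_lit 0x9d0050)
 (Net.cons (nat_lit 4) (nat_lit 0x508020c)
 (Net.cons (nat_lit 2) (nat_lit 0x32211002)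
 (Net.cons (nat_lit 1) (nat_lit 0x41004040)
 (Net.cons (nat_lit 2) (nat_lit 0x22002020)
 (Net.cons (nat_lit 4) (nat_lit 0xc080204)
 (Net.cons (nat_lit 8) (nat_lit 0xb40040)
 (Net.cons (nat_lit 16) 11730
 Net.nil)))))))))

noncomputable def ns_15 : Net :=
 (Net.cons (nat_lit 16) 11252
 (Net.cons (nat_lit 8) (nat_lit 0x85002c)
 (Net.cons (nat_lit 4) (nat_lit 0xa0a0c04)
 (Net.cons (nat_lit 2) (nat_lit 0x1001020)
 (Net.cons (nat_lit 1) (nat_lit 0x1101010)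
 (Net.cons (nat_lit 2) (nat_lit 0x2200020)
 (Net.cons (nat_lit 4) (nat_lit 0x80a0400)
 (Net.cons (nat_lit 8) (nat_lit 0xae00b8)
 (Net.cons (nat_lit 16) 11072
 Net.nil)))))))))

noncomputable def ns_16 : Net :=
 (Net.cons (nat_lit 16) 14424
 (Net.cons (nat_lit 8) (nat_lit 0xb400b4)
 (Net.cons (nat_lit 4) (nat_lit 0x40b0708)
 (Net.cons (nat_lit 2) (nat_lit 0x203000)
 (Net.cons (nat_lit 1) (nat_lit 0x40010040)
 (Net.cons (nat_lit 2) (nat_lit 0x20000000)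
 (Net.cons (nat_lit 4) (nat_lit 0x40a0400)
 (Net.cons (nat_lit 8) (nat_lit 0xbc00b4)
 (Net.cons (nat_lit 16) 14424
 Net.nil)))))))))

noncomputable def ns_17 : Net :=
 (Net.cons (nat_lit 16) 47384
 (Net.cons (nat_lit 8) (nat_lit 0xd80000)
 (Net.cons (nat_lit 4) (nat_lit 0x1060004)
 (Net.cons (nat_lit 2) (nat_lit 0x20120010)
 (Net.cons (nat_lit 1) (nat_lit 0x40010000)
 (Net.cons (nat_lit 2) (nat_lit 0x20020000)
 (Net.cons (nat_lit 4) 262148
 (Net.cons (nat_lit 8) (nat_lit 0x580000)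
 (Net.cons (nat_lit 16) 47376
 Net.nil)))))))))

noncomputable def ns_18 : Net :=
 (Net.cons (nat_lit 16) 45126
 (Net.cons (nat_lit 8) (nat_lit 0x2000e4)
 (Net.cons (nat_lit 4) 790026
 (Net.cons (nat_lit 2) (nat_lit 0x220300)
 (Net.cons (nat_lit 1) (nat_lit 0x10410010)
 (Net.cons (nat_lit 2) 131104
 (Net.cons (nat_lit 4) 788490
 (Net.cons (nat_lit 8) (nat_lit 0xb000e4)
 (Net.cons (nat_lit 16) 45126
 Net.nil)))))))))

noncomputable def ns_19 : Net :=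
 (Net.cons (nat_lit 16) 47444
 (Net.cons (nat_lit 8) (nat_lit 0x2800a0)
 (Net.cons (nat_lit 4) (nat_lit 0x2080208)
 (Net.cons (nat_lit 2) (nat_lit 0x2022030)
 (Net.cons (nat_lit 1) (nat_lit 0x1140010)
 (Net.cons (nat_lit 2) 131104
 (Net.cons (nat_lit 4) (nat_lit 0x2000008)
 (Net.cons (nat_lit 8) (nat_lit 0xb800a0)
 (Net.cons (nat_lit 16) 47440
 Net.nil)))))))))

noncomputable def ns_20 : Net :=
 (Net.cons (nat_lit 16) 12988
 (Net.cons (nat_lit 8) (nat_lit 0x1000b6)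
 (Net.cons (nat_lit 4) 66060
 (Net.cons (nat_lit 2) 70400
 (Net.cons (nat_lit 1) (nat_lit 0x415404)
 (Net.cons (nat_lit 2) 131072
 (Net.cons (nat_lit 4) 393728
 (Net.cons (nat_lit 8) (nat_lit 0x3200fe)
 (Net.cons (nat_lit 16) 12976
 Net.nil)))))))))

noncomputable def ns_21 : Net :=
 (Net.cons (nat_lit 16) 43236
 (Net.cons (nat_lit 8) (nat_lit 0x3200a2)
 (Net.cons (nat_lit 4) (nat_lit 0x8040805)
 (Net.cons (nat_lit 2) (nat_lit 0x2211202)
 (Net.cons (nat_lit 1) (nat_lit 0x10441500)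
 (Net.cons (nat_lit 2) (nat_lit 0x200000)
 (Net.cons (nat_lit 4) (nat_lit 0xa0c0a00)
 (Net.cons (nat_lit 8) (nat_lit 0xba00e4)
 (Net.cons (nat_lit 16) 43052
 Net.nil)))))))))

noncomputable def ns_22 : Net :=
 (Net.cons (nat_lit 16) 21550
 (Net.cons (nat_lit 8) (nat_lit 0xa40005)
 (Net.cons (nat_lit 4) (nat_lit 0xc01080a)
 (Net.cons (nat_lit 2) (nat_lit 0x102120)
 (Net.cons (nat_lit 1) (nat_lit 0x14040040)
 (Net.cons (nat_lit 2) 32
 (Net.cons (nat_lit 4) (nat_lit 0x8040800)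
 (Net.cons (nat_lit 8) (nat_lit 0xe000a4)
 (Net.cons (nat_lit 16) 21506
 Net.nil)))))))))

noncomputable def ns_23 : Net :=
 (Net.cons (nat_lit 16) 48723
 (Net.cons (nat_lit 8) (nat_lit 0x74002d)
 (Net.cons (nat_lit 4) (nat_lit 0x60d0402)
 (Net.cons (nat_lit 2) (nat_lit 0x12322320)
 (Net.cons (nat_lit 1) (nat_lit 0x54014150)
 (Net.cons (nat_lit 2) (nat_lit 0x2022200)
 (Net.cons (nat_lit 4) (nat_lit 0x80c0002)
 (Net.cons (nat_lit 8) (nat_lit 0xcc002c)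
 (Net.cons (nat_lit 16) 48826
 Net.nil)))))))))

noncomputable def ns_24 : Net :=
 (Net.cons (nat_lit 16) 49829
 (Net.cons (nat_lit 8) (nat_lit 0x2a0034)
 (Net.cons (nat_lit 4) (nat_lit 0x80d0d01)
 (Net.cons (nat_lit 2) 208915
 (Net.cons (nat_lit 1) (nat_lit 0x40001041)
 (Net.cons (nat_lit 2) (nat_lit 0x20002022)
 (Net.cons (nat_lit 4) (nat_lit 0x80c0c04)
 (Net.cons (nat_lit 8) (nat_lit 0xa80010)
 (Net.cons (nat_lit 16) 49776
 Net.nil)))))))))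

noncomputable def ns_25 : Net :=
 (Net.cons (nat_lit 16) 3532
 (Net.cons (nat_lit 8) 65712
 (Net.cons (nat_lit 4) 720907
 (Net.cons (nat_lit 2) (nat_lit 0x1230021)
 (Net.cons (nat_lit 1) (nat_lit 0x4551011)
 (Net.cons (nat_lit 2) 32
 (Net.cons (nat_lit 4) 6
 (Net.cons (nat_lit 8) 524432
 (Net.cons (nat_lit 16) 3508
 Net.nil)))))))))

noncomputable def ns_26 : Net :=
 (Net.cons (nat_lit 16) 41085
 (Net.cons (nat_lit 8) (nat_lit 0x5000de)
 (Net.cons (nat_lit 4) 264450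
 (Net.cons (nat_lit 2) (nat_lit 0x30201002)
 (Net.cons (nat_lit 1) (nat_lit 0x50410410)
 (Net.cons (nat_lit 2) (nat_lit 0x220000)
 (Net.cons (nat_lit 4) 789504
 (Net.cons (nat_lit 8) (nat_lit 0xd000c6)
 (Net.cons (nat_lit 16) 40984
 Net.nil)))))))))

noncomputable def ns_27 : Net :=
 (Net.cons (nat_lit 16) 8276
 (Net.cons (nat_lit 8) (nat_lit 0x800010)
 (Net.cons (nat_lit 4) 461061
 (Net.cons (nat_lit 2) (nat_lit 0x20112331)
 (Net.cons (nat_lit 1) (nat_lit 0x141440)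
 (Net.cons (nat_lit 2) 8704
 (Net.cons (nat_lit 4) 2056
 (Net.cons (nat_lit 8) (nat_lit 0x800000)
 (Net.cons (nat_lit 16) 8380
 Net.nil)))))))))

noncomputable def ns_28 : Net :=
 (Net.cons (nat_lit 16) 8393
 (Net.cons (nat_lit 8) (nat_lit 0x140018)
 (Net.cons (nat_lit 4) (nat_lit 0x40a0100)
 (Net.cons (nat_lit 2) (nat_lit 0x10000012)
 (Net.cons (nat_lit 1) (nat_lit 0x10000101)
 (Net.cons (nat_lit 2) 2
 (Net.cons (nat_lit 4) (nat_lit 0x4000004)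
 (Net.cons (nat_lit 8) (nat_lit 0x140018)
 (Net.cons (nat_lit 16) 8416
 Net.nil)))))))))

noncomputable def ns_29 : Net :=
 (Net.cons (nat_lit 16) 41009
 (Net.cons (nat_lit 8) (nat_lit 0x1a0035)
 (Net.cons (nat_lit 4) (nat_lit 0xa0c0100)
 (Net.cons (nat_lit 2) (nat_lit 0x20220212)
 (Net.cons (nat_lit 1) (nat_lit 0x10410541)
 (Net.cons (nat_lit 2) (nat_lit 0x220002)
 (Net.cons (nat_lit 4) (nat_lit 0x2080200)
 (Net.cons (nat_lit 8) (nat_lit 0x3a0034)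
 (Net.cons (nat_lit 16) 41064
 Net.nil)))))))))

noncomputable def ns_30 : Net :=
 (Net.cons (nat_lit 16) 33711
 (Net.cons (nat_lit 8) (nat_lit 0xd10074)
 (Net.cons (nat_lit 4) (nat_lit 0x4080000)
 (Net.cons (nat_lit 2) (nat_lit 0x21212002)
 (Net.cons (nat_lit 1) (nat_lit 0x11044011)
 (Net.cons (nat_lit 2) (nat_lit 0x20002002)
 (Net.cons (nat_lit 4) (nat_lit 0x4000402)
 (Net.cons (nat_lit 8) (nat_lit 0x50004c)
 (Net.cons (nat_lit 16) 33682
 Net.nil)))))))))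

noncomputable def ns_31 : Net :=
 (Net.cons (nat_lit 16) 10345
 (Net.cons (nat_lit 8) (nat_lit 0x1c0010)
 (Net.cons (nat_lit 4) (nat_lit 0x402030c)
 (Net.cons (nat_lit 2) (nat_lit 0x30020010)
 (Net.cons (nat_lit 1) (nat_lit 0x40011000)
 (Net.cons (nat_lit 2) (nat_lit 0x20020000)
 (Net.cons (nat_lit 4) (nat_lit 0x4000200)
 (Net.cons (nat_lit 8) (nat_lit 0x1c0010)
 (Net.cons (nat_lit 16) 10304
 Net.nil)))))))))

noncomputable def ns_32 : Net :=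
 (Net.cons (nat_lit 16) 808
 (Net.cons (nat_lit 8) (nat_lit 0x6f007c)
 (Net.cons (nat_lit 4) (nat_lit 0xa0a0002)
 (Net.cons (nat_lit 2) (nat_lit 0x21023020)
 (Net.cons (nat_lit 1) (nat_lit 0x114411)
 (Net.cons (nat_lit 2) 139298
 (Net.cons (nat_lit 4) (nat_lit 0xc0a0002)
 (Net.cons (nat_lit 8) (nat_lit 0x6c0064)
 (Net.cons (nat_lit 16) 808
 Net.nil)))))))))

noncomputable def ns_33 : Net :=
 (Net.cons (nat_lit 16) 384
 (Net.cons (nat_lit 8) 131248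
 (Net.cons (nat_lit 4) 329729
 (Net.cons (nat_lit 2) (nat_lit 0x300220)
 (Net.cons (nat_lit 1) (nat_lit 0x1040040)
 (Net.cons (nat_lit 2) 32
 (Net.cons (nat_lit 4) 786436
 (Net.cons (nat_lit 8) 131224
 (Net.cons (nat_lit 16) 400
 Net.nil)))))))))

noncomputable def ns_34 : Net :=
 (Net.cons (nat_lit 16) 10340
 (Net.cons (nat_lit 8) (nat_lit 0x280054)
 (Net.cons (nat_lit 4) 1546
 (Net.cons (nat_lit 2) (nat_lit 0x200100)
 (Net.cons (nat_lit 1) (nat_lit 0x411001)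
 (Net.cons (nat_lit 2) (nat_lit 0x220000)
 (Net.cons (nat_lit 4) 262658
 (Net.cons (nat_lit 8) (nat_lit 0x280044)
 (Net.cons (nat_lit 16) 10368
 Net.nil)))))))))

noncomputable def ns_35 : Net :=
 (Net.cons (nat_lit 16) 2208
 (Net.cons (nat_lit 8) 524389
 (Net.cons (nat_lit 4) 852232
 (Net.cons (nat_lit 2) (nat_lit 0x300200)
 (Net.cons (nat_lit 1) (nat_lit 0x500410)
 (Net.cons (nat_lit 2) 512
 (Net.cons (nat_lit 4) 525312
 (Net.cons (nat_lit 8) 524356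
 (Net.cons (nat_lit 16) 2080
 Net.nil)))))))))

noncomputable def ns_36 : Net :=
 (Net.cons (nat_lit 16) 8642
 (Net.cons (nat_lit 8) (nat_lit 0x150022)
 (Net.cons (nat_lit 4) (nat_lit 0x4020809)
 (Net.cons (nat_lit 2) (nat_lit 0x30000012)
 (Net.cons (nat_lit 1) (nat_lit 0x40011004)
 (Net.cons (nat_lit 2) (nat_lit 0x20002002)
 (Net.cons (nat_lit 4) (nat_lit 0x4020800)
 (Net.cons (nat_lit 8) (nat_lit 0x140020)
 (Net.cons (nat_lit 16) 8514
 Net.nil)))))))))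

noncomputable def ns_37 : Net :=
 (Net.cons (nat_lit 16) 756
 (Net.cons (nat_lit 8) (nat_lit 0x4200f9)
 (Net.cons (nat_lit 4) (nat_lit 0x4030d03)
 (Net.cons (nat_lit 2) (nat_lit 0x2000103)
 (Net.cons (nat_lit 1) (nat_lit 0x4011001)
 (Net.cons (nat_lit 2) (nat_lit 0x2000000)
 (Net.cons (nat_lit 4) (nat_lit 0x4020402)
 (Net.cons (nat_lit 8) (nat_lit 0x4000c8)
 (Net.cons (nat_lit 16) 628
 Net.nil)))))))))

noncomputable def ns : List Net := [ModelM24.ns_0, ModelM24.ns_1, ns_2, ns_3, ns_4, ns_5, ns_6, ns_7, ns_8, ns_9, ns_10, ns_11, ns_12, ns_13, ns_14, ns_15, ns_16, ns_17, ns_18, ns_19, ns_20, ns_21, ns_22, ns_23, ns_24, ns_25, ns_26, ns_27, ns_28, ns_29, ns_30, ns_31, ns_32, ns_33, ns_34, ns_35, ns_36, ns_37]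

theorem ctx : Ctx 32 5 ns := ctx_of (by decide +kernel)

theorem lctx : LCtx 32 5 8 31 trN5 ns := lctx_of ctx trOK5 (by decide +kernel)

noncomputable def E : List ℕ → ℕ → ℕ := pfW0 32 5 8 31 trN5 ns

theorem hE : Evl 32 ns E := evl_pfW0 lctx

theorem geq : gen ModelM24.ns ModelM24.G_ss0 = gen ns [[0], [2]] :=
  gen_eq_of_take (ns := ModelM24.ns) (ns' := ns) (k := 2) rfl (ws := ModelM24.G_ss0) (by decide +kernel)

theorem hn : Nat.card (gen ns [[0], [2]]) = 244823040 :=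
  geq ▸ ModelM24.G_card

theorem kn_0 : Known ns (gen ns [[0], [2]]) 3 :=
  known_gen (by decide +kernel)

noncomputable def A_S7 : List SD :=
  []

noncomputable def A_d6 : SD :=
  ⟨23, 2, [38], lab 1 1 2048, 1⟩

noncomputable def A_S6 : List SD :=
  A_d6 :: A_S7

noncomputable def A_d5 : SD :=
  ⟨16, 2, [32, 34, 36, 38], lab 3 7 (nat_lit 0x8ac880a01405006340), 3⟩

noncomputable def A_S5 : List SD :=
  A_d5 :: A_S6

noncomputable def A_d4 : SD :=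
  ⟨10, 1, [26, 28, 30, 32, 34, 36, 38], lab 4 15 (nat_lit 0x15210b0360b4405240188a00), 3⟩

noncomputable def A_S4 : List SD :=
  A_d4 :: A_S5

noncomputable def A_d3 : SD :=
  ⟨6, 1, [20, 22, 24, 26, 28, 30, 32, 34, 36, 38], lab 5 31 (nat_lit 0x91d682980218064084076804469800), 2⟩

noncomputable def A_S3 : List SD :=
  A_d3 :: A_S4

noncomputable def A_d2 : SD :=
  ⟨14, 1, [14, 16, 18, 20, 22, 24, 26, 28, 30, 32, 34, 36, 38], lab 5 31 (nat_lit 0x698a018d52583247b0620ace2c4800), 2⟩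

noncomputable def A_S2 : List SD :=
  A_d2 :: A_S3

noncomputable def A_d1 : SD :=
  ⟨1, 1, [8, 10, 12, 14, 16, 18, 20, 22, 24, 26, 28, 30, 32, 34, 36, 38], lab 5 31 (nat_lit 0xf044d3bdfaf8eae03444a153222000), 2⟩

noncomputable def A_S1 : List SD :=
  A_d1 :: A_S2

noncomputable def A_d0 : SD :=
  ⟨0, 1, [0, 2, 6, 8, 10, 12, 14, 16, 18, 20, 22, 24, 26, 28, 30, 32, 34, 36, 38], lab 6 63 (nat_lit 0x9079480c219664528918d2044450d309f000), 3⟩

noncomputable def A_S0 : List SD :=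
  A_d0 :: A_S1

theorem kn_1 : Known ns (gen ns [[0], [2]]) 4194303 :=
  kn_0.steps ctx (es := [(2, [1, 3]),
 (3, [2, 1, 2, 1]),
 (4, [1, 2, 6, 6, 0, 6]),
 (5, [1, 6, 3, 1, 3, 7, 7, 7, 3]),
 (6, [8, 11]),
 (7, [10, 10, 9, 11, 11]),
 (8, [10, 12, 12, 8, 12, 8, 10]),
 (9, [16, 15]),
 (10, [17, 15, 15, 15, 17, 15, 17]),
 (11, [15, 18, 16, 18]),
 (12, [20, 20, 22, 22, 21]),
 (13, [21, 22, 24, 21, 24, 21, 21, 25, 22]),
 (14, [21, 25, 25, 25, 23]),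
 (15, [27, 29, 27, 28]),
 (16, [29, 29, 31, 29, 27, 29, 30, 27]),
 (17, [31, 29, 31]),
 (18, [26, 30, 27, 28]),
 (19, [32, 34, 34, 36, 34, 32, 35]),
 (20, [11, 18, 38, 21, 34, 26, 33, 34]),
 (21, [21, 6, 15, 8, 26, 14, 23, 20, 28, 36, 33, 38])]) (by decide +kernel)

theorem A_ex : Exact 32 ns A_S0 ∧ gen ns (sTop A_S0) = gen ns [[0], [2]] ∧ gen ns [[0], [2]] = gen ns [[0], [2]] :=
  exact_of_known ctx hn (le_rfl) kn_1 (by decide +kernel)

theorem km_0 : Known ns (gen ns [[4], [40], [42]]) 3145732 :=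
  known_gen (by decide +kernel)

noncomputable def B_S7 : List SD :=
  []

noncomputable def B_d6 : SD :=
  ⟨21, 2, [74], lab 1 1 4096, 1⟩

noncomputable def B_S6 : List SD :=
  B_d6 :: B_S7

noncomputable def B_d5 : SD :=
  ⟨2, 2, [68, 70, 72, 74], lab 3 7 (nat_lit 0x6f0ec00a018095003), 2⟩

noncomputable def B_S5 : List SD :=
  B_d5 :: B_S6

noncomputable def B_d4 : SD :=
  ⟨19, 1, [62, 64, 66, 68, 70, 72, 74], lab 4 15 (nat_lit 0x754c0c200022504815330302), 2⟩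

noncomputable def B_S4 : List SD :=
  B_d4 :: B_S5

noncomputable def B_d3 : SD :=
  ⟨15, 1, [56, 58, 60, 62, 64, 66, 68, 70, 72, 74], lab 5 31 (nat_lit 0x6cc040144d000046022a0cc221c003), 2⟩

noncomputable def B_S3 : List SD :=
  B_d3 :: B_S4

noncomputable def B_d2 : SD :=
  ⟨10, 2, [50, 52, 54, 56, 58, 60, 62, 64, 66, 68, 70, 72, 74], lab 5 31 (nat_lit 0x8cae013a66581e500081356e75a007), 3⟩

noncomputable def B_S2 : List SD :=
  B_d2 :: B_S3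

noncomputable def B_d1 : SD :=
  ⟨14, 2, [44, 46, 48, 50, 52, 54, 56, 58, 60, 62, 64, 66, 68, 70, 72, 74], lab 5 31 (nat_lit 0x8a271a52330161812c302c4201405), 2⟩

noncomputable def B_S1 : List SD :=
  B_d1 :: B_S2

noncomputable def B_d0 : SD :=
  ⟨1, 2, [4, 40, 42, 44, 46, 48, 50, 52, 54, 56, 58, 60, 62, 64, 66, 68, 70, 72, 74], lab 6 63 (nat_lit 0x1d078324514e34031c482146200204107001), 2⟩

noncomputable def B_S0 : List SD :=
  B_d0 :: B_S1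

theorem km_1 : Known ns (gen ns [[4], [40], [42]]) 274876858372 :=
  km_0.steps ctx (es := [(22, [40, 5, 43, 43, 40, 40]),
 (23, [4, 43, 4, 42, 42, 4, 43, 5]),
 (24, [46, 46]),
 (25, [44, 48, 45, 47, 48, 44, 47]),
 (26, [45, 45, 49, 47, 44, 44, 48, 48, 44, 49, 44]),
 (27, [53, 50]),
 (28, [51, 53, 55, 51, 52, 55, 51, 53, 55, 51, 52, 50]),
 (29, [52, 52, 52]),
 (30, [59, 56, 59, 57]),
 (31, [57]),
 (32, [59, 57, 59, 60]),
 (33, [62, 65, 63, 63]),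
 (34, [63, 64, 64, 66, 64, 63, 64, 67, 65]),
 (35, [66, 63, 66, 64]),
 (36, [64, 66, 62, 65, 66]),
 (37, [71, 72, 70])]) (by decide +kernel)

theorem B_ex : Exact 32 ns B_S0 ∧ gen ns (sTop B_S0) = gen ns [[0], [2]] ∧ gen ns [[4], [40], [42]] = gen ns [[0], [2]] :=
  exact_of_known ctx hn (kn_1.gen_le (by decide +kernel)) km_1 (by decide +kernel)

theorem kG_0 : Known ns (gen ns [[0], [2]]) 274877906943 :=
  kn_1.lor (km_1.mono B_ex.2.2.le)

noncomputable def CA_as : List (List ℕ × List ℕ) :=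
  [([4], [4])]

noncomputable def CA_cs : List (List ℕ) :=
  [[]]

noncomputable def CA_pl : List Pl :=
  [⟨.lst 0, []⟩, ⟨.forced 0 0, []⟩, ⟨.forced 0 0, []⟩, ⟨.forced 0 0, []⟩, ⟨.forced 0 0, []⟩, ⟨.forced 0 0, []⟩, ⟨.forced 0 0, []⟩]

noncomputable def CA_M0 : ℕ :=
  1

theorem CA_b0 : Br 32 ns (derAs CA_as [[0]]) (derSs 32 5 ns CA_as [[0]]) (gen ns (sTop A_S0)) A_d0.p CA_M0 (InCs ns A_S0 CA_cs) :=
  br_of_brB ctx hE A_ex.1 (pl := CA_pl) (bs := []) (tps := []) (by decide +kernel)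

theorem CA : SolList ns (gen ns [[0], [2]]) CA_as [[4]] CA_cs :=
  solList_of_br ctx A_ex.1 A_ex.2.1 kG_0 CA_b0 (cons := []) (r := 22) (by decide +kernel)

noncomputable def XB_as : List (List ℕ × List ℕ) :=
  [(powW [40] 1, powW [40] 2)]

noncomputable def XB_cs : List (List ℕ) :=
  [[42]]

noncomputable def XB_pl : List Pl :=
  [⟨.lst 0, []⟩, ⟨.forced 0 0, []⟩, ⟨.forced 0 0, []⟩, ⟨.forced 0 0, []⟩, ⟨.forced 0 0, []⟩, ⟨.forced 0 0, []⟩, ⟨.forced 0 0, []⟩]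

noncomputable def XB_M0 : ℕ :=
  10

theorem XB_b0 : Br 32 ns (derAs XB_as [[0]]) (derSs 32 5 ns XB_as [[0]]) (gen ns (sTop B_S0)) B_d0.p XB_M0 (InCs ns B_S0 XB_cs) :=
  br_of_brB ctx hE B_ex.1 (pl := XB_pl) (bs := []) (tps := []) (by decide +kernel)

theorem XB : SolList ns (gen ns [[0], [2]]) XB_as [[40]] XB_cs :=
  solList_of_br ctx B_ex.1 B_ex.2.1 kG_0 XB_b0 (cons := []) (r := 10) (by decide +kernel)

noncomputable def od : OD :=
  ⟨[4], [40], [42], 23, 2, 11, 1, 2, [1, 5], 0, [[1, 4, 1, 4, 1, 4, 1, 4, 1, 4, 1, 4]]⟩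

theorem od_chk : od.chk 32 5 ns 244823040 = true :=
  by decide +kernel

theorem od_kill : ∀ c ∈ XB_cs, od.kill 32 E [(1, od.c)] [0, 1] c = true :=
  forall_mem_of_allL (by decide +kernel)

theorem out : Nat.card (Cfsg.Out (gen ns [[0], [2]])) = 1 :=
  OD.out_one (o := od) ctx hE hn (by norm_num [od]) B_ex.2.2.symm od_chk CA.cent XB.one od_kill

theorem out_card : Nat.card (Cfsg.Out Cfsg.M24) = 1 :=
  (card_out_eq (ModelM24.equiv.trans (MulEquiv.subgroupCongr geq))).trans out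

end Cfsg.Agent.Spor.OutM24
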