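import Cfsg.Agent.Comp.Known
import Cfsg.Agent.Spor.ModelJ2

set_option autoImplicit false
set_option Elab.async false
set_option maxRecDepth 4096

namespace Cfsg.Agent.Spor.OutJ2

open Cfsg.Agent.Comp

noncomputable def ns_2 : Net :=
 (Net.cons (nat_lit 64) (nat_lit 0xb047fd37b61da7de)
 (Net.cons (nat_lit 32) (nat_lit 0x1c86bd9000000000bc33b76)
 (Net.cons (nat_lit 16) (nat_lit 0x945b0000463e00001ede00001ac0)
 (Net.cons (nat_lit 8) (nat_lit 0x680075000400cd0023000100140052)
 (Net.cons (nat_lit 4) (nat_lit 0xc09020104080308050a020d0d000809)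
 (Net.cons (nat_lit 2) (nat_lit 0x13020302003100220302030131000210)
 (Net.cons (nat_lit 1) (nat_lit 0x1140110401000410141051444440444)
 (Net.cons (nat_lit 2) (nat_lit 0x2000020000000200022000020000200)
 (Net.cons (nat_lit 4) (nat_lit 0x80000080a00040606000608000000)
 (Net.cons (nat_lit 8) (nat_lit 0xe8009c000000fc0028000000140050)
 (Net.cons (nat_lit 16) (nat_lit 0x341e000006180000168c0000dec0)
 (Net.cons (nat_lit 32) (nat_lit 0x118bc2d4000000000e533bf8)
 (Net.cons (nat_lit 64) (nat_lit 0xb047fd3c66b600f0)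
 Net.nil)))))))))))))

noncomputable def ns_3 : Net :=
 (Net.cons (nat_lit 64) (nat_lit 0xf02c7118534fd5d0)
 (Net.cons (nat_lit 32) (nat_lit 0xbd44d19d00000000ad810149)
 (Net.cons (nat_lit 16) (nat_lit 0xbd2600002bc900002d3400002498)
 (Net.cons (nat_lit 8) (nat_lit 0xea002800e9001600e500bc0002008a)
 (Net.cons (nat_lit 4) (nat_lit 0xf0c03020a0d040b06080a0c00060808)
 (Net.cons (nat_lit 2) (nat_lit 0x21203121300002212202022001210003)
 (Net.cons (nat_lit 1) (nat_lit 0x10441411511104050405114515040444)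
 (Net.cons (nat_lit 2) (nat_lit 0x202220000002000200222000020220)
 (Net.cons (nat_lit 4) (nat_lit 0xe08020a080004080408020004000000)
 (Net.cons (nat_lit 8) (nat_lit 0xea00a800900010006200be0016000a)
 (Net.cons (nat_lit 16) (nat_lit 0xcc22000019fc0000a3f400002c24)
 (Net.cons (nat_lit 32) (nat_lit 0xdd60819800000000ae5181ce)
 (Net.cons (nat_lit 64) (nat_lit 0xf02c71126fe95560)
 Net.nil)))))))))))))

noncomputable def ns_4 : Net :=
 (Net.cons (nat_lit 64) (nat_lit 0x4244c41ba2c047ce)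
 (Net.cons (nat_lit 32) (nat_lit 0xdca90970000000004c7a29d6)
 (Net.cons (nat_lit 16) (nat_lit 0xcc220000004a00006b1f00008e95)
 (Net.cons (nat_lit 8) (nat_lit 0x6a0075003a00b600be00d300ac0074)
 (Net.cons (nat_lit 4) (nat_lit 0x80004040102060a010509010f080e0d)
 (Net.cons (nat_lit 2) (nat_lit 0x22033001000200230330220202222112)
 (Net.cons (nat_lit 1) (nat_lit 0x54051400010410441411501141054001)
 (Net.cons (nat_lit 2) (nat_lit 0x20200202200000202000000)
 (Net.cons (nat_lit 4) (nat_lit 0x2040c0000000208000c00000c08060e)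
 (Net.cons (nat_lit 8) (nat_lit 0xaa0070003a00720014009a00800066)
 (Net.cons (nat_lit 16) (nat_lit 0x40020000404800006ad4000031b8)
 (Net.cons (nat_lit 32) (nat_lit 0xdcedc97800000000edd32972)
 (Net.cons (nat_lit 64) (nat_lit 0x4244c41d1825cd1a)
 Net.nil)))))))))))))

noncomputable def ns_5 : Net :=
 (Net.cons (nat_lit 64) (nat_lit 0xc0e8dd4b901154ee)
 (Net.cons (nat_lit 32) (nat_lit 0xf5a7fdc800000000e159373a)
 (Net.cons (nat_lit 16) (nat_lit 0x2549000003de00001e8700002b22)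
 (Net.cons (nat_lit 8) (nat_lit 0x910077004400b200440011000a0086)
 (Net.cons (nat_lit 4) (nat_lit 0x40d0c02040e08000f010806020c0802)
 (Net.cons (nat_lit 2) (nat_lit 0x20100033010220222310201200100312)
 (Net.cons (nat_lit 1) (nat_lit 0x40054114001444114440110110114500)
 (Net.cons (nat_lit 2) (nat_lit 0x20000220002200202000200000200000)
 (Net.cons (nat_lit 4) (nat_lit 0x40802000c040008040a04020c0600)
 (Net.cons (nat_lit 8) (nat_lit 0x9400760046006200140016001e000c)
 (Net.cons (nat_lit 16) (nat_lit 0x10c000089fe00003d8800000120)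
 (Net.cons (nat_lit 32) (nat_lit 0xf54fad8c00000000cf5a1714)
 (Net.cons (nat_lit 64) (nat_lit 0xc0e8dd4a23632688)
 Net.nil)))))))))))))

noncomputable def ns_6 : Net :=
 (Net.cons (nat_lit 64) (nat_lit 0x2f4f5f5d0c574aa4)
 (Net.cons (nat_lit 32) (nat_lit 0x3886f07500000000984bd6d4)
 (Net.cons (nat_lit 16) (nat_lit 0x2f3a00006b730000b8f70000812c)
 (Net.cons (nat_lit 8) (nat_lit 0x14005a0000003800a000c800980004)
 (Net.cons (nat_lit 4) (nat_lit 0x70f0809040c0a0300080c0805040c02)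
 (Net.cons (nat_lit 2) (nat_lit 0x20132201020021101030322221302000)
 (Net.cons (nat_lit 1) (nat_lit 0x41404141444100504055145105104000)
 (Net.cons (nat_lit 2) (nat_lit 0x22002200020000002000220000202000)
 (Net.cons (nat_lit 4) (nat_lit 0x4040c0c0408080000080c0008040400)
 (Net.cons (nat_lit 8) (nat_lit 0x200050000a006c0080008000b800a4)
 (Net.cons (nat_lit 16) (nat_lit 0x203000002a7c000038fc0000a088)
 (Net.cons (nat_lit 32) (nat_lit 0x3689a56800000000c86b76f0)
 (Net.cons (nat_lit 64) (nat_lit 0x2f4f5f5d398b3da0)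
 Net.nil)))))))))))))

noncomputable def ns_7 : Net :=
 (Net.cons (nat_lit 64) (nat_lit 0xebaf6f6c3b97c3c0)
 (Net.cons (nat_lit 32) (nat_lit 0x713b810400000000891fc324)
 (Net.cons (nat_lit 16) (nat_lit 0xe8a2000071db00009fbb000052f0)
 (Net.cons (nat_lit 8) (nat_lit 0xe300eb009300050003001600400086)
 (Net.cons (nat_lit 4) (nat_lit 0x60a0e0f0e0a040004030c0600060a)
 (Net.cons (nat_lit 2) (nat_lit 0x130302311001010023103012000210)
 (Net.cons (nat_lit 1) (nat_lit 0x10144540444141410014101004005440)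
 (Net.cons (nat_lit 2) (nat_lit 0x220000222200000002202002000220)
 (Net.cons (nat_lit 4) (nat_lit 0x208020408080a04000c020c0200000c)
 (Net.cons (nat_lit 8) (nat_lit 0xc000c000c4002e0092000a0040001c)
 (Net.cons (nat_lit 16) (nat_lit 0xa0a20000549a00000ea400004620)
 (Net.cons (nat_lit 32) (nat_lit 0xb093ec4200000000995f5330)
 (Net.cons (nat_lit 64) (nat_lit 0xebaf6f6dc8d072c0)
 Net.nil)))))))))))))

noncomputable def ns_8 : Net :=
 (Net.cons (nat_lit 64) (nat_lit 0x5cff131d58457920)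
 (Net.cons (nat_lit 32) (nat_lit 0x736381c50000000050d22988)
 (Net.cons (nat_lit 16) (nat_lit 0x1791000035a00000f03600009cb4)
 (Net.cons (nat_lit 8) (nat_lit 0x7200ca00ac0010000400e40018000e)
 (Net.cons (nat_lit 4) (nat_lit 0x8080d0b0708040b0208050509050006)
 (Net.cons (nat_lit 2) (nat_lit 0x30301203121310202002211302300220)
 (Net.cons (nat_lit 1) (nat_lit 0x40154411040400114100145011500440)
 (Net.cons (nat_lit 2) (nat_lit 0x200002000200022000200022000220)
 (Net.cons (nat_lit 4) (nat_lit 0x806040a020404000408040800040004)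
 (Net.cons (nat_lit 8) (nat_lit 0x4200ce00dc001800a6002c00100020)
 (Net.cons (nat_lit 16) (nat_lit 0x1482000069b40000117400009eb0)
 (Net.cons (nat_lit 32) (nat_lit 0x234781c20000000052d2ed88)
 (Net.cons (nat_lit 64) (nat_lit 0x5cff131640438eec)
 Net.nil)))))))))))))

noncomputable def ns_9 : Net :=
 (Net.cons (nat_lit 64) (nat_lit 0x1d505276a6ecd534)
 (Net.cons (nat_lit 32) (nat_lit 0x9d11a89b000000004dd9e682)
 (Net.cons (nat_lit 16) (nat_lit 0xc0cb00005b22000064520000c4de)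
 (Net.cons (nat_lit 8) (nat_lit 0x8d003a00060053006a001b00a800a0)
 (Net.cons (nat_lit 4) (nat_lit 0x40002030c0809000c09020e000900)
 (Net.cons (nat_lit 2) (nat_lit 0x110002023230012303022120133000)
 (Net.cons (nat_lit 1) (nat_lit 0x40411005140410110044014040140004)
 (Net.cons (nat_lit 2) (nat_lit 0x22000020220200020022000020002)
 (Net.cons (nat_lit 4) (nat_lit 0x80000020c0808000c08060c060808)
 (Net.cons (nat_lit 8) (nat_lit 0x4002a0042004600640016000c00a0)
 (Net.cons (nat_lit 16) (nat_lit 0xc8da00005b080000e150000044d6)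
 (Net.cons (nat_lit 32) (nat_lit 0x9451a88e000000008fd44682)
 (Net.cons (nat_lit 64) (nat_lit 0x1d50527728f5c422)
 Net.nil)))))))))))))

noncomputable def ns_10 : Net :=
 (Net.cons (nat_lit 64) (nat_lit 0x674b0741d08313cc)
 (Net.cons (nat_lit 32) (nat_lit 0xb271b99b00000000890b6c2c)
 (Net.cons (nat_lit 16) (nat_lit 0xc0d60000644c000075bc000033a4)
 (Net.cons (nat_lit 8) (nat_lit 0xe800710049002d00e00081007c00a2)
 (Net.cons (nat_lit 4) (nat_lit 0xb09050100040402080d090f030c000e)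
 (Net.cons (nat_lit 2) (nat_lit 0x30012310020022010011221210202020)
 (Net.cons (nat_lit 1) (nat_lit 0x15051111040440001445110151404004)
 (Net.cons (nat_lit 2) (nat_lit 0x20002000020020002000220000000000)
 (Net.cons (nat_lit 4) (nat_lit 0x4080400040804040000000c000c0004)
 (Net.cons (nat_lit 8) (nat_lit 0xd800300000004800d80088006c0060)
 (Net.cons (nat_lit 16) (nat_lit 0x40dc000062400000f5ac00005ba0)
 (Net.cons (nat_lit 32) (nat_lit 0xf573bd9000000000818f6432)
 (Net.cons (nat_lit 64) (nat_lit 0x674b074272a70560)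
 Net.nil)))))))))))))

noncomputable def ns_11 : Net :=
 (Net.cons (nat_lit 64) (nat_lit 0xdb77bca9ea43682c)
 (Net.cons (nat_lit 32) (nat_lit 0xef6550a10000000013374b28)
 (Net.cons (nat_lit 16) (nat_lit 0xe5710000251b00000b1b00008440)
 (Net.cons (nat_lit 8) (nat_lit 0x3800b90047007c00a7003d006000d4)
 (Net.cons (nat_lit 4) (nat_lit 0xe0103090a0901020200060008080500)
 (Net.cons (nat_lit 2) (nat_lit 0x20011011023333200202100000200320)
 (Net.cons (nat_lit 1) (nat_lit 0x44140114454141101011040140000414)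
 (Net.cons (nat_lit 2) (nat_lit 0x20000020002002002002020000000220)
 (Net.cons (nat_lit 4) (nat_lit 0xc020204020002020000000008080600)
 (Net.cons (nat_lit 8) (nat_lit 0x1c008400c0007e0098003c006000c0)
 (Net.cons (nat_lit 16) (nat_lit 0xa550000025e200000a000000a048)
 (Net.cons (nat_lit 32) (nat_lit 0x2e2748aa0000000013b74822)
 (Net.cons (nat_lit 64) (nat_lit 0xdb77bca269531c02)
 Net.nil)))))))))))))

noncomputable def ns_12 : Net :=
 (Net.cons (nat_lit 64) (nat_lit 0xb13b1d3659c22840)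
 (Net.cons (nat_lit 32) (nat_lit 0x8060942400000000c0f0a090)
 (Net.cons (nat_lit 16) (nat_lit 0x8d37000079890000ec2000005844)
 (Net.cons (nat_lit 8) (nat_lit 0xb50022001d009200d400ee00620028)
 (Net.cons (nat_lit 4) (nat_lit 0x203080c060d0f0c000a010a040808)
 (Net.cons (nat_lit 2) (nat_lit 0x1312020222023323000202110202222)
 (Net.cons (nat_lit 1) (nat_lit 0x14411110104140044400441510414104)
 (Net.cons (nat_lit 2) (nat_lit 0x2020202020022200022020200002)
 (Net.cons (nat_lit 4) (nat_lit 0xa000800060c0c0a0004000a040808)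
 (Net.cons (nat_lit 8) (nat_lit 0x9c0022001400e200d400a8002200c0)
 (Net.cons (nat_lit 16) (nat_lit 0x1d34000072820000ae3400001004)
 (Net.cons (nat_lit 32) (nat_lit 0xa0688d0000000000c830a098)
 (Net.cons (nat_lit 64) (nat_lit 0xb13b1d3650c22810)
 Net.nil)))))))))))))

noncomputable def ns_13 : Net :=
 (Net.cons (nat_lit 64) (nat_lit 0xaa650204cf025000)
 (Net.cons (nat_lit 32) (nat_lit 0x8a6c800000000000c0308888)
 (Net.cons (nat_lit 16) (nat_lit 0xa80000009fe30000a49000008240)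
 (Net.cons (nat_lit 8) (nat_lit 0x8000280039009100b20062004400b0)
 (Net.cons (nat_lit 4) (nat_lit 0x802060c080c0c080b0909040b00)
 (Net.cons (nat_lit 2) (nat_lit 0x220200002032201020000002022210)
 (Net.cons (nat_lit 1) (nat_lit 0x10005101050400510110440441100)
 (Net.cons (nat_lit 2) (nat_lit 0x20000002000200020000000022200)
 (Net.cons (nat_lit 4) (nat_lit 0x802020808040c08000808040000)
 (Net.cons (nat_lit 8) (nat_lit 0x8000280018009000920022004400b0)
 (Net.cons (nat_lit 16) (nat_lit 0xa80000009ee00000a49000008240)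
 (Net.cons (nat_lit 32) (nat_lit 0x8a2c800000000000c0308880)
 (Net.cons (nat_lit 64) (nat_lit 0xaa650204cf025000)
 Net.nil)))))))))))))

noncomputable def ns_14 : Net :=
 (Net.cons (nat_lit 64) (nat_lit 0x5e67d6ad3860cf07)
 (Net.cons (nat_lit 32) (nat_lit 0x4ec7cecd0000000057198e56)
 (Net.cons (nat_lit 16) (nat_lit 0xa6100003f9b000090580000e142)
 (Net.cons (nat_lit 8) (nat_lit 0x9a006c0095006a00b00001008400f0)
 (Net.cons (nat_lit 4) (nat_lit 0x2020000020900080e030a0a020001)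
 (Net.cons (nat_lit 2) (nat_lit 0x2330001010023111201230001100221)
 (Net.cons (nat_lit 1) (nat_lit 0x44411404501411010501151001104111)
 (Net.cons (nat_lit 2) (nat_lit 0x2222202002020020002202000000202)
 (Net.cons (nat_lit 4) (nat_lit 0x404080c060a00020806000a06020002)
 (Net.cons (nat_lit 8) (nat_lit 0x9800e200c000420070001000a40078)
 (Net.cons (nat_lit 16) (nat_lit 0x4c26000089aa000093500000e87c)
 (Net.cons (nat_lit 32) (nat_lit 0xaa24ac8000000005611a610)
 (Net.cons (nat_lit 64) (nat_lit 0x5e67d6afe9086460)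
 Net.nil)))))))))))))

noncomputable def ns_15 : Net :=
 (Net.cons (nat_lit 64) (nat_lit 0xb461312607876c10)
 (Net.cons (nat_lit 32) (nat_lit 0xf04124600000000042290548)
 (Net.cons (nat_lit 16) (nat_lit 0xd5280000d30b0000cad00000d870)
 (Net.cons (nat_lit 8) (nat_lit 0x4800840009008c00ec001600f80054)
 (Net.cons (nat_lit 4) (nat_lit 0xc020608050a0400020a080a0c080a00)
 (Net.cons (nat_lit 2) (nat_lit 0x1001223213132200102202203120000)
 (Net.cons (nat_lit 1) (nat_lit 0x50010445510551014011110145440405)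
 (Net.cons (nat_lit 2) (nat_lit 0x220020000000002200200020000)
 (Net.cons (nat_lit 4) (nat_lit 0xc0206080602040a000a080a0c000008)
 (Net.cons (nat_lit 8) (nat_lit 0x48008400a6008400e4001200d80088)
 (Net.cons (nat_lit 16) (nat_lit 0xd5280000582000008ad00000d870)
 (Net.cons (nat_lit 32) (nat_lit 0xf04124600000000042290548)
 (Net.cons (nat_lit 64) (nat_lit 0xb46131260787b400)
 Net.nil)))))))))))))

noncomputable def ns_16 : Net :=
 (Net.cons (nat_lit 64) (nat_lit 0x5160182151140100)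
 (Net.cons (nat_lit 32) (nat_lit 0xa0c04988000000006f60c002)
 (Net.cons (nat_lit 16) (nat_lit 0x50a00000f4760000e9120000b8fa)
 (Net.cons (nat_lit 8) (nat_lit 0x30005900ce0042006200a6009e00cf)
 (Net.cons (nat_lit 4) (nat_lit 0x400000703040a0f04090806040f0800)
 (Net.cons (nat_lit 2) (nat_lit 0x21300233313010200113032202130210)
 (Net.cons (nat_lit 1) (nat_lit 0x500141410150514041451150411101)
 (Net.cons (nat_lit 2) (nat_lit 0x200200000000002002200020002)
 (Net.cons (nat_lit 4) (nat_lit 0x400000804040e080404080004000008)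
 (Net.cons (nat_lit 8) (nat_lit 0x30005000c6001c004000a6009e0040)
 (Net.cons (nat_lit 16) (nat_lit 0x50a00000f4760000e9120000b8fa)
 (Net.cons (nat_lit 32) (nat_lit 0xa0c04988000000006f60c002)
 (Net.cons (nat_lit 64) (nat_lit 0x5160182151140100)
 Net.nil)))))))))))))

noncomputable def ns_17 : Net :=
 (Net.cons (nat_lit 64) (nat_lit 0x2b558c820d2c0b03)
 (Net.cons (nat_lit 32) (nat_lit 0xcc1c691b00000000863e6e66)
 (Net.cons (nat_lit 16) (nat_lit 0x45880000a5430000d3ee00001d5a)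
 (Net.cons (nat_lit 8) (nat_lit 0x8900b000560040003800a2005a00e4)
 (Net.cons (nat_lit 4) (nat_lit 0x60904080e0c060809020a0503000d0c)
 (Net.cons (nat_lit 2) (nat_lit 0x22101221302201022110303000102103)
 (Net.cons (nat_lit 1) (nat_lit 0x41040104444101054010441050104441)
 (Net.cons (nat_lit 2) (nat_lit 0x2000200202002000000220000002022)
 (Net.cons (nat_lit 4) (nat_lit 0x4000a060e040a0a02020c0a000200)
 (Net.cons (nat_lit 8) (nat_lit 0xc800b400400068007c0006003a0028)
 (Net.cons (nat_lit 16) (nat_lit 0xe8800000ad440000d1ec0000acd0)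
 (Net.cons (nat_lit 32) (nat_lit 0xed0c619a00000000c61e0d16)
 (Net.cons (nat_lit 64) (nat_lit 0x2b558c8ff846609a)
 Net.nil)))))))))))))

noncomputable def ns_18 : Net :=
 (Net.cons (nat_lit 64) (nat_lit 0x65dee3394980f8d3)
 (Net.cons (nat_lit 32) (nat_lit 0x2333e103000000006dd6713f)
 (Net.cons (nat_lit 16) (nat_lit 0xa2b80000c496000016c800001200)
 (Net.cons (nat_lit 8) (nat_lit 0x2d003c004e002a00d3002100000088)
 (Net.cons (nat_lit 4) (nat_lit 0xe06010206040f06070f010402080800)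
 (Net.cons (nat_lit 2) (nat_lit 0x2211320120020311211120000200203)
 (Net.cons (nat_lit 1) (nat_lit 0x44400001110004151041045010000001)
 (Net.cons (nat_lit 2) (nat_lit 0x2200000000000202000020020000002)
 (Net.cons (nat_lit 4) (nat_lit 0x20000080008040c0a04020208080c)
 (Net.cons (nat_lit 8) (nat_lit 0x4c001c0052002000c600320000008c)
 (Net.cons (nat_lit 16) (nat_lit 0x81aa0000a51e000073a800000800)
 (Net.cons (nat_lit 32) (nat_lit 0x4725a30400000000e5f67532)
 (Net.cons (nat_lit 64) (nat_lit 0x65dee33e236a0a28)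
 Net.nil)))))))))))))

noncomputable def ns_19 : Net :=
 (Net.cons (nat_lit 64) (nat_lit 0xd1e9db7fb766eff7)
 (Net.cons (nat_lit 32) (nat_lit 0x3c3d7e49000000002510722c)
 (Net.cons (nat_lit 16) (nat_lit 0xc9390000cb5c000062020000bc90)
 (Net.cons (nat_lit 8) (nat_lit 0x3d002c00e10082003a003600d600d5)
 (Net.cons (nat_lit 4) (nat_lit 0xc01010a0d04010a040204010a0a090e)
 (Net.cons (nat_lit 2) (nat_lit 0x21321220001000021300200002001110)
 (Net.cons (nat_lit 1) (nat_lit 0x54015451140400400404401454401450)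
 (Net.cons (nat_lit 2) (nat_lit 0x20000020000000202200200202000)
 (Net.cons (nat_lit 4) (nat_lit 0xc040408040c00080400040002040806)
 (Net.cons (nat_lit 8) (nat_lit 0x40001a00f80000003a0012001c0054)
 (Net.cons (nat_lit 16) (nat_lit 0x48780000989c000066000000b8c4)
 (Net.cons (nat_lit 32) (nat_lit 0x6d55e446000000002b127620)
 (Net.cons (nat_lit 64) (nat_lit 0xd1e9db7100240012)
 Net.nil)))))))))))))

noncomputable def ns_20 : Net :=
 (Net.cons (nat_lit 64) (nat_lit 0x1f468191d2219dbd)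
 (Net.cons (nat_lit 32) (nat_lit 0xeff21f8d000000005ab1a918)
 (Net.cons (nat_lit 16) (nat_lit 0x78e60000b64a0000b55c00001e1b)
 (Net.cons (nat_lit 8) (nat_lit 0x8000d80086002600b90042001d00e0)
 (Net.cons (nat_lit 4) (nat_lit 0x80c0f040600020502010807000d0409)
 (Net.cons (nat_lit 2) (nat_lit 0x1120103200010123032220220330002)
 (Net.cons (nat_lit 1) (nat_lit 0x4114414000444541101400404054)
 (Net.cons (nat_lit 2) (nat_lit 0x2200220000022002000000202002)
 (Net.cons (nat_lit 4) (nat_lit 0xc000404080004040400060804040c)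
 (Net.cons (nat_lit 8) (nat_lit 0x9000b8008600300088005a001e00a0)
 (Net.cons (nat_lit 16) (nat_lit 0x7f700000b64800009d4c00003a10)
 (Net.cons (nat_lit 32) (nat_lit 0xf9b49e0a000000009a21c930)
 (Net.cons (nat_lit 64) (nat_lit 0x1f46819400296318)
 Net.nil)))))))))))))

noncomputable def ns_21 : Net :=
 (Net.cons (nat_lit 64) (nat_lit 0x92b39fe3e4288588)
 (Net.cons (nat_lit 32) (nat_lit 0x6fb50685000000003ddaa5c0)
 (Net.cons (nat_lit 16) (nat_lit 0xefa50000c6910000a01e0000cd64)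
 (Net.cons (nat_lit 8) (nat_lit 0x1e001300ce00d8001c0029002c00e2)
 (Net.cons (nat_lit 4) (nat_lit 0x70d020c0a030604040a040f02000108)
 (Net.cons (nat_lit 2) (nat_lit 0x10222110100100321330011302000300)
 (Net.cons (nat_lit 1) (nat_lit 0x10414105104114104140040104001551)
 (Net.cons (nat_lit 2) (nat_lit 0x20022200200020000200000000000002)
 (Net.cons (nat_lit 4) (nat_lit 0x60e080002040c04040a000a04000008)
 (Net.cons (nat_lit 8) (nat_lit 0x9800fc000c006000400068002c0086)
 (Net.cons (nat_lit 16) (nat_lit 0xeba2000056620000e18c00008560)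
 (Net.cons (nat_lit 32) (nat_lit 0x7fa715420000000039d6c5c0)
 (Net.cons (nat_lit 64) (nat_lit 0x92b39fee2b96a1a6)
 Net.nil)))))))))))))

noncomputable def ns_22 : Net :=
 (Net.cons (nat_lit 64) (nat_lit 0xd7a5bf8e41f41d92)
 (Net.cons (nat_lit 32) (nat_lit 0x5ab519a3000000007eb2a9b2)
 (Net.cons (nat_lit 16) (nat_lit 0x223f0000a4cb0000c14600001564)
 (Net.cons (nat_lit 8) (nat_lit 0x41009e000500d1009000b80040005b)
 (Net.cons (nat_lit 4) (nat_lit 0x702090100080c090702000208020e00)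
 (Net.cons (nat_lit 2) (nat_lit 0x10020300200211310100300030022100)
 (Net.cons (nat_lit 1) (nat_lit 0x11050111514545144150100114141000)
 (Net.cons (nat_lit 2) (nat_lit 0x20000220002020202000000020000000)
 (Net.cons (nat_lit 4) (nat_lit 0x4040808000a00040802080200020e00)
 (Net.cons (nat_lit 8) (nat_lit 0x4a009e00200014008e009000400018)
 (Net.cons (nat_lit 16) (nat_lit 0xae9e000094000000a93c00001520)
 (Net.cons (nat_lit 32) (nat_lit 0x4995bda20000000076b2a9f0)
 (Net.cons (nat_lit 64) (nat_lit 0xd7a5bf8465828c52)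
 Net.nil)))))))))))))

noncomputable def ns_23 : Net :=
 (Net.cons (nat_lit 64) (nat_lit 0x53854be6b6603a06)
 (Net.cons (nat_lit 32) (nat_lit 0xa34539ec00000000bbf05f58)
 (Net.cons (nat_lit 16) (nat_lit 0xeb600000863500003c140000f868)
 (Net.cons (nat_lit 8) (nat_lit 0x79004600d3007c00a6002a00a000d8)
 (Net.cons (nat_lit 4) (nat_lit 0x20805040d01050409040607040a0404)
 (Net.cons (nat_lit 2) (nat_lit 0x203000100302032112100010221020)
 (Net.cons (nat_lit 1) (nat_lit 0x104004410110050400141410000045)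
 (Net.cons (nat_lit 2) (nat_lit 0x2020000000200000200000020)
 (Net.cons (nat_lit 4) (nat_lit 0x4040e000402040e040400000c)
 (Net.cons (nat_lit 8) (nat_lit 0x18004600de00740010002200800058)
 (Net.cons (nat_lit 16) (nat_lit 0xeb600000869c000089140000f86a)
 (Net.cons (nat_lit 32) (nat_lit 0xf0c531a400000000bfb04f58)
 (Net.cons (nat_lit 64) (nat_lit 0x53854be41ad00826)
 Net.nil)))))))))))))

noncomputable def ns_24 : Net :=
 (Net.cons (nat_lit 64) (nat_lit 0x92ff408ac466a284)
 (Net.cons (nat_lit 32) (nat_lit 0x4e7119f400000000e1bab3c4)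
 (Net.cons (nat_lit 16) (nat_lit 0x912d0000d04d0000ba0e0000db2c)
 (Net.cons (nat_lit 8) (nat_lit 0xee00d80054001e005800d10000000c)
 (Net.cons (nat_lit 4) (nat_lit 0x1040803040a0e0d07000402080c050e)
 (Net.cons (nat_lit 2) (nat_lit 0x2113023302222003030300003000130)
 (Net.cons (nat_lit 1) (nat_lit 0x50041055404040044154100100400010)
 (Net.cons (nat_lit 2) (nat_lit 0x22000202020022000200200200000)
 (Net.cons (nat_lit 4) (nat_lit 0x2000800060804080402000a080c040e)
 (Net.cons (nat_lit 8) (nat_lit 0xa000500054009800740070000c0008)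
 (Net.cons (nat_lit 16) (nat_lit 0xc9b400007048000097b40000d528)
 (Net.cons (nat_lit 32) (nat_lit 0x4ce559f000000000e1ba9fc8)
 (Net.cons (nat_lit 64) (nat_lit 0x92ff408cac5e9310)
 Net.nil)))))))))))))

noncomputable def ns_25 : Net :=
 (Net.cons (nat_lit 64) (nat_lit 0x88a41c1859c31800)
 (Net.cons (nat_lit 32) (nat_lit 0xa60c1c000000000019063288)
 (Net.cons (nat_lit 16) (nat_lit 0x2000000018e00000b3ca00002942)
 (Net.cons (nat_lit 8) (nat_lit 0xa4001400e800ae006e00040001004c)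
 (Net.cons (nat_lit 4) (nat_lit 0x208000202040800050600080d090209)
 (Net.cons (nat_lit 2) (nat_lit 0x2200310220222012021120202)
 (Net.cons (nat_lit 1) (nat_lit 0x4041411114505044011100110010100)
 (Net.cons (nat_lit 2) (nat_lit 0x2200000020022000020020200)
 (Net.cons (nat_lit 4) (nat_lit 0x8000002020408000400000804000008)
 (Net.cons (nat_lit 8) (nat_lit 0x28001400e800a6006e000400d80008)
 (Net.cons (nat_lit 16) (nat_lit 0x2000000018a00000b38a00002942)
 (Net.cons (nat_lit 32) (nat_lit 0x26081c000000000019063288)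
 (Net.cons (nat_lit 64) (nat_lit 0x88a41c1859c31800)
 Net.nil)))))))))))))

noncomputable def ns : List Net := [ModelJ2.ns_0, ModelJ2.ns_1, ns_2, ns_3, ns_4, ns_5, ns_6, ns_7, ns_8, ns_9, ns_10, ns_11, ns_12, ns_13, ns_14, ns_15, ns_16, ns_17, ns_18, ns_19, ns_20, ns_21, ns_22, ns_23, ns_24, ns_25]

theorem ctx : Ctx 128 7 ns := ctx_of (by decide +kernel)

theorem lctx : LCtx 128 7 8 127 trN7 ns := lctx_of ctx trOK7 (by decide +kernel)

noncomputable def E : List ℕ → ℕ → ℕ := pfW0 128 7 8 127 trN7 ns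

theorem hE : Evl 128 ns E := evl_pfW0 lctx

theorem geq : gen ModelJ2.ns ModelJ2.G_ss0 = gen ns [[0], [2]] :=
  gen_eq_of_take (ns := ModelJ2.ns) (ns' := ns) (k := 2) rfl (ws := ModelJ2.G_ss0) (by decide +kernel)

theorem hn : Nat.card (gen ns [[0], [2]]) = 604800 :=
  geq ▸ ModelJ2.G_card

theorem kn_0 : Known ns (gen ns [[0], [2]]) 3 :=
  known_gen (by decide +kernel)

noncomputable def A_S4 : List SD :=
  []

noncomputable def A_d3 : SD :=
  ⟨89, 1, [24, 26], lab 2 3 (nat_lit 0x4000000000000000000000000000000000000000000800), 1⟩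

noncomputable def A_S3 : List SD :=
  A_d3 :: A_S4

noncomputable def A_d2 : SD :=
  ⟨13, 2, [18, 20, 22, 24, 26], lab 4 15 (nat_lit 0x708000000000000000000000003300000005500000001000000024000007250000002300008040000000650000066000), 3⟩

noncomputable def A_S2 : List SD :=
  A_d2 :: A_S3

noncomputable def A_d1 : SD :=
  ⟨92, 2, [10, 12, 14, 16, 18, 20, 22, 24, 26], lab 5 31 (nat_lit 0x140b0040002402141a33000a638ab4b9cb280003ad2503560000f000d000002611806001064ac800020b62801001883a4090012d230040008f2000000000), 3⟩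

noncomputable def A_S1 : List SD :=
  A_d1 :: A_S2

noncomputable def A_d0 : SD :=
  ⟨0, 1, [0, 2, 6, 8, 10, 12, 14, 16, 18, 20, 22, 24, 26], lab 5 31 (nat_lit 0xb5d12bb5c7514ae3166b280e6a3db7530d362673789cd25ab841b1829c00130f551a085b8ed2952f7d5f130e8492253a0964a469001c6cb558324e4c91260), 3⟩

noncomputable def A_S0 : List SD :=
  A_d0 :: A_S1

theorem kn_1 : Known ns (gen ns [[0], [2]]) 65535 :=
  kn_0.steps ctx (es := [(2, [0, 3]),
 (3, [2, 2, 0]),
 (4, [1, 3, 3, 1, 2]),
 (5, [1, 6, 1, 9, 1, 2, 8, 7]),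
 (6, [1, 6, 9, 6, 0, 8, 2, 8]),
 (7, [11, 13, 13, 13, 10, 12]),
 (8, [10, 10, 12, 10, 10]),
 (9, [14, 12, 10, 17]),
 (10, [16, 14, 11, 12, 15]),
 (11, [20, 20, 20]),
 (12, [18, 21, 18, 23, 23, 21, 18, 23, 20]),
 (13, [24, 24]),
 (14, [22, 8, 23, 12, 23, 26]),
 (15, [21, 0, 11, 22])]) (by decide +kernel)

theorem A_ex : Exact 128 ns A_S0 ∧ gen ns (sTop A_S0) = gen ns [[0], [2]] ∧ gen ns [[0], [2]] = gen ns [[0], [2]] :=
  exact_of_known ctx hn (le_rfl) kn_1 (by decide +kernel)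

theorem km_0 : Known ns (gen ns [[4], [28], [30]]) 49156 :=
  known_gen (by decide +kernel)

noncomputable def B_S4 : List SD :=
  []

noncomputable def B_d3 : SD :=
  ⟨42, 2, [48], lab 1 1 (nat_lit 0x800000000000000000000000), 1⟩

noncomputable def B_S3 : List SD :=
  B_d3 :: B_S4

noncomputable def B_d2 : SD :=
  ⟨79, 2, [42, 44, 46, 48], lab 3 7 (nat_lit 0x20070003740000000080180608000040100000103100080028c00a000000206800201c0401), 3⟩

noncomputable def B_S2 : List SD :=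
  B_d2 :: B_S3

noncomputable def B_d1 : SD :=
  ⟨61, 2, [34, 36, 38, 40, 42, 44, 46, 48], lab 4 15 (nat_lit 0x6026cbd0b03b07f0009070806a03052550a02c09911b02045670340401200805a9407e074070000000f0ec0a40f08d103000), 3⟩

noncomputable def B_S1 : List SD :=
  B_d1 :: B_S2

noncomputable def B_d0 : SD :=
  ⟨16, 1, [4, 28, 30, 32, 34, 36, 38, 40, 42, 44, 46, 48], lab 5 31 (nat_lit 0x7384a90e6658da61ae8a8d94814834055d00348d020d44085793537a982f4d5d33348f3254c00216a06cd7cd5464583992cb0850004922330087910170df3), 3⟩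

noncomputable def B_S0 : List SD :=
  B_d0 :: B_S1

theorem km_1 : Known ns (gen ns [[4], [28], [30]]) 33538052 :=
  km_0.steps ctx (es := [(16, [28, 28, 4, 28]),
 (17, [28, 33, 29, 33, 28, 5, 31]),
 (18, [5, 29, 4, 31, 4, 30, 5, 33, 30, 5, 30]),
 (19, [34, 37]),
 (20, [34, 37, 35]),
 (21, [37, 40, 35, 38, 41, 39, 35, 37]),
 (22, [35, 35, 41, 39, 36, 38]),
 (23, [45, 42]),
 (24, [43, 45, 43, 45, 42, 44, 43, 44])]) (by decide +kernel)

theorem B_ex : Exact 128 ns B_S0 ∧ gen ns (sTop B_S0) = gen ns [[0], [2]] ∧ gen ns [[4], [28], [30]] = gen ns [[0], [2]] :=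
  exact_of_known ctx hn (kn_1.gen_le (by decide +kernel)) km_1 (by decide +kernel)

theorem kG_0 : Known ns (gen ns [[0], [2]]) 33554431 :=
  kn_1.lor (km_1.mono B_ex.2.2.le)

noncomputable def CA_as : List (List ℕ × List ℕ) :=
  [([4], [4])]

noncomputable def CA_cs : List (List ℕ) :=
  [[]]

noncomputable def CA_pl : List Pl :=
  [⟨.lst 0, []⟩, ⟨.forced 0 0, []⟩, ⟨.forced 0 0, []⟩, ⟨.forced 0 0, []⟩]

noncomputable def CA_M0 : ℕ :=
  nat_lit 0x8000000200016000208240839

theorem CA_b0 : Br 128 ns (derAs CA_as [[0]]) (derSs 128 7 ns CA_as [[0]]) (gen ns (sTop A_S0)) A_d0.p CA_M0 (InCs ns A_S0 CA_cs) :=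
  br_of_brB ctx hE A_ex.1 (pl := CA_pl) (bs := []) (tps := [66]) (by decide +kernel)

theorem CA : SolList ns (gen ns [[0], [2]]) CA_as [[4]] CA_cs :=
  solList_of_br ctx A_ex.1 A_ex.2.1 kG_0 CA_b0 (cons := []) (r := 6) (by decide +kernel)

noncomputable def XB_as : List (List ℕ × List ℕ) :=
  [(powW [28] 1, powW [28] 1)]

noncomputable def XB_cs : List (List ℕ) :=
  [[], [30]]

noncomputable def XB_pl : List Pl :=
  [⟨.lst 0, []⟩, ⟨.forced 0 0, []⟩, ⟨.forced 0 0, []⟩, ⟨.forced 0 0, []⟩]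

noncomputable def XB_M0 : ℕ :=
  nat_lit 0x48422d008080e024210040

theorem XB_b0 : Br 128 ns (derAs XB_as [[0]]) (derSs 128 7 ns XB_as [[0]]) (gen ns (sTop B_S0)) B_d0.p XB_M0 (InCs ns B_S0 XB_cs) :=
  br_of_brB ctx hE B_ex.1 (pl := XB_pl) (bs := []) (tps := []) (by decide +kernel)

theorem XB : SolList ns (gen ns [[0], [2]]) XB_as [[28]] XB_cs :=
  solList_of_br ctx B_ex.1 B_ex.2.1 kG_0 XB_b0 (cons := []) (r := 5) (by decide +kernel)

noncomputable def od : OD :=
  ⟨[4], [28], [30], 7, 3, 6, 1, 1, [1], 0, [[2, 4, 2, 1, 4, 2, 4, 2, 1, 4, 2, 4, 2, 1, 4], [3, 4, 0, 4, 3, 3, 4, 0, 4, 3, 3, 4, 0, 4, 3], [4, 0, 2, 4, 0, 2, 4, 0, 2, 4, 0, 2, 4, 0, 2, 4, 0, 2, 4, 0, 2]]⟩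

theorem od_chk : od.chk 128 7 ns 604800 = true :=
  by decide +kernel

theorem od_kill : ∀ c ∈ XB_cs, od.kill 128 E [(1, od.c), (1, [28, 28, 28, 30])] [0, 1] c = true :=
  forall_mem_of_allL (by decide +kernel)

theorem ninn : ∀ x ∈ gen ns [[0], [2]], ¬ ∀ e ∈ [(od.a, powW od.a 1), (od.b, od.b), (od.c, [28, 28, 28, 30])], x * wp ns e.1 = wp ns e.2 * x :=
  none_of_cent ctx hE CA.cent (r := 7) (tps := [0, 1, 2, 3, 4, 5, 6, 7]) (by decide +kernel)

theorem out_of : ∀ ψ : MulAut (gen ns [[0], [2]]), ActsOn ns ψ [(od.a, powW od.a 1), (od.b, od.b), (od.c, [28, 28, 28, 30])] → Nat.card (Cfsg.Out (gen ns [[0], [2]])) = 2 :=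
  fun _ hψ => OD.out_two (o := od) ctx hE hn (by norm_num [od]) B_ex.2.2.symm od_chk CA.cent XB.one od_kill hψ
    (hψ.not_inn (es' := [(od.a, powW od.a 1), (od.b, od.b), (od.c, [28, 28, 28, 30])]) (fun _ h => h)
      (fun e he => kG_0.word (forall_mem_of_allL (p := fun e => inK 33554431 e.1) (by decide +kernel) e he)) ninn)

theorem out : Nat.card (Cfsg.Out (gen ns [[0], [2]])) = 2 :=
  (exists_actsOn_conj ctx (π := [50]) (es := [(od.a, powW od.a 1), (od.b, od.b), (od.c, [28, 28, 28, 30])]) B_ex.2.2.symm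
    (fun e he => kG_0.word (forall_mem_of_allL (p := fun e => inK 33554431 e.2) (by decide +kernel) e he))
    (by decide +kernel)).elim out_of

theorem out_card : Nat.card (Cfsg.Out Cfsg.Spor.J2) = 2 :=
  (card_out_eq (ModelJ2.equiv.trans (MulEquiv.subgroupCongr geq))).trans out

end Cfsg.Agent.Spor.OutJ2
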