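import Cfsg.Agent.Spor.OutCo1B0

set_option autoImplicit false
set_option Elab.async false
set_option maxRecDepth 8192

namespace Cfsg.Agent.Spor.OutCo1

open Cfsg.Agent.Comp

noncomputable def CA_Mx : ℕ :=
  seg CA_M 0 98280

theorem CA_br : BrP ns (gen ns1 ModelCo1.G_ss0) (derAs CA_as CA_vs) CA_pts 0 (CA_Mx) (InCs ns A_S CA_cs) :=
  CA_b0

theorem CA_cov : Nat.beq (Nat.land L0_0_D (grow ns [[18]] 22 CA_Mx)) L0_0_D = true :=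
  by decide +kernel

theorem CA_pt : PtsOK ns (gen ns1 ModelCo1.G_ss0) CA_as CA_pts :=
  ptsOK_nil _ _ _

theorem CA_sol : SolList ns (gen ns1 ModelCo1.G_ss0) [([27, 18, 26], [18])] [[18]] CA_cs :=
  solList_of_brP ctx.ok hQ A_ex kn CA_br CA_pt (rng_of_exact A_ex A_ds (by decide +kernel))
    (by decide +kernel) CA_cov

noncomputable def XB_Mx : ℕ :=
  seg XB_M 0 98280

theorem XB_br : BrP ns (gen ns1 ModelCo1.G_ss0) (derAs XB_as XB_vs) XB_pts 0 (XB_Mx) (InCs ns B_S XB_cs) :=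
  XB_b0

theorem XB_cov : Nat.beq (Nat.land L0_0_D (grow ns [[20]] 10 XB_Mx)) L0_0_D = true :=
  by decide +kernel

theorem XB_pt : PtsOK ns (gen ns1 ModelCo1.G_ss0) XB_as XB_pts :=
  ptsOK_nil _ _ _

theorem XB_sol : SolList ns (gen ns1 ModelCo1.G_ss0) [([29, 20, 28], [20])] [[20]] XB_cs :=
  solList_of_brP ctx.ok hQ B_ex kn XB_br XB_pt (rng_of_exact B_ex B_ds (by decide +kernel))
    (by decide +kernel) XB_cov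

theorem CA2 : SolList ns (gen ns1 ModelCo1.G_ss0) [([24], [24])] [[24]] [[]] :=
  CA_sol.conj hQ kn (g1 := [22, 26]) (g2 := [22]) (by decide +kernel)

noncomputable def cs0 : List (List ℕ) :=
  [[62], [64], [66], [30], [68], [70]]

noncomputable def cs : List (List ℕ) :=
  cs0

theorem XB2 : SolList ns (gen ns1 ModelCo1.G_ss0) [(powW [20] 1, powW [20] 1)] [[20]] cs :=
  XB_sol.conj hQ kn (g1 := [28]) (g2 := []) (by decide +kernel)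

theorem km_0 : Known ns (gen ns [[24], [20], [30]]) 37888 :=
  known_gen (by decide +kernel)

theorem km_1 : Known ns (gen ns [[24], [20], [30]]) 2147456511 :=
  km_0.stepsQ hQ (es := [(16, [25, 30, 24, 24, 21, 31, 25, 30, 24, 31, 24, 24, 24]),
 (17, [21]),
 (18, [24, 30, 25, 30, 30, 25, 31, 20, 24, 31, 25, 31, 25]),
 (19, [32, 36, 33, 34, 37, 37, 32]),
 (20, [33, 35, 32, 32, 36, 35, 33, 34, 33]),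
 (21, [33, 37, 33, 34, 37, 34, 32, 36, 33]),
 (22, [40, 39, 42, 38, 43, 39, 42, 42]),
 (23, [39, 40, 39, 39, 42, 38, 38, 38]),
 (24, [40, 40, 39, 40, 42, 38, 42, 41]),
 (25, [46, 44, 47, 44, 46, 48, 44]),
 (26, [48, 45, 47, 45, 46, 44, 46]),
 (27, [44, 48, 47, 49, 45, 49, 45]),
 (28, [52, 54, 53, 55, 53, 53, 50]),
 (29, [52, 52, 50, 54, 51, 52]),
 (30, [51, 51, 54, 51, 53, 55, 50]),
 (6, [59, 60]),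
 (7, [60, 56, 13]),
 (8, [58, 14]),
 (5, [55, 14, 50, 12, 16, 14, 12]),
 (4, [10, 13, 44, 16, 12, 10, 12, 14, 13, 16, 12]),
 (3, [38, 10, 8, 38, 9, 9, 11, 14, 10, 13, 14, 13, 17, 12]),
 (2, [6, 35]),
 (0, [10, 10, 25, 8, 31, 7, 12, 6, 4, 4, 13, 7, 16, 8, 6, 8, 16, 9, 17, 10, 13, 10, 17, 14, 13, 16]),
 (1, [13, 21, 0, 14, 0, 6, 17, 13, 7, 4, 16, 8, 10, 6, 8, 17, 9, 16, 10, 14, 13, 16, 12])]) (by decide +kernel)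

theorem hle : gen ns1 ModelCo1.G_ss0 ≤ gen ns1 ModelCo1.G_ss0 :=
  le_rfl

theorem hG : gen ns1 ModelCo1.G_ss0 = gen ns [[24], [20], [30]] :=
  le_antisymm (gen_le_of_Q hQ km_1 (us := [[0], [2], [4], [6], [8], [10], [12], [14], [16]]) (by decide +kernel))
    (kn.gen_le (by decide +kernel))

theorem hC : ∀ x ∈ gen ns1 ModelCo1.G_ss0, x * wp ns [24] = wp ns [24] * x → x ∈ gen ns [[24]] :=
  CA2.cent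

noncomputable def od : OD :=
  ⟨[24], [20], [30], 23, 2, 11, 1, 1, [1, 5], 0, [[2, 2, 2, 2, 2, 2, 2, 2, 2, 2, 4, 2, 2, 2, 2, 2, 2, 2, 2, 2, 2, 4, 2, 2, 2, 2, 2, 2, 2, 2, 2, 2, 4], [0, 2, 2, 2, 2, 2, 2, 2, 2, 2, 2, 4, 3, 0, 2, 2, 2, 2, 2, 2, 2, 2, 2, 2, 4, 3, 0, 2, 2, 2, 2, 2, 2, 2, 2, 2, 2, 4, 3, 0, 2, 2, 2, 2, 2, 2, 2, 2, 2, 2, 4, 3, 0, 2, 2, 2, 2, 2, 2, 2, 2, 2, 2, 4, 3, 0, 2, 2, 2, 2, 2, 2, 2, 2, 2, 2, 4, 3, 0, 2, 2, 2, 2, 2, 2, 2, 2, 2, 2, 4, 3, 0, 2, 2, 2, 2, 2, 2, 2, 2, 2, 2, 4, 3, 0, 2, 2, 2, 2, 2, 2, 2, 2, 2, 2, 4, 3, 0, 2, 2, 2, 2, 2, 2, 2, 2, 2, 2, 4, 3], [3, 0, 2, 2, 2, 2, 2, 2, 2, 2, 2, 2, 4, 1, 2, 2, 2, 2, 2, 2, 2, 2, 2, 2, 4, 3, 0, 2, 2, 2, 2, 2, 2, 2, 2, 2, 2, 4, 1, 2, 2, 2, 2, 2, 2, 2, 2, 2, 2, 4, 3, 0, 2, 2, 2, 2, 2, 2, 2, 2, 2, 2, 4, 1, 2, 2, 2, 2, 2, 2, 2,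 2, 2, 2, 4, 3, 0, 2, 2, 2, 2, 2, 2, 2, 2, 2, 2, 4, 1, 2, 2, 2, 2, 2, 2, 2, 2, 2, 2, 4, 3, 0, 2, 2, 2, 2, 2, 2, 2, 2, 2, 2, 4, 1, 2, 2, 2, 2, 2, 2, 2, 2, 2, 2, 4, 3, 0, 2, 2, 2, 2, 2, 2, 2, 2, 2, 2, 4, 1, 2, 2, 2, 2, 2, 2, 2, 2, 2, 2, 4, 3, 0, 2, 2, 2, 2, 2, 2, 2, 2, 2, 2, 4, 1, 2, 2, 2, 2, 2, 2, 2, 2, 2, 2, 4, 3, 0, 2, 2, 2, 2, 2, 2, 2, 2, 2, 2, 4, 1, 2, 2, 2, 2, 2, 2, 2, 2, 2, 2, 4, 3, 0, 2, 2, 2, 2, 2, 2, 2, 2, 2, 2, 4, 1, 2, 2, 2, 2, 2, 2, 2, 2, 2, 2, 4, 3, 0, 2, 2, 2, 2, 2, 2, 2, 2, 2, 2, 4, 1, 2, 2, 2, 2, 2, 2, 2, 2, 2, 2, 4, 3, 0, 2, 2, 2, 2, 2, 2, 2, 2, 2, 2, 4, 1, 2, 2, 2, 2, 2, 2, 2, 2, 2, 2, 4, 3, 0, 2, 2, 2, 2, 2, 2, 2, 2, 2, 2, 4, 1, 2, 2, 2, 2, 2, 2, 2, 2, 2, 2, 4, 3, 0, 2, 2, 2, 2, 2, 2, 2, 2, 2, 2, 4, 1, 2, 2, 2, 2, 2, 2, 2, 2, 2, 2, 4, 3, 0, 2, 2, 2, 2, 2, 2, 2,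 2, 2, 2, 4, 1, 2, 2, 2, 2, 2, 2, 2, 2, 2, 2, 4, 3, 0, 2, 2, 2, 2, 2, 2, 2, 2, 2, 2, 4, 1, 2, 2, 2, 2, 2, 2, 2, 2, 2, 2, 4, 3, 0, 2, 2, 2, 2, 2, 2, 2, 2, 2, 2, 4, 1, 2, 2, 2, 2, 2, 2, 2, 2, 2, 2, 4]]⟩

theorem od_chk : od.chkQ 131072 E Q 4157776806543360000 = true :=
  by decide +kernel

theorem kill0 : ∀ c ∈ cs0, od.kill 131072 E [(1, od.c)] [92383] c = true :=
  forall_mem_of_allL (by decide +kernel)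

theorem od_kill : ∀ c ∈ cs, od.kill 131072 E [(1, od.c)] [92383] c = true :=
  kill0

theorem out : Nat.card (Cfsg.Out (gen ns1 ModelCo1.G_ss0)) = 1 :=
  OD.out_oneQ (o := od) ctx hE hQ hn (by norm_num [od]) hG od_chk hC (XB2.mono hle).one od_kill

theorem out_card : Nat.card (Cfsg.Out Cfsg.Spor.Co1) = 1 :=
  (card_out_eq (ModelCo1.equiv.trans (MulEquiv.subgroupCongr geq.symm))).trans out

end Cfsg.Agent.Spor.OutCo1
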