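import Cfsg.Agent.Comp.Known
import Cfsg.Agent.Spor.ModelHS

set_option autoImplicit false
set_option maxRecDepth 4096

namespace Cfsg.Agent.Spor.OutHS

open Cfsg.Agent.Comp

noncomputable def ns_2 : Net :=
 (Net.cons (nat_lit 64) (nat_lit 0xf43c7e25858f2534)
 (Net.cons (nat_lit 32) (nat_lit 0x258c2d2000000000832e0a0)
 (Net.cons (nat_lit 16) (nat_lit 0xf60a0000681e0000099300004acf)
 (Net.cons (nat_lit 8) (nat_lit 0x84005200170037007000d300cc00cf)
 (Net.cons (nat_lit 4) (nat_lit 0x40e080902000a000300020e02000c04)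
 (Net.cons (nat_lit 2) (nat_lit 0x12102012200020001000220233023233)
 (Net.cons (nat_lit 1) (nat_lit 0x4145040411451011101104110001415)
 (Net.cons (nat_lit 2) (nat_lit 0x2020000000000020000200020002020)
 (Net.cons (nat_lit 4) (nat_lit 0x208040600000c02000008020a000408)
 (Net.cons (nat_lit 8) (nat_lit 0xb000be00b2002c0070009200c4009a)
 (Net.cons (nat_lit 16) (nat_lit 0x22600003512000008a200004c0a)
 (Net.cons (nat_lit 32) (nat_lit 0xb65c94f40000000003b2e038)
 (Net.cons (nat_lit 64) (nat_lit 0xf43c7e25d0406410)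
 Net.nil)))))))))))))

noncomputable def ns_3 : Net :=
 (Net.cons (nat_lit 64) (nat_lit 0xa8a9e800ea5859fd)
 (Net.cons (nat_lit 32) (nat_lit 0xb47f1ffb000000007e8e8962)
 (Net.cons (nat_lit 16) (nat_lit 0x86720000c1230000fbdc000051b2)
 (Net.cons (nat_lit 8) (nat_lit 0xc001d00c20029000200c700a60074)
 (Net.cons (nat_lit 4) (nat_lit 0xc010e000a080002090402070605000a)
 (Net.cons (nat_lit 2) (nat_lit 0x12301010000222010102231202032101)
 (Net.cons (nat_lit 1) (nat_lit 0x10544115004101010400141044044050)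
 (Net.cons (nat_lit 2) (nat_lit 0x20020000000002000000220002022000)
 (Net.cons (nat_lit 4) (nat_lit 0xc00020c00080802080000020400040c)
 (Net.cons (nat_lit 8) (nat_lit 0x1c003000420028009c00e400320024)
 (Net.cons (nat_lit 16) (nat_lit 0x16d80000092a0000e142000005d6)
 (Net.cons (nat_lit 32) (nat_lit 0x945797f0000000007ade9f34)
 (Net.cons (nat_lit 64) (nat_lit 0xa8a9e804db1a853c)
 Net.nil)))))))))))))

noncomputable def ns_4 : Net :=
 (Net.cons (nat_lit 64) (nat_lit 0x6bfa4bdd67050d41)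
 (Net.cons (nat_lit 32) (nat_lit 0xd5079b1b00000000639a0afd)
 (Net.cons (nat_lit 16) (nat_lit 0xfbf8000003ca00002e630000d829)
 (Net.cons (nat_lit 8) (nat_lit 0xc9007300fa0081003f002c007c0000)
 (Net.cons (nat_lit 4) (nat_lit 0x505000a010c08020a05060b08010b04)
 (Net.cons (nat_lit 2) (nat_lit 0x1233233022221021110100020102020)
 (Net.cons (nat_lit 1) (nat_lit 0x41145010410445104415100404001541)
 (Net.cons (nat_lit 2) (nat_lit 0x220020020200002200200200002020)
 (Net.cons (nat_lit 4) (nat_lit 0x8040002080c0200000c0e0804000a04)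
 (Net.cons (nat_lit 8) (nat_lit 0x9600a0009a0088001400bc00380024)
 (Net.cons (nat_lit 16) (nat_lit 0x6b640000435200002a7400004c0c)
 (Net.cons (nat_lit 32) (nat_lit 0x94ed930400000000e79f8edc)
 (Net.cons (nat_lit 64) (nat_lit 0x6bfa4bd83bd38438)
 Net.nil)))))))))))))

noncomputable def ns_5 : Net :=
 (Net.cons (nat_lit 64) (nat_lit 0x46a8106cd18fa79f)
 (Net.cons (nat_lit 32) (nat_lit 0xeec2ffdd0000000005190232)
 (Net.cons (nat_lit 16) (nat_lit 0x80a60000120500002dde00004076)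
 (Net.cons (nat_lit 8) (nat_lit 0x4003b005500620039005600950059)
 (Net.cons (nat_lit 4) (nat_lit 0x208040801050000080902020e0c0c0b)
 (Net.cons (nat_lit 2) (nat_lit 0x23220013230032102202210033201)
 (Net.cons (nat_lit 1) (nat_lit 0x40405150004140001010144115051504)
 (Net.cons (nat_lit 2) (nat_lit 0x20000000002220002000002020000002)
 (Net.cons (nat_lit 4) (nat_lit 0xc0200080000080a0c06040c0408)
 (Net.cons (nat_lit 8) (nat_lit 0x2800f20054006000b8001000d40040)
 (Net.cons (nat_lit 16) (nat_lit 0xc8a600000200000008cc00002074)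
 (Net.cons (nat_lit 32) (nat_lit 0xaa6aff9400000000844ae03e)
 (Net.cons (nat_lit 64) (nat_lit 0x46a81068f737eb30)
 Net.nil)))))))))))))

noncomputable def ns_6 : Net :=
 (Net.cons (nat_lit 64) (nat_lit 0xaefe75e60661fc4f)
 (Net.cons (nat_lit 32) (nat_lit 0x47afe0ac000000001c34a24e)
 (Net.cons (nat_lit 16) (nat_lit 0xceac00008d6c00006577000017c3)
 (Net.cons (nat_lit 8) (nat_lit 0x4500a000b40074003a00470081002e)
 (Net.cons (nat_lit 4) (nat_lit 0x40e07060d0206090201080004000d0e)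
 (Net.cons (nat_lit 2) (nat_lit 0x21100101201030130013001230021201)
 (Net.cons (nat_lit 1) (nat_lit 0x141400410440051011041511011114)
 (Net.cons (nat_lit 2) (nat_lit 0x222000220000000002000020020220)
 (Net.cons (nat_lit 4) (nat_lit 0x40a06000e0004040200080000080806)
 (Net.cons (nat_lit 8) (nat_lit 0x400020008c0012002a004600820074)
 (Net.cons (nat_lit 16) (nat_lit 0x2b600000891e000065760000d440)
 (Net.cons (nat_lit 32) (nat_lit 0x67c3c5ae000000001d35a044)
 (Net.cons (nat_lit 64) (nat_lit 0xaefe75e68a28de02)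
 Net.nil)))))))))))))

noncomputable def ns_7 : Net :=
 (Net.cons (nat_lit 64) (nat_lit 0xdb83f7d3786a76d7)
 (Net.cons (nat_lit 32) (nat_lit 0x9d6306f400000000b39efed9)
 (Net.cons (nat_lit 16) (nat_lit 0x46f50000c5920000cdc00000296b)
 (Net.cons (nat_lit 8) (nat_lit 0x3000ab00480049002a0022004c0020)
 (Net.cons (nat_lit 4) (nat_lit 0x30d010e0a0a0a0700080a0100060804)
 (Net.cons (nat_lit 2) (nat_lit 0x23022303203010300232001301212022)
 (Net.cons (nat_lit 1) (nat_lit 0x1014501154410544440111104400041)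
 (Net.cons (nat_lit 2) (nat_lit 0x2000000202020000200020000200022)
 (Net.cons (nat_lit 4) (nat_lit 0x80a0e080a0a020008080000060800)
 (Net.cons (nat_lit 8) (nat_lit 0x2400c80050008000f800a400480028)
 (Net.cons (nat_lit 16) (nat_lit 0x49600005f800000f96800002946)
 (Net.cons (nat_lit 32) (nat_lit 0x85e016200000000097f2fede)
 (Net.cons (nat_lit 64) (nat_lit 0xdb83f7d1a9584134)
 Net.nil)))))))))))))

noncomputable def ns_8 : Net :=
 (Net.cons (nat_lit 64) (nat_lit 0x513c3abcfb1733d)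
 (Net.cons (nat_lit 32) (nat_lit 0xf942b9a200000000eb29c2bf)
 (Net.cons (nat_lit 16) (nat_lit 0x9eb7000040ce0000e2620000f28c)
 (Net.cons (nat_lit 8) (nat_lit 0x2d00cc0007009300fb0042007000c2)
 (Net.cons (nat_lit 4) (nat_lit 0xa0e09010007050208070000040e0300)
 (Net.cons (nat_lit 2) (nat_lit 0x2002003023210210030000110302011)
 (Net.cons (nat_lit 1) (nat_lit 0x14041041040441004014504510404504)
 (Net.cons (nat_lit 2) (nat_lit 0x20002020200002022000000002002)
 (Net.cons (nat_lit 4) (nat_lit 0xc0408040006040808040008000c0c08)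
 (Net.cons (nat_lit 8) (nat_lit 0x8c00dc0042009400b0002600500014)
 (Net.cons (nat_lit 16) (nat_lit 0x67b40000464a0000d0ce0000ca9a)
 (Net.cons (nat_lit 32) (nat_lit 0xfc53b9a400000000494de6a0)
 (Net.cons (nat_lit 64) (nat_lit 0x513c3a026b3a5a0)
 Net.nil)))))))))))))

noncomputable def ns_9 : Net :=
 (Net.cons (nat_lit 64) (nat_lit 0x51b11146ef992c7a)
 (Net.cons (nat_lit 32) (nat_lit 0xb66e1ade00000000f98d1df4)
 (Net.cons (nat_lit 16) (nat_lit 0x267900005910000022e200000692)
 (Net.cons (nat_lit 8) (nat_lit 0x4000fe00a000f800cc001900840030)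
 (Net.cons (nat_lit 4) (nat_lit 0x9040d0b08000906050e0f09000a0c08)
 (Net.cons (nat_lit 2) (nat_lit 0x12130320320020202200133220121021)
 (Net.cons (nat_lit 1) (nat_lit 0x451101410040541445541404140401)
 (Net.cons (nat_lit 2) (nat_lit 0x220000020020002002000000)
 (Net.cons (nat_lit 4) (nat_lit 0x8040c0808000c06000a000400080c08)
 (Net.cons (nat_lit 8) (nat_lit 0xd000c800a0008800cc00c800840034)
 (Net.cons (nat_lit 16) (nat_lit 0x25b000001930000068a800000284)
 (Net.cons (nat_lit 32) (nat_lit 0xb6ee1b9400000000f189dfda)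
 (Net.cons (nat_lit 64) (nat_lit 0x51b11149ef00842c)
 Net.nil)))))))))))))

noncomputable def ns_10 : Net :=
 (Net.cons (nat_lit 64) (nat_lit 0x252a23852d3e6a82)
 (Net.cons (nat_lit 32) (nat_lit 0xf0f56ee300000000d84bd572)
 (Net.cons (nat_lit 16) (nat_lit 0x2cc8000094280000d45900008351)
 (Net.cons (nat_lit 8) (nat_lit 0x3d0006002a009a0094007100a60074)
 (Net.cons (nat_lit 4) (nat_lit 0xf03020809080a0008010b050c0e090b)
 (Net.cons (nat_lit 2) (nat_lit 0x13330122022022003001021210212323)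
 (Net.cons (nat_lit 1) (nat_lit 0x1100141010014011041010040441004)
 (Net.cons (nat_lit 2) (nat_lit 0x200020000000002000000000200002)
 (Net.cons (nat_lit 4) (nat_lit 0x20a04060808080208080a04040c0408)
 (Net.cons (nat_lit 8) (nat_lit 0x100060002200b80044002000460044)
 (Net.cons (nat_lit 16) (nat_lit 0x6c0a000095220000145800008564)
 (Net.cons (nat_lit 32) (nat_lit 0xd1ff6e6a000000000aca1552)
 (Net.cons (nat_lit 64) (nat_lit 0x252a23847d860680)
 Net.nil)))))))))))))

noncomputable def ns_11 : Net :=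
 (Net.cons (nat_lit 64) (nat_lit 0x41afa4e206ae7292)
 (Net.cons (nat_lit 32) (nat_lit 0x1f546dee000000009e585013)
 (Net.cons (nat_lit 16) (nat_lit 0x80df0000c69c0000bc560000662c)
 (Net.cons (nat_lit 8) (nat_lit 0xa6008f000f00f000140011001e002e)
 (Net.cons (nat_lit 4) (nat_lit 0x10c0c090c0a0003040a07080a0d0f08)
 (Net.cons (nat_lit 2) (nat_lit 0x22010331020120231000131001321323)
 (Net.cons (nat_lit 1) (nat_lit 0x41410100411540100010414014400541)
 (Net.cons (nat_lit 2) (nat_lit 0x22020000020000200020020022000020)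
 (Net.cons (nat_lit 4) (nat_lit 0x80404080c08000e040a04080e080c00)
 (Net.cons (nat_lit 8) (nat_lit 0x2a008a000800500004004800700028)
 (Net.cons (nat_lit 16) (nat_lit 0x805c000066380000bc5e0000329a)
 (Net.cons (nat_lit 32) (nat_lit 0x5ffdc96e0000000006585000)
 (Net.cons (nat_lit 64) (nat_lit 0x41afa4e8ff8b40d4)
 Net.nil)))))))))))))

noncomputable def ns_12 : Net :=
 (Net.cons (nat_lit 64) (nat_lit 0x35d4b61680860f70)
 (Net.cons (nat_lit 32) (nat_lit 0x55049a1200000000c556258a)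
 (Net.cons (nat_lit 16) (nat_lit 0x69cc00004dcf000022280000aaa4)
 (Net.cons (nat_lit 8) (nat_lit 0x800c100b200130074008d00e800a0)
 (Net.cons (nat_lit 4) (nat_lit 0xa0c0b020b090002080008060109)
 (Net.cons (nat_lit 2) (nat_lit 0x3300100001233322002120213032)
 (Net.cons (nat_lit 1) (nat_lit 0x4004104144104144141044100404151)
 (Net.cons (nat_lit 2) (nat_lit 0x2202000002200220002000000002)
 (Net.cons (nat_lit 4) (nat_lit 0x8080a020a020802000000020800)
 (Net.cons (nat_lit 8) (nat_lit 0x90003200280018008a006a00a0)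
 (Net.cons (nat_lit 16) (nat_lit 0x69dc0000dd4c0000664400002a84)
 (Net.cons (nat_lit 32) (nat_lit 0x7414ac02000000000d7d640e)
 (Net.cons (nat_lit 64) (nat_lit 0x35d4b6130100e074)
 Net.nil)))))))))))))

noncomputable def ns_13 : Net :=
 (Net.cons (nat_lit 64) (nat_lit 0xd521b0179799ec58)
 (Net.cons (nat_lit 32) (nat_lit 0x8a94f5ba000000007d6d6bd9)
 (Net.cons (nat_lit 16) (nat_lit 0x429700001a500000319f000088d0)
 (Net.cons (nat_lit 8) (nat_lit 0xf100fd001400b0001100d400200085)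
 (Net.cons (nat_lit 4) (nat_lit 0x3010f070807000a0c0201000006040d)
 (Net.cons (nat_lit 2) (nat_lit 0x21330200102100323021131000220232)
 (Net.cons (nat_lit 1) (nat_lit 0x11145101414400104045410100444114)
 (Net.cons (nat_lit 2) (nat_lit 0x22220000222200200020200000020200)
 (Net.cons (nat_lit 4) (nat_lit 0xa040402000000060c00040400000c0c)
 (Net.cons (nat_lit 8) (nat_lit 0x6000c8006e00b0001c008800200050)
 (Net.cons (nat_lit 16) (nat_lit 0x3120000aa10000071d400008892)
 (Net.cons (nat_lit 32) (nat_lit 0xdb9475b2000000007daf6bd0)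
 (Net.cons (nat_lit 64) (nat_lit 0xd521b01b8a66db10)
 Net.nil)))))))))))))

noncomputable def ns_14 : Net :=
 (Net.cons (nat_lit 64) (nat_lit 0x3c15508c7f02c2ae)
 (Net.cons (nat_lit 32) (nat_lit 0x220075fc000000008a46869f)
 (Net.cons (nat_lit 16) (nat_lit 0x27b1000062010000cc88000009bc)
 (Net.cons (nat_lit 8) (nat_lit 0x95001e00f4006e00040053006e00c6)
 (Net.cons (nat_lit 4) (nat_lit 0x907040707080a0a00080d0409000b09)
 (Net.cons (nat_lit 2) (nat_lit 0x102200121320000120230213022203)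
 (Net.cons (nat_lit 1) (nat_lit 0x14014410014114410044140405144110)
 (Net.cons (nat_lit 2) (nat_lit 0x2000000200020022200000002000)
 (Net.cons (nat_lit 4) (nat_lit 0x80600020c08020a0008040408040a00)
 (Net.cons (nat_lit 8) (nat_lit 0xb0005a006a006e0080001a001000a4)
 (Net.cons (nat_lit 16) (nat_lit 0x23a00000e2800000cdc800009a8c)
 (Net.cons (nat_lit 32) (nat_lit 0x2e147576000000004b0e01de)
 (Net.cons (nat_lit 64) (nat_lit 0x3c15508aee1e9598)
 Net.nil)))))))))))))

noncomputable def ns_15 : Net :=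
 (Net.cons (nat_lit 64) (nat_lit 0x4227808002584368)
 (Net.cons (nat_lit 32) (nat_lit 0xa6e446810000000059429639)
 (Net.cons (nat_lit 16) (nat_lit 0x6e10000180c00001c040000dcf5)
 (Net.cons (nat_lit 8) (nat_lit 0x260044004c00040056001800410005)
 (Net.cons (nat_lit 4) (nat_lit 0x402040c000506080508000905090a00)
 (Net.cons (nat_lit 2) (nat_lit 0x10222030132021210201001000112)
 (Net.cons (nat_lit 1) (nat_lit 0x40000445000110510404514010400414)
 (Net.cons (nat_lit 2) (nat_lit 0x220000020020200022000000220)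
 (Net.cons (nat_lit 4) (nat_lit 0x6060a000c060a00080204)
 (Net.cons (nat_lit 8) (nat_lit 0x2000c2004600ac00820002004800a0)
 (Net.cons (nat_lit 16) (nat_lit 0xc2e00000103600008c040000cda4)
 (Net.cons (nat_lit 32) (nat_lit 0xa6e0c68000000000cd028372)
 (Net.cons (nat_lit 64) (nat_lit 0x4227808002504b6c)
 Net.nil)))))))))))))

noncomputable def ns_16 : Net :=
 (Net.cons (nat_lit 64) (nat_lit 0xd886150f202c7880)
 (Net.cons (nat_lit 32) (nat_lit 0x2cd52c040000000005411700)
 (Net.cons (nat_lit 16) (nat_lit 0x580000049160000c4c00000a138)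
 (Net.cons (nat_lit 8) (nat_lit 0x5c008c00c000000020000a00220049)
 (Net.cons (nat_lit 4) (nat_lit 0x6050400080e000a0c0002040c000000)
 (Net.cons (nat_lit 2) (nat_lit 0x20133002023013012320030022120032)
 (Net.cons (nat_lit 1) (nat_lit 0x11005004015405004000150114114040)
 (Net.cons (nat_lit 2) (nat_lit 0x20000002020000002000000020022020)
 (Net.cons (nat_lit 4) (nat_lit 0x2000400080e00000c0002000e020000)
 (Net.cons (nat_lit 8) (nat_lit 0x5c008400c000000020000a00400028)
 (Net.cons (nat_lit 16) (nat_lit 0x580000049160000c4c000004128)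
 (Net.cons (nat_lit 32) (nat_lit 0x2cd52c040000000005411700)
 (Net.cons (nat_lit 64) (nat_lit 0xd886150f202c7880)
 Net.nil)))))))))))))

noncomputable def ns_17 : Net :=
 (Net.cons (nat_lit 64) (nat_lit 0x12a4110a5030dd62)
 (Net.cons (nat_lit 32) (nat_lit 0xd9555f82000000000b40406a)
 (Net.cons (nat_lit 16) (nat_lit 0x970c0000b1040000a3080000e190)
 (Net.cons (nat_lit 8) (nat_lit 0xf0004a0084000000c0000600440096)
 (Net.cons (nat_lit 4) (nat_lit 0x3080904000000020002040600080a0c)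
 (Net.cons (nat_lit 2) (nat_lit 0x1310203010200110022012121301012)
 (Net.cons (nat_lit 1) (nat_lit 0x51100040100410000001404010004440)
 (Net.cons (nat_lit 2) (nat_lit 0x2200000000200000002200020002000)
 (Net.cons (nat_lit 4) (nat_lit 0x80804000000000002060400080a0c)
 (Net.cons (nat_lit 8) (nat_lit 0xf8004800040000008000a000440084)
 (Net.cons (nat_lit 16) (nat_lit 0x9d0c000081040000a3080000c190)
 (Net.cons (nat_lit 32) (nat_lit 0xd9555f800000000003404068)
 (Net.cons (nat_lit 64) (nat_lit 0x12a411009020c340)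
 Net.nil)))))))))))))

noncomputable def ns_18 : Net :=
 (Net.cons (nat_lit 64) (nat_lit 0x92e6441d8a070092)
 (Net.cons (nat_lit 32) (nat_lit 0x4070b000000000000c04044)
 (Net.cons (nat_lit 16) (nat_lit 0x1730000061ac00005ac0000045aa)
 (Net.cons (nat_lit 8) (nat_lit 0x80001000d8004200480084008900d2)
 (Net.cons (nat_lit 4) (nat_lit 0x80508060a0201000000040c07090008)
 (Net.cons (nat_lit 2) (nat_lit 0x3020210100001311200020310020212)
 (Net.cons (nat_lit 1) (nat_lit 0x444400004411000000410041151104)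
 (Net.cons (nat_lit 2) (nat_lit 0x20200000000000000020000200002)
 (Net.cons (nat_lit 4) (nat_lit 0x8040804000000000000040c060a0000)
 (Net.cons (nat_lit 8) (nat_lit 0x80001000d8005200480084000c00c2)
 (Net.cons (nat_lit 16) (nat_lit 0x1730000061ac00001ac000007ca8)
 (Net.cons (nat_lit 32) (nat_lit 0x4070b000000000000c04044)
 (Net.cons (nat_lit 64) (nat_lit 0x92e64415eb071480)
 Net.nil)))))))))))))

noncomputable def ns_19 : Net :=
 (Net.cons (nat_lit 64) (nat_lit 0xe43933b7e91ac208)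
 (Net.cons (nat_lit 32) (nat_lit 0xe1ba60040000000037bf3995)
 (Net.cons (nat_lit 16) (nat_lit 0x25230000eb040000b4a200008204)
 (Net.cons (nat_lit 8) (nat_lit 0x71000b00bd0078000b00c100d20000)
 (Net.cons (nat_lit 4) (nat_lit 0x204090104020f01040f0404000000)
 (Net.cons (nat_lit 2) (nat_lit 0x20023203020300030110303103100223)
 (Net.cons (nat_lit 1) (nat_lit 0x10414110114110511001114101400440)
 (Net.cons (nat_lit 2) (nat_lit 0x222200002200002000202000000220)
 (Net.cons (nat_lit 4) (nat_lit 0xa000a000802060000060004040004)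
 (Net.cons (nat_lit 8) (nat_lit 0x50003800b80042008000d000d00046)
 (Net.cons (nat_lit 16) (nat_lit 0x2518000065280000b02000008000)
 (Net.cons (nat_lit 32) (nat_lit 0xc1bb609c000000002ef979da)
 (Net.cons (nat_lit 64) (nat_lit 0xe43933b6e9790832)
 Net.nil)))))))))))))

noncomputable def ns_20 : Net :=
 (Net.cons (nat_lit 64) (nat_lit 0x1b11840b9c4c135e)
 (Net.cons (nat_lit 32) (nat_lit 0x8a8502d000000004ff27008)
 (Net.cons (nat_lit 16) (nat_lit 0xc3110000a79d0000d5240000b8e0)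
 (Net.cons (nat_lit 8) (nat_lit 0x100017006a00c900120000007c00cd)
 (Net.cons (nat_lit 4) (nat_lit 0x904060d07040a0d060a000c0d0307)
 (Net.cons (nat_lit 2) (nat_lit 0x221020321221212210232220320030)
 (Net.cons (nat_lit 1) (nat_lit 0x40110141144441101414440404104111)
 (Net.cons (nat_lit 2) (nat_lit 0x20022222220000222200000200220)
 (Net.cons (nat_lit 4) (nat_lit 0x80406080a04020e080000040a0806)
 (Net.cons (nat_lit 8) (nat_lit 0x90000000b000ce00000068005000dc)
 (Net.cons (nat_lit 16) (nat_lit 0xd330000085da0000d50400003880)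
 (Net.cons (nat_lit 32) (nat_lit 0x3b9d02600000000cb9e5920)
 (Net.cons (nat_lit 64) (nat_lit 0x1b1184099518c556)
 Net.nil)))))))))))))

noncomputable def ns_21 : Net :=
 (Net.cons (nat_lit 64) (nat_lit 0x79b5bf5016bc9eff)
 (Net.cons (nat_lit 32) (nat_lit 0x92730dda000000003306f457)
 (Net.cons (nat_lit 16) (nat_lit 0x9c07000088620000755c000003a8)
 (Net.cons (nat_lit 8) (nat_lit 0xa900af0070005900e600d900890040)
 (Net.cons (nat_lit 4) (nat_lit 0xb0d0804030f020d060e0c0500090002)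
 (Net.cons (nat_lit 2) (nat_lit 0x3220323112001113010003001200022)
 (Net.cons (nat_lit 1) (nat_lit 0x1500105415414504014404141410041)
 (Net.cons (nat_lit 2) (nat_lit 0x20202002000000000020000)
 (Net.cons (nat_lit 4) (nat_lit 0xe0a080e020c0008060800040808000a)
 (Net.cons (nat_lit 8) (nat_lit 0x7a002e00b4007800b0007800400040)
 (Net.cons (nat_lit 16) (nat_lit 0x2e020000a9520000411c00004380)
 (Net.cons (nat_lit 32) (nat_lit 0xda772ad400000000350cf4d2)
 (Net.cons (nat_lit 64) (nat_lit 0x79b5bf5f772945a2)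
 Net.nil)))))))))))))

noncomputable def ns_22 : Net :=
 (Net.cons (nat_lit 64) (nat_lit 0xe34097832bf5afac)
 (Net.cons (nat_lit 32) (nat_lit 0x5ae4172000000000424f924c)
 (Net.cons (nat_lit 16) (nat_lit 0xab0400000bd00000903500007d18)
 (Net.cons (nat_lit 8) (nat_lit 0xa00018007800870070000000e6005d)
 (Net.cons (nat_lit 4) (nat_lit 0x40002070a0403060a05080e0c020003)
 (Net.cons (nat_lit 2) (nat_lit 0x22000210112100213032200100102120)
 (Net.cons (nat_lit 1) (nat_lit 0x4400551140400045011501041054411)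
 (Net.cons (nat_lit 2) (nat_lit 0x2000002000000000020002022002020)
 (Net.cons (nat_lit 4) (nat_lit 0x40002040a0e0006040c0a0e040e0402)
 (Net.cons (nat_lit 8) (nat_lit 0x200016003000800024006a00ea0040)
 (Net.cons (nat_lit 16) (nat_lit 0x3b2400008a900000c2440000719c)
 (Net.cons (nat_lit 32) (nat_lit 0xfba491a800000000424bb24c)
 (Net.cons (nat_lit 64) (nat_lit 0xe340978b64d4a140)
 Net.nil)))))))))))))

noncomputable def ns_23 : Net :=
 (Net.cons (nat_lit 64) (nat_lit 0x29f9f4c63503d083)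
 (Net.cons (nat_lit 32) (nat_lit 0xb08acd6a00000000d5e5aac3)
 (Net.cons (nat_lit 16) (nat_lit 0x190800006c090000b8ff0000be12)
 (Net.cons (nat_lit 8) (nat_lit 0xa900ed00e700d200fd0095004600c4)
 (Net.cons (nat_lit 4) (nat_lit 0x30f040e0a080c0f0c08000e08030b)
 (Net.cons (nat_lit 2) (nat_lit 0x20120012132212021010030300011)
 (Net.cons (nat_lit 1) (nat_lit 0x10110100040014141444051040101411)
 (Net.cons (nat_lit 2) (nat_lit 0x20200020000202222000000200202)
 (Net.cons (nat_lit 4) (nat_lit 0x206000e080a04040808020e0c0200)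
 (Net.cons (nat_lit 8) (nat_lit 0x18000000c6000000500096005c00ca)
 (Net.cons (nat_lit 16) (nat_lit 0x18c000002a50000038b80000b60c)
 (Net.cons (nat_lit 32) (nat_lit 0xb80359e600000000c5e1a0f4)
 (Net.cons (nat_lit 64) (nat_lit 0x29f9f4c7514821e2)
 Net.nil)))))))))))))

noncomputable def ns_24 : Net :=
 (Net.cons (nat_lit 64) (nat_lit 0x22b4af6cc59d753)
 (Net.cons (nat_lit 32) (nat_lit 0x3a2bf2950000000097a7258c)
 (Net.cons (nat_lit 16) (nat_lit 0xfa70000048c100002c92000018ac)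
 (Net.cons (nat_lit 8) (nat_lit 0x5a000a002d00e800a1002100780075)
 (Net.cons (nat_lit 4) (nat_lit 0xa02020808060404050c00030d000d00)
 (Net.cons (nat_lit 2) (nat_lit 0x32000222211323010123032100000310)
 (Net.cons (nat_lit 1) (nat_lit 0x10101005044141005144011040104411)
 (Net.cons (nat_lit 2) (nat_lit 0x2220000020020020000202)
 (Net.cons (nat_lit 4) (nat_lit 0x20202020c020c00040808080800000c)
 (Net.cons (nat_lit 8) (nat_lit 0x22002000a8008400b800300022)
 (Net.cons (nat_lit 16) (nat_lit 0xc27800000930000029120000b9e8)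
 (Net.cons (nat_lit 32) (nat_lit 0x382afab8000000000f239584)
 (Net.cons (nat_lit 64) (nat_lit 0x22b4af6c91f72ae)
 Net.nil)))))))))))))

noncomputable def ns_25 : Net :=
 (Net.cons (nat_lit 64) (nat_lit 0xee589f735b937749)
 (Net.cons (nat_lit 32) (nat_lit 0xea1ea492000000005922319c)
 (Net.cons (nat_lit 16) (nat_lit 0xc23000001d3c0000291f0000a461)
 (Net.cons (nat_lit 8) (nat_lit 0x72004000e50049000700dc00d90068)
 (Net.cons (nat_lit 4) (nat_lit 0xa02080f010a020104000809060a0006)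
 (Net.cons (nat_lit 2) (nat_lit 0x32023002230301120122031010022001)
 (Net.cons (nat_lit 1) (nat_lit 0x10044541414414101111014004110401)
 (Net.cons (nat_lit 2) (nat_lit 0x20022220220000002020002000002)
 (Net.cons (nat_lit 4) (nat_lit 0x2000006000a02020000080800080c0a)
 (Net.cons (nat_lit 8) (nat_lit 0x5c00880008000a000600dc00580028)
 (Net.cons (nat_lit 16) (nat_lit 0x4c6c000011240000689e0000a4c0)
 (Net.cons (nat_lit 32) (nat_lit 0xc4062edc0000000059853190)
 (Net.cons (nat_lit 64) (nat_lit 0xee589f78ef999b78)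
 Net.nil)))))))))))))

noncomputable def ns_26 : Net :=
 (Net.cons (nat_lit 64) (nat_lit 0xc001a72898425f35)
 (Net.cons (nat_lit 32) (nat_lit 0x405352260000000033060c9d)
 (Net.cons (nat_lit 16) (nat_lit 0x844000003d7f00003cea000073dd)
 (Net.cons (nat_lit 8) (nat_lit 0xc40024001800a6004c001800bb0074)
 (Net.cons (nat_lit 4) (nat_lit 0x209060b0600020d0c000208020e00)
 (Net.cons (nat_lit 2) (nat_lit 0x302303030320013012202010211100)
 (Net.cons (nat_lit 1) (nat_lit 0x404404444510041040445115404100)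
 (Net.cons (nat_lit 2) (nat_lit 0x2002222000022000200200002000)
 (Net.cons (nat_lit 4) (nat_lit 0x6080400040000080c000c0c0a0000)
 (Net.cons (nat_lit 8) (nat_lit 0xc40024001a008e00580050005400e4)
 (Net.cons (nat_lit 16) (nat_lit 0x844000009f5600003cee0000f3b0)
 (Net.cons (nat_lit 32) (nat_lit 0x4053720c000000003bc65490)
 (Net.cons (nat_lit 64) (nat_lit 0xc001a72b0a07d7b4)
 Net.nil)))))))))))))

noncomputable def ns_27 : Net :=
 (Net.cons (nat_lit 64) (nat_lit 0xedb4eda0e7aba228)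
 (Net.cons (nat_lit 32) (nat_lit 0xa98ad69000000007e220222)
 (Net.cons (nat_lit 16) (nat_lit 0x8c080000246700000c4000008ac1)
 (Net.cons (nat_lit 8) (nat_lit 0xb800c9008b0060003200140002007f)
 (Net.cons (nat_lit 4) (nat_lit 0x60c08040f020a000201000508040205)
 (Net.cons (nat_lit 2) (nat_lit 0x11202301232003010020022002321213)
 (Net.cons (nat_lit 1) (nat_lit 0x15404140401554410041044401141114)
 (Net.cons (nat_lit 2) (nat_lit 0x20002220202002020020022000200202)
 (Net.cons (nat_lit 4) (nat_lit 0xc0c0c0a0c0a00060000000008040606)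
 (Net.cons (nat_lit 8) (nat_lit 0x100044008a002e0072001c001a006a)
 (Net.cons (nat_lit 16) (nat_lit 0xc4280000694000000c0000008948)
 (Net.cons (nat_lit 32) (nat_lit 0x6eac4164000000007c63006a)
 (Net.cons (nat_lit 64) (nat_lit 0xedb4eda1ccc3b120)
 Net.nil)))))))))))))

noncomputable def ns_28 : Net :=
 (Net.cons (nat_lit 64) (nat_lit 0x43a63843fe9fa620)
 (Net.cons (nat_lit 32) (nat_lit 0x195f188900000000aa1188a6)
 (Net.cons (nat_lit 16) (nat_lit 0x68290000f2e000001c5800006383)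
 (Net.cons (nat_lit 8) (nat_lit 0xc8004800a00086000a005b00300051)
 (Net.cons (nat_lit 4) (nat_lit 0x6000a060c080c08000d060d08010b)
 (Net.cons (nat_lit 2) (nat_lit 0x10121003132201022000030303001101)
 (Net.cons (nat_lit 1) (nat_lit 0x40110041144005410401014455144040)
 (Net.cons (nat_lit 2) (nat_lit 0x20020000022000200002020200000020)
 (Net.cons (nat_lit 4) (nat_lit 0x2060008060c0a06080000040402000a)
 (Net.cons (nat_lit 8) (nat_lit 0xc0004000c20028000a00c2004c0010)
 (Net.cons (nat_lit 16) (nat_lit 0x60200000f4c40000984800006312)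
 (Net.cons (nat_lit 32) (nat_lit 0x195b0080000000003e104b0a)
 (Net.cons (nat_lit 64) (nat_lit 0x43a6384c7a217908)
 Net.nil)))))))))))))

noncomputable def ns_29 : Net :=
 (Net.cons (nat_lit 64) (nat_lit 0xb268e79ad779dafc)
 (Net.cons (nat_lit 32) (nat_lit 0x81ab26e40000000032d3e6c8)
 (Net.cons (nat_lit 16) (nat_lit 0x97710000d810000034f500004998)
 (Net.cons (nat_lit 8) (nat_lit 0x80004e0048009b001f00d8002f0058)
 (Net.cons (nat_lit 4) (nat_lit 0xe0f040c08090d020804060c00000c)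
 (Net.cons (nat_lit 2) (nat_lit 0x21031202001031122203121122031031)
 (Net.cons (nat_lit 1) (nat_lit 0x1151104441041004451501441010044)
 (Net.cons (nat_lit 2) (nat_lit 0x2002002022002202002020020000)
 (Net.cons (nat_lit 4) (nat_lit 0x20c0804000800040004000e0c000000)
 (Net.cons (nat_lit 8) (nat_lit 0xa2000e000000140018000000260048)
 (Net.cons (nat_lit 16) (nat_lit 0x95f80000b4040000047200004198)
 (Net.cons (nat_lit 32) (nat_lit 0x11e304e4000000007ed5e6c0)
 (Net.cons (nat_lit 64) (nat_lit 0xb268e798ed607fdc)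
 Net.nil)))))))))))))

noncomputable def ns_30 : Net :=
 (Net.cons (nat_lit 64) (nat_lit 0x1174f2547fc8a140)
 (Net.cons (nat_lit 32) (nat_lit 0x2b5a4a92000000000afb7c20)
 (Net.cons (nat_lit 16) (nat_lit 0xc1ae0000c16a0000164b00004480)
 (Net.cons (nat_lit 8) (nat_lit 0x3a004900ae0047005000c300b60055)
 (Net.cons (nat_lit 4) (nat_lit 0xc0e0b02060404010804000408030f04)
 (Net.cons (nat_lit 2) (nat_lit 0x22123001220011112021032300211301)
 (Net.cons (nat_lit 1) (nat_lit 0x14145001154000111011444104005140)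
 (Net.cons (nat_lit 2) (nat_lit 0x20200002200000000020222200000220)
 (Net.cons (nat_lit 4) (nat_lit 0x4040802040000000006000000000208)
 (Net.cons (nat_lit 8) (nat_lit 0x60004000fe006200c0008400b6001c)
 (Net.cons (nat_lit 16) (nat_lit 0xc1a00000804a0000526800004480)
 (Net.cons (nat_lit 32) (nat_lit 0x2b1a5a94000000004afb7c00)
 (Net.cons (nat_lit 64) (nat_lit 0x1174f2503bea0160)
 Net.nil)))))))))))))

noncomputable def ns_31 : Net :=
 (Net.cons (nat_lit 64) (nat_lit 0xdb3ed80c5458dc19)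
 (Net.cons (nat_lit 32) (nat_lit 0xb14b026500000000546caff7)
 (Net.cons (nat_lit 16) (nat_lit 0x2a57000050280000086d0000f478)
 (Net.cons (nat_lit 8) (nat_lit 0x1a00d4008c001a00a00065000b0060)
 (Net.cons (nat_lit 4) (nat_lit 0x80d080605060b0802040e0a0d050407)
 (Net.cons (nat_lit 2) (nat_lit 0x2211221133010003201030110230010)
 (Net.cons (nat_lit 1) (nat_lit 0x1114401041000141004010110054041)
 (Net.cons (nat_lit 2) (nat_lit 0x2200200000000002000000220000000)
 (Net.cons (nat_lit 4) (nat_lit 0x80a0c0c0006040806000e0a08040004)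
 (Net.cons (nat_lit 8) (nat_lit 0x5200ae0090001a00a800c4001200e2)
 (Net.cons (nat_lit 16) (nat_lit 0x3a1c0000d420000008200000d468)
 (Net.cons (nat_lit 32) (nat_lit 0xb14b426400000000542cafba)
 (Net.cons (nat_lit 64) (nat_lit 0xdb3ed80c74785938)
 Net.nil)))))))))))))

noncomputable def ns_32 : Net :=
 (Net.cons (nat_lit 64) (nat_lit 0xb73abe50d872e10)
 (Net.cons (nat_lit 32) (nat_lit 0x67f515cc00000000c9d77fec)
 (Net.cons (nat_lit 16) (nat_lit 0x6d10000042fa0000e1cd00009600)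
 (Net.cons (nat_lit 8) (nat_lit 0xe10068007900480001005700400006)
 (Net.cons (nat_lit 4) (nat_lit 0x206040609020c0700060c0a04040000)
 (Net.cons (nat_lit 2) (nat_lit 0x3202210121223202103310320200003)
 (Net.cons (nat_lit 1) (nat_lit 0x44414101111101414011440440440001)
 (Net.cons (nat_lit 2) (nat_lit 0x22200200002200202022020000200000)
 (Net.cons (nat_lit 4) (nat_lit 0x8040402080206060402040e04040000)
 (Net.cons (nat_lit 8) (nat_lit 0xc4001400a00048005800bc00c00006)
 (Net.cons (nat_lit 16) (nat_lit 0x43100000c2d20000ad5400008600)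
 (Net.cons (nat_lit 32) (nat_lit 0x6ee494a400000000c9d73fec)
 (Net.cons (nat_lit 64) (nat_lit 0xb73abe58ce70a70)
 Net.nil)))))))))))))

noncomputable def ns_33 : Net :=
 (Net.cons (nat_lit 64) (nat_lit 0x42913e6eb9dc8d50)
 (Net.cons (nat_lit 32) (nat_lit 0xe89502ec00000000cd4ae462)
 (Net.cons (nat_lit 16) (nat_lit 0x82040000a4e40000141e0000dcda)
 (Net.cons (nat_lit 8) (nat_lit 0x40002600de00fe000000f8009e005e)
 (Net.cons (nat_lit 4) (nat_lit 0x508080b0c010004080c0d04090c01)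
 (Net.cons (nat_lit 2) (nat_lit 0x2012201221200010020233323222222)
 (Net.cons (nat_lit 1) (nat_lit 0x401404141141000050414044111414)
 (Net.cons (nat_lit 2) (nat_lit 0x2002220020000000022002022220)
 (Net.cons (nat_lit 4) (nat_lit 0x8000c0808040008000802080008)
 (Net.cons (nat_lit 8) (nat_lit 0x40008000ba00fe00400018009e0048)
 (Net.cons (nat_lit 16) (nat_lit 0xa2000000a484000014520000445a)
 (Net.cons (nat_lit 32) (nat_lit 0xa89510a800000000c968e4e2)
 (Net.cons (nat_lit 64) (nat_lit 0x42913e66f9eb8990)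
 Net.nil)))))))))))))

noncomputable def ns_34 : Net :=
 (Net.cons (nat_lit 64) (nat_lit 0xaf7f3ff88552955e)
 (Net.cons (nat_lit 32) (nat_lit 0xa0fc2f170000000026561ffe)
 (Net.cons (nat_lit 16) (nat_lit 0x2439000040c30000abc400007980)
 (Net.cons (nat_lit 8) (nat_lit 0x7300ea0028005a0080008a00680083)
 (Net.cons (nat_lit 4) (nat_lit 0x10606030d00010a09020a0708060f00)
 (Net.cons (nat_lit 2) (nat_lit 0x33203101130011210120000120030000)
 (Net.cons (nat_lit 1) (nat_lit 0x5411504054514514150140000041404)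
 (Net.cons (nat_lit 2) (nat_lit 0x202000000020000200200000022000)
 (Net.cons (nat_lit 4) (nat_lit 0x4040000000a080406040008060e00)
 (Net.cons (nat_lit 8) (nat_lit 0xd800cc00120056001000cc00480002)
 (Net.cons (nat_lit 16) (nat_lit 0x4d4000039e00000fd1000003980)
 (Net.cons (nat_lit 32) (nat_lit 0xab4096c0000000066561ffc)
 (Net.cons (nat_lit 64) (nat_lit 0xaf7f3ff6ae92b640)
 Net.nil)))))))))))))

noncomputable def ns : List Net := [ModelHS.ns_0, ModelHS.ns_1, ns_2, ns_3, ns_4, ns_5, ns_6, ns_7, ns_8, ns_9, ns_10, ns_11, ns_12, ns_13, ns_14, ns_15, ns_16, ns_17, ns_18, ns_19, ns_20, ns_21, ns_22, ns_23, ns_24, ns_25, ns_26, ns_27, ns_28, ns_29, ns_30, ns_31, ns_32, ns_33, ns_34]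

theorem ctx : Ctx 128 7 ns := ctx_of (by decide +kernel)

theorem lctx : LCtx 128 7 8 127 trN7 ns := lctx_of ctx trOK7 (by decide +kernel)

noncomputable def E : List ℕ → ℕ → ℕ := pfW0 128 7 8 127 trN7 ns

theorem hE : Evl 128 ns E := evl_pfW0 lctx

theorem geq : gen ModelHS.ns ModelHS.G_ss0 = gen ns [[0], [2]] :=
  gen_eq_of_take (ns := ModelHS.ns) (ns' := ns) (k := 2) rfl (ws := ModelHS.G_ss0) (by decide +kernel)

theorem hn : Nat.card (gen ns [[0], [2]]) = 44352000 :=
  geq ▸ ModelHS.G_card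

theorem kn_0 : Known ns (gen ns [[0], [2]]) 3 :=
  known_gen (by decide +kernel)

noncomputable def A_S5 : List SD :=
  []

noncomputable def A_d4 : SD :=
  ⟨76, 1, [32, 34, 36], lab 3 7 (nat_lit 0x800000000000000000000000000000000020000000000000400000000000000000504000000), 3⟩

noncomputable def A_S4 : List SD :=
  A_d4 :: A_S5

noncomputable def A_d3 : SD :=
  ⟨52, 2, [26, 28, 30, 32, 34, 36], lab 4 15 (nat_lit 0x4000000050000000000000000200000000000200000003000000a1000005000000000000000000030000), 2⟩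

noncomputable def A_S3 : List SD :=
  A_d3 :: A_S4

noncomputable def A_d2 : SD :=
  ⟨37, 2, [18, 20, 22, 24, 26, 28, 30, 32, 34, 36], lab 5 31 (nat_lit 0x2412a520c029400580403018001d68208000002d0024003804020e000142002402a807000000140448d801a4000002d0310a600001b402680830212408040), 3⟩

noncomputable def A_S2 : List SD :=
  A_d2 :: A_S3

noncomputable def A_d1 : SD :=
  ⟨89, 1, [10, 12, 14, 16, 18, 20, 22, 24, 26, 28, 30, 32, 34, 36], lab 5 31 (nat_lit 0x5cc401c20063004c024010145062272d00002028245c00380368000003490018089867000020480b4c187690a65c663651861000a0b5350d1ed2164241f40), 3⟩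

noncomputable def A_S1 : List SD :=
  A_d1 :: A_S2

noncomputable def A_d0 : SD :=
  ⟨43, 1, [0, 2, 6, 8, 10, 12, 14, 16, 18, 20, 22, 24, 26, 28, 30, 32, 34, 36], lab 6 63 (nat_lit 0x14328f31404a09509b1461ce2c166044189144c68b2080c53063443d830b69810e64059308738819c24300920230c48955640f11e34e1461c63854450107880081c74ce6d23d72cc5c9689), 3⟩

noncomputable def A_S0 : List SD :=
  A_d0 :: A_S1

theorem kn_1 : Known ns (gen ns [[0], [2]]) 2097151 :=
  kn_0.steps ctx (es := [(2, [3, 1, 1]),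
 (3, [0, 3, 0, 2]),
 (4, [1, 3, 0, 0]),
 (5, [7, 8, 3, 0, 3, 6]),
 (6, [9, 1, 6, 8, 1, 7, 1, 2]),
 (7, [10, 12, 12, 10]),
 (8, [11, 13, 13, 11, 12]),
 (9, [11, 15, 13, 15, 12, 14, 10, 16, 11, 11, 17]),
 (10, [11, 17, 11, 12, 12, 10, 12, 14]),
 (11, [20, 20, 18, 21, 18, 21]),
 (12, [19, 20]),
 (13, [18, 20, 23, 18, 22, 20, 23, 18, 24, 24, 21]),
 (14, [22, 22, 24, 20, 23, 21, 23, 21, 24, 23, 23]),
 (15, [29, 29, 27]),
 (16, [29, 27, 30, 28, 30, 27]),
 (17, [26, 30]),
 (18, [27, 31, 31, 28, 27]),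
 (19, [19, 10, 23, 29, 34]),
 (20, [10, 6, 18, 12, 10, 31, 18, 36, 26, 32])]) (by decide +kernel)

theorem A_ex : Exact 128 ns A_S0 ∧ gen ns (sTop A_S0) = gen ns [[0], [2]] ∧ gen ns [[0], [2]] = gen ns [[0], [2]] :=
  exact_of_known ctx hn (le_rfl) kn_1 (by decide +kernel)

theorem km_0 : Known ns (gen ns [[4], [38], [40]]) 1572868 :=
  known_gen (by decide +kernel)

noncomputable def B_S5 : List SD :=
  []

noncomputable def B_d4 : SD :=
  ⟨35, 2, [66], lab 1 1 (nat_lit 0x80000000000000), 1⟩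

noncomputable def B_S4 : List SD :=
  B_d4 :: B_S5

noncomputable def B_d3 : SD :=
  ⟨3, 2, [60, 62, 64, 66], lab 3 7 (nat_lit 0x41430980070050800a0010005000000218007c18120100e20028a20000000400000140000), 3⟩

noncomputable def B_S3 : List SD :=
  B_d3 :: B_S4

noncomputable def B_d2 : SD :=
  ⟨11, 1, [52, 54, 56, 58, 60, 62, 64, 66], lab 4 15 (nat_lit 0xf09590950020620030d016ab05e201e0d04000073c0750001b0c406c00ba03674a0d300423d001078023000000260b008), 3⟩

noncomputable def B_S2 : List SD :=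
  B_d2 :: B_S3

noncomputable def B_d1 : SD :=
  ⟨68, 1, [44, 46, 48, 50, 52, 54, 56, 58, 60, 62, 64, 66], lab 5 31 (nat_lit 0x100122316a0034022800101927ac2e0020c0448b14040000264359c11001348e4e52c052ace06aa6b50d24b00aeb1000a00747982b5888401d3179805), 3⟩

noncomputable def B_S1 : List SD :=
  B_d1 :: B_S2

noncomputable def B_d0 : SD :=
  ⟨1, 1, [4, 38, 40, 42, 44, 46, 48, 50, 52, 54, 56, 58, 60, 62, 64, 66], lab 5 31 (nat_lit 0x38b7f699f874ea17ec2a720a8569d632188279e26a5aa5d0f192b0439ee47101162ee581109404b00abda2b787802888252bb3a0f8266e001846018510008), 3⟩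

noncomputable def B_S0 : List SD :=
  B_d0 :: B_S1

theorem km_1 : Known ns (gen ns [[4], [38], [40]]) 17179344900 :=
  km_0.steps ctx (es := [(21, [40, 4, 41, 4, 4]),
 (22, [5, 43, 38, 38, 43, 39, 43, 5, 40]),
 (23, [41, 43, 40, 40, 4]),
 (24, [47, 44, 44, 47, 44]),
 (25, [44, 46, 46, 45, 45]),
 (26, [45, 46, 51, 49, 50, 44, 44, 50, 46]),
 (27, [44, 48, 47, 45, 46, 49, 47, 47, 44]),
 (28, [54, 53, 53, 53, 54]),
 (29, [54, 52, 55, 55, 55]),
 (30, [57, 58, 53, 57, 52]),
 (31, [59, 52, 55, 53, 57, 52, 55]),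
 (32, [61, 63]),
 (33, [65, 65, 62, 64, 62, 65])]) (by decide +kernel)

theorem B_ex : Exact 128 ns B_S0 ∧ gen ns (sTop B_S0) = gen ns [[0], [2]] ∧ gen ns [[4], [38], [40]] = gen ns [[0], [2]] :=
  exact_of_known ctx hn (kn_1.gen_le (by decide +kernel)) km_1 (by decide +kernel)

theorem kG_0 : Known ns (gen ns [[0], [2]]) 17179869183 :=
  kn_1.lor (km_1.mono B_ex.2.2.le)

noncomputable def CA_as : List (List ℕ × List ℕ) :=
  [([4], [4])]

noncomputable def CA_cs : List (List ℕ) :=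
  [[]]

noncomputable def CA_pl : List Pl :=
  [⟨.lst 0, []⟩, ⟨.forced 0 0, []⟩, ⟨.forced 0 0, []⟩, ⟨.forced 0 0, []⟩, ⟨.forced 0 0, []⟩]

noncomputable def CA_M0 : ℕ :=
  nat_lit 0x44800000c008000a400000

theorem CA_b0 : Br 128 ns (derAs CA_as [[0]]) (derSs 128 7 ns CA_as [[0]]) (gen ns (sTop A_S0)) A_d0.p CA_M0 (InCs ns A_S0 CA_cs) :=
  br_of_brB ctx hE A_ex.1 (pl := CA_pl) (bs := []) (tps := [25]) (by decide +kernel)

theorem CA : SolList ns (gen ns [[0], [2]]) CA_as [[4]] CA_cs :=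
  solList_of_br ctx A_ex.1 A_ex.2.1 kG_0 CA_b0 (cons := []) (r := 10) (by decide +kernel)

noncomputable def XB_as : List (List ℕ × List ℕ) :=
  [(powW [38] 1, powW [38] 1)]

noncomputable def XB_cs : List (List ℕ) :=
  [[], [41], [40], [42, 4, 50, 50, 56, 65, 52, 63, 61, 67], [57, 4, 55, 51, 65, 52, 64, 67, 60, 67]]

noncomputable def XB_pl : List Pl :=
  [⟨.lst 0, []⟩, ⟨.forced 0 0, []⟩, ⟨.forced 0 0, []⟩, ⟨.forced 0 0, []⟩, ⟨.forced 0 0, []⟩]

noncomputable def XB_M0 : ℕ :=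
  nat_lit 0x421808080400c680c8400062

theorem XB_b0 : Br 128 ns (derAs XB_as [[0]]) (derSs 128 7 ns XB_as [[0]]) (gen ns (sTop B_S0)) B_d0.p XB_M0 (InCs ns B_S0 XB_cs) :=
  br_of_brB ctx hE B_ex.1 (pl := XB_pl) (bs := []) (tps := []) (by decide +kernel)

theorem XB : SolList ns (gen ns [[0], [2]]) XB_as [[38]] XB_cs :=
  solList_of_br ctx B_ex.1 B_ex.2.1 kG_0 XB_b0 (cons := []) (r := 4) (by decide +kernel)

noncomputable def od : OD :=
  ⟨[4], [38], [40], 11, 3, 5, 1, 1, [1, 2], 43, [[4, 0, 4, 0, 4, 0, 4, 0, 4, 0, 4, 0, 4, 0, 4, 0], [0, 5, 5, 0, 5, 5, 0, 5, 5, 0, 5, 5, 0, 5, 5, 0, 5, 5], [0, 3, 4, 0, 3, 4, 0, 3, 4, 0, 3, 4, 0, 3, 4, 0, 3, 4, 0, 3, 4, 0, 3, 4]]⟩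

theorem od_chk : od.chk 128 7 ns 44352000 = true :=
  by decide +kernel

theorem od_kill : ∀ c ∈ XB_cs, od.kill 128 E [(1, od.c), (2, [38, 41])] [43, 44] c = true :=
  forall_mem_of_allL (by decide +kernel)

noncomputable def NI_as : List (List ℕ × List ℕ) :=
  [(od.a, powW od.a 2), (od.b, od.b)]

noncomputable def NI_cs : List (List ℕ) :=
  []

noncomputable def NI_pl : List Pl :=
  [⟨.lst 0, []⟩, ⟨.forced 0 0, []⟩, ⟨.forced 0 0, []⟩, ⟨.forced 0 0, []⟩, ⟨.forced 0 0, []⟩]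

noncomputable def NI_M0 : ℕ :=
  nat_lit 0x100000400080080000000000

theorem NI_b0 : Br 128 ns (derAs NI_as [[0], [2]]) (derSs 128 7 ns NI_as [[0], [2]]) (gen ns (sTop A_S0)) A_d0.p NI_M0 (InCs ns A_S0 NI_cs) :=
  br_of_brB ctx hE A_ex.1 (pl := NI_pl) (bs := []) (tps := [99]) (by decide +kernel)

theorem NI : SolList ns (gen ns [[0], [2]]) NI_as [] NI_cs :=
  solList_of_br ctx A_ex.1 A_ex.2.1 kG_0 NI_b0 (cons := []) (r := 0) (by decide +kernel)

theorem ninn : ∀ x ∈ gen ns [[0], [2]], ¬ ∀ e ∈ NI_as, x * wp ns e.1 = wp ns e.2 * x :=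
  NI.none

theorem out_of : ∀ ψ : MulAut (gen ns [[0], [2]]), ActsOn ns ψ [(od.a, powW od.a 2), (od.b, od.b), (od.c, [38, 41])] → Nat.card (Cfsg.Out (gen ns [[0], [2]])) = 2 :=
  fun _ hψ => OD.out_two (o := od) ctx hE hn (by norm_num [od]) B_ex.2.2.symm od_chk CA.cent XB.one od_kill hψ
    (hψ.not_inn (es' := NI_as) (by simp [NI_as])
      (fun e he => kG_0.word (forall_mem_of_allL (p := fun e => inK 17179869183 e.1) (by decide +kernel) e he)) ninn)

theorem out : Nat.card (Cfsg.Out (gen ns [[0], [2]])) = 2 :=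
  (exists_actsOn_conj ctx (π := [68]) (es := [(od.a, powW od.a 2), (od.b, od.b), (od.c, [38, 41])]) B_ex.2.2.symm
    (fun e he => kG_0.word (forall_mem_of_allL (p := fun e => inK 17179869183 e.2) (by decide +kernel) e he))
    (by decide +kernel)).elim out_of

theorem out_card : Nat.card (Cfsg.Out Cfsg.Spor.HS) = 2 :=
  (card_out_eq (ModelHS.equiv.trans (MulEquiv.subgroupCongr geq))).trans out

end Cfsg.Agent.Spor.OutHS
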