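import Cfsg.Agent.Spor.OutONB0

set_option autoImplicit false
set_option Elab.async false
set_option maxRecDepth 8192

namespace Cfsg.Agent.Spor.OutON

open Cfsg.Agent.Comp

noncomputable def CA_Mx : ℕ :=
  seg CA_M 0 122760

theorem CA_br : BrP ns (gen ns1 ModelON.G_ss0) (derAs CA_as CA_vs) CA_pts 0 (CA_Mx) (InCs ns A_S CA_cs) :=
  CA_b0

theorem CA_cov : Nat.beq (Nat.land L0_0_D (grow ns [[16]] 30 CA_Mx)) L0_0_D = true :=
  by decide +kernel

theorem CA_pt : PtsOK ns (gen ns1 ModelON.G_ss0) CA_as CA_pts :=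
  ptsOK_nil _ _ _

theorem CA_sol : SolList ns (gen ns1 ModelON.G_ss0) [([25, 16, 24], [16])] [[16]] CA_cs :=
  solList_of_brP ctx.ok hQ A_ex kn CA_br CA_pt (rng_of_exact A_ex A_ds (by decide +kernel))
    (by decide +kernel) CA_cov

noncomputable def XB_Mx : ℕ :=
  Nat.lor (seg XB_M 0 35689) (seg XB_M 35689 87071)

theorem XB_br : BrP ns (gen ns1 ModelON.G_ss0) (derAs XB_as XB_vs) XB_pts 0 (XB_Mx) (InCs ns B_S XB_cs) :=
  (XB_b0.lor XB_b1)

theorem XB_cov : Nat.beq (Nat.land L0_0_D (grow ns [[18]] 14 XB_Mx)) L0_0_D = true :=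
  by decide +kernel

theorem XB_pt : PtsOK ns (gen ns1 ModelON.G_ss0) XB_as XB_pts :=
  ptsOK_nil _ _ _

theorem XB_sol : SolList ns (gen ns1 ModelON.G_ss0) [([27, 18, 26], [18])] [[18]] XB_cs :=
  solList_of_brP ctx.ok hQ B_ex kn XB_br XB_pt (rng_of_exact B_ex B_ds (by decide +kernel))
    (by decide +kernel) XB_cov

noncomputable def NI_Mx : ℕ :=
  seg NI_M 0 122760

theorem NI_br : BrP ns (gen ns1 ModelON.G_ss0) (derAs NI_as NI_vs) NI_pts 0 (NI_Mx) (InCs ns A_S NI_cs) :=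
  NI_b0

theorem NI_cov : Nat.beq (Nat.land L0_0_D (grow ns [[16]] 30 NI_Mx)) L0_0_D = true :=
  by decide +kernel

theorem NI_pt : PtsOK ns (gen ns1 ModelON.G_ss0) NI_as NI_pts :=
  ptsOK_nil _ _ _

theorem NI_sol : SolList ns (gen ns1 ModelON.G_ss0) [([25, 16, 24], [17])] [[16]] NI_cs :=
  solList_of_brP ctx.ok hQ A_ex kn NI_br NI_pt (rng_of_exact A_ex A_ds (by decide +kernel))
    (by decide +kernel) NI_cov

theorem CA2 : SolList ns (gen ns1 ModelON.G_ss0) [([22], [22])] [[22]] [[]] :=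
  CA_sol.conj hQ kn (g1 := [20, 24]) (g2 := [20]) (by decide +kernel)

noncomputable def cs0 : List (List ℕ) :=
  [[42], [18], [28]]

noncomputable def cs : List (List ℕ) :=
  cs0

theorem XB2 : SolList ns (gen ns1 ModelON.G_ss0) [(powW [18] 1, powW [18] 1)] [[18]] cs :=
  XB_sol.conj hQ kn (g1 := [26]) (g2 := []) (by decide +kernel)

theorem km_0 : Known ns (gen ns [[22], [18], [28]]) 18944 :=
  known_gen (by decide +kernel)

theorem km_1 : Known ns (gen ns [[22], [18], [28]]) 2083583 :=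
  km_0.stepsQ hQ (es := [(15, [23, 23, 18, 23, 18, 22, 18, 18, 23, 18, 22]),
 (16, [18, 18, 29, 23, 18, 22, 29, 19, 23, 29, 22]),
 (17, [23, 19, 22, 29, 22, 19, 23, 23, 23, 29, 19]),
 (18, [30, 33, 30, 33, 31, 33, 35, 30, 32]),
 (19, [35, 31, 33, 35, 33, 30, 32, 35, 32]),
 (20, [35, 30, 33, 34, 30, 35, 30, 34, 31]),
 (2, [41, 37]),
 (3, [38, 4, 39]),
 (4, [37, 40, 36, 6]),
 (5, [38, 8, 4, 6, 4]),
 (7, [38, 36, 36, 10, 8]),
 (6, [31, 14]),
 (0, [22, 10, 28, 10, 22, 22, 12, 14, 6, 8, 10, 12, 8, 10, 6, 8, 10, 12, 4, 6, 8, 10, 4, 6, 8, 10, 12, 8, 10, 4, 6, 8, 10, 8, 4, 6, 4]),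
 (1, [1])]) (by decide +kernel)

theorem hle : gen ns1 ModelON.G_ss0 ≤ gen ns1 ModelON.G_ss0 :=
  le_rfl

theorem hG : gen ns1 ModelON.G_ss0 = gen ns [[22], [18], [28]] :=
  le_antisymm (gen_le_of_Q hQ km_1 (us := [[0], [2], [4], [6], [8], [10], [12], [14]]) (by decide +kernel))
    (kn.gen_le (by decide +kernel))

theorem hC : ∀ x ∈ gen ns1 ModelON.G_ss0, x * wp ns [22] = wp ns [22] * x → x ∈ gen ns [[22]] :=
  CA2.cent

noncomputable def od : OD :=
  ⟨[22], [18], [28], 31, 7, 15, 1, 1, [1, 3], 0, [[4, 4, 4], [4, 0, 5, 1, 4, 0, 5, 1, 4, 0, 5, 1], [0, 5, 0, 5, 0, 5, 0, 5, 0, 5, 0, 5, 0, 5, 0, 5, 0, 5, 0, 5, 0, 5, 0, 5, 0, 5, 0, 5]]⟩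

theorem od_chk : od.chkQ 131072 E Q 460815505920 = true :=
  by decide +kernel

theorem kill0 : ∀ c ∈ cs0, od.kill 131072 E [(1, od.c), (3, [18, 18, 18, 18, 42])] [80672] c = true :=
  forall_mem_of_allL (by decide +kernel)

theorem od_kill : ∀ c ∈ cs, od.kill 131072 E [(1, od.c), (3, [18, 18, 18, 18, 42])] [80672] c = true :=
  kill0

theorem NI2 : SolList ns (gen ns1 ModelON.G_ss0) [(od.a, powW od.a 3)] [invW (powW od.a 3)] [] :=
  NI_sol.conj hQ kn (g1 := [20, 24]) (g2 := [18, 18, 18, 18, 18, 18, 18, 20]) (by decide +kernel)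

theorem ninn : ∀ x ∈ gen ns1 ModelON.G_ss0, ¬ ∀ e ∈ [(od.a, powW od.a 3)], x * wp ns e.1 = wp ns e.2 * x :=
  NI2.none

noncomputable def Ws : List (List ℕ) :=
  [[44], [46], [48], [50], [52], [54], [56], [58]]

theorem sat : satQ Q ONC.P Ws = true :=
  by decide +kernel

theorem he : ∀ k < ModelON.G_ss0.length, ((ModelON.equiv.trans (MulEquiv.subgroupCongr geq.symm)) (ONC.x k)).1 =
    wp ns (getL [] ModelON.G_ss0 k) :=
  fun k hk => by
    have h1 : getL [] ModelON.G_ss0 k = [2 * k] := by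
      change k < 8 at hk
      interval_cases k <;> rfl
    change k < 8 at hk
    have e1 : wp ns [2 * k] = wp ns1 [2 * k] := wp_vns_single vs (by change _ < 2 * 8; omega)
    have e2 : wp ns1 [2 * k] = wp ModelON.ns [2 * k] :=
      wp_vns_single vs1 (by change _ < 2 * 8; omega)
    rw [h1, e1, e2]
    exact equivOfPModel_gen ONC.M.model rfl rfl k

theorem psi : ∃ ψ : MulAut (gen ns1 ModelON.G_ss0), ActsOn ns ψ [(od.a, powW od.a 3), (od.b, od.b), (od.c, [18, 18, 18, 18, 42])] :=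
  haveI := ONC.M.simple
  haveI := ONC.M.model.fin
  exists_actsOn_pres ctx.ok hE hQ ONC.link.1 _ he (kn.words (by decide +kernel)) sat (p := 0)
    (vs := [[8, 1, 6, 8, 10, 8, 1, 12, 0, 10, 6, 8, 0, 6, 0, 12, 10, 4, 6, 8, 10, 6, 8, 10, 12, 10, 8, 10, 4, 6, 8, 10, 12, 14, 8, 10, 4, 6, 8, 10, 6, 8], [6, 12, 1, 8, 1], [0, 12, 0, 12, 14, 4]]) (by decide +kernel)

theorem out : Nat.card (Cfsg.Out (gen ns1 ModelON.G_ss0)) = 2 :=
  psi.elim fun _ hψ => OD.out_twoQ (o := od) ctx hE hQ hn (by norm_num [od]) hG od_chk hC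
    (XB2.mono hle).one od_kill hψ (hψ.not_inn (es' := [(od.a, powW od.a 3)]) (fun _ h => List.mem_singleton.1 h ▸ List.mem_cons_self)
      (fun e he => kn.word (forall_mem_of_allL (p := fun e => inK 1073741823 e.1) (by decide +kernel) e he)) ninn)

theorem out_card : Nat.card (Cfsg.Out Cfsg.Spor.ON) = 2 :=
  (card_out_eq (ModelON.equiv.trans (MulEquiv.subgroupCongr geq.symm))).trans out

end Cfsg.Agent.Spor.OutON
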