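import Mathlib

/-! A matrix representation on a quotient of a module with invariant kernel. -/

set_option autoImplicit false

namespace Cfsg.Agent.Spor

theorem exists_GL_of_surj {G M : Type*} [Group G] [AddCommGroup M] [DistribMulAction G M] {n p : ℕ}
    (ψ : M →+ (Fin n → ZMod p)) (hs : Function.Surjective ψ)
    (hk : ∀ (g : G) x, ψ x = 0 → ψ (g • x) = 0) :
    ∃ f : G →* GL (Fin n) (ZMod p), ∀ g x,
      Matrix.mulVec (f g : Matrix (Fin n) (Fin n) (ZMod p)) (ψ x) = ψ (g • x) := by
  let T : G → (Fin n → ZMod p) → (Fin n → ZMod p) := fun g v => ψ (g • Function.surjInv hs v)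
  have hT : ∀ g x, T g (ψ x) = ψ (g • x) := fun g x => by
    rw [← sub_eq_zero, ← map_sub, ← smul_sub]
    exact hk _ _ (by rw [map_sub, Function.surjInv_eq hs, sub_self])
  let A : G → (Fin n → ZMod p) →+ (Fin n → ZMod p) := fun g => AddMonoidHom.mk' (T g) fun v w => by
    obtain ⟨x, rfl⟩ := hs v; obtain ⟨y, rfl⟩ := hs w
    rw [← map_add, hT, hT, hT, smul_add, map_add]
  let L : G →* Module.End (ZMod p) (Fin n → ZMod p) :=
    { toFun := fun g => (A g).toZModLinearMap p
      map_one' := LinearMap.ext fun v => by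
        obtain ⟨x, rfl⟩ := hs v
        exact (hT 1 x).trans (by rw [one_smul]; rfl)
      map_mul' := fun g h => LinearMap.ext fun v => by
        obtain ⟨x, rfl⟩ := hs v
        change T (g * h) _ = T g (T h _)
        rw [hT h x, hT, hT, mul_smul] }
  refine ⟨Matrix.GeneralLinearGroup.toLin.symm.toMonoidHom.comp L.toHomUnits, fun g x => ?_⟩
  rw [← hT]
  change Matrix.mulVec (LinearMap.toMatrix' (L g)) _ = L g _
  rw [← Matrix.toLin'_apply, Matrix.toLin'_toMatrix']

end Cfsg.Agent.Spor
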