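import Cfsg.Agent.Comp.MatCov2
import Cfsg.Agent.Spor.ModelSuz

/-! The sixfold cover of the Suzuki group in `GL(12, 7)`. -/

set_option autoImplicit false
set_option Elab.async false
set_option maxRecDepth 100000

namespace Cfsg.Agent.Spor.CovSuz

open Cfsg.Agent.Comp.BN Cfsg.Agent.Comp.MB

def q : Par := ⟨7, 9, 12, 3, 19, 7, 3, 8⟩

theorem q_ok : q.ok = true :=
  by decide +kernel

noncomputable def m0 : ℕ := nat_lit 0xb1838c44a919782b5e89c34962d72c58e8b5448a9cc32acb47574c25e35e72e01015579049d5a238570dc8cda6582093a56d0b925141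

noncomputable def m1 : ℕ := nat_lit 0x99acb00aa2d82cd294b48561220b56561220b7354d160b505212202ad0128d9c76cf019e471645d08a66862498185d64854b50561226

noncomputable def m2 : ℕ := nat_lit 0x8062c4bb394468e9222b2080189043c413ab8748182e8cd38d6cc98b2a6489b1823b36542a9a13598150328a2c6f6b43c2a41583209a

noncomputable def m3 : ℕ := nat_lit 0x8a388604ed1056841e96305cb568720a0259676aec520d18a4420aad60c10f5000004800000002600465759743510104a6683388ac06

noncomputable def m4 : ℕ := nat_lit 0xa2541331edac731dac60c77149314dc84cf682d266ad19b65ac08172e53289555ad22525249885bad7b0476814d99cc2686a08335c15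

noncomputable def m5 : ℕ := nat_lit 0xf28c5b0ac736dd04a95b8594e38de1a004c55bb766e18e8d2074cc2a305a4506385a42b64a99da6cd142e63b264d4e3a1a54c3761a6

noncomputable def m6 : ℕ := nat_lit 0x4128f4494336a931b509b19eaccb8d2b1930c736dadb2850b2b66d00002000052911210a85a075654544b9b38d8e289810e551468090

noncomputable def m7 : ℕ := nat_lit 0x6000000000c00000000180000000030000000006000000000c00000000180000000030000000006000000000c0000000018000000003

noncomputable def m8 : ℕ := nat_lit 0xca88e23214acac1dab46a9a4a36ab22e345e320c6a619d6531eba292b9abab300818eac826e2d18c6aa66626d32c104dd0b6a5496184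

noncomputable def m10 : ℕ := nat_lit 0x20558176e2c1d1524c52c100152086a8255e2a9230598ba63a5b9232c68933614456eca151a6269700e0458619dad6c6a1c82322c134

noncomputable def m11 : ℕ := nat_lit 0xcf1cc216a59872060ad3114e91ad530f0b4d3528667b0588946a2b85a045054000006c0000000320077430d301798186972c11ceb402

noncomputable def m12 : ℕ := nat_lit 0x41aa2cce12538ce25383388eb6c0b2343309612d9952e649a531468d1acd76aaa52ddadadb6742452848b8962b266305941430cca22a

noncomputable def m13 : ℕ := nat_lit 0x1ac383654aaedb30942f62b298e3b51480918f66edd8a398a48cd1a1c44368308e2b481ec94373699a6158d56cc9398e6348d14ed14d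

noncomputable def m14 : ℕ := nat_lit 0x20955a24a89bc4d0de06d0ebd62ce685c49871db696d9508cb5b360000100002b40890a152911eb0a382ced8e65514680a338c330048

noncomputable def m15 : ℕ := nat_lit 0xa00000000140000000028000000005000000000a00000000140000000028000000005000000000a00000000140000000028000000005

noncomputable def Ls : List ℕ := [m0, m1, m2, m3, m4, m5, m6, m7, m8, m1, m10, m11, m12, m13, m14, m15]

noncomputable def L : ℕ → ℕ := q.lt Ls

noncomputable def R : ℕ → GL (Fin 12) (ZMod 7) := q.elt Ls

def Q : Pres := ⟨[8, 9, 10, 11, 12, 13, 14, 15, 0, 1, 2, 3, 4, 5, 6, 7], []⟩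

theorem lenR : Ls.length = Q.inv.length :=
  by decide +kernel

theorem invR : q.invC (q.lt Ls) Q = true :=
  by decide +kernel

theorem mdl : q.Mdl L R :=
  (Par.mdl_of_invC q_ok lenR invR).1

theorem ordz : orderOf (R 7) = 6 :=
  mdl.orderOf_word (by decide +kernel) (by decide +kernel)

theorem onto : KSG.Pc.MultOnto Cfsg.Spor.Suz (Multiplicative (ZMod 6)) :=
  haveI := SuzC.M.simple
  mdl.stem SuzC.link.1 (n := 7) rfl (zs := [[], [7], [7, 7], [7, 7, 7], [7, 7, 7, 7], [7, 7, 7, 7, 7]]) (by decide)
    (by decide +kernel) (by decide +kernel) (by decide +kernel) (i := 1) (j := 0) (by decide) (by decide +kernel)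
    (U := [0, 2, 1, 0]) (V := [1, 6, 0, 5]) (by decide) (o := 35)
    (mdl.comm_pow (Par.mdl_of_invC q_ok lenR invR).2.2 (by norm_num) (by decide +kernel)) ordz

end Cfsg.Agent.Spor.CovSuz
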