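import Cfsg.Agent.Spor.M24Enum

/-!
Orbits of the stabiliser of a sextet on octads, trios and sextets.
-/

set_option autoImplicit false
set_option maxRecDepth 100000

namespace Cfsg.Agent.Spor.M24C

open Cfsg Cfsg.Agent.Comp Cfsg.Agent.Spor
open scoped Pointwise
open Cfsg.Agent.Comp.T3

local notation "E" => T3.N T3.L T3.L T3.L

/-- A generator. -/
def gS0 : ℕ := 842949668416437340467095646724694639
/-- A generator. -/
def gS1 : ℕ := 295281721588997732107787583627086509
/-- A generator. -/
def gS2 : ℕ := 842949668416437340467095646724694639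
theorem okgS0 : okM gS0 = true := by decide +kernel
theorem memgS0 : mc gS0 ∈ MulAction.stabilizer M24 (famOf 6 sx0) :=
  mc_mem_stabilizer_fam okgS0 (by decide +kernel)
theorem okgS1 : okM gS1 = true := by decide +kernel
theorem memgS1 : mc gS1 ∈ MulAction.stabilizer M24 (famOf 6 sx0) :=
  mc_mem_stabilizer_fam okgS1 (by decide +kernel)
theorem okgS2 : okM gS2 = true := by decide +kernel
theorem memgS2 : mc gS2 ∈ MulAction.stabilizer M24 (famOf 6 sx0) :=
  mc_mem_stabilizer_fam okgS2 (by decide +kernel)
attribute [irreducible] gS0 gS1 gS2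

theorem orbS_octads0_0 : 15 ≤ (MulAction.orbit (MulAction.stabilizer M24 (famOf 6 sx0)) (setOf' 5279)).ncard :=
  set_orbit_ge _ okgS0 okgS1 okgS2 memgS0 memgS1 memgS2 (N (N (N L (N L (N E L L) L) L) (N (N (N L E L) L L) E L) L) (N (N E L L) E L) L) (x := 5279) (by norm_num) (hsh 0x0 1 233 16) 4 (by decide +kernel)

theorem orbS_octads0_1 : 360 ≤ (MulAction.orbit (MulAction.stabilizer M24 (famOf 6 sx0)) (setOf' 18147)).ncard :=
  set_orbit_ge _ okgS0 okgS1 okgS2 memgS0 memgS1 memgS2 (N (N (N (N (N (N L (N (N (N E L L) E L) L L) L) (N (N (N (N E E L) L L) (N L (N E E L) L) L) (N (N L (N L E L) L) (N (N L E L) E L) L) L) L) (N (N (N (N L E L) (N E L L) L) (N (N (N (N E L L) L L) (N E L L) L) (N (N L (N L E L) L) (N (N L E L) (N E L L) L) L) L) L) L L) L) (N (N (N (N L E L) (N (N (N L (N L E L) L) (N L (N E L L) L) L) (N (N L E L) (N (N E E L) L L) L) L) L) (N (N (N (N E E L) E L) L L) (N (N E (N L E L) L) (N (N L E L) L L) L) L) L) (N (N (N E (N E L L) L) L L) (N (N L (N (N E L L) (N L E L) L) L) (N (N E L L) (N L (N E E L) L) L)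 L) L) L) L) (N (N (N (N L (N (N (N E E L) (N (N E L L) L L) L) L L) L) (N (N E L L) (N (N (N L E L) L L) (N L E L) L) L) L) (N (N (N (N L E L) (N E L L) L) (N (N (N L E L) L L) (N E L L) L) L) (N (N L (N (N (N E L L) (N E L L) L) L L) L) (N (N E E L) L L) L) L) L) (N (N (N (N (N L (N L E L) L) (N L (N L E L) L) L) (N (N L (N L E L) L) L L) L) (N (N (N E (N (N E L L) L L) L) E L) (N (N (N L E L) L L) (N L (N L E L) L) L) L) L) (N (N (N (N (N E E L) L L) E L) (N (N (N L E L) E L) (N L (N (N E L L) L L) L) L) L) (N (N (N L (N E E L) L) (N (N E L L) E L) L) (N L (N L E L) L) L) L) L) L) L) (N (N (N (N (N (N L (N (N E L L) E L) L) (N (N (N L (N L E L) L) E L) (N L (N (N L E L) E L) L) L) L) (N (N L (N (N L E L) (N L E L) L) L) (N (N (N L E L) (N L E L) L) (N (N L E L) (N E L L) L) L) L) L) (N (N (N (N E L L) L L) E L) L L) L) (N (N (N (N E E L) (N (N L (N E L L) L) L L) L) (N (N L (N (N L (N E L L) L) L L) L) L L) L) (N (N L (N (N L E L) L L) L) E L) L) L) (N (N (N (N (N L (N (N E L L) L L) L) (N E (N (N L E L) L L) L) L) (N (N (N E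 L L) (N (N L E L) (N L E L) L) L) (N L (N E L L) L) L) L) (N (N E L L) (N (N L (N E L L) L) (N E (N (N L E L) L L) L) L) L) L) (N (N (N (N (N (N L (N L E L) L) L L) L L) (N (N E (N L E L) L) (N L (N (N E L L) L L) L) L) L) (N (N (N E L L) (N L E L) L) (N (N L E L) E L) L) L) (N (N L (N (N (N L (N L E L) L) (N L E L) L) (N L E L) L) L) (N (N L E L) (N E E L) L) L) L) L) L) L) (x := 18147) (by norm_num) (hsh 0x10006000d0000000200020000000000050025000100010000000000040000000a00000000000e000200000000000c00110002000600000001000000050007000a000a0000000000000007000800050002000000040002000000000001000a0005000200120000000000000001001500010004000100040000000100040001000400010000000100020007000000190004000c0002000200000005000000020008000000000016000000070001000500020002000200000049000a00020012000d0003000000020001000000010000000000000002000000000000000000030002000a000000010004000500040007000f000400010011000400000002 127 1959149 512) 9 (by decide +kernel)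

theorem orbS_octads0_2 : 384 ≤ (MulAction.orbit (MulAction.stabilizer M24 (famOf 6 sx0)) (setOf' 10558)).ncard :=
  set_orbit_ge _ okgS0 okgS1 okgS2 memgS0 memgS1 memgS2 (N (N (N (N (N (N L (N (N L (N E L L) L) L L) L) (N (N (N E (N E L L) L) E L) (N L (N (N L (N E L L) L) (N L (N E L L) L) L) L) L) L) (N (N (N (N (N (N L (N L E L) L) L L) E L) (N E E L) L) (N E (N (N (N L E L) L L) L L) L) L) (N (N (N E E L) L L) (N (N E E L) (N (N L (N E L L) L) (N (N E E L) L L) L) L) L) L) L) (N (N (N (N (N (N L E L) (N E (N E E L) L) L) E L) (N (N L E L) (N L (N E E L) L) L) L) (N (N (N L (N (N E E L) L L) L) L L) (N (N L (N E L L) L) (N (N (N E L L) L L) (N E E L) L) L) L) L) (N (N L (N (N L (N E L L) L) (N (N L (N E L L) L) (N E (N L (N E L L) L) L) L) L) L) (N (N (N (N E L L) L L) (N L (N E E L) L) L) (N (N L E L) L L) L) L) L) L) (N (N (N (N (N E L L) (N (N L (N L E L) L) (N L E L) L) L) (N (N (N L (N L E L) L) L L) (N (N (N E (N (N E L L) L L) L) L L) (N L (N (N E L L) L L) L) L) L) L) (N (N (N (N L E L) (N (N E (N E E L) L) (N (N E L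 L) E L) L) L) (N L (N L (N E E L) L) L) L) L L) L) (N (N (N (N L (N E (N (N E L L) L L) L) L) (N (N E (N E L L) L) E L) L) (N (N (N (N (N E E L) (N E L L) L) (N E E L) L) (N (N L E L) E L) L) (N (N L E L) E L) L) L) (N L (N (N (N E L L) (N (N E L L) E L) L) (N (N E L L) (N (N E L L) (N L E L) L) L) L) L) L) L) L) (N (N (N (N (N (N L (N E E L) L) (N (N E (N E L L) L) (N L (N E E L) L) L) L) (N (N (N E L L) (N (N L E L) (N (N E L L) E L) L) L) L L) L) L L) (N (N (N L (N (N (N L E L) L L) E L) L) L L) (N (N (N (N E L L) (N (N L E L) (N (N L E L) L L) L) L) (N (N L E L) (N (N (N E L L) L L) L L) L) L) (N (N (N (N (N E L L) L L) L L) (N (N L E L) L L) L) (N (N (N L E L) (N E E L) L) L L) L) L) L) L) (N (N (N (N (N (N L (N E E L) L) L L) (N E (N L (N E (N E L L) L) L) L) L) (N (N L (N (N E L L) (N E L L) L) L) (N L (N L (N E L L) L) L) L) L) (N (N (N (N L E L) (N E L L) L) (N L (N (N E L L) E L) L) L) L L) L) (N (N (N (N L (N (N E L L) L L) L) (N L (N E L L) L) L) (N (N L (N E E L) L) (N (N (N E E L) (N (N L E L) E L) L) L L) L) L) (N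 (N (N E (N L (N L E L) L) L) (N (N L E L) L L) L) (N (N (N L (N E E L) L) (N (N (N E L L) L L) (N L E L) L) L) (N E E L) L) L) L) L) L) L) (x := 10558) (by norm_num) (hsh 0x50000000000080000000300070002000000020001000300000001000300000008000000030009000a0000000d000000080002000800030002000100080002000c00070000000500000000000000000000000800020008000000040004000f00020000000400030001000e000700000002000a00040000000500000030000d000b00150000000700050000000900000003000200010004000500020003000200050003001d0003000900000005000000000000000e00010009000a000b0002000100010000001200000000000000000000000300020000000c00000001000400020009002500030001000300030001000f00010001000000040000000100010005 131 1477397 512) 9 (by decide +kernel)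

theorem orbS_octads0 : OrbDec (MulAction.stabilizer M24 (famOf 6 sx0)) octads ![15, 360, 384] := by
  refine orbDec_set _ (fun g _ h => (smul_mem_octads_iff g).2 h) 6 sx0 (fun _ hg => hg) ![5279, 18147, 10558]
    (by decide) (fun i => setOf'_mem_octads (by revert i; decide +kernel)) (by decide +kernel) _ (fun i => ?_)
    (by rw [ncard_octads]; decide)
  · fin_cases i
    · exact orbS_octads0_0
    · exact orbS_octads0_1
    · exact orbS_octads0_2

theorem orbS_trios0_0 : 15 ≤ (MulAction.orbit (MulAction.stabilizer M24 (famOf 6 sx0)) (famOf 3 0x82402f401ed03da100)).ncard :=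
  fam_orbit_ge _ okgS0 okgS1 okgS2 memgS0 memgS1 memgS2 3 (N (N (N (N E L L) (N (N E L L) E L) L) (N L E L) L) (N (N L E L) E L) L) 0x82402f401ed03da100 (hsh 0xc0007000e00000001 5 2048939 16) 4 (by decide +kernel)

theorem orbS_trios0_1 : 180 ≤ (MulAction.orbit (MulAction.stabilizer M24 (famOf 6 sx0)) (famOf 3 0x800c7542528a3da100)).ncard :=
  fam_orbit_ge _ okgS0 okgS1 okgS2 memgS0 memgS1 memgS2 3 (N (N (N (N (N (N L (N (N E L L) L L) L) (N (N E (N L E L) L) (N (N (N L E L) (N L E L) L) (N L (N L E L) L) L) L) L) (N (N (N (N E L L) (N (N E L L) E L) L) (N (N E L L) (N (N L E L) L L) L) L) (N (N L (N L (N L E L) L) L) E L) L) L) (N (N (N L (N E (N L E L) L) L) (N (N (N E L L) E L) (N E L L) L) L) (N L (N L (N L E L) L) L) L) L) (N (N (N (N (N (N L E L) E L) (N (N (N L E L) (N L E L) L) (N E (N E L L) L) L) L) (N (N L (N L E L) L) E L) L) (N (N (N E L L) (N (N L E L) E L) L) (N (N (N E (N E L L) L) L L) (N L E L) L) L) L) (N (N (N (N E (N E E L) L) (N E (N E L L) L) L) (N (N L (N E E L) L) L L) L) (N (N (N (N E (N L E L) L) E L)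 (N E L L) L) (N L E L) L) L) L) L) (N (N (N (N L (N L (N L (N L E L) L) L) L) L L) (N (N (N L (N (N L E L) (N L E L) L) L) (N (N E (N (N E E L) (N L E L) L) L) E L) L) (N (N (N (N L (N E L L) L) (N E L L) L) L L) (N (N L E L) L L) L) L) L) (N (N (N L (N (N E E L) (N L (N E E L) L) L) L) L L) (N L E L) L) L) L) 0x800c7542528a3da100 (hsh 0x1000900010007000100050005000000050002000000000001000000000016000100000000000d000d00000005001200000001000b00000003000d0006000300050001000000000009000500000000000200070011000100010000000100080000001400040005000200110001000800020009000100010002 61 1976983 256) 8 (by decide +kernel)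

theorem orbS_trios0_2 : 720 ≤ (MulAction.orbit (MulAction.stabilizer M24 (famOf 6 sx0)) (famOf 3 0x800c7546e30039108a)).ncard :=
  fam_orbit_ge _ okgS0 okgS1 okgS2 memgS0 memgS1 memgS2 3 (N (N (N (N (N (N L (N (N (N E (N E L L) L) (N (N L E L) (N L E L) L) L) L L) L) (N L (N (N (N E E L) (N (N (N L E L) (N E L L) L) (N E E L) L) L) (N (N L (N L E L) L) L L) L) L) L) (N (N (N (N (N (N L E L) L L) (N E L L) L) (N (N L (N L (N E L L) L) L) (N (N L E L) L L) L) L) (N (N (N (N L E L) L L) (N E (N L E L) L) L) (N (N L (N (N E L L) E L) L) L L) L) L) (N (N (N L (N (N E E L) (N E E L) L) L) (N (N L (N E L L) L) (N (N (N E E L) L L) (N (N L E L) (N L E L) L) L) L) L) (N L (N (N (N E L L) (N (N E L L) L L) L) (N (N L E L) (N E L L) L) L) L) L) L) L) (N (N (N (N (N (N L E L) E L) (N (N L (N L E L) L) (N E E L) L) L) (N (N (N L E L) (N L (N (N E L L) L L) L) L) (N (N (N E L L) (N E (N L E L) L) L) (N (N L E L) L L) L) L) L) (N (N (N (N E (N (N L E L) E L) L) L L) (N (N (N E E L) L L) E L) L) (N (N L (N E (N E L L) L) L) L L) L) L) (N (N (N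 (N E (N (N L E L) (N (N E L L) L L) L) L) (N (N L E L) (N E L L) L) L) (N (N E E L) (N (N L E L) (N (N (N L E L) E L) L L) L) L) L) (N (N (N (N L (N (N L E L) L L) L) (N (N E L L) L L) L) (N (N (N E L L) L L) (N (N L (N L E L) L) L L) L) L) (N (N (N E E L) (N E E L) L) (N (N E E L) L L) L) L) L) L) L) (N (N (N (N (N (N L (N L (N L E L) L) L) (N (N E L L) L L) L) (N (N (N (N E E L) (N E L L) L) (N (N (N L (N L E L) L) L L) L L) L) (N (N E L L) (N (N (N E L L) L L) E L) L) L) L) (N (N L (N (N E E L) (N (N L E L) (N L E L) L) L) L) (N L (N (N (N E L L) L L) (N E E L) L) L) L) L) (N (N (N (N L (N L (N L E L) L) L) (N L (N L E L) L) L) (N (N (N L E L) (N (N L E L) L L) L) L L) L) (N E (N (N (N (N L E L) L L) (N E E L) L) L L) L) L) L) (N (N (N (N (N (N L (N (N L E L) L L) L) (N L E L) L) (N (N E E L) (N (N E L L) (N (N L E L) L L) L) L) L) (N (N (N L (N E L L) L) (N L (N L E L) L) L) E L) L) (N (N (N (N (N L E L) (N L E L) L) E L) (N E (N L E L) L) L) L L) L) (N (N L (N (N E (N (N L E L) (N E L L) L) L) (N (N E (N E E L) L) (N (N E L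 L) E L) L) L) L) (N (N (N (N E (N E L L) L) L L) L L) (N L (N (N (N (N E L L) E L) L L) (N (N E L L) L L) L) L) L) L) L) L) L) (N (N (N (N (N (N L (N (N (N (N E L L) E L) (N E L L) L) (N (N L E L) E L) L) L) (N (N (N L (N (N L E L) L L) L) (N E (N E L L) L) L) (N (N (N E L L) L L) (N (N L (N L E L) L) L L) L) L) L) (N (N (N L (N (N L E L) (N E L L) L) L) (N (N E (N L E L) L) E L) L) (N (N (N L E L) (N E L L) L) (N L (N E L L) L) L) L) L) (N (N (N (N (N E E L) E L) (N (N L (N L E L) L) (N L (N L E L) L) L) L) (N E L L) L) (N (N (N (N E (N L E L) L) (N E (N E L L) L) L) (N (N (N (N L E L) L L) (N (N L E L) L L) L) (N L (N E L L) L) L) L) (N (N L (N (N (N L E L) L L) L L) L) L L) L) L) L) (N (N (N (N (N (N L E L) (N L E L) L) (N (N E (N L E L) L) (N (N L E L) E L) L) L) (N (N L (N (N L E L) L L) L) (N E (N E L L) L) L) L) (N (N (N (N (N L E L) (N (N E L L) L L) L) E L) (N (N (N E L L) (N E E L) L) L L) L) (N (N (N E L L) (N E E L) L) (N E (N E L L) L) L) L) L) (N (N (N (N (N (N L E L) L L) (N (N (N L E L) L L) (N L (N E L L) L) L)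 L) (N (N (N E L L) (N E L L) L) (N L (N (N L E L) E L) L) L) L) L L) (N (N (N (N (N L E L) E L) E L) (N (N L (N (N L E L) L L) L) E L) L) (N L (N (N E L L) E L) L) L) L) L) L) (N (N (N (N (N (N L E L) (N (N E L L) (N L E L) L) L) (N (N (N (N L E L) E L) (N E E L) L) (N E (N L E L) L) L) L) (N (N (N (N L E L) (N (N E L L) (N L E L) L) L) (N (N L E L) L L) L) (N L (N E (N (N L E L) L L) L) L) L) L) (N (N (N (N E (N L E L) L) (N (N E L L) (N E E L) L) L) E L) (N (N E (N E L L) L) (N (N (N E L L) L L) (N L E L) L) L) L) L) (N (N (N (N (N E (N E L L) L) (N E (N (N L E L) E L) L) L) (N (N (N E E L) L L) (N (N E L L) (N (N E L L) L L) L) L) L) (N (N (N E (N (N L E L) L L) L) (N (N (N E E L) L L) (N E E L) L) L) L L) L) (N (N (N (N (N L E L) (N L E L) L) (N (N (N L E L) L L) (N E E L) L) L) (N E L L) L) (N L (N (N (N L E L) (N E E L) L) (N (N L (N L E L) L) (N L E L) L) L) L) L) L) L) L) L) 0x800c7546e30039108a (hsh 0x700000001000100140000000600000003000000020003000000000009000a00000005000000050024000000070000000500040000000b000d000000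0000090003000b0014000d0000000200030000000800000004001d000000080000000500000009000500020007000700000002000300040000000000020001000400000000000100040005000100000006000000110002000600010013001700010002000200000002000c0000000400030005001700260000000000090000001000100005001300000007000200010000000000000006001a00070000000200030003000100000001000400060005000100050000000500010002000000020000000c0002000600050003000000040000000100000007000100060009000100030001000000000000000100020000000200000000000c000000000006000f0002000200020000000100080000000c0000000200020004000500010000000000010003000000010000000000060004000b0000000800090000002500060001000a0000000400040002000100100000000200000000000600000001000200000001000c0004000300000001000a000400010000000000050001000b0005000200010000000000010015000500010005001e0000000100000005000300070000 241 1594867 1024) 10 (by decide +kernel)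

theorem orbS_trios0_3 : 2880 ≤ (MulAction.orbit (MulAction.stabilizer M24 (famOf 6 sx0)) (famOf 3 0x800c7549f002360388)).ncard :=
  fam_orbit_ge _ okgS0 okgS1 okgS2 memgS0 memgS1 memgS2 3 (N (N (N (N (N (N L (N (N (N (N (N L (N E L L) L) (N L E L) L) (N L (N (N (N E L L) (N L E L) L) (N (N L E L) L L) L) L) L) (N (N (N E E L) (N E (N L (N (N E L L) E L) L) L) L) (N (N L (N E (N L (N L E L) L) L) L) L L) L) L) (N (N (N (N E (N L E L) L) (N L E L) L) (N (N L (N E L L) L) (N (N L (N L E L) L) (N E (N E L L) L) L) L) L) (N (N (N (N L E L) (N (N L E L) (N L (N E E L) L) L) L) (N L (N (N L E L) (N E L L) L) L) L) (N L (N (N (N E L L) L L) L L) L) L) L) L) L) (N (N (N (N (N E (N (N (N L E L) L L) L L) L) (N (N (N L E L) (N L E L) L) (N (N L E L) L L) L) L) (N (N (N (N L E L) L L) (N (N L (N E L L) L) (N E (N E L L) L) L) L) (N E (N L (N (N L (N E L L) L) E L) L) L) L) L) (N (N (N (N (N E E L) (N (N L (N E L L) L) E L) L) (N (N L (N E L L) L) (N E L L) L) L) (N (N E E L) (N (N E E L) E L) L) L) (N (N (N (N L E L) E L) (N E (N E E L) L)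 L) (N (N (N E E L) L L) L L) L) L) L) (N (N (N L (N L (N L (N L E L) L) L) L) (N (N (N (N E L L) E L) (N L (N E (N E L L) L) L) L) (N (N E (N E L L) L) (N E L L) L) L) L) (N (N (N (N (N E (N E L L) L) (N (N L E L) L L) L) (N (N E L L) (N L E L) L) L) (N (N (N L E L) (N E E L) L) (N (N (N E (N L E L) L) L L) E L) L) L) (N (N (N (N E L L) L L) (N L (N (N L E L) (N (N L E L) L L) L) L) L) (N (N L (N (N E L L) L L) L) L L) L) L) L) L) L) (N (N (N (N (N (N L (N E (N (N E E L) L L) L) L) L L) (N (N (N (N L (N L E L) L) (N L (N L E L) L) L) (N (N (N L E L) L L) (N E (N L E L) L) L) L) L L) L) (N (N (N (N (N (N L E L) L L) (N L E L) L) (N (N (N E E L) L L) E L) L) (N L (N E (N E (N E L L) L) L) L) L) (N L (N (N E L L) L L) L) L) L) (N (N (N (N L (N (N (N L E L) L L) (N E (N L E L) L) L) L) (N (N (N L E L) (N E L L) L) (N L E L) L) L) (N L (N (N (N L E L) L L) (N E (N (N E E L) L L) L) L) L) L) (N (N (N L E L) (N (N L (N (N L E L) E L) L) L L) L) (N (N (N E L L) (N (N E E L) (N (N E L L) L L) L) L) (N (N (N L E L) L L) (N E (N (N L E L)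 L L) L) L) L) L) L) L) (N (N (N (N (N (N L (N L (N E L L) L) L) (N L (N L E L) L) L) (N L (N L (N E L L) L) L) L) (N (N (N (N (N L E L) E L) (N (N L E L) E L) L) (N L (N E (N E L L) L) L) L) (N (N (N E (N E L L) L) L L) (N (N (N L E L) L L) (N E (N E (N E L L) L) L) L) L) L) L) (N (N (N (N (N E L L) E L) (N (N (N E L L) L L) L L) L) (N (N (N E (N E L L) L) (N L (N L E L) L) L) (N L (N L (N L E L) L) L) L) L) (N (N (N (N E L L) (N (N L E L) E L) L) E L) (N (N E (N L E L) L) L L) L) L) L) (N (N (N (N E (N E L L) L) (N (N E (N E (N E L L) L) L) (N (N E L L) L L) L) L) (N (N (N L (N (N L E L) L L) L) (N L (N E E L) L) L) (N (N (N (N E L L) L L) (N L (N E E L) L) L) (N (N E L L) L L) L) L) L) (N (N (N (N (N L E L) L L) (N L E L) L) (N (N (N L (N E L L) L) (N L E L) L) (N L (N (N E L L) L L) L) L) L) (N (N L (N (N L (N E L L) L) L L) L) (N (N E (N L E L) L) (N (N L (N E E L) L) (N L (N E L L) L) L) L) L) L) L) L) L) L) (N (N (N L (N (N (N (N (N E (N L (N E E L) L) L) (N E E L) L) (N L E L) L) (N E (N (N (N L E L) (N L E L) L) (N (N (N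 (N E L L) L L) E L) (N L E L) L) L) L) L) (N (N (N (N (N (N L E L) L L) (N E (N L E L) L) L) (N L (N E E L) L) L) L L) (N (N (N (N E L L) (N L (N L E L) L) L) (N (N L (N L E L) L) (N E L L) L) L) E L) L) L) L) (N (N (N (N (N (N L E L) L L) (N (N L (N E E L) L) (N L (N (N E L L) L L) L) L) L) (N E L L) L) (N (N (N E (N (N E E L) (N (N L E L) E L) L) L) (N (N E L L) L L) L) (N (N E (N (N E L L) E L) L) (N (N L (N (N E E L) (N L E L) L) L) (N (N L E L) (N (N L E L) (N E L L) L) L) L) L) L) L) (N (N (N (N L (N (N L (N L E L) L) (N L E L) L) L) (N (N L (N E E L) L) (N (N E L L) (N L (N E L L) L) L) L) L) L L) (N (N (N (N (N (N L E L) E L) E L) L L) (N (N (N L E L) (N L E L) L) (N (N L E L) E L) L) L) (N (N (N (N E L L) (N (N L E L) L L) L) (N L (N E L L) L) L) (N (N L E L) (N (N (N E L L) E L) L L) L) L) L) L) L) L) (N (N (N (N (N E (N (N (N L (N L E L) L) E L) (N (N E L L) L L) L) L) (N E (N (N (N E L L) (N (N E L L) E L) L) (N (N E E L) L L) L) L) L) (N (N (N (N (N E E L) E L) (N (N E L L) (N E E L) L) L) (N (N (N (N L E L) E L) L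 L) (N (N (N E L L) L L) E L) L) L) (N (N (N L (N L (N E L L) L) L) (N (N L E L) L L) L) (N (N L (N E L L) L) (N (N L E L) (N L E L) L) L) L) L) L) (N (N (N (N E (N E (N E L L) L) L) L L) (N L (N (N (N L E L) L L) E L) L) L) (N (N (N (N E L L) (N L E L) L) (N E (N (N E E L) E L) L) L) (N (N E (N (N E L L) (N (N L E L) E L) L) L) (N (N E (N L (N E E L) L) L) (N (N (N L E L) E L) L L) L) L) L) L) L) (N (N (N (N (N (N L E L) (N E (N E E L) L) L) (N (N E (N L (N E L L) L) L) E L) L) (N (N (N (N L (N E L L) L) E L) (N L E L) L) (N (N (N L (N E L L) L) (N L E L) L) (N E (N L E L) L) L) L) L) (N (N (N (N E (N L E L) L) L L) (N L (N (N L (N E L L) L) L L) L) L) (N (N L (N (N E E L) (N L E L) L) L) (N (N E (N (N L E L) L L) L) (N (N (N L E L) L L) (N (N L E L) L L) L) L) L) L) L) (N (N (N (N (N E L L) (N (N L (N (N E L L) L L) L) (N (N E L L) (N (N E L L) E L) L) L) L) (N (N (N E (N L (N L E L) L) L) E L) (N (N E L L) (N L E L) L) L) L) (N (N (N (N L E L) (N E L L) L) (N E L L) L) (N (N (N E L L) (N E (N E L L) L) L) (N (N L E L) L L) L)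 L) L) (N (N E (N (N L E L) L L) L) (N (N (N (N E L L) L L) L L) (N (N (N E L L) L L) (N L (N E E L) L) L) L) L) L) L) L) L) L) (N (N (N (N (N (N L (N (N L (N L (N (N E L L) L L) L) L) (N (N E L L) E L) L) L) (N (N (N (N E L L) L L) (N L (N E (N L E L) L) L) L) (N (N (N L (N L E L) L) (N (N L E L) (N E E L) L) L) (N (N (N L E L) (N E E L) L) (N (N L E L) (N L E L) L) L) L) L) L) (N (N (N (N (N E L L) E L) (N L E L) L) (N (N (N L (N L E L) L) E L) (N (N (N E (N L E L) L) L L) (N (N L (N E E L) L) E L) L) L) L) (N (N (N (N (N E L L) L L) (N (N (N L E L) L L) (N L E L) L) L) (N (N L E L) (N L E L) L) L) (N (N L E L) E L) L) L) L) (N (N (N (N (N E (N E (N E L L) L) L) (N (N (N L (N E E L) L) (N L (N L E L) L) L) L L) L) (N (N (N L (N L (N L E L) L) L) L L) (N E (N (N (N E L L) L L) L L) L) L) L) (N (N (N (N E (N E E L) L) (N (N L (N E E L) L) (N E L L) L) L) (N (N L E L) (N L (N (N E L L) (N L E L) L) L) L) L) (N (N L (N (N E L L) L L) L) (N (N (N L E L) (N E L L) L) (N (N L E L) L L) L) L) L) L) (N (N (N (N (N E (N E E L) L) (N (N L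 (N E E L) L) L L) L) L L) (N (N (N (N E (N (N E L L) L L) L) L L) L L) (N (N L E L) (N (N L (N L (N E L L) L) L) (N E L L) L) L) L) L) (N (N (N (N (N L E L) L L) (N L (N L (N L E L) L) L) L) (N (N L (N (N E L L) L L) L) E L) L) (N L (N (N L (N E (N E L L) L) L) L L) L) L) L) L) L) (N (N (N (N (N L (N E (N E (N L E L) L) L) L) (N (N E (N (N E L L) E L) L) (N L (N E L L) L) L) L) (N (N (N L E L) (N (N E (N (N L E L) E L) L) E L) L) (N (N L (N (N E L L) L L) L) (N (N (N L E L) E L) (N (N E L L) (N E L L) L) L) L) L) L) (N (N (N (N (N (N L E L) (N E E L) L) (N E L L) L) (N (N (N E L L) L L) (N E L L) L) L) (N (N (N (N L E L) L L) (N E (N E (N L (N E L L) L) L) L) L) (N (N (N E E L) (N E L L) L) (N E E L) L) L) L) (N L (N (N (N (N L E L) (N (N L E L) L L) L) (N L (N E E L) L) L) (N (N (N (N L E L) L L) (N E L L) L) (N (N L (N (N E L L) L L) L) E L) L) L) L) L) L) (N (N (N (N L (N (N E L L) (N (N E E L) E L) L) L) (N (N (N (N E L L) (N E E L) L) (N L (N L E L) L) L) (N (N (N (N L E L) L L) L L) (N (N E L L) E L) L) L) L) L L) (N (N (N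 (N L (N (N E L L) (N L E L) L) L) (N (N L (N L (N L E L) L) L) E L) L) (N (N (N E L L) (N E (N L E L) L) L) (N L (N L (N (N L E L) E L) L) L) L) L) (N (N (N (N E E L) (N E (N L (N E L L) L) L) L) (N L E L) L) (N (N (N E (N L (N E E L) L) L) L L) (N (N E (N E (N E L L) L) L) L L) L) L) L) L) L) L) (N (N (N (N (N (N L (N (N E L L) L L) L) (N (N (N (N E L L) (N E L L) L) L L) (N (N E E L) (N L E L) L) L) L) (N (N (N L (N (N E L L) L L) L) (N L E L) L) (N (N (N E E L) L L) L L) L) L) (N (N (N (N E (N L (N L E L) L) L) E L) L L) (N (N (N L (N (N E (N E L L) L) L L) L) (N (N (N (N L E L) L L) (N L E L) L) (N (N L (N L E L) L) L L) L) L) (N (N (N L (N E L L) L) L L) (N (N L (N E E L) L) L L) L) L) L) L) (N (N (N (N (N (N L (N (N L E L) L L) L) (N (N (N E L L) L L) L L) L) (N L (N (N (N E L L) (N E L L) L) (N E E L) L) L) L) (N (N (N L (N L (N E L L) L) L) (N L (N L E L) L) L) (N (N L (N L (N L E L) L) L) L L) L) L) (N (N (N (N (N E L L) L L) (N E L L) L) (N (N E (N E L L) L) (N (N L E L) L L) L) L) (N (N (N (N L (N L E L) L) (N E E L)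 L) E L) (N E E L) L) L) L) (N (N (N L (N (N (N (N L E L) L L) (N L (N E L L) L) L) (N E L L) L) L) (N (N (N E E L) (N (N E L L) (N L (N L E L) L) L) L) (N E (N E E L) L) L) L) (N (N (N (N (N L (N E L L) L) L L) (N (N E L L) L L) L) (N (N (N L E L) E L) (N E (N E L L) L) L) L) (N (N (N (N E L L) (N L (N E L L) L) L) E L) (N L (N (N (N L E L) E L) L L) L) L) L) L) L) L) (N (N (N (N (N E (N (N (N E E L) (N E (N (N E L L) L L) L) L) (N L (N (N L E L) (N L E L) L) L) L) L) (N (N (N L (N L E L) L) (N (N L E L) (N (N E L L) L L) L) L) (N L (N (N (N L E L) E L) L L) L) L) L) (N (N (N L (N E L L) L) (N (N (N E L L) L L) (N (N E E L) E L) L) L) (N (N (N (N (N L E L) L L) L L) L L) (N E (N (N L E L) E L) L) L) L) L) (N (N (N (N (N (N L E L) L L) E L) (N L (N (N E E L) L L) L) L) (N (N (N (N L E L) L L) L L) E L) L) (N (N (N (N E (N L (N E L L) L) L) (N E (N (N E L L) L L) L) L) (N (N (N L E L) (N L E L) L) L L) L) (N (N (N L (N L E L) L) L L) (N (N L (N (N L E L) L L) L) (N E L L) L) L) L) L) L) (N L (N (N (N (N E (N L E L) L) (N (N (N (N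 L E L) E L) (N E L L) L) L L) L) (N (N (N E (N E E L) L) (N (N (N E L L) L L) L L) L) (N (N (N (N E L L) (N E (N E L L) L) L) L L) E L) L) L) (N (N (N (N (N E E L) L L) L L) (N (N (N (N E L L) L L) (N L E L) L) (N L (N L E L) L) L) L) (N (N E L L) (N E (N L E L) L) L) L) L) L) L) L) L) L) (N (N (N (N (N (N L (N (N (N (N (N E E L) (N L E L) L) (N L (N L (N E L L) L) L) L) E L) (N (N L E L) (N L (N L (N L E L) L) L) L) L) L) (N (N (N (N (N L (N L E L) L) (N E (N E E L) L) L) (N (N (N E E L) L L) (N (N L (N L E L) L) L L) L) L) (N (N E (N E (N L E L) L) L) (N (N E E L) (N (N E L L) (N E L L) L) L) L) L) (N (N (N (N E (N L E L) L) (N (N E L L) (N L (N E L L) L) L) L) (N E (N (N L E L) E L) L) L) (N E L L) L) L) L) (N (N (N (N (N E L L) (N (N (N E L L) L L) L L) L) (N (N (N (N L E L) E L) (N (N E (N L E L) L) (N E L L) L) L) (N (N E L L) (N L E L) L) L) L) (N (N (N (N E L L) (N E E L) L) (N (N E (N (N L E L) E L) L) L L) L) (N (N L (N L E L) L) (N L (N (N L (N L E L) L) (N (N L E L) L L) L) L) L) L) L) (N L (N (N L (N (N L E L) L L)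 L) (N (N (N E (N L (N E E L) L) L) L L) L L) L) L) L) L) L L) (N (N (N (N (N (N L (N (N E L L) E L) L) (N (N (N (N E E L) L L) (N (N E L L) (N E L L) L) L) (N (N (N (N L E L) L L) L L) E L) L) L) (N (N (N (N L (N L E L) L) (N (N E E L) (N E L L) L) L) (N (N E L L) L L) L) (N (N (N L (N (N L E L) L L) L) L L) E L) L) L) (N (N (N (N (N (N L E L) E L) (N E L L) L) (N (N L E L) (N E L L) L) L) (N (N L (N E L L) L) (N (N E L L) (N E L L) L) L) L) (N L (N (N (N E (N L E L) L) E L) (N L (N L (N L E L) L) L) L) L) L) L) (N (N (N L (N (N (N (N (N L E L) E L) L L) E L) (N L (N E (N E L L) L) L) L) L) (N (N (N (N (N L (N E L L) L) L L) (N E E L) L) (N E (N (N L E L) L L) L) L) (N (N E (N E L L) L) (N (N L (N E E L) L) (N L (N L E L) L) L) L) L) L) (N (N (N (N E (N E E L) L) (N L (N E E L) L) L) (N (N (N (N E L L) E L) (N (N (N E L L) L L) (N L E L) L) L) L L) L) (N (N (N (N E E L) (N L (N E E L) L) L) (N (N L E L) (N (N (N E L L) L L) (N E (N L E L) L) L) L) L) (N (N (N L E L) (N (N E L L) L L) L) (N L (N E L L) L) L) L) L) L) L) (N (N (N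 (N (N (N L E L) (N (N (N L E L) E L) (N L (N E E L) L) L) L) (N (N (N L (N (N E L L) L L) L) (N (N L E L) L L) L) L L) L) (N (N (N (N (N L E L) L L) (N L (N E L L) L) L) (N (N (N E L L) E L) E L) L) (N (N L (N (N L E L) (N E E L) L) L) (N L (N (N L E L) L L) L) L) L) L) (N (N (N (N (N E L L) (N E L L) L) (N (N (N L (N E L L) L) L L) E L) L) (N (N (N E E L) L L) (N L (N L (N L (N L E L) L) L) L) L) L) (N (N E (N (N E E L) (N L E L) L) L) (N (N (N (N E E L) L L) (N (N E L L) (N E L L) L) L) (N (N E (N L E L) L) (N L E L) L) L) L) L) L) (N (N (N (N (N E L L) (N (N E E L) E L) L) L L) (N (N (N L (N (N L E L) (N L E L) L) L) (N E (N (N (N L E L) E L) E L) L) L) (N (N L (N E L L) L) (N E (N (N L (N L E L) L) L L) L) L) L) L) (N (N (N (N L (N (N E L L) L L) L) (N L (N E L L) L) L) L L) (N (N E (N (N E L L) L L) L) (N (N (N E (N E L L) L) L L) (N L (N (N E L L) L L) L) L) L) L) L) L) L) L) (N (N (N (N (N E (N L (N (N (N L E L) E L) (N L (N (N L E L) (N L E L) L) L) L) L) L) (N (N (N (N (N E L L) (N E E L) L) (N E E L) L) (N (N E (N (N L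 (N L E L) L) E L) L) (N (N E L L) (N E L L) L) L) L) (N (N (N L (N L (N L E L) L) L) (N (N E E L) E L) L) L L) L) L) (N (N (N (N (N E E L) (N E (N (N E L L) E L) L) L) (N (N (N (N L E L) (N E E L) L) (N L E L) L) (N (N (N E L L) (N E L L) L) (N (N E L L) L L) L) L) L) (N (N L (N (N (N L E L) E L) (N L E L) L) L) (N (N (N (N E L L) (N L E L) L) (N (N L E L) L L) L) L L) L) L) (N (N (N (N E L L) (N (N (N L E L) E L) E L) L) (N (N E L L) (N (N (N E E L) E L) L L) L) L) (N (N (N L (N L E L) L) L L) (N (N (N E L L) (N (N L E L) E L) L) L L) L) L) L) L) (N (N (N (N (N (N L E L) (N L E L) L) (N (N (N L (N E L L) L) (N E (N E L L) L) L) E L) L) (N (N (N (N (N L E L) E L) (N E L L) L) L L) (N (N L (N (N L (N L E L) L) (N L (N L E L) L) L) L) (N L E L) L) L) L) (N (N (N (N (N E E L) L L) (N (N L (N L (N L E L) L) L) L L) L) (N (N L (N L E L) L) (N E E L) L) L) (N (N (N (N L E L) (N E L L) L) (N (N (N E E L) (N E L L) L) (N L E L) L) L) (N (N (N E L L) (N L (N E L L) L) L) E L) L) L) L) (N (N (N (N (N (N L (N E E L) L) (N L (N L E L) L) L)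 (N L (N (N E L L) E L) L) L) (N (N L (N (N E L L) L L) L) L L) L) (N (N (N (N L (N E L L) L) L L) E L) (N (N (N (N L E L) E L) (N L E L) L) (N (N E L L) L L) L) L) L) (N L (N (N (N (N L (N E L L) L) (N L E L) L) (N (N (N E L L) L L) (N (N L E L) L L) L) L) (N (N (N (N L E L) E L) (N (N E L L) L L) L) (N L (N (N L E L) E L) L) L) L) L) L) L) L) (N (N (N (N (N (N L (N (N (N E L L) L L) (N (N E E L) E L) L) L) (N (N (N E (N E L L) L) E L) (N (N E (N E L L) L) (N L E L) L) L) L) (N (N E (N (N L (N L (N L E L) L) L) L L) L) (N (N (N L (N L E L) L) L L) (N (N E L L) (N (N E E L) (N L E L) L) L) L) L) L) (N (N L (N (N (N (N E L L) (N (N E L L) L L) L) (N (N E (N L E L) L) (N E L L) L) L) (N (N L (N E (N E L L) L) L) L L) L) L) (N (N E (N L (N E L L) L) L) (N (N (N E E L) (N (N L E L) L L) L) (N (N E (N E L L) L) (N E L L) L) L) L) L) L) (N (N (N (N (N (N L E L) (N (N E L L) L L) L) L L) (N (N (N E L L) (N L (N E L L) L) L) L L) L) (N (N (N (N (N E E L) E L) (N E L L) L) (N (N E (N L E L) L) (N (N L E L) E L) L) L) (N (N E L L) (N E (N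 E E L) L) L) L) L) (N (N (N (N (N L (N E E L) L) (N (N (N L E L) L L) L L) L) L L) (N L (N L (N (N L E L) (N E L L) L) L) L) L) (N (N (N (N E L L) (N L E L) L) (N (N L E L) (N (N L E L) L L) L) L) (N (N E L L) E L) L) L) L) L) (N (N (N (N (N (N L E L) (N L (N E L L) L) L) (N (N E L L) (N (N L (N E L L) L) L L) L) L) (N (N (N (N (N L E L) L L) L L) (N E (N (N E L L) L L) L) L) (N (N L (N E L L) L) (N (N L (N E L L) L) (N E L L) L) L) L) L) (N (N (N (N (N (N L E L) E L) E L) L L) (N (N (N (N (N E L L) L L) E L) L L) (N L (N L (N E L L) L) L) L) L) L L) L) (N (N (N (N (N (N L E L) (N L E L) L) E L) (N (N (N L (N E E L) L) (N E L L) L) (N (N L (N L (N E E L) L) L) L L) L) L) (N (N (N (N (N E L L) E L) L L) (N (N (N L E L) L L) (N (N L E L) L L) L) L) (N (N (N L E L) L L) L L) L) L) (N (N (N (N E L L) (N (N L (N E L L) L) L L) L) (N (N (N (N L E L) (N E L L) L) (N E (N L E L) L) L) L L) L) (N (N (N E (N L E L) L) (N (N (N L E L) (N L E L) L) (N (N L E L) E L) L) L) (N (N L (N (N E L L) L L) L) E L) L) L) L) L) L) L) L) L) 0x800c7549f002360388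 (hsh 0x50002000200020004000700020003000300000000000000070001000200020001000400030001000200150003000100150008000200190002000000150000000c000500000003000000000002000000000015000600000003000000000012000000070000000200010000001e000100040003000000010003000900000009000300020001000600010001000200040001000600180000000400060014000d000000010004000100000000000000000003000000000002000300070003000f0000000500000009000e000500000001000b0000000500010001000a0002000400000009000700040000000100000000000200050000000f000400070009000000000004000f000000010001001700020000001900000000000000000001000000020002000000070008001e000200030002000600020001000f00080009000200000002000b000c0000000000000000000a00000005000100290000000e00000000000400020005000200000008000100060001000a0007000400000000000d00050001001200030008000a00140003000100000002000000010003000600000001000000000002001a000e00010002000b0002000000000000000a001100020004000100010000000100000004000700000001000300010009000000000004000d000800010000000100050003000000090001001800090006000100030002000400120000000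5000100000012001a000900030009000100040003000800430003000100000001000000010001000000000006000000020007001100010012000300000005000000010001000000020009000000280000000100010000000000060000000000000004001d000000070000000300010000000000080003000000010004000600010003002a0004000b000300000000001000090007000800000000000100010000000200000001000000000000000200050000000200020006000d000500030000000c000700070003000300090014000800000009000000040005000000060011000500020000000100040004000300020000000a000200010017001900020000000600020004001f000200020009000000000001000000030003000400020001000500030002000200070006000000040003001100000001000200000000000a000100020000000c0000000d000a00000004000000180000000200000000000c000300020002000f000200010011001700000000000000050000000c000600070000000900010000000600040019000300000003000100000000000000000006000000000003000500010000000000130000000a000100020001000000010000000b000200020008000000010005000c000000020004000000020001000000200013000200010008000000110003000000010001000300090000000700060000000500040006000c000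3000200340004000000000005000b000500040002000000000008000000000001000200040004000400010005000000000000000000030002000900050000000f000000090000003a0003000200020008000900180008000100020001000000010024000d00080001000d00000003000000000003000000000003000b000700030003000000000000000d000b0005001500000003000200120003000000000004002a000a0000000d0000000000030007000000070000000a00000002000000010000000800020000000d0012000100040027001200120000000700020000000600030013000000050000000b0008000100020004001e000f0000000a000100000000000d000300050000000400010000000600040013000200090000000000000001000000070002000000030000000300000002000b00020000000400060004000200050012000100000002000600010001000500030000000400000000001b000c00010002000900000003000000040001000000000004000000050001000e000a00000001001e00020000000000060004000400000002000f000f00000003000d000700030007000100000004000300020001001b00060003000e0000000000000000000b001100020001001000040001000000120004000100000000000a00020003000200000009000800000001000000010002000300030000000000090003000600030000000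1000900010007000100030002000100080004000200030000000600000000000100000008000f000100000000000000020001000200000004000c0009000200070001000000000004000300050000000300010002000100080000000100020000000100010000001600050003000100000000000800040002000000000000000000030014000400000016000000030000000500040001001900050000000000010003000000010001000c000000050001000000000000000f0000002d00020003000000020005000000050004000000020006000000010002000c0001000400020004000a00000006000b000000030001001b00010000000b00150000000200030005000b0005000400040009000500000001000000020005000200020007000c000000000017000000000027000200050002000000010003000000000000000500000006000100090000000a000200000001000400020001000000030000000a000a0000001c00080000000000020018000c 967 1078027 4096) 12 (by decide +kernel)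

theorem orbS_trios0 : OrbDec (MulAction.stabilizer M24 (famOf 6 sx0)) trios ![15, 180, 720, 2880] := by
  refine orbDec_fam _ (fun g _ h => smul_mem_trios g h) 6 sx0 (fun _ hg => hg) 3 ![0x82402f401ed03da100, 0x800c7542528a3da100, 0x800c7546e30039108a, 0x800c7549f002360388]
    (fun i => famOf_mem_trios (by revert i; decide +kernel)) (by decide +kernel) _ (fun i => ?_)
    (by rw [ncard_trios]; decide)
  · fin_cases i
    · exact orbS_trios0_0
    · exact orbS_trios0_1
    · exact orbS_trios0_2
    · exact orbS_trios0_3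

theorem orbS_sextets0_0 : 1 ≤ (MulAction.orbit (MulAction.stabilizer M24 (famOf 6 sx0)) (famOf 6 0x824020400a4034200009810000149000000f)).ncard :=
  fam_orbit_ge _ okgS0 okgS1 okgS2 memgS0 memgS1 memgS2 6 (E) 0x824020400a4034200009810000149000000f (hsh 0x0 1 3 2) 1 (by decide +kernel)

theorem orbS_sextets0_1 : 90 ≤ (MulAction.orbit (MulAction.stabilizer M24 (famOf 6 sx0)) (famOf 6 0x800023540040202a0009140002400c008190)).ncard :=
  fam_orbit_ge _ okgS0 okgS1 okgS2 memgS0 memgS1 memgS2 6 (N (N (N L (N (N (N (N (N L E L) L L) L L) (N (N E (N L (N L E L) L) L) (N (N E L L) L L) L) L) (N (N (N E E L) E L) (N L (N (N E L L) L L) L) L) L) L) (N (N (N (N (N E (N L E L) L) L L) (N (N L E L) E L) L) (N (N (N E L L) (N (N E E L) L L) L) (N E (N L E L) L) L) L) (N L (N L E L) L) L) L) (N (N (N L (N L (N E (N L E L) L) L) L) (N (N (N (N L E L) (N E L L) L) (N E L L) L) (N E L L) L) L) (N (N (N L (N L E L) L) L L) (N (N L (N (N E L L) (N E L L) L) L) (N (N E E L) L L) L) L) L) L) 0x800023540040202a0009140002400c008190 (hsh 0x40000000200090000000d000000030001000000040007000a000200000005000000000000000000000003000e00060000000000010005000100000000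 31 2083693 128) 7 (by decide +kernel)

theorem orbS_sextets0_2 : 240 ≤ (MulAction.orbit (MulAction.stabilizer M24 (famOf 6 sx0)) (famOf 6 0x8000074120102800c0108600041900024028)).ncard :=
  fam_orbit_ge _ okgS0 okgS1 okgS2 memgS0 memgS1 memgS2 6 (N (N (N (N (N (N L (N (N L (N L E L) L) (N E L L) L) L) (N (N L (N (N L E L) E L) L) (N (N L (N L E L) L) (N E L L) L) L) L) (N (N (N (N (N E E L) E L) (N (N E (N L E L) L) (N L E L) L) L) L L) (N (N (N E L L) L L) (N (N (N E L L) L L) (N (N L E L) L L) L) L) L) L) (N (N (N (N (N L E L) (N L (N L E L) L) L) (N (N L (N E L L) L) E L) L) (N E E L) L) (N (N (N E (N E L L) L) E L) (N (N (N L (N E L L) L) (N (N L E L) L L) L) (N (N L E L) (N L (N E L L) L) L) L) L) L) L) (N (N (N (N (N (N L E L) (N E L L) L) (N (N (N E L L) (N E L L) L) L L) L) (N E (N (N L (N E L L) L) L L) L) L) (N (N (N L E L) (N (N (N L E L) E L) E L) L) (N (N (N L E L) L L) (N (N E L L) E L) L) L) L) (N (N L (N (N (N E E L) L L) (N (N L E L) (N E L L) L) L) L) (N (N E (N (N E L L) L L) L) (N (N L (N E L L) L) (N E L L)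 L) L) L) L) L) (N (N (N (N (N (N L (N E E L) L) (N (N E E L) L L) L) (N L (N L (N E L L) L) L) L) (N (N E L L) (N (N (N (N E L L) L L) E L) (N (N L E L) L L) L) L) L) (N (N (N (N (N E L L) E L) (N (N L E L) L L) L) L L) (N L (N E E L) L) L) L) (N (N (N (N L E L) (N (N E (N (N E L L) L L) L) (N (N L E L) (N L E L) L) L) L) L L) (N (N (N E (N (N E L L) L L) L) (N (N (N L E L) L L) (N (N E L L) L L) L) L) (N (N E (N (N L E L) (N E L L) L) L) (N (N E E L) (N E (N E L L) L) L) L) L) L) L) L) 0x8000074120102800c0108600041900024028 (hsh 0x1f002b000100000003001c0001001b0002000000060053002d00020000000600000028000b00070002002700070003000e00010001000f0007000200010016005b0001004700030004001a001e00020002005a000a00070015000000020001000300020003002300060025000200030033000a00010011001800680002000000000014001a003700010002002d0010000400070005000900390004000b00160019000f0035 83 1548991 256) 8 (by decide +kernel)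

theorem orbS_sextets0_3 : 1440 ≤ (MulAction.orbit (MulAction.stabilizer M24 (famOf 6 sx0)) (famOf 6 0x8000134120042444001808080212400081a0)).ncard :=
  fam_orbit_ge _ okgS0 okgS1 okgS2 memgS0 memgS1 memgS2 6 (N (N (N (N (N (N L (N (N (N E (N (N L (N L E L) L) E L) L) L L) (N L (N (N (N E E L) (N E L L) L) E L) L) L) L) (N (N (N (N (N E L L) L L) (N (N (N E E L) (N L (N E (N L E L) L) L) L) (N (N (N L E L) (N E E L) L) E L) L) L) (N (N (N L (N L (N L E L) L) L) L L) (N (N E E L) (N (N L (N E L L) L) (N E E L) L) L) L) L) (N (N (N L (N (N L E L) L L) L) (N (N (N E E L) (N L E L) L) E L) L) (N (N (N L (N E (N E E L) L) L) L L) (N (N L (N E E L) L) (N (N E L L) L L) L) L) L) L) L) (N (N (N (N (N (N L (N E E L) L) (N (N L E L) (N (N L E L) E L) L) L) (N L (N E E L) L) L) (N (N (N (N (N L E L) E L) E L) (N (N L E L) E L) L) (N (N (N E E L) (N (N L (N L E L) L) E L) L) (N E L L) L) L) L) (N (N (N E E L) E L) (N (N (N L E L) (N L (N E L L) L) L) (N L (N (N L E L) L L) L) L) L) L) (N (N (N L (N E (N (N E L L) E L) L) L) (N (N (N E (N E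 (N E L L) L) L) (N L (N L E L) L) L) (N (N E (N (N L E L) L L) L) L L) L) L) (N (N (N (N (N L (N L (N E L L) L) L) (N (N L E L) E L) L) (N L (N (N E L L) L L) L) L) (N (N (N E (N L E L) L) E L) (N (N L E L) (N (N E L L) L L) L) L) L) (N (N (N (N (N L E L) L L) (N E L L) L) (N E L L) L) (N (N L (N E (N L E L) L) L) (N L (N E (N L E L) L) L) L) L) L) L) L) L) (N (N (N (N (N (N L (N (N E (N E L L) L) (N E L L) L) L) (N (N (N E E L) E L) (N (N L E L) L L) L) L) (N (N (N (N L (N L E L) L) (N (N L E L) E L) L) E L) (N (N L (N E E L) L) (N (N (N E L L) L L) L L) L) L) L) (N (N L (N (N (N E (N L E L) L) (N E E L) L) (N (N L E L) (N L E L) L) L) L) (N (N (N E (N E L L) L) (N (N (N L E L) L L) L L) L) (N (N E (N E E L) L) (N L (N E E L) L) L) L) L) L) (N (N (N (N (N (N L E L) L L) L L) (N (N (N L E L) E L) (N (N E E L) L L) L) L) (N (N (N (N (N L E L) L L) L L) (N E E L) L) L L) L) (N (N (N (N (N E E L) E L) (N (N L (N L E L) L) (N E L L) L) L) (N (N (N L E L) L L) (N L (N (N (N E L L) E L) L L) L) L) L) (N (N (N (N E L L) L L) (N L (N (N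 E E L) (N E L L) L) L) L) (N (N E (N L E L) L) (N L E L) L) L) L) L) L) (N (N (N (N L (N (N L (N L (N E L L) L) L) (N (N (N L E L) (N E L L) L) (N L E L) L) L) L) (N (N (N L E L) (N L (N E L L) L) L) L L) L) (N (N (N (N (N (N L E L) L L) E L) (N L E L) L) (N (N L E L) E L) L) (N (N L (N E (N E E L) L) L) L L) L) L) (N (N (N (N (N E (N L E L) L) (N (N L E L) (N E E L) L) L) (N (N (N L (N E L L) L) L L) (N L (N L E L) L) L) L) (N (N L (N (N (N E L L) (N E E L) L) (N E E L) L) L) L L) L) (N (N (N (N E (N (N L E L) L L) L) (N L (N (N L E L) L L) L) L) L L) (N (N (N L (N E L L) L) (N E L L) L) (N (N (N L E L) E L) E L) L) L) L) L) L) L) (N (N (N (N (N (N L (N (N E L L) (N (N (N E L L) L L) (N (N (N L E L) L L) L L) L) L) L) (N L (N (N (N L E L) (N L (N E E L) L) L) (N (N L E L) (N (N E L L) L L) L) L) L) L) (N (N L (N E (N (N E (N L E L) L) L L) L) L) (N (N L (N L (N (N L E L) E L) L) L) (N (N (N (N E L L) L L) E L) (N (N E E L) E L) L) L) L) L) (N (N (N (N (N E L L) (N L E L) L) (N (N E L L) L L) L) (N (N (N L E L) (N (N L (N L E L)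 L) (N E L L) L) L) (N E (N L E L) L) L) L) (N L (N (N E (N E L L) L) (N (N (N L E L) (N L E L) L) E L) L) L) L) L) (N (N (N (N (N (N L E L) (N (N L E L) L L) L) (N E (N E (N (N E L L) L L) L) L) L) (N (N (N (N L E L) (N E E L) L) L L) E L) L) (N (N (N (N (N E E L) L L) L L) (N (N L (N L E L) L) L L) L) (N E E L) L) L) (N (N (N (N (N L (N E (N L E L) L) L) L L) (N (N L E L) (N (N E (N E L L) L) L L) L) L) (N L (N E (N L (N (N L E L) E L) L) L) L) L) (N (N (N L (N (N E (N E E L) L) (N E (N E L L) L) L) L) (N (N L (N (N E L L) L L) L) (N (N E L L) (N (N L E L) L L) L) L) L) (N (N (N (N L E L) L L) (N (N L E L) E L) L) (N (N E (N E L L) L) (N E L L) L) L) L) L) L) L) (N (N (N (N (N (N L (N (N L E L) L L) L) (N (N (N (N E L L) E L) (N L E L) L) (N (N E L L) (N E L L) L) L) L) (N (N (N L (N L (N L E L) L) L) (N E (N (N L E L) L L) L) L) (N (N L E L) (N (N (N E L L) (N L E L) L) (N L E L) L) L) L) L) (N (N (N (N (N L (N E L L) L) L L) L L) (N (N L E L) L L) L) E L) L) (N (N (N (N E L L) (N L (N (N L E L) L L) L) L) E L) (N L (N (N (N (N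 E L L) L L) (N E (N E L L) L) L) (N (N (N L E L) (N E L L) L) E L) L) L) L) L) (N (N (N (N (N (N L (N E (N E L L) L) L) L L) (N (N (N L E L) (N L (N E L L) L) L) L L) L) (N (N (N (N L E L) L L) (N L (N L E L) L) L) (N E (N E L L) L) L) L) (N (N (N (N L (N L (N E L L) L) L) L L) (N (N L E L) (N L (N E L L) L) L) L) (N (N (N (N E E L) E L) (N E (N E L L) L) L) L L) L) L) (N (N (N (N E (N L (N E L L) L) L) (N (N E (N E L L) L) (N (N (N L E L) L L) (N L E L) L) L) L) (N (N (N L (N E L L) L) L L) (N (N (N L E L) (N E L L) L) (N (N L E L) L L) L) L) L) (N L (N L (N L (N (N E L L) E L) L) L) L) L) L) L) L) L) (N (N (N (N (N (N L (N (N L E L) (N L (N E L L) L) L) L) (N (N (N L (N L (N E E L) L) L) (N L (N (N L E L) (N E L L) L) L) L) (N (N L (N (N E L L) (N E E L) L) L) (N (N (N (N L E L) E L) (N L E L) L) E L) L) L) L) (N (N (N E (N (N (N L E L) E L) (N L (N E L L) L) L) L) (N (N (N L (N E L L) L) (N L (N E E L) L) L) (N E L L) L) L) (N (N (N (N L E L) (N L E L) L) (N (N (N L E L) L L) (N (N L E L) (N E E L) L) L) L) (N (N L (N L (N E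 L L) L) L) (N (N E (N L E L) L) L L) L) L) L) L) (N (N (N (N (N L (N E L L) L) (N L (N (N E L L) (N L (N E L L) L) L) L) L) (N (N (N L E L) (N L (N L (N E L L) L) L) L) (N L (N L E L) L) L) L) (N (N (N E (N E (N L E L) L) L) L L) (N (N L (N L (N L E L) L) L) (N (N L E L) L L) L) L) L) (N (N (N (N (N (N L E L) L L) (N L (N L E L) L) L) (N L (N E (N (N E L L) E L) L) L) L) (N L (N (N E L L) (N (N E E L) (N L E L) L) L) L) L) (N (N (N (N (N (N L E L) L L) E L) E L) (N (N (N L E L) L L) (N (N E E L) L L) L) L) (N L (N (N E E L) (N (N E L L) (N L E L) L) L) L) L) L) L) L) (N (N (N (N (N E (N (N L (N E L L) L) (N L (N L E L) L) L) L) (N (N E L L) (N (N E E L) (N L E L) L) L) L) (N (N (N (N E E L) (N L E L) L) (N (N E (N L E L) L) L L) L) (N (N E L L) (N (N E L L) (N E (N L E L) L) L) L) L) L) (N (N L (N (N L (N E L L) L) (N L (N L (N E E L) L) L) L) L) (N (N (N E E L) (N E (N E E L) L) L) (N (N L (N L E L) L) (N L (N E E L) L) L) L) L) L) (N (N (N L (N E (N L (N (N L E L) L L) L) L) L) (N (N (N (N E L L) (N (N L (N E L L) L) L L) L) (N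 (N L (N E L L) L) (N E E L) L) L) (N (N (N L E L) E L) (N (N (N L E L) L L) E L) L) L) L) (N L (N (N L (N L E L) L) (N (N (N E (N E L L) L) E L) (N E (N E L L) L) L) L) L) L) L) L) (N (N (N (N (N (N L (N (N (N L E L) (N L E L) L) L L) L) L L) (N (N E (N L (N (N L (N L E L) L) L L) L) L) (N (N (N L (N L E L) L) (N L E L) L) (N (N (N (N E L L) E L) (N L E L) L) (N L (N L E L) L) L) L) L) L) (N (N L (N (N (N E E L) E L) (N (N (N L E L) E L) (N (N L E L) L L) L) L) L) (N L (N (N L (N L E L) L) (N (N (N (N E L L) L L) E L) (N E E L) L) L) L) L) L) (N (N (N (N (N E (N (N L E L) L L) L) (N (N (N E L L) E L) (N L (N E E L) L) L) L) (N (N (N (N (N E L L) L L) L L) (N E L L) L) (N (N L (N E L L) L) (N L E L) L) L) L) (N (N E E L) (N (N (N (N E L L) L L) (N E (N L E L) L) L) (N (N E L L) L L) L) L) L) (N (N L (N (N (N L (N E E L) L) (N E L L) L) L L) L) (N (N (N (N L (N E E L) L) (N (N L E L) E L) L) (N (N (N E L L) (N L (N L E L) L) L) L L) L) (N (N L (N E L L) L) E L) L) L) L) L) (N (N L (N (N (N E (N (N E (N E L L) L) E L) L) (N (N (N (N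 L E L) E L) L L) L L) L) (N (N (N L (N E (N E L L) L) L) (N (N L (N E (N E L L) L) L) (N E L L) L) L) E L) L) L) (N (N (N (N L (N (N L E L) L L) L) (N (N L (N E E L) L) (N (N (N (N L E L) L L) (N L E L) L) L L) L) L) (N (N (N (N L E L) (N (N L E L) E L) L) (N E (N (N L E L) (N L E L) L) L) L) (N E (N L (N E (N L E L) L) L) L) L) L) (N (N (N L (N (N E L L) (N L (N L E L) L) L) L) (N (N (N E (N L E L) L) (N (N E E L) E L) L) (N (N L E L) E L) L) L) (N (N (N (N E L L) (N (N E L L) (N L E L) L) L) (N E (N (N L E L) L L) L) L) (N (N (N L (N E L L) L) L L) L L) L) L) L) L) L) L) L) 0x8000134120042444001808080212400081a0 (hsh 0xa00000002000000000000000100000001000600000001001a000a0013000000030008000000000010000f00000000000b000300050005001300090003000100000000000e0001000000000005001c00030000000300010007000100000001000000010001000200120004000300000003000300000000000000040003000000000004000c00010000000a000600010002000200060000001f0008000300030003000500010009000d0006000400140004000600000001000100000001000100140000000000000001000d000100000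0000008000a000000180003000000060002000100020000001500050001000100000001000000040007000300270000000100000006000500050000000d0000000900000012001400000000000c00000000000000030001000100000000000600090004000f00000001000000010002000000070000000b000000030001001a000d0009000400080000000000020003000900060002000300020003000300040001000f00000001000000010000000000070002000000110000001000060012000200050000000b00070000001e000d00010008000f00020000000d00000000000300000004000500050002000000000012000000000011000000000003000b000000010000000400110000000000010000000c0006000500000013000f00160000000400030001000000000018000000100002000000000002000f000000060002000700040000000000030000000100010000000000050002000200050000000300000006000200000000000d0010000000050005000b000b0000000500000010000e00030001001000080000000200020005000300020006000100000001000e0006000e00010000000100020001000000010000000000010000000b00070002002c0000000200040010000200000004001100000004000200010001000400040009000b000800040000000100000011000000010000000000030006000300000001000c0002000b00090001000a000100020000000000030009000c00080001000100010000000000050000000700000024000100080001000c000800140000000200030000000000060003000a00000008001a00010009000100020007002300020003000000080002000e000e00080002001a00000000000b00000003002900020000000a0000000800000002000e000100000014000000010001000100000000000100020004000800110000000300120006000500010004000300000000000000130000000b000100040001000400020012000f000100080003000300010000000d000000000004000900090000000000010000000300000000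 487 1347413 2048) 11 (by decide +kernel)

theorem orbS_sextets0 : OrbDec (MulAction.stabilizer M24 (famOf 6 sx0)) sextets ![1, 90, 240, 1440] := by
  refine orbDec_fam _ (fun g _ h => smul_mem_sextets g h) 6 sx0 (fun _ hg => hg) 6 ![0x824020400a4034200009810000149000000f, 0x800023540040202a0009140002400c008190, 0x8000074120102800c0108600041900024028, 0x8000134120042444001808080212400081a0]
    (fun i => famOf_mem_sextets (by revert i; decide +kernel)) (by decide +kernel) _ (fun i => ?_)
    (by rw [ncard_sextets]; decide)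
  · fin_cases i
    · exact orbS_sextets0_0
    · exact orbS_sextets0_1
    · exact orbS_sextets0_2
    · exact orbS_sextets0_3

theorem orbS_octads {S : Finset (Finset GolayPt)} (hS : S ∈ sextets) :
    OrbDec (MulAction.stabilizer M24 S) octads ![15, 360, 384] := by
  obtain ⟨g, rfl⟩ := exists_smul_sextet sx0_mem hS
  exact orbS_octads0.smul (fun g _ h => (smul_mem_octads_iff g).2 h) g

theorem orbS_trios {S : Finset (Finset GolayPt)} (hS : S ∈ sextets) :
    OrbDec (MulAction.stabilizer M24 S) trios ![15, 180, 720, 2880] := by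
  obtain ⟨g, rfl⟩ := exists_smul_sextet sx0_mem hS
  exact orbS_trios0.smul (fun g _ h => smul_mem_trios g h) g

theorem orbS_sextets {S : Finset (Finset GolayPt)} (hS : S ∈ sextets) :
    OrbDec (MulAction.stabilizer M24 S) sextets ![1, 90, 240, 1440] := by
  obtain ⟨g, rfl⟩ := exists_smul_sextet sx0_mem hS
  exact orbS_sextets0.smul (fun g _ h => smul_mem_sextets g h) g

end Cfsg.Agent.Spor.M24C

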