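import Cfsg.Agent.Comp.MatClass

set_option autoImplicit false
set_option maxRecDepth 4096

namespace Cfsg.Agent.Spor.ModelU33

open Cfsg.Agent.Comp

noncomputable def ns_0 : Net :=
 (Net.cons (nat_lit 32) (nat_lit 0xac1659bd)
 (Net.cons (nat_lit 16) (nat_lit 0x95fd00001c47)
 (Net.cons (nat_lit 8) (nat_lit 0xcc009200b50063)
 (Net.cons (nat_lit 4) (nat_lit 0x4030e0b0c010802)
 (Net.cons (nat_lit 2) (nat_lit 0x221023132011312)
 (Net.cons (nat_lit 1) (nat_lit 0x4404514514115001)
 (Net.cons (nat_lit 2) (nat_lit 0x200022022000002)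
 (Net.cons (nat_lit 4) (nat_lit 0x4040e0800000e04)
 (Net.cons (nat_lit 8) (nat_lit 0xbc00800094001c)
 (Net.cons (nat_lit 16) (nat_lit 0x648600006412)
 (Net.cons (nat_lit 32) (nat_lit 0xfa2fe37e)
 Net.nil)))))))))))

noncomputable def ns_1 : Net :=
 (Net.cons (nat_lit 32) (nat_lit 0xf76a3cf1)
 (Net.cons (nat_lit 16) (nat_lit 0xd7d700007818)
 (Net.cons (nat_lit 8) (nat_lit 0xb006a0041005c)
 (Net.cons (nat_lit 4) (nat_lit 0xc010401030e0702)
 (Net.cons (nat_lit 2) (nat_lit 0x2020022020321013)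
 (Net.cons (nat_lit 1) (nat_lit 0x4550414541055451)
 (Net.cons (nat_lit 2) (nat_lit 0x2000222020000002)
 (Net.cons (nat_lit 4) (nat_lit 0x20606080006000e)
 (Net.cons (nat_lit 8) (nat_lit 0xa2001400080000)
 (Net.cons (nat_lit 16) (nat_lit 0x600c00004398)
 (Net.cons (nat_lit 32) (nat_lit 0x8259dc7a)
 Net.nil)))))))))))

noncomputable def ns_2 : Net :=
 (Net.cons (nat_lit 32) (nat_lit 0x790fc928)
 (Net.cons (nat_lit 16) (nat_lit 0x148f0000e79e)
 (Net.cons (nat_lit 8) (nat_lit 0x8f00cd002e00fa)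
 (Net.cons (nat_lit 4) (nat_lit 0xe000c0f020e0d0e)
 (Net.cons (nat_lit 2) (nat_lit 0x3100320202320232)
 (Net.cons (nat_lit 1) (nat_lit 0x1401545141101450)
 (Net.cons (nat_lit 2) (nat_lit 0x20022200000)
 (Net.cons (nat_lit 4) (nat_lit 0xc020004060e0606)
 (Net.cons (nat_lit 8) (nat_lit 0xbc00f800ce009e)
 (Net.cons (nat_lit 16) (nat_lit 0x15080000c750)
 (Net.cons (nat_lit 32) (nat_lit 0x75bf40ca)
 Net.nil)))))))))))

noncomputable def ns_3 : Net :=
 (Net.cons (nat_lit 32) (nat_lit 0x6e6b43a8)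
 (Net.cons (nat_lit 16) (nat_lit 0xd00b00006cbe)
 (Net.cons (nat_lit 8) (nat_lit 0x2c00f800100094)
 (Net.cons (nat_lit 4) (nat_lit 0x3060b0200060204)
 (Net.cons (nat_lit 2) (nat_lit 0x2300310220321200)
 (Net.cons (nat_lit 1) (nat_lit 0x4041150514141014)
 (Net.cons (nat_lit 2) (nat_lit 0x2200000002002)
 (Net.cons (nat_lit 4) (nat_lit 0x80e000000000408)
 (Net.cons (nat_lit 8) (nat_lit 0x2c00d2008400a4)
 (Net.cons (nat_lit 16) (nat_lit 0xa0aa00006c44)
 (Net.cons (nat_lit 32) (nat_lit 0x6ea8ef98)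
 Net.nil)))))))))))

noncomputable def ns_4 : Net :=
 (Net.cons (nat_lit 32) (nat_lit 0x1b5afd84)
 (Net.cons (nat_lit 16) (nat_lit 0xc75f00007982)
 (Net.cons (nat_lit 8) (nat_lit 0x74004d003f00df)
 (Net.cons (nat_lit 4) (nat_lit 0x50d0208070e0102)
 (Net.cons (nat_lit 2) (nat_lit 0x2210012331222320)
 (Net.cons (nat_lit 1) (nat_lit 0x1410001141144545)
 (Net.cons (nat_lit 2) (nat_lit 0x2220002000220020)
 (Net.cons (nat_lit 4) (nat_lit 0x604000a00020e)
 (Net.cons (nat_lit 8) (nat_lit 0x60003000ba00d8)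
 (Net.cons (nat_lit 16) (nat_lit 0xbb640000d2aa)
 (Net.cons (nat_lit 32) (nat_lit 0x754b2690)
 Net.nil)))))))))))

noncomputable def ns_5 : Net :=
 (Net.cons (nat_lit 32) (nat_lit 0x2e99b790)
 (Net.cons (nat_lit 16) (nat_lit 0x96100009650)
 (Net.cons (nat_lit 8) (nat_lit 0x740005003b003c)
 (Net.cons (nat_lit 4) (nat_lit 0x60a000e000a0a04)
 (Net.cons (nat_lit 2) (nat_lit 0x231000111101230)
 (Net.cons (nat_lit 1) (nat_lit 0x1411054144140010)
 (Net.cons (nat_lit 2) (nat_lit 0x20000002200020)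
 (Net.cons (nat_lit 4) (nat_lit 0x60a080800040004)
 (Net.cons (nat_lit 8) (nat_lit 0x56000400240054)
 (Net.cons (nat_lit 16) (nat_lit 0x490800002950)
 (Net.cons (nat_lit 32) (nat_lit 0x5f1cbb98)
 Net.nil)))))))))))

noncomputable def ns_6 : Net :=
 (Net.cons (nat_lit 32) (nat_lit 0xd98f522a)
 (Net.cons (nat_lit 16) (nat_lit 0xa3a000058f4)
 (Net.cons (nat_lit 8) (nat_lit 0x6a00040067002e)
 (Net.cons (nat_lit 4) (nat_lit 0x80c0007000a090c)
 (Net.cons (nat_lit 2) (nat_lit 0x220212010312010)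
 (Net.cons (nat_lit 1) (nat_lit 0x4015101515454114)
 (Net.cons (nat_lit 2) (nat_lit 0x20200000000022)
 (Net.cons (nat_lit 4) (nat_lit 0x20c040000040c)
 (Net.cons (nat_lit 8) (nat_lit 0x60002800000090)
 (Net.cons (nat_lit 16) (nat_lit 0x969400001e2e)
 (Net.cons (nat_lit 32) (nat_lit 0xa15219b4)
 Net.nil)))))))))))

noncomputable def ns : List Net := [ns_0, ns_1, ns_2, ns_3, ns_4, ns_5, ns_6]

theorem ctx : Ctx 64 6 ns := ctx_of (by decide +kernel)

open Cfsg Cfsg.Agent.Comp.Kron Cfsg.Agent.Class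
open scoped MatrixGroups

noncomputable def G_C3 : List Lvl :=
  []

noncomputable def G_ss2 : List (List ℕ) :=
  [[10]]

noncomputable def G_D2 : ℕ :=
  nat_lit 0x4000800000000008

noncomputable def G_l2 : Lvl :=
  ⟨3, [[10]],
  tabA [(62, 768), (47, 769)], 1⟩

noncomputable def G_C2 : List Lvl :=
  G_l2 :: G_C3

noncomputable def G_ss1 : List (List ℕ) :=
  [[4], [6]]

noncomputable def G_D1 : ℕ :=
  nat_lit 0x28a02a5d9caabdf6

noncomputable def G_l1 : Lvl :=
  ⟨1, [[4], [6], [12], [10]],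
  tabC 14 16383 [nat_lit 0x181400004140000000000040400090080000000000000000000000001800000441c00090180000001305000010018053020001a06040c00000006027c101040000000dc1800068100009000000dc10000a414000dc09f00900d304000240490141027c07b010001a010000000], 3⟩

noncomputable def G_C1 : List Lvl :=
  G_l1 :: G_C2

noncomputable def G_ss0 : List (List ℕ) :=
  [[0, 0, 2, 0, 3, 1, 1, 1], [0, 2, 0, 3, 0, 1, 3, 1, 1, 2]]

noncomputable def G_D0 : ℕ :=
  nat_lit 0x7fffffffffffffff

noncomputable def G_l0 : Lvl :=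
  ⟨0, [[0, 0, 2, 0, 3, 1, 1, 1], [0, 2, 0, 3, 0, 1, 3, 1, 1, 2], [8], [4], [6], [12], [10]],
  tabC 14 16383 [nat_lit 0x1b02e415d00101890310084018805000142c5001015804880090ae81c5041027a0c102890090318016c10904a8200059830003600a204141a80624250042408502e818001102e400881f201102320de8009088837a0a6c244048818407000220b8829d05001000210009051404000], 3⟩

noncomputable def G_C0 : List Lvl :=
  G_l0 :: G_C1

theorem G_lb3 : 1 ≤ Nat.card (cgrp ns G_C3) :=
  lb_nil _

theorem G_le2 : gen ns G_l2.ws ≤ gen ns G_ss2 :=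
  gen_le_step ctx (tgt := [])
  (es := []) (le_refl (gen _ [])) (by decide +kernel)

theorem G_lv2 : chkLvl 64 ns G_l2 G_C3 G_D2 2 = true :=
  by decide +kernel

theorem G_lb2 : 3 ≤ Nat.card (cgrp ns G_C2) :=
  lb_step ctx G_lv2 G_lb3 (by decide +kernel)

theorem G_le1 : gen ns G_l1.ws ≤ gen ns G_ss1 :=
  gen_le_step ctx (tgt := [[10], [12]])
  (es := [([10], [1, 1, 2, 1, 3, 1, 2, 1, 2, 1]), ([12], [2, 4, 4, 2])]) G_le2 (by decide +kernel)

theorem G_lv1 : chkLvl 64 ns G_l1 G_C2 G_D1 2 = true :=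
  by decide +kernel

theorem G_lb1 : 96 ≤ Nat.card (cgrp ns G_C1) :=
  lb_step ctx G_lv1 G_lb2 (by decide +kernel)

theorem G_le0 : gen ns G_l0.ws ≤ gen ns G_ss0 :=
  gen_le_step ctx (tgt := [[4], [6], [8]])
  (es := [([4], [2, 0, 3, 0, 2, 2]), ([6], [5, 5, 3, 3, 3, 3, 5, 5, 3, 5, 2, 4, 3, 4, 2]), ([8], [7, 4, 4, 6])]) G_le1 (by decide +kernel)

theorem G_lv0 : chkLvl 64 ns G_l0 G_C1 G_D0 2 = true :=
  by decide +kernel

theorem G_lb0 : 6048 ≤ Nat.card (cgrp ns G_C0) :=
  lb_step ctx G_lv0 G_lb1 (by decide +kernel)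

theorem G_lb : 6048 ≤ Nat.card (gen ns G_ss0) :=
  lb_of_le ctx G_le0 G_lb0

theorem hq : ∀ a : Fin 3, a.val < 3 ∧ (fun i => Fin.ofNat 3 i) a.val = a :=
  isEnum_fin' 3

noncomputable def MASK : ℕ :=
  nat_lit 0x3fe00000000000ff800000000003fe00000000000007fc00000000001ff000000000007fc0000000000000ff800000000003fe00000000000ff80000000000001ff000000000007fc00000000001ff00000000000003fe00000000000ff800000000003fe00000000000007fc00000000001ff000000000007fc0000000000000000000000000000000000000000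

noncomputable def MOD : ℕ :=
  nat_lit 0x3ffffffffffffffffffffffffffffffffffffffff

noncomputable def DW : ℕ :=
  nat_lit 0x8000000000000000000000000000000000000000200000000000000000000000000000000000000008000000000000000000000000000000000000000000000000000010000000000000000000000000000000000000000400000000000000000000000000000000000000010000000000000000000000000000000000

noncomputable def Cw : ℕ :=
  nat_lit 0x2000000000000000400000000000000080200000000000000040000000000000008000000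

noncomputable def QM : ℕ :=
  nat_lit 0x1e0f0783c1e0f0783c1e0f0783c1e0f0783c1e0f

noncomputable def op : ℕ → ℕ → ℕ :=
  opP 3 11 5 QM MASK MOD

theorem X : Kron.Ctx (fun i => Fin.ofNat 3 i) (QuadraticAlgebra.omega : GF9) 9 3 2 6 3 op DW :=
  ctx_odd (isEnum_fin 3) (isBase_GF9) Cw (by decide +kernel)

noncomputable def o : ℕ :=
  nat_lit 0x40000000000000008000000000000001

theorem ho : matB 9 3 2 6 3 oneCode o = true :=
  by decide +kernel

noncomputable def S : ℕ → ℕ :=
  tabC 54 (ones 54) [nat_lit 0x401000080201008000002008040202000080401008000001010040202000040201000000001008000000000000201010000001010040401000040201000080002010040402000080401000000002000040401000080401008000000000040400000000200010080001010040402000040201000040001008040000000040001000080001008040402000080201000040001010040201000040201010040001010040402000000201000040000000040201000000201010040001000040402000000401008040002010040201000080001010040002000040002000000001000000000008000202000080001000080002008040400000080201008040002008040000000080200000040002010040000000000401008080000008040202000040401008000001008040202000080201010040000008040000000040000008080001000040201000040401000080001010040001000080201010000002010040201000000401008000000008000200000080401010000001008040202000000401010080001000040402000080001010000000000040201000040001010040000010040000000000001]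

noncomputable def Z : ℕ :=
  nat_lit 0x200000040000000040000008000000008000001

theorem hZ : matB 9 3 2 6 3 (scalCode (fun t => getL 0 [1, 1] t)) Z = true :=
  by decide +kernel

theorem hS : validT 9 3 6 3 63 S = true :=
  by decide +kernel

/-- the points -/
noncomputable def pt : ℕ → Sub (Fin 3) (GF9) := subPt (fun i => Fin.ofNat 3 i) (QuadraticAlgebra.omega : GF9) 9 3 6 S

noncomputable def C0 : ℕ :=
  nat_lit 0x1010040001000080002010080200008040400

theorem act0 : ∀ g : GL (Fin 3) (GF9), RepE (fun i => Fin.ofNat 3 i) (QuadraticAlgebra.omega : GF9) 9 3 6 3 C0 g → RepBy 63 pt g (wp ns [0]) :=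
  fun _ hg => X.repBy_of_chkLine ctx hS hZ hg (t := 8) (by decide +kernel)

theorem rep0 : ∃ g ∈ GU 3 GF9 3, RepBy 63 pt g (wp ns [0]) :=
  by
  obtain ⟨g, hg⟩ := X.exists_repE' ho (C := C0) (nat_lit 0x10040401010040000010080200010040400) (by decide +kernel)
  have hm := X.coe_eq_matS hq hg
  exact ⟨g, mem_GU_of card_GF9 hm (by decide +kernel), act0 g hg⟩

noncomputable def C1 : ℕ :=
  nat_lit 0x200010080400000040401000080401008000200

theorem act1 : ∀ g : GL (Fin 3) (GF9), RepE (fun i => Fin.ofNat 3 i) (QuadraticAlgebra.omega : GF9) 9 3 6 3 C1 g → RepBy 63 pt g (wp ns [2]) :=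
  fun _ hg => X.repBy_of_chkLine ctx hS hZ hg (t := 8) (by decide +kernel)

theorem rep1 : ∃ g ∈ GU 3 GF9 3, RepBy 63 pt g (wp ns [2]) :=
  by
  obtain ⟨g, hg⟩ := X.exists_repE' ho (C := C1) (nat_lit 0x400008080200000080402000040201010000400) (by decide +kernel)
  have hm := X.coe_eq_matS hq hg
  exact ⟨g, mem_GU_of card_GF9 hm (by decide +kernel), act1 g hg⟩

noncomputable def ls : List (List ℕ) :=
  [[0], [2]]

theorem repsL : Reps 63 pt (GU 3 GF9 3) ns ls :=
  Reps.cons rep0 (Reps.cons rep1 (Reps.nil))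

theorem sep0 : Sep 63 pt 0 :=
  X.sep_of_chkSepSub hS (P := 1) (by decide +kernel)

theorem inj : ∀ i < 63, ∀ j < 63, pt i = pt j → i = j :=
  repsL.inj ctx (ps := [0]) 6 (List.forall_mem_cons.2 ⟨sep0, fun _ h => absurd h List.not_mem_nil⟩) (by decide +kernel)

noncomputable def ps : List (List ℕ × List ℕ) :=
  [([0, 0, 2], [0]), ([0, 2, 0], [3, 0])]

theorem hcomm : chkComm ls ps G_ss0 = true :=
  by decide +kernel

theorem card : Nat.card (PSU 3 GF9 3) = 6048 :=
  card_PSU_of card_GF9 (by norm_num) (by decide +kernel)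

theorem model : ∃ e : PSU 3 GF9 3 ≃* gen ns G_ss0,
    ∀ g : SU 3 GF9 3, RepBy 63 pt (suGL 3 GF9 3 g) (e g : Equiv.Perm ℕ) :=
  psu_model card_GF9 (by norm_num) inj (repsL.comm ps hcomm) (card.trans_le G_lb)

noncomputable def equiv : PSU 3 GF9 3 ≃* gen ns G_ss0 :=
  Classical.choose model

theorem equiv_rep : ∀ g : SU 3 GF9 3, RepBy 63 pt (suGL 3 GF9 3 g) (equiv g : Equiv.Perm ℕ) :=
  Classical.choose_spec model

theorem G_card : Nat.card (gen ns G_ss0) = 6048 :=
  (Nat.card_congr equiv.toEquiv).symm.trans card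

theorem G_eq : gen ns G_ss0 = cgrp ns G_C0 :=
  eq_of_le_of_lb ctx G_le0 G_card G_lb0

theorem G_card0 : Nat.card (cgrp ns G_C0) = 6048 :=
  G_eq ▸ G_card

theorem G_st0 : IsStab 64 (gen ns G_l0.ws) (cgrp ns G_C1) G_l0.b G_D0 :=
  isStab_known ctx G_card0 G_lb1 G_lv0 (by decide +kernel)

theorem G_card1 : Nat.card (cgrp ns G_C1) = 96 :=
  card_step ctx G_st0 G_card0 (by decide +kernel)

theorem G_st1 : IsStab 64 (gen ns G_l1.ws) (cgrp ns G_C2) G_l1.b G_D1 :=
  isStab_known ctx G_card1 G_lb2 G_lv1 (by decide +kernel)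

theorem G_card2 : Nat.card (cgrp ns G_C2) = 3 :=
  card_step ctx G_st1 G_card1 (by decide +kernel)

theorem G_st2 : IsStab 64 (gen ns G_l2.ws) (cgrp ns G_C3) G_l2.b G_D2 :=
  isStab_known ctx G_card2 G_lb3 G_lv2 (by decide +kernel)

theorem G_ver3 : Ver ns G_C3 1 :=
  ver_nil _

theorem G_ver2 : Ver ns G_C2 3 :=
  G_ver3.cons ctx G_st2 (by decide +kernel)

theorem G_ver1 : Ver ns G_C1 96 :=
  G_ver2.cons ctx G_st1 (by decide +kernel)

theorem G_ver0 : Ver ns G_C0 6048 :=
  G_ver1.cons ctx G_st0 (by decide +kernel)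

theorem G_supp : gen ns G_ss0 ≤ suppSub 63 :=
  gen_le_supp_of_suppW ctx (by decide +kernel)

end Cfsg.Agent.Spor.ModelU33
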