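import Cfsg.Agent.Comp.MatClass

set_option autoImplicit false
set_option maxRecDepth 4096

namespace Cfsg.Agent.Spor.ModelT16

open Cfsg.Agent.Comp

noncomputable def ns_0 : Net :=
 (Net.cons (nat_lit 8) 15
 (Net.cons (nat_lit 4) 3855
 (Net.cons (nat_lit 2) 771
 (Net.cons (nat_lit 1) 1285
 (Net.cons (nat_lit 4) 3084
 Net.nil)))))

noncomputable def ns_1 : Net :=
 (Net.cons (nat_lit 8) 240
 (Net.cons (nat_lit 4) 771
 (Net.cons (nat_lit 2) 51
 (Net.cons (nat_lit 1) 4420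
 Net.nil))))

noncomputable def ns_2 : Net :=
 (Net.cons (nat_lit 8) 204
 (Net.cons (nat_lit 4) 3840
 (Net.cons (nat_lit 2) 816
 (Net.cons (nat_lit 1) 16660
 (Net.cons (nat_lit 8) 240
 Net.nil)))))

noncomputable def ns_3 : Net :=
 (Net.cons (nat_lit 8) 240
 (Net.cons (nat_lit 4) 3840
 (Net.cons (nat_lit 1) 1360
 (Net.cons (nat_lit 8) 240
 Net.nil))))

noncomputable def ns_4 : Net :=
 (Net.cons (nat_lit 8) 240
 (Net.cons (nat_lit 4) 3840
 Net.nil))

noncomputable def ns_5 : Net :=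
 (Net.cons (nat_lit 4) 3840
 (Net.cons (nat_lit 2) 12336
 (Net.cons (nat_lit 1) 1360
 Net.nil)))

noncomputable def ns_6 : Net :=
 (Net.cons (nat_lit 4) 3840
 (Net.cons (nat_lit 1) 21760
 Net.nil))

noncomputable def ns_7 : Net :=
 (Net.cons (nat_lit 2) 13056
 (Net.cons (nat_lit 1) 21760
 Net.nil))

noncomputable def ns_8 : Net :=
 (Net.cons (nat_lit 2) 13056
 Net.nil)

noncomputable def ns : List Net := [ns_0, ns_1, ns_2, ns_3, ns_4, ns_5, ns_6, ns_7, ns_8]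

theorem ctx : Ctx 16 4 ns := ctx_of (by decide +kernel)

noncomputable def G_C4 : List Lvl :=
  []

noncomputable def G_ss3 : List (List ℕ) :=
  [[12], [14], [16]]

noncomputable def G_D3 : ℕ :=
  65280

noncomputable def G_l3 : Lvl :=
  ⟨8, [[12], [14], [16]],
  tabA [(13, 2048), (11, 2050), (10, 2052), (14, 3330), (15, 3332), (9, 2820), (12, 3588)], 3⟩

noncomputable def G_C3 : List Lvl :=
  G_l3 :: G_C4

noncomputable def G_ss2 : List (List ℕ) :=
  [[8], [10]]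

noncomputable def G_D2 : ℕ :=
  65520

noncomputable def G_l2 : Lvl :=
  ⟨4, [[8], [10], [12], [14], [16]],
  tabA [(12, 1024), (8, 1025), (7, 1026), (10, 3074), (9, 3075), (15, 3078), (14, 3080), (13, 2050), (11, 2054), (6, 2560), (5, 2304)], 3⟩

noncomputable def G_C2 : List Lvl :=
  G_l2 :: G_C3

noncomputable def G_ss1 : List (List ℕ) :=
  [[4], [6]]

noncomputable def G_D1 : ℕ :=
  65532

noncomputable def G_l1 : Lvl :=
  ⟨2, [[4], [6], [8], [10], [12], [14], [16]],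
  tabC 12 4095 [nat_lit 0xb05b06b00d02200703b0cb0a201b02d05706600000000000], 3⟩

noncomputable def G_C1 : List Lvl :=
  G_l1 :: G_C2

noncomputable def G_ss0 : List (List ℕ) :=
  [[0], [2]]

noncomputable def G_D0 : ℕ :=
  65535

noncomputable def G_l0 : Lvl :=
  ⟨0, [[0], [2], [4], [6], [8], [10], [12], [14], [16]],
  tabC 12 4095 [nat_lit 0x703c10c06001706707c02705000b06f03700c03002303000], 3⟩

noncomputable def G_C0 : List Lvl :=
  G_l0 :: G_C1

theorem G_lb4 : 1 ≤ Nat.card (cgrp ns G_C4) :=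
  lb_nil _

theorem G_le3 : gen ns G_l3.ws ≤ gen ns G_ss3 :=
  gen_le_step ctx (tgt := [])
  (es := []) (le_refl (gen _ [])) (by decide +kernel)

theorem G_lv3 : chkLvl 16 ns G_l3 G_C4 G_D3 1 = true :=
  by decide +kernel

theorem G_lb3 : 8 ≤ Nat.card (cgrp ns G_C3) :=
  lb_step ctx G_lv3 G_lb4 (by decide +kernel)

theorem G_le2 : gen ns G_l2.ws ≤ gen ns G_ss2 :=
  gen_le_step ctx (tgt := [[12], [14], [16]])
  (es := [([12], [0, 3, 3, 1, 2]), ([14], [5, 5]), ([16], [5, 7, 4, 7, 4, 4])]) G_le3 (by decide +kernel)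

theorem G_lv2 : chkLvl 16 ns G_l2 G_C3 G_D2 2 = true :=
  by decide +kernel

theorem G_lb2 : 96 ≤ Nat.card (cgrp ns G_C2) :=
  lb_step ctx G_lv2 G_lb3 (by decide +kernel)

theorem G_le1 : gen ns G_l1.ws ≤ gen ns G_ss1 :=
  gen_le_step ctx (tgt := [[8], [10]])
  (es := [([8], [1, 1, 2, 2, 0, 2, 1, 2, 2]), ([10], [3, 5, 2, 5, 3, 3, 3])]) G_le2 (by decide +kernel)

theorem G_lv1 : chkLvl 16 ns G_l1 G_C2 G_D1 2 = true :=
  by decide +kernel

theorem G_lb1 : 1344 ≤ Nat.card (cgrp ns G_C1) :=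
  lb_step ctx G_lv1 G_lb2 (by decide +kernel)

theorem G_le0 : gen ns G_l0.ws ≤ gen ns G_ss0 :=
  gen_le_step ctx (tgt := [[4], [6]])
  (es := [([4], [0, 2, 2, 2, 2, 1, 2, 2]), ([6], [3, 3, 3, 5, 5, 5, 2])]) G_le1 (by decide +kernel)

theorem G_lv0 : chkLvl 16 ns G_l0 G_C1 G_D0 2 = true :=
  by decide +kernel

theorem G_lb0 : 21504 ≤ Nat.card (cgrp ns G_C0) :=
  lb_step ctx G_lv0 G_lb1 (by decide +kernel)

theorem G_lb : 21504 ≤ Nat.card (gen ns G_ss0) :=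
  lb_of_le ctx G_le0 G_lb0

end Cfsg.Agent.Spor.ModelT16
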