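import Cfsg.Agent.Comp.Cent
import Cfsg.Agent.Spor.ModelM24
import Cfsg.Agent.Spor.ModelT16

set_option autoImplicit false
set_option Elab.async false
set_option maxRecDepth 4096

namespace Cfsg.Agent.Spor.CentM24

open Cfsg.Agent.Comp

noncomputable def ns_2 : Net :=
 (Net.cons (nat_lit 16) 2144
 (Net.cons (nat_lit 8) 524368
 (Net.cons (nat_lit 4) 525832
 (Net.cons (nat_lit 2) (nat_lit 0x121002)
 (Net.cons (nat_lit 1) 65792
 (Net.cons (nat_lit 2) 131072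
 (Net.cons (nat_lit 4) 525832
 (Net.cons (nat_lit 8) 16
 (Net.cons (nat_lit 16) 2112
 Net.nil)))))))))

noncomputable def ns_3 : Net :=
 (Net.cons (nat_lit 16) 63292
 (Net.cons (nat_lit 8) (nat_lit 0xc40000)
 (Net.cons (nat_lit 4) (nat_lit 0x5020002)
 (Net.cons (nat_lit 2) (nat_lit 0x10010002)
 (Net.cons (nat_lit 1) (nat_lit 0x41040045)
 (Net.cons (nat_lit 2) (nat_lit 0x20000000)
 (Net.cons (nat_lit 4) 786432
 (Net.cons (nat_lit 8) (nat_lit 0xf20000)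
 (Net.cons (nat_lit 16) 63364
 Net.nil)))))))))

noncomputable def ns_4 : Net :=
 (Net.cons (nat_lit 16) 57048
 (Net.cons (nat_lit 8) (nat_lit 0x300010)
 (Net.cons (nat_lit 4) (nat_lit 0x8010106)
 (Net.cons (nat_lit 2) (nat_lit 0x10210022)
 (Net.cons (nat_lit 1) (nat_lit 0x40111044)
 (Net.cons (nat_lit 2) (nat_lit 0x20220022)
 (Net.cons (nat_lit 4) (nat_lit 0xa080000)
 (Net.cons (nat_lit 8) (nat_lit 0xb40030)
 (Net.cons (nat_lit 16) 57050
 Net.nil)))))))))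

noncomputable def ns_5 : Net :=
 (Net.cons (nat_lit 16) 7416
 (Net.cons (nat_lit 8) (nat_lit 0x2000a2)
 (Net.cons (nat_lit 4) (nat_lit 0xc0d0c0e)
 (Net.cons (nat_lit 2) 258
 (Net.cons (nat_lit 1) (nat_lit 0x40040444)
 (Net.cons (nat_lit 2) (nat_lit 0x20020022)
 (Net.cons (nat_lit 4) (nat_lit 0xc0c0c08)
 (Net.cons (nat_lit 8) (nat_lit 0x300082)
 (Net.cons (nat_lit 16) 7416
 Net.nil)))))))))

noncomputable def ns_6 : Net :=
 (Net.cons (nat_lit 16) 65226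
 (Net.cons (nat_lit 8) (nat_lit 0xb800d0)
 (Net.cons (nat_lit 4) (nat_lit 0xe040d00)
 (Net.cons (nat_lit 2) (nat_lit 0x2110302)
 (Net.cons (nat_lit 1) (nat_lit 0x54510104)
 (Net.cons (nat_lit 2) (nat_lit 0x2020202)
 (Net.cons (nat_lit 4) (nat_lit 0xa040c00)
 (Net.cons (nat_lit 8) (nat_lit 0x1400d0)
 (Net.cons (nat_lit 16) 65044
 Net.nil)))))))))

noncomputable def ns_7 : Net :=
 (Net.cons (nat_lit 16) 16634
 (Net.cons (nat_lit 8) (nat_lit 0x100032)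
 (Net.cons (nat_lit 4) 2050
 (Net.cons (nat_lit 2) (nat_lit 0x10010030)
 (Net.cons (nat_lit 1) 332800
 (Net.cons (nat_lit 2) 512
 (Net.cons (nat_lit 4) 920072
 (Net.cons (nat_lit 8) (nat_lit 0x500020)
 (Net.cons (nat_lit 16) 16384
 Net.nil)))))))))

noncomputable def ns_8 : Net :=
 (Net.cons (nat_lit 16) 32360
 (Net.cons (nat_lit 8) (nat_lit 0xb6000a)
 (Net.cons (nat_lit 4) (nat_lit 0xa060a00)
 (Net.cons (nat_lit 2) 205312
 (Net.cons (nat_lit 1) (nat_lit 0x14150110)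
 (Net.cons (nat_lit 2) (nat_lit 0x2000200)
 (Net.cons (nat_lit 4) 262656
 (Net.cons (nat_lit 8) (nat_lit 0xc2000a)
 (Net.cons (nat_lit 16) 32440
 Net.nil)))))))))

noncomputable def ns_9 : Net :=
 (Net.cons (nat_lit 16) 51698
 (Net.cons (nat_lit 8) (nat_lit 0xda00de)
 (Net.cons (nat_lit 4) (nat_lit 0xa0c0602)
 (Net.cons (nat_lit 2) (nat_lit 0x12210002)
 (Net.cons (nat_lit 1) (nat_lit 0x11041404)
 (Net.cons (nat_lit 2) (nat_lit 0x2000202)
 (Net.cons (nat_lit 4) (nat_lit 0xa000c00)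
 (Net.cons (nat_lit 8) (nat_lit 0x1200cc)
 (Net.cons (nat_lit 16) 51488
 Net.nil)))))))))

noncomputable def ns_10 : Net :=
 (Net.cons (nat_lit 16) 8388
 (Net.cons (nat_lit 8) (nat_lit 0x200080)
 (Net.cons (nat_lit 4) 787456
 (Net.cons (nat_lit 2) 74290
 (Net.cons (nat_lit 1) 5124
 (Net.cons (nat_lit 2) 8706
 (Net.cons (nat_lit 4) 263168
 (Net.cons (nat_lit 8) 128
 (Net.cons (nat_lit 16) 8388
 Net.nil)))))))))

noncomputable def ns_11 : Net :=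
 (Net.cons (nat_lit 16) 52104
 (Net.cons (nat_lit 8) (nat_lit 0x9900ec)
 (Net.cons (nat_lit 4) (nat_lit 0x10a0806)
 (Net.cons (nat_lit 2) (nat_lit 0x30213030)
 (Net.cons (nat_lit 1) (nat_lit 0x11454040)
 (Net.cons (nat_lit 2) (nat_lit 0x20000020)
 (Net.cons (nat_lit 4) 917510
 (Net.cons (nat_lit 8) (nat_lit 0x9800fc)
 (Net.cons (nat_lit 16) 52088
 Net.nil)))))))))

noncomputable def ns_12 : Net :=
 (Net.cons (nat_lit 16) 25824
 (Net.cons (nat_lit 8) (nat_lit 0x600088)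
 (Net.cons (nat_lit 4) (nat_lit 0x40a0800)
 (Net.cons (nat_lit 2) (nat_lit 0x20100202)
 (Net.cons (nat_lit 1) (nat_lit 0x40010110)
 (Net.cons (nat_lit 2) (nat_lit 0x20000200)
 (Net.cons (nat_lit 4) (nat_lit 0x4020800)
 (Net.cons (nat_lit 8) (nat_lit 0x600088)
 (Net.cons (nat_lit 16) 25760
 Net.nil)))))))))

noncomputable def ns_13 : Net :=
 (Net.cons (nat_lit 16) 29074
 (Net.cons (nat_lit 8) (nat_lit 0x4000e2)
 (Net.cons (nat_lit 4) (nat_lit 0x3030602)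
 (Net.cons (nat_lit 2) (nat_lit 0x10212000)
 (Net.cons (nat_lit 1) (nat_lit 0x1114410)
 (Net.cons (nat_lit 2) (nat_lit 0x222020)
 (Net.cons (nat_lit 4) (nat_lit 0x2020802)
 (Net.cons (nat_lit 8) 224
 (Net.cons (nat_lit 16) 28962
 Net.nil)))))))))

noncomputable def ns_14 : Net :=
 (Net.cons (nat_lit 16) 49492
 (Net.cons (nat_lit 8) (nat_lit 0x780090)
 (Net.cons (nat_lit 4) 787968
 (Net.cons (nat_lit 2) (nat_lit 0x32003010)
 (Net.cons (nat_lit 1) (nat_lit 0x41045000)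
 (Net.cons (nat_lit 2) (nat_lit 0x22020000)
 (Net.cons (nat_lit 4) (nat_lit 0x80c0c04)
 (Net.cons (nat_lit 8) (nat_lit 0x780090)
 (Net.cons (nat_lit 16) 49492
 Net.nil)))))))))

noncomputable def ns_15 : Net :=
 (Net.cons (nat_lit 16) 63344
 (Net.cons (nat_lit 8) (nat_lit 0xc000f0)
 (Net.cons (nat_lit 4) (nat_lit 0xb070000)
 (Net.cons (nat_lit 2) (nat_lit 0x2013000)
 (Net.cons (nat_lit 1) (nat_lit 0x15414000)
 (Net.cons (nat_lit 2) (nat_lit 0x220000)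
 (Net.cons (nat_lit 4) (nat_lit 0xc060800)
 (Net.cons (nat_lit 8) (nat_lit 0xc200f0)
 (Net.cons (nat_lit 16) 63296
 Net.nil)))))))))

noncomputable def ns_16 : Net :=
 (Net.cons (nat_lit 16) 41056
 (Net.cons (nat_lit 8) 50
 (Net.cons (nat_lit 4) 984324
 (Net.cons (nat_lit 2) (nat_lit 0x20003102)
 (Net.cons (nat_lit 1) (nat_lit 0x414004)
 (Net.cons (nat_lit 2) (nat_lit 0x202002)
 (Net.cons (nat_lit 4) 917508
 (Net.cons (nat_lit 8) (nat_lit 0x800022)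
 (Net.cons (nat_lit 16) 40992
 Net.nil)))))))))

noncomputable def ns_17 : Net :=
 (Net.cons (nat_lit 16) 49416
 (Net.cons (nat_lit 8) (nat_lit 0xd00060)
 (Net.cons (nat_lit 4) (nat_lit 0x1060408)
 (Net.cons (nat_lit 2) (nat_lit 0x20001220)
 (Net.cons (nat_lit 1) (nat_lit 0x10410400)
 (Net.cons (nat_lit 2) (nat_lit 0x20000000)
 (Net.cons (nat_lit 4) 1032
 (Net.cons (nat_lit 8) (nat_lit 0xd00050)
 (Net.cons (nat_lit 16) 49416
 Net.nil)))))))))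

noncomputable def ns_18 : Net :=
 (Net.cons (nat_lit 16) 7312
 (Net.cons (nat_lit 8) 192
 (Net.cons (nat_lit 4) (nat_lit 0x40e0000)
 (Net.cons (nat_lit 2) (nat_lit 0x10030030)
 (Net.cons (nat_lit 1) (nat_lit 0x444110)
 (Net.cons (nat_lit 2) 131072
 (Net.cons (nat_lit 4) (nat_lit 0x40e0200)
 (Net.cons (nat_lit 8) (nat_lit 0x180000)
 (Net.cons (nat_lit 16) 7312
 Net.nil)))))))))

noncomputable def ns_19 : Net :=
 (Net.cons (nat_lit 16) 24928
 (Net.cons (nat_lit 8) (nat_lit 0x4200c0)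
 (Net.cons (nat_lit 4) (nat_lit 0x2090400)
 (Net.cons (nat_lit 2) (nat_lit 0x111020)
 (Net.cons (nat_lit 1) (nat_lit 0x1440400)
 (Net.cons (nat_lit 4) 1024
 (Net.cons (nat_lit 8) (nat_lit 0x4200d0)
 (Net.cons (nat_lit 16) 24832
 Net.nil))))))))

noncomputable def ns_20 : Net :=
 (Net.cons (nat_lit 16) 49792
 (Net.cons (nat_lit 8) (nat_lit 0xc20008)
 (Net.cons (nat_lit 4) 590348
 (Net.cons (nat_lit 2) (nat_lit 0x200020)
 (Net.cons (nat_lit 1) 262404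
 (Net.cons (nat_lit 4) 524812
 (Net.cons (nat_lit 8) (nat_lit 0x800008)
 (Net.cons (nat_lit 16) 49792
 Net.nil))))))))

noncomputable def ns_21 : Net :=
 (Net.cons (nat_lit 16) 2144
 (Net.cons (nat_lit 8) 524384
 (Net.cons (nat_lit 4) 396288
 (Net.cons (nat_lit 2) (nat_lit 0x310320)
 (Net.cons (nat_lit 1) (nat_lit 0x500040)
 (Net.cons (nat_lit 2) 32
 (Net.cons (nat_lit 4) 396288
 (Net.cons (nat_lit 8) 96
 (Net.cons (nat_lit 16) 2112
 Net.nil)))))))))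

noncomputable def ns_22 : Net :=
 (Net.cons (nat_lit 16) 9344
 (Net.cons (nat_lit 8) (nat_lit 0x700020)
 (Net.cons (nat_lit 4) (nat_lit 0x6080008)
 (Net.cons (nat_lit 2) (nat_lit 0x12222212)
 (Net.cons (nat_lit 1) (nat_lit 0x4014100)
 (Net.cons (nat_lit 2) (nat_lit 0x2022200)
 (Net.cons (nat_lit 4) (nat_lit 0x6080008)
 (Net.cons (nat_lit 8) (nat_lit 0x700020)
 (Net.cons (nat_lit 16) 9344
 Net.nil)))))))))

noncomputable def ns_23 : Net :=
 (Net.cons (nat_lit 16) 34720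
 (Net.cons (nat_lit 8) (nat_lit 0xf700c8)
 (Net.cons (nat_lit 4) (nat_lit 0x3080008)
 (Net.cons (nat_lit 2) (nat_lit 0x32020000)
 (Net.cons (nat_lit 1) (nat_lit 0x4044010)
 (Net.cons (nat_lit 2) (nat_lit 0x2002020)
 (Net.cons (nat_lit 4) 10
 (Net.cons (nat_lit 8) (nat_lit 0x700088)
 (Net.cons (nat_lit 16) 34720
 Net.nil)))))))))

noncomputable def ns_24 : Net :=
 (Net.cons (nat_lit 16) 19926
 (Net.cons (nat_lit 8) 524384
 (Net.cons (nat_lit 4) (nat_lit 0x40d0600)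
 (Net.cons (nat_lit 2) (nat_lit 0x1030200)
 (Net.cons (nat_lit 1) (nat_lit 0x101414)
 (Net.cons (nat_lit 2) 8738
 (Net.cons (nat_lit 4) 787968
 (Net.cons (nat_lit 8) (nat_lit 0x400040)
 (Net.cons (nat_lit 16) 19846
 Net.nil)))))))))

noncomputable def ns_25 : Net :=
 (Net.cons (nat_lit 16) 52686
 (Net.cons (nat_lit 8) (nat_lit 0x9100e8)
 (Net.cons (nat_lit 4) (nat_lit 0x50e0e06)
 (Net.cons (nat_lit 2) (nat_lit 0x31202030)
 (Net.cons (nat_lit 1) (nat_lit 0x14451440)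
 (Net.cons (nat_lit 2) (nat_lit 0x20202220)
 (Net.cons (nat_lit 4) 134662
 (Net.cons (nat_lit 8) (nat_lit 0x9800d8)
 (Net.cons (nat_lit 16) 52704
 Net.nil)))))))))

noncomputable def ns_26 : Net :=
 (Net.cons (nat_lit 16) 44191
 (Net.cons (nat_lit 8) (nat_lit 0xc0009b)
 (Net.cons (nat_lit 4) (nat_lit 0xc0b0201)
 (Net.cons (nat_lit 2) (nat_lit 0x20001212)
 (Net.cons (nat_lit 1) (nat_lit 0x44141104)
 (Net.cons (nat_lit 2) (nat_lit 0x202202)
 (Net.cons (nat_lit 4) 133632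
 (Net.cons (nat_lit 8) (nat_lit 0xc000ca)
 (Net.cons (nat_lit 16) 44060
 Net.nil)))))))))

noncomputable def ns_27 : Net :=
 (Net.cons (nat_lit 16) 2229
 (Net.cons (nat_lit 8) (nat_lit 0xa80086)
 (Net.cons (nat_lit 4) 2829
 (Net.cons (nat_lit 2) (nat_lit 0x20030323)
 (Net.cons (nat_lit 1) 66837
 (Net.cons (nat_lit 2) 131072
 (Net.cons (nat_lit 4) (nat_lit 0x8000808)
 (Net.cons (nat_lit 8) (nat_lit 0xa00030)
 (Net.cons (nat_lit 16) 2056
 Net.nil)))))))))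

noncomputable def ns : List Net := [ModelM24.ns_0, ModelM24.ns_1, ns_2, ns_3, ns_4, ns_5, ns_6, ns_7, ns_8, ns_9, ns_10, ns_11, ns_12, ns_13, ns_14, ns_15, ns_16, ns_17, ns_18, ns_19, ns_20, ns_21, ns_22, ns_23, ns_24, ns_25, ns_26, ns_27]

theorem ctx : Ctx 32 5 ns := ctx_of (by decide +kernel)


theorem geq : gen ModelM24.ns ModelM24.G_ss0 = gen ns [[0], [2]] :=
  gen_eq_of_take (ns := ModelM24.ns) (ns' := ns) (k := 2) rfl (ws := ModelM24.G_ss0) (by decide +kernel)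

theorem hn : Nat.card (gen ns [[0], [2]]) = 244823040 :=
  geq ▸ ModelM24.G_card

noncomputable def equiv : ↥Cfsg.M24 ≃* ↥(gen ns [[0], [2]]) :=
  ModelM24.equiv.trans (MulEquiv.subgroupCongr geq)

theorem kn_0 : Known ns (gen ns [[0], [2]]) 3 :=
  known_gen (by decide +kernel)

noncomputable def CG_S7 : List SD :=
  []

noncomputable def CG_d6 : SD :=
  ⟨12, 2, [38], lab 1 1 1024, 1⟩

noncomputable def CG_S6 : List SD :=
  CG_d6 :: CG_S7

noncomputable def CG_d5 : SD :=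
  ⟨9, 2, [32, 34, 36, 38], lab 3 7 (nat_lit 0x224b35a20405050000), 2⟩

noncomputable def CG_S5 : List SD :=
  CG_d5 :: CG_S6

noncomputable def CG_d4 : SD :=
  ⟨7, 2, [26, 28, 30, 32, 34, 36, 38], lab 4 15 (nat_lit 0x8721da04bc44256900530000), 3⟩

noncomputable def CG_S4 : List SD :=
  CG_d4 :: CG_S5

noncomputable def CG_d3 : SD :=
  ⟨1, 1, [20, 22, 24, 26, 28, 30, 32, 34, 36, 38], lab 5 31 (nat_lit 0x92488380535392820d721206200000), 3⟩

noncomputable def CG_S3 : List SD :=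
  CG_d3 :: CG_S4

noncomputable def CG_d2 : SD :=
  ⟨3, 1, [14, 16, 18, 20, 22, 24, 26, 28, 30, 32, 34, 36, 38], lab 5 31 (nat_lit 0x210a08c1e2a05d1a3c091158300000), 2⟩

noncomputable def CG_S2 : List SD :=
  CG_d2 :: CG_S3

noncomputable def CG_d1 : SD :=
  ⟨2, 1, [8, 10, 12, 14, 16, 18, 20, 22, 24, 26, 28, 30, 32, 34, 36, 38], lab 5 31 (nat_lit 0x5bc78938f76702818a60b5c08000a0), 2⟩

noncomputable def CG_S1 : List SD :=
  CG_d1 :: CG_S2

noncomputable def CG_d0 : SD :=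
  ⟨0, 1, [0, 2, 6, 8, 10, 12, 14, 16, 18, 20, 22, 24, 26, 28, 30, 32, 34, 36, 38], lab 6 63 (nat_lit 0x50755111278b3c030e59020e30a15408a000), 3⟩

noncomputable def CG_S0 : List SD :=
  CG_d0 :: CG_S1

theorem kn_1 : Known ns (gen ns [[0], [2]]) 268435455 :=
  kn_0.steps ctx (es := [(3, [3, 1, 1, 1, 1, 1]),
 (4, [7, 7, 1, 2, 0, 6, 6, 6, 6, 2]),
 (5, [7, 1, 3, 7, 0, 3, 7, 2, 7, 7, 3, 0, 7, 2, 1]),
 (6, [10, 9, 11, 9]),
 (7, [10, 12]),
 (8, [8, 8, 12, 11, 9, 13]),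
 (9, [15, 17]),
 (10, [15, 18, 16, 19, 14, 17]),
 (11, [15, 16, 19, 17, 18, 15, 19, 14]),
 (12, [22, 22, 22, 22, 20, 22]),
 (13, [21, 23, 24, 23, 21, 24]),
 (14, [23, 23, 24, 20, 22, 22]),
 (15, [26, 26, 28, 26]),
 (16, [28, 28, 30]),
 (17, [26, 29]),
 (18, [30, 29, 31, 31, 31, 27]),
 (19, [32, 35]),
 (20, [38, 36, 38]),
 (21, [37, 33]),
 (22, [38, 20, 30, 26, 26, 39]),
 (23, [24, 36, 34, 38]),
 (24, [29, 15, 24, 30, 27, 36, 39]),
 (25, [15, 8, 34, 14, 28, 20, 35, 27, 36, 33, 38]),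
 (26, [16, 7, 0, 8, 8, 31, 15, 30, 20, 33, 26, 38, 36, 38]),
 (27, [17, 0, 20, 8, 31, 15, 28, 20, 29, 26, 37, 38]),
 (2, [22, 22, 30, 26, 26, 34, 36, 38])]) (by decide +kernel)

theorem CG_ex : Exact 32 ns CG_S0 ∧ gen ns (sTop CG_S0) = gen ns [[0], [2]] ∧ gen ns [[0], [2]] = gen ns [[0], [2]] :=
  exact_of_known ctx hn (le_rfl) kn_1 (by decide +kernel)

noncomputable def C_as : List (List ℕ) :=
  [[4]]

noncomputable def C_p : List (List ℕ × List ℕ) :=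
  derAs (dg C_as) [[0]]

noncomputable def C_s : List (ℕ × ℕ) :=
  derSs 32 5 ns (dg C_as) [[0]]

noncomputable def C_k0 : List (List ℕ) :=
  [[52], [54], [50], [48], [44], [46], [40], [42]]

noncomputable def C_k1 : List (List ℕ) :=
  [[50], [48], [44], [46], [40], [42]]

noncomputable def C_k2 : List (List ℕ) :=
  [[48], [44], [46], [40], [42]]

noncomputable def C_k3 : List (List ℕ) :=
  [[44], [46], [40], [42]]

noncomputable def C_k4 : List (List ℕ) :=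
  [[40], [42]]

noncomputable def C_k5 : List (List ℕ) :=
  [[40], [42]]

noncomputable def C_k6 : List (List ℕ) :=
  []

noncomputable def C_k7 : List (List ℕ) :=
  []

theorem C_cm : commB 32 5 ns (dg C_as) C_k0 = true :=
  by decide +kernel

theorem C_g0 : Good 32 ns C_p C_s (gen ns (sTop CG_S0)) C_k0 :=
  good_der ctx kn_1 (CG_ex.2.1.trans CG_ex.2.2.symm) _ _ ((and'_eq_true _ _).2 ⟨by decide +kernel, C_cm⟩)

theorem C_g1 : Good 32 ns C_p C_s (gen ns (sTop CG_S1)) C_k1 :=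
  C_g0.tail ctx CG_ex.1 (by decide +kernel)

theorem C_g2 : Good 32 ns C_p C_s (gen ns (sTop CG_S2)) C_k2 :=
  C_g1.tail ctx CG_ex.1.tail (by decide +kernel)

theorem C_g3 : Good 32 ns C_p C_s (gen ns (sTop CG_S3)) C_k3 :=
  C_g2.tail ctx CG_ex.1.tail.tail (by decide +kernel)

theorem C_g4 : Good 32 ns C_p C_s (gen ns (sTop CG_S4)) C_k4 :=
  C_g3.tail ctx CG_ex.1.tail.tail.tail (by decide +kernel)

theorem C_g5 : Good 32 ns C_p C_s (gen ns (sTop CG_S5)) C_k5 :=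
  C_g4.tail ctx CG_ex.1.tail.tail.tail.tail (by decide +kernel)

theorem C_g6 : Good 32 ns C_p C_s (gen ns (sTop CG_S6)) C_k6 :=
  C_g5.tail ctx CG_ex.1.tail.tail.tail.tail.tail (by decide +kernel)

theorem C_l7 : LevX 32 ns C_p C_s (gen ns (sTop CG_S7)) C_k7 1 :=
  levX_nil _ _ _ _

theorem C_l6 : LevX 32 ns C_p C_s (gen ns (sTop CG_S6)) C_k6 1 :=
  C_l7.step ctx CG_ex.1.tail.tail.tail.tail.tail.tail C_g6 (br_zero _ _ _ _ _ _ _) [] 0 0 (by decide +kernel)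

theorem C_l5 : LevX 32 ns C_p C_s (gen ns (sTop CG_S5)) C_k5 4 :=
  C_l6.step ctx CG_ex.1.tail.tail.tail.tail.tail C_g5 (br_zero _ _ _ _ _ _ _) [] 1 1 (by decide +kernel)

theorem C_l4 : LevX 32 ns C_p C_s (gen ns (sTop CG_S4)) C_k4 4 :=
  C_l5.step ctx CG_ex.1.tail.tail.tail.tail C_g4 (br_zero _ _ _ _ _ _ _) [(0, 1, 0)] 0 0 (by decide +kernel)

theorem C_l3 : LevX 32 ns C_p C_s (gen ns (sTop CG_S3)) C_k3 64 :=
  C_l4.step ctx CG_ex.1.tail.tail.tail C_g3 (br_zero _ _ _ _ _ _ _) [] 2 2 (by decide +kernel)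

theorem C_l2 : LevX 32 ns C_p C_s (gen ns (sTop CG_S2)) C_k2 384 :=
  C_l3.step ctx CG_ex.1.tail.tail C_g2 (br_zero _ _ _ _ _ _ _) [] 2 2 (by decide +kernel)

theorem C_l1 : LevX 32 ns C_p C_s (gen ns (sTop CG_S1)) C_k1 2688 :=
  C_l2.step ctx CG_ex.1.tail C_g1 (br_zero _ _ _ _ _ _ _) [] 2 2 (by decide +kernel)

theorem C_l0 : LevX 32 ns C_p C_s (gen ns (sTop CG_S0)) C_k0 21504 :=
  C_l1.step ctx CG_ex.1 C_g0 (br_zero _ _ _ _ _ _ _) [] 2 2 (by decide +kernel)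

theorem C : CentEq ns (gen ns [[0], [2]]) C_as C_k0 21504 :=
  centEq_of ctx CG_ex.2.1 C_l0 C_g0 C_cm

noncomputable def M : ℕ → ℕ :=
  tabC 24 (ones 24) [nat_lit 0x149f0f82402a06cc0590132412c62b84190e009521964a0904d226920d0316812c805e0d028b0294542710d80886072]

noncomputable def t : ↥Cfsg.M24 :=
  equiv.symm ⟨wp ns [4], kn_1.word (by decide +kernel)⟩

theorem ht : (equiv t : Equiv.Perm ℕ) = wp ns [4] :=
  by
  rw [t, MulEquiv.apply_symm_apply]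

theorem ord_t : orderOf t = 2 :=
  orderOf_of_model ctx equiv ht 2 1 (by decide +kernel)

theorem iso : Nonempty (gen ns C_k0 ≃* gen ModelT16.ns ModelT16.G_ss0) :=
  by
  have := finite_gen ctx.ok C_k0
  obtain ⟨e, -⟩ := exists_equiv_masks' ctx ModelT16.ctx (K := gen ns C_k0) (us := [[52], [54]])
    (ws' := ModelT16.G_ss0) (gen_le_of_subsetL _ (by decide +kernel)) (n := 16) (M := M) [0] 4
    (by decide +kernel) (C.card.trans_le ModelT16.G_lb)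
  exact ⟨e⟩

end Cfsg.Agent.Spor.CentM24
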