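import Cfsg.Agent.Comp.MatSL

set_option autoImplicit false
set_option maxRecDepth 4096

namespace Cfsg.Agent.Spor.ModelSL52

open Cfsg.Agent.Comp

noncomputable def ns_0 : Net :=
 (Net.cons (nat_lit 2) (nat_lit 0x22222222)
 (Net.cons (nat_lit 1) (nat_lit 0x44444444)
 (Net.cons (nat_lit 2) (nat_lit 0x22222222)
 Net.nil)))

noncomputable def ns_1 : Net :=
 (Net.cons (nat_lit 16) 27038
 (Net.cons (nat_lit 8) (nat_lit 0xcb00cb)
 (Net.cons (nat_lit 4) (nat_lit 0x902060d)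
 (Net.cons (nat_lit 2) (nat_lit 0x22112211)
 (Net.cons (nat_lit 1) (nat_lit 0x55005500)
 (Net.cons (nat_lit 8) (nat_lit 0x800080)
 (Net.cons (nat_lit 16) 30832
 Net.nil)))))))

noncomputable def ns_2 : Net :=
 (Net.cons (nat_lit 16) 5662
 (Net.cons (nat_lit 8) (nat_lit 0x9e009e)
 (Net.cons (nat_lit 4) (nat_lit 0xd05020a)
 (Net.cons (nat_lit 2) (nat_lit 0x33003300)
 (Net.cons (nat_lit 1) (nat_lit 0x14141414)
 (Net.cons (nat_lit 4) (nat_lit 0x2020202)
 (Net.cons (nat_lit 8) (nat_lit 0xf800f8)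
 (Net.cons (nat_lit 16) 26210
 Net.nil))))))))

noncomputable def ns_3 : Net :=
 (Net.cons (nat_lit 16) 34808
 (Net.cons (nat_lit 8) (nat_lit 0x61009e)
 (Net.cons (nat_lit 4) (nat_lit 0x7070808)
 (Net.cons (nat_lit 2) (nat_lit 0x22222222)
 (Net.cons (nat_lit 1) (nat_lit 0x41144114)
 (Net.cons (nat_lit 2) (nat_lit 0x22222222)
 (Net.cons (nat_lit 4) (nat_lit 0x8080808)
 (Net.cons (nat_lit 8) (nat_lit 0x800080)
 (Net.cons (nat_lit 16) 32768
 Net.nil)))))))))

noncomputable def ns_4 : Net :=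
 (Net.cons (nat_lit 16) 52403
 (Net.cons (nat_lit 8) (nat_lit 0x4c00b3)
 (Net.cons (nat_lit 4) (nat_lit 0x7080807)
 (Net.cons (nat_lit 2) (nat_lit 0x21122112)
 (Net.cons (nat_lit 1) (nat_lit 0x5505005)
 (Net.cons (nat_lit 4) (nat_lit 0x4040404)
 (Net.cons (nat_lit 8) (nat_lit 0x800080)
 (Net.cons (nat_lit 16) 32768
 Net.nil))))))))

noncomputable def ns_5 : Net :=
 (Net.cons (nat_lit 16) 1528
 (Net.cons (nat_lit 8) 262268
 (Net.cons (nat_lit 4) (nat_lit 0x809080c)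
 (Net.cons (nat_lit 2) (nat_lit 0x31330200)
 (Net.cons (nat_lit 1) (nat_lit 0x1540154)
 (Net.cons (nat_lit 4) (nat_lit 0x8000800)
 (Net.cons (nat_lit 8) 262148
 (Net.cons (nat_lit 16) 32384
 Net.nil))))))))

noncomputable def ns_6 : Net :=
 (Net.cons (nat_lit 16) 32768
 (Net.cons (nat_lit 8) 459000
 (Net.cons (nat_lit 4) (nat_lit 0x9060f00)
 (Net.cons (nat_lit 2) (nat_lit 0x33330000)
 (Net.cons (nat_lit 1) (nat_lit 0x55550000)
 (Net.cons (nat_lit 8) (nat_lit 0x800080)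
 (Net.cons (nat_lit 16) 32768
 Net.nil)))))))

noncomputable def ns_7 : Net :=
 (Net.cons (nat_lit 16) 7706
 (Net.cons (nat_lit 8) (nat_lit 0x340034)
 (Net.cons (nat_lit 4) (nat_lit 0x1010e0e)
 (Net.cons (nat_lit 2) (nat_lit 0x12212112)
 (Net.cons (nat_lit 1) (nat_lit 0x14414114)
 (Net.cons (nat_lit 4) 524296
 (Net.cons (nat_lit 8) (nat_lit 0x4c004c)
 (Net.cons (nat_lit 16) 30832
 Net.nil))))))))

noncomputable def ns_8 : Net :=
 (Net.cons (nat_lit 16) 65408
 (Net.cons (nat_lit 8) (nat_lit 0x800080)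
 (Net.cons (nat_lit 4) (nat_lit 0x30f0c00)
 (Net.cons (nat_lit 1) (nat_lit 0x55005500)
 (Net.cons (nat_lit 8) (nat_lit 0x800080)
 (Net.cons (nat_lit 16) 32768
 Net.nil))))))

noncomputable def ns_9 : Net :=
 (Net.cons (nat_lit 16) 32768
 (Net.cons (nat_lit 8) (nat_lit 0x7f0080)
 (Net.cons (nat_lit 4) (nat_lit 0xf050a00)
 (Net.cons (nat_lit 2) (nat_lit 0x333300)
 (Net.cons (nat_lit 8) (nat_lit 0x800080)
 (Net.cons (nat_lit 16) 32768
 Net.nil))))))

noncomputable def ns_10 : Net :=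
 (Net.cons (nat_lit 16) 32768
 (Net.cons (nat_lit 8) (nat_lit 0x810000)
 (Net.cons (nat_lit 4) (nat_lit 0x9090000)
 (Net.cons (nat_lit 2) (nat_lit 0x33330000)
 (Net.cons (nat_lit 1) (nat_lit 0x55550000)
 (Net.cons (nat_lit 16) 32768
 Net.nil))))))

noncomputable def ns_11 : Net :=
 (Net.cons (nat_lit 16) 65408
 (Net.cons (nat_lit 8) 459000
 (Net.cons (nat_lit 4) (nat_lit 0x7070808)
 (Net.cons (nat_lit 2) (nat_lit 0x3300330)
 (Net.cons (nat_lit 1) (nat_lit 0x55005500)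
 (Net.cons (nat_lit 4) (nat_lit 0x8080808)
 (Net.cons (nat_lit 8) (nat_lit 0x800080)
 (Net.cons (nat_lit 16) 32768
 Net.nil))))))))

noncomputable def ns_12 : Net :=
 (Net.cons (nat_lit 16) 32768
 (Net.cons (nat_lit 8) (nat_lit 0x3f0000)
 (Net.cons (nat_lit 4) (nat_lit 0x3030000)
 (Net.cons (nat_lit 1) (nat_lit 0x55550000)
 (Net.cons (nat_lit 16) 32768
 Net.nil)))))

noncomputable def ns_13 : Net :=
 (Net.cons (nat_lit 16) 32768
 (Net.cons (nat_lit 8) (nat_lit 0x900000)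
 (Net.cons (nat_lit 4) (nat_lit 0x6060000)
 (Net.cons (nat_lit 2) (nat_lit 0x33330000)
 (Net.cons (nat_lit 1) (nat_lit 0x55550000)
 (Net.cons (nat_lit 16) 32768
 Net.nil))))))

noncomputable def ns_14 : Net :=
 (Net.cons (nat_lit 16) 32768
 (Net.cons (nat_lit 8) (nat_lit 0x840000)
 (Net.cons (nat_lit 4) (nat_lit 0xc0c0000)
 (Net.cons (nat_lit 1) (nat_lit 0x55550000)
 (Net.cons (nat_lit 16) 32768
 Net.nil)))))

noncomputable def ns_15 : Net :=
 (Net.cons (nat_lit 16) 4096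
 (Net.cons (nat_lit 8) (nat_lit 0x6e0008)
 (Net.cons (nat_lit 4) (nat_lit 0x9070f08)
 (Net.cons (nat_lit 2) (nat_lit 0x32330200)
 (Net.cons (nat_lit 1) (nat_lit 0x54550100)
 (Net.cons (nat_lit 2) (nat_lit 0x2000200)
 (Net.cons (nat_lit 4) (nat_lit 0x8000800)
 (Net.cons (nat_lit 8) 524296
 (Net.cons (nat_lit 16) 32384
 Net.nil)))))))))

noncomputable def ns : List Net := [ns_0, ns_1, ns_2, ns_3, ns_4, ns_5, ns_6, ns_7, ns_8, ns_9, ns_10, ns_11, ns_12, ns_13, ns_14, ns_15]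

theorem ctx : Ctx 32 5 ns := ctx_of (by decide +kernel)

open Cfsg Cfsg.Agent.Comp.Kron Cfsg.Agent.Class
open scoped MatrixGroups

noncomputable def G_C5 : List Lvl :=
  []

noncomputable def G_ss4 : List (List ℕ) :=
  [[24], [20], [26], [28]]

noncomputable def G_D4 : ℕ :=
  nat_lit 0x7fff8000

noncomputable def G_l4 : Lvl :=
  ⟨15, [[24], [20], [26], [28]],
  tabC 13 8191 [nat_lit 0x3c03c05d06f037413c09906d034c1a80cf048023c1a00cf020000000000000000000000000000000000000000000000000000], 4⟩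

noncomputable def G_C4 : List Lvl :=
  G_l4 :: G_C5

noncomputable def G_ss3 : List (List ℕ) :=
  [[16], [18], [20]]

noncomputable def G_D3 : ℕ :=
  nat_lit 0x7fffff80

noncomputable def G_l3 : Lvl :=
  ⟨7, [[16], [18], [30], [24], [20], [26], [28]],
  tabC 13 8191 [nat_lit 0x1c074149013829c03410900d06680b40ba03d03780bc0a704f036811604e02d007810e0590100000000000000000000000000], 3⟩

noncomputable def G_C3 : List Lvl :=
  G_l3 :: G_C4

noncomputable def G_ss2 : List (List ℕ) :=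
  [[10], [12]]

noncomputable def G_D2 : ℕ :=
  nat_lit 0x7ffffff8

noncomputable def G_l2 : Lvl :=
  ⟨3, [[10], [12], [22], [16], [18], [30], [24], [20], [26], [28]],
  tabC 13 8191 [nat_lit 0x2c18608e00703382dc0b409703e40dc14301a07742ce03405a018c01610e081813808e11d06181b80f60ac030000000000000], 3⟩

noncomputable def G_C2 : List Lvl :=
  G_l2 :: G_C3

noncomputable def G_ss1 : List (List ℕ) :=
  [[4], [6]]

noncomputable def G_D1 : ℕ :=
  nat_lit 0x7ffffffe

noncomputable def G_l1 : Lvl :=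
  ⟨1, [[4], [6], [14], [10], [12], [22], [16], [18], [30], [24], [20], [26], [28]],
  tabC 13 8191 [nat_lit 0x403a017003808040941490c804e83b40b00a804241603010080a2805409000d008404206a0e08228212110023842808000000], 2⟩

noncomputable def G_C1 : List Lvl :=
  G_l1 :: G_C2

noncomputable def G_ss0 : List (List ℕ) :=
  [[0], [2]]

noncomputable def G_D0 : ℕ :=
  nat_lit 0x7fffffff

noncomputable def G_l0 : Lvl :=
  ⟨0, [[0], [2], [8], [4], [6], [14], [10], [12], [22], [16], [18], [30], [24], [20], [26], [28]],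
  tabC 13 8191 [nat_lit 0xbc01e0af0f2443c39e07185f833a18307f027853c04005f08242bc17e0df09f858006306f02f81920be110022419206000], 3⟩

noncomputable def G_C0 : List Lvl :=
  G_l0 :: G_C1

theorem G_lb5 : 1 ≤ Nat.card (cgrp ns G_C5) :=
  lb_nil _

theorem G_le4 : gen ns G_l4.ws ≤ gen ns G_ss4 :=
  gen_le_step ctx (tgt := [])
  (es := []) (le_refl (gen _ [])) (by decide +kernel)

theorem G_lv4 : chkLvl 32 ns G_l4 G_C5 G_D4 1 = true :=
  by decide +kernel

theorem G_lb4 : 16 ≤ Nat.card (cgrp ns G_C4) :=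
  lb_step ctx G_lv4 G_lb5 (by decide +kernel)

theorem G_le3 : gen ns G_l3.ws ≤ gen ns G_ss3 :=
  gen_le_step ctx (tgt := [[24], [20], [26], [28], [30]])
  (es := [([24], [1, 5, 1, 5, 1, 5, 2, 0, 3, 0]), ([20], [6]), ([26], [7, 5, 9, 7, 9, 4, 7, 5, 8]), ([28], [9, 11, 9]), ([30], [9, 9, 11, 9, 12])]) G_le4 (by decide +kernel)

theorem G_lv3 : chkLvl 32 ns G_l3 G_C4 G_D3 2 = true :=
  by decide +kernel

theorem G_lb3 : 384 ≤ Nat.card (cgrp ns G_C3) :=
  lb_step ctx G_lv3 G_lb4 (by decide +kernel)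

theorem G_le2 : gen ns G_l2.ws ≤ gen ns G_ss2 :=
  gen_le_step ctx (tgt := [[16], [18], [20], [22]])
  (es := [([16], [3, 1, 3, 0, 3, 1, 3, 1]), ([18], [4, 3, 3, 4, 2]), ([20], [6, 6, 6]), ([22], [6, 6, 8, 8, 6])]) G_le3 (by decide +kernel)

theorem G_lv2 : chkLvl 32 ns G_l2 G_C3 G_D2 2 = true :=
  by decide +kernel

theorem G_lb2 : 10752 ≤ Nat.card (cgrp ns G_C2) :=
  lb_step ctx G_lv2 G_lb3 (by decide +kernel)

theorem G_le1 : gen ns G_l1.ws ≤ gen ns G_ss1 :=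
  gen_le_step ctx (tgt := [[10], [12], [14]])
  (es := [([10], [1, 3, 3, 3, 1, 2, 0]), ([12], [4, 3, 4, 3]), ([14], [7, 4, 6, 6])]) G_le2 (by decide +kernel)

theorem G_lv1 : chkLvl 32 ns G_l1 G_C2 G_D1 2 = true :=
  by decide +kernel

theorem G_lb1 : 322560 ≤ Nat.card (cgrp ns G_C1) :=
  lb_step ctx G_lv1 G_lb2 (by decide +kernel)

theorem G_le0 : gen ns G_l0.ws ≤ gen ns G_ss0 :=
  gen_le_step ctx (tgt := [[4], [6], [8]])
  (es := [([4], [3, 3, 3, 3, 3, 0, 3, 3, 3]), ([6], [5, 2, 4, 2, 5, 2]), ([8], [6, 6, 4, 6])]) G_le1 (by decide +kernel)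

theorem G_lv0 : chkLvl 32 ns G_l0 G_C1 G_D0 2 = true :=
  by decide +kernel

theorem G_lb0 : 9999360 ≤ Nat.card (cgrp ns G_C0) :=
  lb_step ctx G_lv0 G_lb1 (by decide +kernel)

theorem G_lb : 9999360 ≤ Nat.card (gen ns G_ss0) :=
  lb_of_le ctx G_le0 G_lb0

theorem hq : ∀ a : Fin 5, a.val < 5 ∧ (fun i => Fin.ofNat 5 i) a.val = a :=
  isEnum_fin' 5

noncomputable def MASK : ℕ :=
  nat_lit 0x100001000010000100001000001000010000100001000010000010000100001000010000100000100001000010000100001000001000010000100001000010000000000000000000000000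

noncomputable def MOD : ℕ :=
  nat_lit 0xfffffffffffffffffffffffff

noncomputable def DW : ℕ :=
  nat_lit 0x100000000000000000000000010000000000000000000000001000000000000000000000000100000000000000000000000010000000000000000000000000

noncomputable def Cw : ℕ :=
  nat_lit 0x1000001000001000001000001

noncomputable def op : ℕ → ℕ → ℕ :=
  raw MASK MOD

theorem X : Kron.Ctx (fun i => Fin.ofNat 5 i) (1 : ZMod 2) 4 5 1 5 2 op DW :=
  ctx_two (isEnum_fin 5) (isBase_zmod 2) Cw (by decide +kernel)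

noncomputable def o : ℕ :=
  nat_lit 0x1000001000001000001000001

theorem ho : matB 4 5 1 5 2 oneCode o = true :=
  by decide +kernel

noncomputable def S : ℕ → ℕ :=
  tabC 20 (ones 20) [nat_lit 0x11111111101110111100110111101011001110001011110110101011010010011100101000110000011110111001101011000101101010010010100000111001100010100100000110001000001]

noncomputable def Z : ℕ :=
  nat_lit 0x1000001000001000001000001

theorem hZ : matB 4 5 1 5 2 (scalCode (fun t => getL 0 [1, 0] t)) Z = true :=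
  by decide +kernel

theorem hS : validT 4 5 5 2 31 S = true :=
  by decide +kernel

/-- the points -/
noncomputable def pt : ℕ → Sub (Fin 5) (ZMod 2) := subPt (fun i => Fin.ofNat 5 i) (1 : ZMod 2) 4 5 5 S

noncomputable def C0 : ℕ :=
  nat_lit 0x1000001000001000001100001

theorem act0 : ∀ g : GL (Fin 5) (ZMod 2), RepE (fun i => Fin.ofNat 5 i) (1 : ZMod 2) 4 5 5 2 C0 g → RepBy 31 pt g (wp ns [0]) :=
  fun _ hg => X.repBy_of_chkLine ctx hS hZ hg (t := 1) (by decide +kernel)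

theorem rep0 : ∃ g ∈ (slGL (Fin 5) (ZMod 2)).range, RepBy 31 pt g (wp ns [0]) :=
  by
  obtain ⟨g, hg⟩ := X.exists_repE' ho (C := C0) (nat_lit 0x1000001000001000001100001) (by decide +kernel)
  have hm := X.coe_eq_matS hq hg
  exact ⟨g, mem_slGL_two g, act0 g hg⟩

noncomputable def C1 : ℕ :=
  nat_lit 0x1110001011100000101011111

theorem act1 : ∀ g : GL (Fin 5) (ZMod 2), RepE (fun i => Fin.ofNat 5 i) (1 : ZMod 2) 4 5 5 2 C1 g → RepBy 31 pt g (wp ns [2]) :=
  fun _ hg => X.repBy_of_chkLine ctx hS hZ hg (t := 1) (by decide +kernel)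

theorem rep1 : ∃ g ∈ (slGL (Fin 5) (ZMod 2)).range, RepBy 31 pt g (wp ns [2]) :=
  by
  obtain ⟨g, hg⟩ := X.exists_repE' ho (C := C1) (nat_lit 0x10011001011011101101010) (by decide +kernel)
  have hm := X.coe_eq_matS hq hg
  exact ⟨g, mem_slGL_two g, act1 g hg⟩

noncomputable def ls : List (List ℕ) :=
  [[0], [2]]

theorem repsL : Reps 31 pt (slGL (Fin 5) (ZMod 2)).range ns ls :=
  Reps.cons rep0 (Reps.cons rep1 (Reps.nil))

theorem sep0 : Sep 31 pt 0 :=
  X.sep_of_chkSepSub hS (P := 1) (by decide +kernel)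

theorem inj : ∀ i < 31, ∀ j < 31, pt i = pt j → i = j :=
  repsL.inj ctx (ps := [0]) 8 (List.forall_mem_cons.2 ⟨sep0, fun _ h => absurd h List.not_mem_nil⟩) (by decide +kernel)

theorem card : Nat.card (SL(5, ZMod 2)) = 9999360 :=
  card_SL_of (ZMod.card 2) (by decide +kernel)

theorem model : ∃ e : SL(5, ZMod 2) ≃* gen ns G_ss0,
    ∀ g : SL(5, ZMod 2), RepBy 31 pt (slGL (Fin 5) (ZMod 2) g) (e g : Equiv.Perm ℕ) :=
  Reps.exists_equiv (ws := G_ss0) _ inj repsL le_rfl (card.trans_le G_lb)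

noncomputable def equiv : SL(5, ZMod 2) ≃* gen ns G_ss0 :=
  Classical.choose model

theorem equiv_rep : ∀ g : SL(5, ZMod 2), RepBy 31 pt (slGL (Fin 5) (ZMod 2) g) (equiv g : Equiv.Perm ℕ) :=
  Classical.choose_spec model

theorem G_card : Nat.card (gen ns G_ss0) = 9999360 :=
  (Nat.card_congr equiv.toEquiv).symm.trans card

theorem G_eq : gen ns G_ss0 = cgrp ns G_C0 :=
  eq_of_le_of_lb ctx G_le0 G_card G_lb0

theorem G_card0 : Nat.card (cgrp ns G_C0) = 9999360 :=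
  G_eq ▸ G_card

theorem G_st0 : IsStab 32 (gen ns G_l0.ws) (cgrp ns G_C1) G_l0.b G_D0 :=
  isStab_known ctx G_card0 G_lb1 G_lv0 (by decide +kernel)

theorem G_card1 : Nat.card (cgrp ns G_C1) = 322560 :=
  card_step ctx G_st0 G_card0 (by decide +kernel)

theorem G_st1 : IsStab 32 (gen ns G_l1.ws) (cgrp ns G_C2) G_l1.b G_D1 :=
  isStab_known ctx G_card1 G_lb2 G_lv1 (by decide +kernel)

theorem G_card2 : Nat.card (cgrp ns G_C2) = 10752 :=
  card_step ctx G_st1 G_card1 (by decide +kernel)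

theorem G_st2 : IsStab 32 (gen ns G_l2.ws) (cgrp ns G_C3) G_l2.b G_D2 :=
  isStab_known ctx G_card2 G_lb3 G_lv2 (by decide +kernel)

theorem G_card3 : Nat.card (cgrp ns G_C3) = 384 :=
  card_step ctx G_st2 G_card2 (by decide +kernel)

theorem G_st3 : IsStab 32 (gen ns G_l3.ws) (cgrp ns G_C4) G_l3.b G_D3 :=
  isStab_known ctx G_card3 G_lb4 G_lv3 (by decide +kernel)

theorem G_card4 : Nat.card (cgrp ns G_C4) = 16 :=
  card_step ctx G_st3 G_card3 (by decide +kernel)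

theorem G_st4 : IsStab 32 (gen ns G_l4.ws) (cgrp ns G_C5) G_l4.b G_D4 :=
  isStab_known ctx G_card4 G_lb5 G_lv4 (by decide +kernel)

theorem G_ver5 : Ver ns G_C5 1 :=
  ver_nil _

theorem G_ver4 : Ver ns G_C4 16 :=
  G_ver5.cons ctx G_st4 (by decide +kernel)

theorem G_ver3 : Ver ns G_C3 384 :=
  G_ver4.cons ctx G_st3 (by decide +kernel)

theorem G_ver2 : Ver ns G_C2 10752 :=
  G_ver3.cons ctx G_st2 (by decide +kernel)

theorem G_ver1 : Ver ns G_C1 322560 :=
  G_ver2.cons ctx G_st1 (by decide +kernel)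

theorem G_ver0 : Ver ns G_C0 9999360 :=
  G_ver1.cons ctx G_st0 (by decide +kernel)

theorem G_supp : gen ns G_ss0 ≤ suppSub 31 :=
  gen_le_supp_of_suppW ctx (by decide +kernel)

theorem tvm : ∀ p : Fin 5 × Fin 5, (Matrix.transvection 0 1 1 : Matrix (Fin 5) (Fin 5) (ZMod 2)) p.1 p.2 = matS Fin.val (1 : ZMod 2) 4 5 1 5 C0 p.1 p.2 :=
  by decide +kernel

theorem equiv_tv : ∀ s : SL(5, ZMod 2), (s : Matrix (Fin 5) (Fin 5) (ZMod 2)) = Matrix.transvection 0 1 1 →
    (equiv s : Equiv.Perm ℕ) = wp ns [0] :=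
  fun s hs => (equiv_rep s).unique inj (act0 _ (X.repE_of_matS hq (by decide +kernel)
    ((coe_slGL s).trans (hs.trans (Matrix.ext fun i j => tvm (i, j))))))

end Cfsg.Agent.Spor.ModelSL52
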