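import Cfsg.Agent.Comp.Cent
import Cfsg.Agent.Spor.ModelSL52
import Cfsg.Agent.Spor.ModelT16

set_option autoImplicit false
set_option Elab.async false
set_option maxRecDepth 4096

namespace Cfsg.Agent.Spor.CentSL52

open Cfsg.Agent.Comp

noncomputable def ns_2 : Net :=
 (Net.cons (nat_lit 16) 25022
 (Net.cons (nat_lit 8) (nat_lit 0xcb00cb)
 (Net.cons (nat_lit 4) (nat_lit 0xd02020d)
 (Net.cons (nat_lit 2) (nat_lit 0x30030330)
 (Net.cons (nat_lit 1) (nat_lit 0x55005500)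
 (Net.cons (nat_lit 4) (nat_lit 0x8000800)
 (Net.cons (nat_lit 8) (nat_lit 0x800080)
 (Net.cons (nat_lit 16) 30832
 Net.nil))))))))

noncomputable def ns_3 : Net :=
 (Net.cons (nat_lit 16) 30824
 (Net.cons (nat_lit 8) (nat_lit 0xad00ad)
 (Net.cons (nat_lit 4) (nat_lit 0xf0d090d)
 (Net.cons (nat_lit 2) (nat_lit 0x33320002)
 (Net.cons (nat_lit 1) (nat_lit 0x545501)
 (Net.cons (nat_lit 2) 131074
 (Net.cons (nat_lit 4) 524296
 (Net.cons (nat_lit 8) (nat_lit 0x800080)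
 (Net.cons (nat_lit 16) 21844
 Net.nil)))))))))

noncomputable def ns_4 : Net :=
 (Net.cons (nat_lit 16) 2032
 (Net.cons (nat_lit 8) (nat_lit 0x4a002c)
 (Net.cons (nat_lit 4) (nat_lit 0xf070008)
 (Net.cons (nat_lit 2) (nat_lit 0x2320232)
 (Net.cons (nat_lit 1) (nat_lit 0x54015401)
 (Net.cons (nat_lit 2) (nat_lit 0x2020202)
 (Net.cons (nat_lit 4) (nat_lit 0x8080808)
 (Net.cons (nat_lit 8) (nat_lit 0x540054)
 (Net.cons (nat_lit 16) 30776
 Net.nil)))))))))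

noncomputable def ns_5 : Net :=
 (Net.cons (nat_lit 16) 32768
 (Net.cons (nat_lit 8) (nat_lit 0x800080)
 (Net.cons (nat_lit 4) 657920
 (Net.cons (nat_lit 2) (nat_lit 0x11222211)
 (Net.cons (nat_lit 8) (nat_lit 0x800080)
 (Net.cons (nat_lit 16) 32768
 Net.nil))))))

noncomputable def ns_6 : Net :=
 (Net.cons (nat_lit 16) 65408
 (Net.cons (nat_lit 8) (nat_lit 0x800080)
 (Net.cons (nat_lit 4) (nat_lit 0x7070808)
 (Net.cons (nat_lit 2) (nat_lit 0x33003300)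
 (Net.cons (nat_lit 1) (nat_lit 0x50505050)
 (Net.cons (nat_lit 4) (nat_lit 0x8080808)
 (Net.cons (nat_lit 8) (nat_lit 0x800080)
 (Net.cons (nat_lit 16) 32768
 Net.nil))))))))

noncomputable def ns_7 : Net :=
 (Net.cons (nat_lit 16) 34808
 (Net.cons (nat_lit 8) (nat_lit 0xf800f8)
 (Net.cons (nat_lit 4) (nat_lit 0x8070708)
 (Net.cons (nat_lit 2) (nat_lit 0x30030330)
 (Net.cons (nat_lit 1) (nat_lit 0x5055050)
 (Net.cons (nat_lit 4) (nat_lit 0x8080808)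
 (Net.cons (nat_lit 8) (nat_lit 0x800080)
 (Net.cons (nat_lit 16) 32768
 Net.nil))))))))

noncomputable def ns_8 : Net :=
 (Net.cons (nat_lit 16) 65408
 (Net.cons (nat_lit 8) 917608
 (Net.cons (nat_lit 4) (nat_lit 0x90f0600)
 (Net.cons (nat_lit 2) (nat_lit 0x23202320)
 (Net.cons (nat_lit 1) (nat_lit 0x45104510)
 (Net.cons (nat_lit 2) (nat_lit 0x20202020)
 (Net.cons (nat_lit 8) (nat_lit 0x680068)
 (Net.cons (nat_lit 16) 32768
 Net.nil))))))))

noncomputable def ns_9 : Net :=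
 (Net.cons (nat_lit 16) 4096
 (Net.cons (nat_lit 8) (nat_lit 0x6e0008)
 (Net.cons (nat_lit 4) (nat_lit 0x9070f08)
 (Net.cons (nat_lit 2) (nat_lit 0x32330200)
 (Net.cons (nat_lit 1) (nat_lit 0x54550100)
 (Net.cons (nat_lit 2) (nat_lit 0x2000200)
 (Net.cons (nat_lit 4) (nat_lit 0x8000800)
 (Net.cons (nat_lit 8) 524296
 (Net.cons (nat_lit 16) 32384
 Net.nil)))))))))

noncomputable def ns_10 : Net :=
 (Net.cons (nat_lit 16) 32768
 (Net.cons (nat_lit 8) (nat_lit 0x800080)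
 (Net.cons (nat_lit 4) (nat_lit 0x30c0f00)
 (Net.cons (nat_lit 1) (nat_lit 0x55550000)
 (Net.cons (nat_lit 8) (nat_lit 0x800080)
 (Net.cons (nat_lit 16) 32768
 Net.nil))))))

noncomputable def ns_11 : Net :=
 (Net.cons (nat_lit 16) 16256
 (Net.cons (nat_lit 8) (nat_lit 0x3d0010)
 (Net.cons (nat_lit 4) (nat_lit 0x2030200)
 (Net.cons (nat_lit 2) (nat_lit 0x13102320)
 (Net.cons (nat_lit 1) (nat_lit 0x10454510)
 (Net.cons (nat_lit 2) (nat_lit 0x200020)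
 (Net.cons (nat_lit 4) (nat_lit 0x2000200)
 (Net.cons (nat_lit 8) (nat_lit 0x100010)
 (Net.cons (nat_lit 16) 32128
 Net.nil)))))))))

noncomputable def ns_12 : Net :=
 (Net.cons (nat_lit 16) 32768
 (Net.cons (nat_lit 8) (nat_lit 0xa00000)
 (Net.cons (nat_lit 4) (nat_lit 0x5050000)
 (Net.cons (nat_lit 2) (nat_lit 0x33330000)
 (Net.cons (nat_lit 16) 32768
 Net.nil)))))

noncomputable def ns_13 : Net :=
 (Net.cons (nat_lit 16) 32768
 (Net.cons (nat_lit 8) (nat_lit 0x810000)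
 (Net.cons (nat_lit 4) (nat_lit 0x9090000)
 (Net.cons (nat_lit 2) (nat_lit 0x33330000)
 (Net.cons (nat_lit 1) (nat_lit 0x55550000)
 (Net.cons (nat_lit 16) 32768
 Net.nil))))))

noncomputable def ns_14 : Net :=
 (Net.cons (nat_lit 16) 32768
 (Net.cons (nat_lit 8) (nat_lit 0x3f0000)
 (Net.cons (nat_lit 4) (nat_lit 0x3030000)
 (Net.cons (nat_lit 1) (nat_lit 0x55550000)
 (Net.cons (nat_lit 16) 32768
 Net.nil)))))

noncomputable def ns_15 : Net :=
 (Net.cons (nat_lit 16) 32768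
 (Net.cons (nat_lit 8) (nat_lit 0x840000)
 (Net.cons (nat_lit 4) (nat_lit 0xc0c0000)
 (Net.cons (nat_lit 1) (nat_lit 0x55550000)
 (Net.cons (nat_lit 16) 32768
 Net.nil)))))

noncomputable def ns_16 : Net :=
 (Net.cons (nat_lit 16) 32768
 (Net.cons (nat_lit 8) (nat_lit 0x7e0000)
 (Net.cons (nat_lit 4) (nat_lit 0x9090000)
 (Net.cons (nat_lit 2) (nat_lit 0x33330000)
 (Net.cons (nat_lit 1) (nat_lit 0x55550000)
 (Net.cons (nat_lit 16) 32768
 Net.nil))))))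

noncomputable def ns_17 : Net :=
 (Net.cons (nat_lit 16) 32768
 (Net.cons (nat_lit 8) (nat_lit 0x6f0000)
 (Net.cons (nat_lit 4) (nat_lit 0x6060000)
 (Net.cons (nat_lit 2) (nat_lit 0x33330000)
 (Net.cons (nat_lit 1) (nat_lit 0x55550000)
 (Net.cons (nat_lit 16) 32768
 Net.nil))))))

noncomputable def ns_18 : Net :=
 (Net.cons (nat_lit 16) 32640
 (Net.cons (nat_lit 8) (nat_lit 0x800080)
 (Net.cons (nat_lit 4) (nat_lit 0x9000900)
 (Net.cons (nat_lit 2) (nat_lit 0x33003300)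
 (Net.cons (nat_lit 1) (nat_lit 0x55005500)
 (Net.cons (nat_lit 8) (nat_lit 0x800080)
 Net.nil))))))

noncomputable def ns_19 : Net :=
 (Net.cons (nat_lit 16) 30968
 (Net.cons (nat_lit 8) (nat_lit 0x1700e8)
 (Net.cons (nat_lit 4) (nat_lit 0x6000600)
 (Net.cons (nat_lit 2) (nat_lit 0x23202320)
 (Net.cons (nat_lit 1) (nat_lit 0x45104510)
 (Net.cons (nat_lit 2) (nat_lit 0x20202020)
 (Net.cons (nat_lit 8) (nat_lit 0x680068)
 (Net.cons (nat_lit 16) 30824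
 Net.nil))))))))

noncomputable def ns_20 : Net :=
 (Net.cons (nat_lit 16) 6630
 (Net.cons (nat_lit 8) (nat_lit 0x760076)
 (Net.cons (nat_lit 4) 393222
 (Net.cons (nat_lit 2) (nat_lit 0x2320232)
 (Net.cons (nat_lit 1) (nat_lit 0x1540154)
 (Net.cons (nat_lit 2) (nat_lit 0x2020202)
 (Net.cons (nat_lit 8) (nat_lit 0x680068)
 Net.nil)))))))

noncomputable def ns_21 : Net :=
 (Net.cons (nat_lit 16) 65408
 (Net.cons (nat_lit 8) (nat_lit 0x8e001e)
 (Net.cons (nat_lit 4) (nat_lit 0x1010e0e)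
 (Net.cons (nat_lit 2) (nat_lit 0x3033030)
 (Net.cons (nat_lit 1) (nat_lit 0x5055050)
 (Net.cons (nat_lit 4) (nat_lit 0x8080808)
 (Net.cons (nat_lit 16) 32768
 Net.nil)))))))

noncomputable def ns : List Net := [ModelSL52.ns_0, ModelSL52.ns_1, ns_2, ns_3, ns_4, ns_5, ns_6, ns_7, ns_8, ns_9, ns_10, ns_11, ns_12, ns_13, ns_14, ns_15, ns_16, ns_17, ns_18, ns_19, ns_20, ns_21]

theorem ctx : Ctx 32 5 ns := ctx_of (by decide +kernel)


theorem geq : gen ModelSL52.ns ModelSL52.G_ss0 = gen ns [[0], [2]] :=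
  gen_eq_of_take (ns := ModelSL52.ns) (ns' := ns) (k := 2) rfl (ws := ModelSL52.G_ss0) (by decide +kernel)

theorem hn : Nat.card (gen ns [[0], [2]]) = 9999360 :=
  geq ▸ ModelSL52.G_card

noncomputable def equiv : Matrix.SpecialLinearGroup (Fin 5) (ZMod 2) ≃* ↥(gen ns [[0], [2]]) :=
  ModelSL52.equiv.trans (MulEquiv.subgroupCongr geq)

theorem kn_0 : Known ns (gen ns [[0], [2]]) 3 :=
  known_gen (by decide +kernel)

noncomputable def CG_S5 : List SD :=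
  []

noncomputable def CG_d4 : SD :=
  ⟨15, 1, [24, 26, 28, 30], lab 3 7 (nat_lit 0x126db4886db2000000000000), 4⟩

noncomputable def CG_S4 : List SD :=
  CG_d4 :: CG_S5

noncomputable def CG_d3 : SD :=
  ⟨7, 2, [18, 20, 22, 24, 26, 28, 30], lab 4 15 (nat_lit 0xca8126415406a408244252100000000), 3⟩

noncomputable def CG_S3 : List SD :=
  CG_d3 :: CG_S4

noncomputable def CG_d2 : SD :=
  ⟨3, 2, [12, 14, 16, 18, 20, 22, 24, 26, 28, 30], lab 5 31 (nat_lit 0x38630048462a1028d7020442080a50004500000), 3⟩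

noncomputable def CG_S2 : List SD :=
  CG_d2 :: CG_S3

noncomputable def CG_d1 : SD :=
  ⟨2, 1, [6, 8, 10, 12, 14, 16, 18, 20, 22, 24, 26, 28, 30], lab 5 31 (nat_lit 0x217652c586b4c79500e220900b4688804318004), 3⟩

noncomputable def CG_S1 : List SD :=
  CG_d1 :: CG_S2

noncomputable def CG_d0 : SD :=
  ⟨1, 1, [0, 2, 4, 6, 8, 10, 12, 14, 16, 18, 20, 22, 24, 26, 28, 30], lab 5 31 (nat_lit 0x1226a0d0560ce2748c3b4a8c3804d5422e4800a), 3⟩

noncomputable def CG_S0 : List SD :=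
  CG_d0 :: CG_S1

theorem kn_1 : Known ns (gen ns [[0], [2]]) 4194303 :=
  kn_0.steps ctx (es := [(2, [3, 1, 2, 2]),
 (3, [1, 5, 1, 2, 4, 2]),
 (4, [2, 2, 4, 4, 4, 4, 2, 4, 0, 5, 1, 4]),
 (5, [6, 6, 6, 6]),
 (6, [7, 7, 8, 6, 10, 7, 8]),
 (7, [6, 11, 9, 6, 6, 8, 8, 7, 8, 6]),
 (8, [12, 12, 15, 13, 13]),
 (9, [13, 17, 17, 17, 15, 12, 17, 14]),
 (10, [12, 12]),
 (11, [14, 14, 17, 13, 15, 16, 14]),
 (12, [18, 21, 23, 21, 22, 22, 18, 20, 23]),
 (13, [21, 22, 21, 19, 20, 19, 23, 23, 19, 22]),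
 (14, [19, 20, 22]),
 (15, [19, 22, 19, 22]),
 (16, [28, 24]),
 (17, [30, 28, 26]),
 (18, [22, 19, 30]),
 (19, [28, 15, 19, 26, 18, 30, 26]),
 (20, [18, 3, 28, 6, 17, 24, 15, 28, 26, 24]),
 (21, [17, 3, 28, 6, 28, 16, 18, 20, 28])]) (by decide +kernel)

theorem CG_ex : Exact 32 ns CG_S0 ∧ gen ns (sTop CG_S0) = gen ns [[0], [2]] ∧ gen ns [[0], [2]] = gen ns [[0], [2]] :=
  exact_of_known ctx hn (le_rfl) kn_1 (by decide +kernel)

noncomputable def C_as : List (List ℕ) :=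
  [[0]]

noncomputable def C_p : List (List ℕ × List ℕ) :=
  derAs (dg C_as) [[0]]

noncomputable def C_s : List (ℕ × ℕ) :=
  derSs 32 5 ns (dg C_as) [[0]]

noncomputable def C_k0 : List (List ℕ) :=
  [[40], [42], [38], [36], [32], [26], [34]]

noncomputable def C_k1 : List (List ℕ) :=
  [[38], [36], [32], [26], [34]]

noncomputable def C_k2 : List (List ℕ) :=
  [[38], [36], [32], [26], [34]]

noncomputable def C_k3 : List (List ℕ) :=
  [[36], [32], [26], [34]]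

noncomputable def C_k4 : List (List ℕ) :=
  [[32], [26], [34]]

noncomputable def C_k5 : List (List ℕ) :=
  []

theorem C_cm : commB 32 5 ns (dg C_as) C_k0 = true :=
  by decide +kernel

theorem C_g0 : Good 32 ns C_p C_s (gen ns (sTop CG_S0)) C_k0 :=
  good_der ctx kn_1 (CG_ex.2.1.trans CG_ex.2.2.symm) _ _ ((and'_eq_true _ _).2 ⟨by decide +kernel, C_cm⟩)

theorem C_g1 : Good 32 ns C_p C_s (gen ns (sTop CG_S1)) C_k1 :=
  C_g0.tail ctx CG_ex.1 (by decide +kernel)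

theorem C_g2 : Good 32 ns C_p C_s (gen ns (sTop CG_S2)) C_k2 :=
  C_g1.tail ctx CG_ex.1.tail (by decide +kernel)

theorem C_g3 : Good 32 ns C_p C_s (gen ns (sTop CG_S3)) C_k3 :=
  C_g2.tail ctx CG_ex.1.tail.tail (by decide +kernel)

theorem C_g4 : Good 32 ns C_p C_s (gen ns (sTop CG_S4)) C_k4 :=
  C_g3.tail ctx CG_ex.1.tail.tail.tail (by decide +kernel)

theorem C_l5 : LevX 32 ns C_p C_s (gen ns (sTop CG_S5)) C_k5 1 :=
  levX_nil _ _ _ _

theorem C_l4 : LevX 32 ns C_p C_s (gen ns (sTop CG_S4)) C_k4 8 :=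
  C_l5.step ctx CG_ex.1.tail.tail.tail.tail C_g4 (br_zero _ _ _ _ _ _ _) [] 1 1 (by decide +kernel)

theorem C_l3 : LevX 32 ns C_p C_s (gen ns (sTop CG_S3)) C_k3 96 :=
  C_l4.step ctx CG_ex.1.tail.tail.tail C_g3 (br_zero _ _ _ _ _ _ _) [] 2 2 (by decide +kernel)

theorem C_l2 : LevX 32 ns C_p C_s (gen ns (sTop CG_S2)) C_k2 1344 :=
  C_l3.step ctx CG_ex.1.tail.tail C_g2 (br_zero _ _ _ _ _ _ _) [] 2 2 (by decide +kernel)

theorem C_l1 : LevX 32 ns C_p C_s (gen ns (sTop CG_S1)) C_k1 1344 :=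
  C_l2.step ctx CG_ex.1.tail C_g1 (br_zero _ _ _ _ _ _ _) [(0, 1, 0)] 0 0 (by decide +kernel)

theorem C_l0 : LevX 32 ns C_p C_s (gen ns (sTop CG_S0)) C_k0 21504 :=
  C_l1.step ctx CG_ex.1 C_g0 (br_zero _ _ _ _ _ _ _) [] 2 2 (by decide +kernel)

theorem C : CentEq ns (gen ns [[0], [2]]) C_as C_k0 21504 :=
  centEq_of ctx CG_ex.2.1 C_l0 C_g0 C_cm

noncomputable def M : ℕ → ℕ :=
  tabC 31 (ones 31) [nat_lit 0x8000000080000000200000002000000008000000080000000200000002000000008000000080000000200000002000000008000000080000000200000002]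

theorem hw : wp ModelSL52.ns [0] = wp ns [0] :=
  wp_eq_of_take (ns := ModelSL52.ns) (ns' := ns) 2 rfl (by decide +kernel)

theorem he (s : Matrix.SpecialLinearGroup (Fin 5) (ZMod 2)) :
    (equiv s : Equiv.Perm ℕ) = ModelSL52.equiv s := by
  rw [equiv, MulEquiv.trans_apply, MulEquiv.subgroupCongr_apply]

theorem ht (s : Matrix.SpecialLinearGroup (Fin 5) (ZMod 2))
    (hs : (s : Matrix (Fin 5) (Fin 5) (ZMod 2)) = Matrix.transvection 0 1 1) :
    (equiv s : Equiv.Perm ℕ) = wp ns [0] :=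
  (he s).trans ((ModelSL52.equiv_tv s hs).trans hw)

theorem iso : Nonempty (gen ns C_k0 ≃* gen ModelT16.ns ModelT16.G_ss0) :=
  by
  have := finite_gen ctx.ok C_k0
  obtain ⟨e, -⟩ := exists_equiv_masks' ctx ModelT16.ctx (K := gen ns C_k0) (us := [[40], [42]])
    (ws' := ModelT16.G_ss0) (gen_le_of_subsetL _ (by decide +kernel)) (n := 16) (M := M) [0] 4
    (by decide +kernel) (C.card.trans_le ModelT16.G_lb)
  exact ⟨e⟩

end Cfsg.Agent.Spor.CentSL52
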