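import Cfsg.Agent.Spor.M24Res
import Cfsg.Agent.Spor.AbstractGolay

/-!
Invariant subspaces of the permutation module of `M24` over the field with two elements.
-/

set_option autoImplicit false

namespace Cfsg.Agent.Spor.M24C

open Cfsg Cfsg.Agent.Comp Cfsg.Agent.Spor
open scoped Pointwise

theorem support_comp_symm (σ : Equiv.Perm GolayPt) (w : GolayPt → ZMod 2) :
    support₂ (fun p => w (σ.symm p)) = σ • support₂ w := by
  ext p
  rw [← Finset.inv_smul_mem_iff, mem_support₂, mem_support₂]
  rfl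

/-- A family of sets that is closed under symmetric differences and invariant. -/
structure InvFam (F : Set (Finset GolayPt)) : Prop where
  empty : ∅ ∈ F
  sd : ∀ s ∈ F, ∀ t ∈ F, symmDiff s t ∈ F
  smul : ∀ g : M24, ∀ s ∈ F, g • s ∈ F

theorem invFam_supports (W : Submodule (ZMod 2) (GolayPt → ZMod 2))
    (hW : ∀ σ ∈ M24, ∀ w ∈ W, (fun p => w (σ.symm p)) ∈ W) :
    InvFam (supports (W : Set (GolayPt → ZMod 2))) where
  empty := ⟨0, W.zero_mem, support₂_zero⟩
  sd := by
    rintro _ ⟨u, hu, rfl⟩ _ ⟨v, hv, rfl⟩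
    exact ⟨u + v, W.add_mem hu hv, support₂_add u v⟩
  smul := by
    rintro g _ ⟨u, hu, rfl⟩
    exact ⟨_, hW g g.2 u hu, support_comp_symm _ u⟩

theorem InvFam.code_of_octad {F : Set (Finset GolayPt)} (h : InvFam F) {o : Finset GolayPt}
    (ho : o ∈ octads) (hF : o ∈ F) : codeSets ⊆ F := by
  have h1 : ∀ b ∈ gB, setOf' b ∈ F := fun b hb => by
    obtain ⟨g, hg⟩ := exists_smul_octad ho (gB_octad b hb)
    exact hg ▸ h.smul g o hF
  have h2 : ∀ l : List ℕ, (∀ b ∈ l, setOf' b ∈ F) → ∀ a, setOf' (xorSel l a) ∈ F := by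
    intro l
    induction l with
    | nil => intro _ a; rw [xorSel, setOf'_zero]; exact h.empty
    | cons b l ih =>
      intro hl a
      rw [xorSel, setOf'_xor]
      refine h.sd _ ?_ _ (ih (fun c hc => hl c (List.mem_cons_of_mem _ hc)) _)
      split_ifs
      · exact hl b List.mem_cons_self
      · rw [setOf'_zero]; exact h.empty
  apply forall_codeSets
  intro a ha
  rw [(enc_spec ha).1]
  exact h2 gB h1 a

theorem InvFam.code_of_mem {F : Set (Finset GolayPt)} (h : InvFam F) {c : Finset GolayPt}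
    (hc : c ∈ codeSets) (hF : c ∈ F) (h0 : c ≠ ∅) (h1 : c ≠ Finset.univ) : codeSets ⊆ F := by
  rcases card_of_mem_codeSets hc with e | e | e | e | e
  · exact absurd (Finset.card_eq_zero.1 e) h0
  · exact h.code_of_octad ⟨hc, e⟩ hF
  · obtain ⟨g, hg⟩ := exists_smul_dodecad ⟨hc, e⟩ d0_mem
    obtain ⟨g', hg'⟩ := exists_smul_dodecad ⟨hc, e⟩
      (setOf'_mem_dodecads (m := 11472927) (by decide +kernel))
    have := h.sd _ (h.smul g c hF) _ (h.smul g' c hF)
    rw [hg, hg', ← setOf'_xor] at this
    exact h.code_of_octad (setOf'_mem_octads (by decide +kernel)) this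
  · have ho : cᶜ ∈ octads :=
      ⟨compl_mem_codeSets hc, by rw [Finset.card_compl, e, card_golayPt]⟩
    obtain ⟨g, hg⟩ := exists_smul_octad ho o0_mem
    obtain ⟨g', hg'⟩ := exists_smul_octad ho (setOf'_mem_octads (m := 5902343) (by decide +kernel))
    have := h.sd _ (h.smul g c hF) _ (h.smul g' c hF)
    rw [← compl_symmDiff_compl, ← smul_compl', ← smul_compl', hg, hg', ← setOf'_xor] at this
    exact h.code_of_octad (setOf'_mem_octads (by decide +kernel)) this
  · exact absurd (Finset.eq_univ_of_card c (by rw [e, card_golayPt])) h1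

theorem InvFam.pair_of_pair {F : Set (Finset GolayPt)} (h : InvFam F) {s t : Finset GolayPt}
    (hs : s ∈ F) (h2 : s.card = 2) (ht : t.card = 2) : t ∈ F := by
  obtain ⟨g, rfl⟩ := exists_smul_finset (s := s) (t := t) (by omega) (by omega)
  exact h.smul g s hs

theorem exists_not_mem_of_card_lt {s : Finset GolayPt} (h : s.card < 24) : ∃ b, b ∉ s := by
  obtain ⟨p, hp⟩ := Finset.card_pos.1 (show 0 < sᶜ.card by
    rw [Finset.card_compl, card_golayPt]; omega)
  exact ⟨p, Finset.mem_compl.1 hp⟩

theorem InvFam.pair_of_short {F : Set (Finset GolayPt)} (h : InvFam F) {s t : Finset GolayPt}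
    (hs : s ∈ F) (h0 : s.Nonempty) (h5 : s.card ≤ 5) (ht : t.card = 2) : t ∈ F := by
  obtain ⟨a, ha⟩ := h0
  obtain ⟨b, hb⟩ := exists_not_mem_of_card_lt (s := s) (by omega)
  have hab : a ≠ b := fun e => hb (e ▸ ha)
  obtain ⟨g, hg⟩ := exists_smul_finset (s := s) (t := insert b (s.erase a)) h5 (by
    rw [Finset.card_insert_of_notMem (fun h => hb (Finset.mem_of_mem_erase h)),
      Finset.card_erase_add_one ha])
  have := h.sd _ hs _ (hg ▸ h.smul g s hs)
  refine h.pair_of_pair this ?_ ht
  rw [← Finset.card_pair hab]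
  congr 1
  ext p
  simp only [Finset.mem_symmDiff, Finset.mem_insert, Finset.mem_erase, Finset.mem_singleton]
  constructor
  · tauto
  · rintro (rfl | rfl) <;> tauto

theorem InvFam.even_of_pair {F : Set (Finset GolayPt)} (h : InvFam F)
    (h2 : ∀ t : Finset GolayPt, t.card = 2 → t ∈ F) (n : ℕ) :
    ∀ s : Finset GolayPt, s.card = 2 * n → s ∈ F := by
  induction n with
  | zero => intro s hs; rw [Finset.card_eq_zero.1 hs]; exact h.empty
  | succ n ih =>
    intro s hs
    obtain ⟨t, ht, ht2⟩ := Finset.exists_subset_card_eq (s := s) (n := 2) (by omega)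
    have := h.sd _ (ih (s \ t) (by rw [Finset.card_sdiff_of_subset ht]; omega)) _ (h2 t ht2)
    rwa [Disjoint.symmDiff_eq_sup disjoint_sdiff_self_left, sdiff_sup_cancel ht] at this

theorem exists_short_set (s : Finset GolayPt) : ∃ t : Finset GolayPt, t.card ≤ 4 ∧
    symmDiff t s ∈ codeSets := by
  obtain ⟨u, hu, h4⟩ := exists_short_word card_golayPt golayCode isGolay_golayCode.dim
    isGolay_golayCode.min (indWord s)
  refine ⟨support₂ u, h4, u - indWord s, hu, ?_⟩
  rw [word_sub_eq_add, support₂_add, support₂_indWord]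

theorem InvFam.pair_of_not_code {F : Set (Finset GolayPt)} (h : InvFam F) {w t : Finset GolayPt}
    (hw : w ∈ F) (hn : w ∉ codeSets) (ht : t.card = 2) : t ∈ F := by
  have hF' : InvFam {s | ∃ c ∈ codeSets, symmDiff s c ∈ F} := by
    refine ⟨⟨∅, empty_mem_codeSets, by simpa using h.empty⟩, ?_, ?_⟩
    · rintro s ⟨c, hc, hs⟩ t ⟨d, hd, ht⟩
      refine ⟨_, symmDiff_mem_codeSets hc hd, ?_⟩
      rw [symmDiff_symmDiff_symmDiff_comm]
      exact h.sd _ hs _ ht
    · rintro g s ⟨c, hc, hs⟩
      refine ⟨g • c, (smul_mem_codeSets_iff g).2 hc, ?_⟩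
      have := h.smul g _ hs
      rwa [Subgroup.smul_def, smul_symmDiff'] at this
  obtain ⟨s, hs4, hs⟩ := exists_short_set w
  have hp : ∀ t : Finset GolayPt, t.card = 2 → ∃ c ∈ codeSets, symmDiff t c ∈ F := fun t ht =>
    hF'.pair_of_short (s := s) ⟨_, hs, by rwa [symmDiff_symmDiff_cancel_left]⟩ (by
      rw [Finset.nonempty_iff_ne_empty]
      rintro rfl
      exact hn (by rwa [← Finset.bot_eq_empty, bot_symmDiff] at hs)) (by omega) ht
  obtain ⟨c, hc, hcF⟩ := hp t ht
  by_cases h0 : c = ∅
  · subst h0; rwa [← Finset.bot_eq_empty, symmDiff_bot] at hcF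
  obtain ⟨i, j, hij, rfl⟩ := Finset.card_eq_two.1 ht
  by_cases h1 : c = Finset.univ
  · subst h1
    obtain ⟨k, hk⟩ := exists_not_mem_of_card_lt (s := {i, j}) (by omega)
    simp only [Finset.mem_insert, Finset.mem_singleton, not_or] at hk
    obtain ⟨g, hg⟩ := exists_smul_finset (s := {i, j}) (t := {i, k}) (by omega)
      (by rw [ht, Finset.card_pair (Ne.symm hk.1)])
    have h2 := h.sd _ hcF _ (h.smul g _ hcF)
    rw [Subgroup.smul_def, smul_symmDiff', ← Subgroup.smul_def, hg, Finset.smul_finset_univ,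
      symmDiff_symmDiff_symmDiff_comm, symmDiff_self, symmDiff_bot] at h2
    refine h.pair_of_pair h2 ?_ ht
    rw [← Finset.card_pair (Ne.symm hk.2)]
    congr 1
    ext p
    simp only [Finset.mem_symmDiff, Finset.mem_insert, Finset.mem_singleton]
    constructor
    · tauto
    · rintro (rfl | rfl) <;> tauto
  · have hcard := card_of_mem_codeSets hc
    have h0' : c.card ≠ 0 := fun e => h0 (Finset.card_eq_zero.1 e)
    have h1' : c.card ≠ 24 := fun e => h1 (Finset.eq_univ_of_card c (by rw [e, card_golayPt]))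
    obtain ⟨a, ha, b, hb, hab⟩ := Finset.one_lt_card.1 (show 1 < (c \ {i, j}).card by
      have := Finset.le_card_sdiff {i, j} c
      omega)
    obtain ⟨b', hb'⟩ := exists_not_mem_of_card_lt (s := c ∪ {i, j}) (by
      have := Finset.card_union_le c {i, j}
      omega)
    simp only [Finset.mem_sdiff, Finset.mem_union, Finset.mem_insert, Finset.mem_singleton,
      not_or] at ha hb hb'
    have hab' : a ≠ b' := fun e => hb'.1 (e ▸ ha.1)
    obtain ⟨g, hg⟩ := exists_map_tuple (k := 4) (by norm_num) ![i, j, a, b] ![i, j, a, b']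
      (by simp [Function.Injective, Fin.forall_fin_succ, hij, hij.symm, ha.2, hb.2, hab, hab.symm,
        Ne.symm ha.2.1, Ne.symm ha.2.2, Ne.symm hb.2.1, Ne.symm hb.2.2])
      (by simp [Function.Injective, Fin.forall_fin_succ, hij, hij.symm, ha.2, hb'.2, hab', hab'.symm,
        Ne.symm ha.2.1, Ne.symm ha.2.2, Ne.symm hb'.2.1, Ne.symm hb'.2.2])
    have g0 : g • i = i := hg 0
    have g1 : g • j = j := hg 1
    have g2 : g • a = a := hg 2
    have g3 : g • b = b' := hg 3
    have h2 := h.sd _ hcF _ (h.smul g _ hcF)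
    rw [Subgroup.smul_def, smul_symmDiff', ← Subgroup.smul_def, ← Subgroup.smul_def,
      Finset.smul_finset_insert, Finset.smul_finset_singleton, g0, g1,
      symmDiff_symmDiff_symmDiff_comm, symmDiff_self, bot_symmDiff] at h2
    have h3 := h.code_of_mem (symmDiff_mem_codeSets hc ((smul_mem_codeSets_iff g).2 hc)) h2
      (Finset.ne_empty_of_mem (a := b') (Finset.mem_symmDiff.2 (Or.inr
        ⟨g3 ▸ Finset.smul_mem_smul_finset hb.1, hb'.1⟩))) (fun e => by
        have : a ∈ symmDiff c (g • c) := e ▸ Finset.mem_univ a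
        have h4 : a ∈ g • c := g2 ▸ Finset.smul_mem_smul_finset ha.1
        rw [Finset.mem_symmDiff] at this
        tauto)
    have := h.sd _ hcF _ (h3 hc)
    rwa [symmDiff_symmDiff_cancel_right] at this

theorem eq_of_supports_eq {V W : Submodule (ZMod 2) (GolayPt → ZMod 2)}
    (h : supports (V : Set (GolayPt → ZMod 2)) = supports (W : Set (GolayPt → ZMod 2))) : V = W := by
  ext w
  rw [← SetLike.mem_coe, ← support₂_mem_supports_iff, h, support₂_mem_supports_iff, SetLike.mem_coe]

theorem invariant_le_code (W : Submodule (ZMod 2) (GolayPt → ZMod 2))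
    (hW : ∀ σ ∈ M24, ∀ w ∈ W, (fun p => w (σ.symm p)) ∈ W) (hle : W ≤ golayCode) :
    W ≤ Submodule.span (ZMod 2) {fun _ => (1 : ZMod 2)} ∨ W = golayCode := by
  by_cases h : ∃ w ∈ W, support₂ w ≠ ∅ ∧ support₂ w ≠ Finset.univ
  · obtain ⟨w, hw, h0, h1⟩ := h
    right
    refine le_antisymm hle fun c hc => ?_
    exact support₂_mem_supports_iff.1 ((invFam_supports W hW).code_of_mem ⟨w, hle hw, rfl⟩
      ⟨w, hw, rfl⟩ h0 h1 ⟨c, hc, rfl⟩)
  · left
    intro w hw
    by_cases h0 : support₂ w = ∅
    · rw [support₂_injective (h0.trans support₂_zero.symm)]; exact Submodule.zero_mem _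
    · have h1 : support₂ w = Finset.univ := by
        by_contra h1; exact h ⟨w, hw, h0, h1⟩
      rw [support₂_injective (h1.trans support₂_one.symm)]
      exact Submodule.subset_span rfl

theorem lowerO2 : Lower (MulAction.stabilizer M24 (setOf' 5279)) 197 2 0xffeb40ffeb60
    0x5bdd64cd11a36ac32a503dca0190227b60e5de72ac501a0cc9658a43894074268b50cb8a64a69df70d4a061062b3915b9a496c22178d73650a2381444aed7822ad33e879062e1cca2501849de86445ae5d9e7486151c8a05118244cd2ab5f64dd63831d4544a2080e48c9696bad499ae3432af540a0090e2a562d32d3372201b0ef263ca0391426c5307dae644a6aa9e8b0b8a260064aa251a3d7784d2a71ec60b4a460860000000000000000000000000000000351af92608b55ccbaa713aca218024000000000000000000000000000000919eb8c1d5bd2c79850d1a4a450980826f37568f92cc38b1b6520a4088e0000000000000000000000000000000bdab49ca307b9ac5a928398a4188200000000000000000000000000000000000000000000000000000000000000000000000000000000000000000000000000000000000000000000000000000000000000000000000000000000000000000000000000000000000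00a2cd06a62eac9e041e6525ae250d81bc2af2cdc959a4c409b1552c120c0783ca6952e872e6489da965aa050c228d568916177a5a3b05c624e823814c458c92d6ee845a3a016f64a671048a8d1732b4d5441c3792f6626470044a9bd3575cd05b50ab30b23d2212006272e712d92f6d68ab92463a20303041bba8995506696cc82a6b145e3090e0436ab93cc99d222b86c5041c43b1437ca152ae26a5ae1489131b9aa21c0c0000000000000000000000000000004b6c62c1f194d07702950dd6c1288300000000000000000000000000000045e4e69a9159663b32b003d21389448c2776aec974a83a90af0990011d8a000000000000000000000000000000b24b16c914bc2a27a96e1ccc4604e0bdab49ca307b9ac5a928398a418820000000000000000000000000000000000000000000000000000000000000000000000000000000000000000000000000000000000000000000000000000000000000000000000000000000 :=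
  lower_of_ok (inH := okS 5279) (fun _ => inH_of_okS) (by decide +kernel)

/-- The stabiliser of an octad is doubly transitive on the complement. -/
theorem exists_octad_compl_map {o : Finset GolayPt} (ho : o ∈ octads)
    (x y : Fin 2 → GolayPt) (hx : ∀ i, x i ∉ o) (hy : ∀ i, y i ∉ o)
    (ix' : Function.Injective x) (iy : Function.Injective y) :
    ∃ g ∈ MulAction.stabilizer M24 o, ∀ j, g • x j = y j := by
  obtain ⟨k', rfl⟩ := exists_smul_octad o0_mem ho
  have hc : setOf' 16771936 = (setOf' 5279)ᶜ := by rw [← setOf'_compl]; rfl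
  obtain ⟨g, hg, h⟩ := lowerO2.exists_map_tuple (k := 2) (by omega) (fun _ => 16771936)
    (fun _ g hg => by rw [hc, smul_compl', MulAction.mem_stabilizer_iff.1 hg]) (by decide +kernel)
    (fun i => k'⁻¹ • x i) (fun i => k'⁻¹ • y i)
    (fun i => by rw [hc, Finset.mem_compl, Finset.inv_smul_mem_iff]; exact hx i)
    (fun i => by rw [hc, Finset.mem_compl, Finset.inv_smul_mem_iff]; exact hy i)
    ((MulAction.injective _).comp ix') ((MulAction.injective _).comp iy)
  refine ⟨k' * g * k'⁻¹, (mem_stabilizer_smul_iff _ _ _).2 (by simpa [mul_assoc] using hg),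
    fun j => ?_⟩
  rw [mul_smul, mul_smul, h j, smul_inv_smul]

theorem inj_two {a b : GolayPt} (h : a ≠ b) : Function.Injective ![a, b] := by
  simp [Function.Injective, h, h.symm]

/-- In the stabiliser of a code word one can fix a point and move another on its side. -/
theorem exists_stab_fix_move {U : Finset GolayPt} (hU : U ∈ codeSets) {a b b' : GolayPt}
    (hab : a ≠ b) (hab' : a ≠ b') (h : b ∈ U ↔ b' ∈ U) :
    ∃ g ∈ MulAction.stabilizer M24 U, g • a = a ∧ g • b = b' := by
  have key : ∀ o ∈ octads, (b ∈ o ↔ b' ∈ o) →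
      ∃ g ∈ MulAction.stabilizer M24 o, g • a = a ∧ g • b = b' := by
    intro o ho h
    by_cases ha : a ∈ o <;> by_cases hb : b ∈ o
    · obtain ⟨g, hg, e⟩ := exists_octad_map ho (k := 2) (by norm_num) ![a, b] ![a, b']
        (by simp [ha, hb]) (by simp [ha, h.1 hb]) (inj_two hab) (inj_two hab')
      exact ⟨g, hg, e 0, e 1⟩
    · obtain ⟨g, hg, e⟩ := exists_fixS_octad ho hb (mt h.2 hb)
      exact ⟨g, fixS_le_stabilizer o hg, mem_fixS.1 hg a ha, e⟩
    · obtain ⟨g, hg, e⟩ := exists_octad_map ho (k := 1) (by norm_num) ![b] ![b']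
        (by simp [hb]) (by simp [h.1 hb]) (Function.injective_of_subsingleton _)
        (Function.injective_of_subsingleton _)
      obtain ⟨u, hu, e'⟩ := exists_fixS_octad ho (mt (smul_mem_iff_of_stab hg a).1 ha) ha
      refine ⟨u * g, Subgroup.mul_mem _ (fixS_le_stabilizer o hu) hg, by rw [mul_smul, e'], ?_⟩
      rw [mul_smul, show g • b = b' from e 0, mem_fixS.1 hu b' (h.1 hb)]
    · obtain ⟨g, hg, e⟩ := exists_octad_compl_map ho ![a, b] ![a, b']
        (by simp [ha, hb]) (by simp [ha, mt h.2 hb]) (inj_two hab) (inj_two hab')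
      exact ⟨g, hg, e 0, e 1⟩
  have key2 : ∀ d ∈ dodecads, a ∈ d → (b ∈ d ↔ b' ∈ d) →
      ∃ g ∈ MulAction.stabilizer M24 d, g • a = a ∧ g • b = b' := by
    intro d hd ha h
    by_cases hb : b ∈ d
    · obtain ⟨g, hg, e⟩ := exists_dodecad_map hd (k := 2) (by norm_num) ![a, b] ![a, b']
        (by simp [ha, hb]) (by simp [ha, h.1 hb]) (inj_two hab) (inj_two hab')
      exact ⟨g, hg, e 0, e 1⟩
    · obtain ⟨g, h1, h2, h3⟩ := exists_smul_dodecad_pt hd hd ha hb ha (mt h.2 hb)
      exact ⟨g, h3, h1, h2⟩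
  obtain ⟨g, hg⟩ := exists_map_tuple (k := 2) (by norm_num) _ _ (inj_two hab) (inj_two hab')
  rcases card_of_mem_codeSets hU with e | e | e | e | e
  · rw [Finset.card_eq_zero.1 e]
    exact ⟨g, Finset.smul_finset_empty g, hg 0, hg 1⟩
  · exact key U ⟨hU, e⟩ h
  · by_cases ha : a ∈ U
    · exact key2 U ⟨hU, e⟩ ha h
    · rw [← stabilizer_compl]
      exact key2 _ (compl_mem_dodecads ⟨hU, e⟩) (Finset.mem_compl.2 ha) (by simp [h])
  · rw [← stabilizer_compl]
    exact key _ ⟨compl_mem_codeSets hU, by rw [Finset.card_compl, e, card_golayPt]⟩ (by simp [h])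
  · rw [Finset.eq_univ_of_card U (by rw [e, card_golayPt])]
    exact ⟨g, Finset.smul_finset_univ, hg 0, hg 1⟩

end Cfsg.Agent.Spor.M24C
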