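import Cfsg.Agent.Spor.LXModel
import Cfsg.Agent.Spor.ModelJ2

set_option autoImplicit false
set_option Elab.async false
set_option maxRecDepth 4096

namespace Cfsg.Agent.Spor.TypeJ2

open Cfsg.Agent.Comp

noncomputable def ns_2 : Net :=
 (Net.cons (nat_lit 64) (nat_lit 0xf721403050324080)
 (Net.cons (nat_lit 32) (nat_lit 0x93c8024400000000891a0a80)
 (Net.cons (nat_lit 16) (nat_lit 0xe7600000f3b0000009c800003020)
 (Net.cons (nat_lit 8) (nat_lit 0xe0002400410040001800ac001000f2)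
 (Net.cons (nat_lit 4) (nat_lit 0x2000c03080008080904080e040a000a)
 (Net.cons (nat_lit 2) (nat_lit 0x20022031003020010002030020203223)
 (Net.cons (nat_lit 1) (nat_lit 0x10014541005015500000050144105105)
 (Net.cons (nat_lit 2) (nat_lit 0x20022020000020000000000020200200)
 (Net.cons (nat_lit 4) (nat_lit 0xc0400000808000008020408000a)
 (Net.cons (nat_lit 8) (nat_lit 0xa0002400400040001800ac001000f2)
 (Net.cons (nat_lit 16) (nat_lit 0xe7600000d3b0000009c800003020)
 (Net.cons (nat_lit 32) (nat_lit 0x90c8024400000000891a0a80)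
 (Net.cons (nat_lit 64) (nat_lit 0xf721403050324080)
 Net.nil)))))))))))))

noncomputable def ns_3 : Net :=
 (Net.cons (nat_lit 64) (nat_lit 0xb047fd3c66b600f0)
 (Net.cons (nat_lit 32) (nat_lit 0xee70352b000000000e533bf8)
 (Net.cons (nat_lit 16) (nat_lit 0x575b0000cbe10000178c0000dec0)
 (Net.cons (nat_lit 8) (nat_lit 0x2b0004006300e800d7001e0014005e)
 (Net.cons (nat_lit 4) (nat_lit 0x401060109000907060909060700000f)
 (Net.cons (nat_lit 2) (nat_lit 0x10212220311002230202331000023)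
 (Net.cons (nat_lit 1) (nat_lit 0x1040404010440414140114111440441)
 (Net.cons (nat_lit 2) (nat_lit 0x2000002000000200200202220000022)
 (Net.cons (nat_lit 4) (nat_lit 0xa000c06020200060a0a0a0c02000806)
 (Net.cons (nat_lit 8) (nat_lit 0x320006008a006800dc0034001400d4)
 (Net.cons (nat_lit 16) (nat_lit 0xd36e00006ba4000016de00001ac0)
 (Net.cons (nat_lit 32) (nat_lit 0xfe349426000000000bc33b76)
 (Net.cons (nat_lit 64) (nat_lit 0xb047fd37b61da7de)
 Net.nil)))))))))))))

noncomputable def ns_4 : Net :=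
 (Net.cons (nat_lit 64) (nat_lit 0x119f79acd794babf)
 (Net.cons (nat_lit 32) (nat_lit 0x544c81ee00000000b6c8c620)
 (Net.cons (nat_lit 16) (nat_lit 0x8d360000e5a700005258000097a5)
 (Net.cons (nat_lit 8) (nat_lit 0x7000650035002300e000c00090008f)
 (Net.cons (nat_lit 4) (nat_lit 0x3000a040a0b070a00020c010d0402)
 (Net.cons (nat_lit 2) (nat_lit 0x20001021002302222030100210122003)
 (Net.cons (nat_lit 1) (nat_lit 0x140051011011414440104515004144)
 (Net.cons (nat_lit 2) (nat_lit 0x200000000000022220000000002020)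
 (Net.cons (nat_lit 4) (nat_lit 0x2040a0000000c08000604080c040e)
 (Net.cons (nat_lit 8) (nat_lit 0xb8003400240088002000c600100084)
 (Net.cons (nat_lit 16) (nat_lit 0xcdb40000d5000000d078000019a0)
 (Net.cons (nat_lit 32) (nat_lit 0x54ddc1e0000000007ac8c474)
 (Net.cons (nat_lit 64) (nat_lit 0x119f79a095e38590)
 Net.nil)))))))))))))

noncomputable def ns_5 : Net :=
 (Net.cons (nat_lit 64) (nat_lit 0xad4cde1d71e1a5f5)
 (Net.cons (nat_lit 32) (nat_lit 0x6c6910a6000000008dc93272)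
 (Net.cons (nat_lit 16) (nat_lit 0x2674000058140000d16000005ed1)
 (Net.cons (nat_lit 8) (nat_lit 0x66002c005a00480098003b00e200da)
 (Net.cons (nat_lit 4) (nat_lit 0xa0d0c0c090c0a01080f0c000c060101)
 (Net.cons (nat_lit 2) (nat_lit 0x2210003000031020322210002030222)
 (Net.cons (nat_lit 1) (nat_lit 0x5111441104014000414140144041044)
 (Net.cons (nat_lit 2) (nat_lit 0x200022200022000202200000022002)
 (Net.cons (nat_lit 4) (nat_lit 0x20c000c0a000a00000c040200020800)
 (Net.cons (nat_lit 8) (nat_lit 0x6a00ec00920056009000ba00a60058)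
 (Net.cons (nat_lit 16) (nat_lit 0x66780000ed1a0000c1a000003e50)
 (Net.cons (nat_lit 32) (nat_lit 0xe52d96a800000000ddca3292)
 (Net.cons (nat_lit 64) (nat_lit 0xad4cde1068110ff8)
 Net.nil)))))))))))))

noncomputable def ns_6 : Net :=
 (Net.cons (nat_lit 64) (nat_lit 0xff362949f8a91243)
 (Net.cons (nat_lit 32) (nat_lit 0xcd0951e200000000fc2f27e1)
 (Net.cons (nat_lit 16) (nat_lit 0x8395000060960000afde0000ca68)
 (Net.cons (nat_lit 8) (nat_lit 0x2600ff004e0006006600ec00c80058)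
 (Net.cons (nat_lit 4) (nat_lit 0x20d0a07020801000f080c08040000)
 (Net.cons (nat_lit 2) (nat_lit 0x2013012210203001012302102211203)
 (Net.cons (nat_lit 1) (nat_lit 0x44011401004440104104501140004)
 (Net.cons (nat_lit 2) (nat_lit 0x20020000002020002000000000002)
 (Net.cons (nat_lit 4) (nat_lit 0xa0802040202000402040a080c0400)
 (Net.cons (nat_lit 8) (nat_lit 0xa00e6005800ca0074004000c8004a)
 (Net.cons (nat_lit 16) (nat_lit 0xd39c00004ad200001fbc0000caf0)
 (Net.cons (nat_lit 32) (nat_lit 0x63f71a600000000fc26e1c4)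
 (Net.cons (nat_lit 64) (nat_lit 0xff36294e8d7770f2)
 Net.nil)))))))))))))

noncomputable def ns_7 : Net :=
 (Net.cons (nat_lit 64) (nat_lit 0x88a7e746226fc37c)
 (Net.cons (nat_lit 32) (nat_lit 0x44a8e57100000000e4f58988)
 (Net.cons (nat_lit 16) (nat_lit 0xa5a000098ed0000e5cd000063d6)
 (Net.cons (nat_lit 8) (nat_lit 0x800009003200ad001c00e40008006f)
 (Net.cons (nat_lit 4) (nat_lit 0x30800080f03020f020a0000040703)
 (Net.cons (nat_lit 2) (nat_lit 0x2130100003230020200202220300313)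
 (Net.cons (nat_lit 1) (nat_lit 0x4140001004141444101114440140510)
 (Net.cons (nat_lit 2) (nat_lit 0x2020002000020202200202220200000)
 (Net.cons (nat_lit 4) (nat_lit 0x4060002000e00040e020a0004040400)
 (Net.cons (nat_lit 8) (nat_lit 0x8003000cc001c001000000056)
 (Net.cons (nat_lit 16) (nat_lit 0xa74000022ac0000e54c000063d6)
 (Net.cons (nat_lit 32) (nat_lit 0x440ae4300000000085b59188)
 (Net.cons (nat_lit 64) (nat_lit 0x88a7e746226fc37c)
 Net.nil)))))))))))))

noncomputable def ns_8 : Net :=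
 (Net.cons (nat_lit 64) (nat_lit 0xa3a4337af03a58e1)
 (Net.cons (nat_lit 32) (nat_lit 0xfb8250fd00000000e84f238a)
 (Net.cons (nat_lit 16) (nat_lit 0x384800001ce90000004300005c79)
 (Net.cons (nat_lit 8) (nat_lit 0x180010002d002c00300040007b00c2)
 (Net.cons (nat_lit 4) (nat_lit 0xc000405020b020a0801040c000e040d)
 (Net.cons (nat_lit 2) (nat_lit 0x21120300202123300003230200203232)
 (Net.cons (nat_lit 1) (nat_lit 0x1141140151104444011050010141411)
 (Net.cons (nat_lit 2) (nat_lit 0x220220202000200002000000002222)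
 (Net.cons (nat_lit 4) (nat_lit 0x6040604020e080a0800000002060c08)
 (Net.cons (nat_lit 8) (nat_lit 0xb80010001000a80030000c007000d6)
 (Net.cons (nat_lit 16) (nat_lit 0x286800009ac00000844200000ca0)
 (Net.cons (nat_lit 32) (nat_lit 0x7886609400000000b0442b82)
 (Net.cons (nat_lit 64) (nat_lit 0xa3a4337be01fc044)
 Net.nil)))))))))))))

noncomputable def ns_9 : Net :=
 (Net.cons (nat_lit 64) (nat_lit 0x1d0cc3a570d83b66)
 (Net.cons (nat_lit 32) (nat_lit 0x9bfbf7e90000000013c16163)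
 (Net.cons (nat_lit 16) (nat_lit 0x4b6a000011280000b98d0000b431)
 (Net.cons (nat_lit 8) (nat_lit 0xfb00b9000c00d60057002700f80054)
 (Net.cons (nat_lit 4) (nat_lit 0x2050c0a0004050f030e0a0f040d0e08)
 (Net.cons (nat_lit 2) (nat_lit 0x1222012232030012021121102130200)
 (Net.cons (nat_lit 1) (nat_lit 0x14144045414010144110010104415401)
 (Net.cons (nat_lit 2) (nat_lit 0x222000222020002200000200000202)
 (Net.cons (nat_lit 4) (nat_lit 0x800040c04040406040c080a0c020602)
 (Net.cons (nat_lit 8) (nat_lit 0x3800b4000000d6006400b600f80058)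
 (Net.cons (nat_lit 16) (nat_lit 0xd9e8000019280000d8dc0000966c)
 (Net.cons (nat_lit 32) (nat_lit 0x83ffb4400000000053f06134)
 (Net.cons (nat_lit 64) (nat_lit 0x1d0cc3a948c4393a)
 Net.nil)))))))))))))

noncomputable def ns_10 : Net :=
 (Net.cons (nat_lit 64) (nat_lit 0x9301eef98acc0a73)
 (Net.cons (nat_lit 32) (nat_lit 0xc20b0a59000000009d671231)
 (Net.cons (nat_lit 16) (nat_lit 0xfcca0000263400005f170000401c)
 (Net.cons (nat_lit 8) (nat_lit 0xed00d200a4007700ec003e004400e4)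
 (Net.cons (nat_lit 4) (nat_lit 0x40602080901040c0f0b0e010e04090a)
 (Net.cons (nat_lit 2) (nat_lit 0x1230032033033001300200020020132)
 (Net.cons (nat_lit 1) (nat_lit 0x4451014111011411101110440400411)
 (Net.cons (nat_lit 2) (nat_lit 0x2000002022022202002200000200020)
 (Net.cons (nat_lit 4) (nat_lit 0xc0002000a04000e0a08080008000800)
 (Net.cons (nat_lit 8) (nat_lit 0xa400c00080001200ee003a00280034)
 (Net.cons (nat_lit 16) (nat_lit 0xbec20000884000004f2000000098)
 (Net.cons (nat_lit 32) (nat_lit 0x430ae670000000009dbf0232)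
 (Net.cons (nat_lit 64) (nat_lit 0x9301eefc62fa31e2)
 Net.nil)))))))))))))

noncomputable def ns_11 : Net :=
 (Net.cons (nat_lit 64) (nat_lit 0xcc9e236503fc0888)
 (Net.cons (nat_lit 32) (nat_lit 0xd30d41b40000000071618975)
 (Net.cons (nat_lit 16) (nat_lit 0x43e30000fb16000062100000a930)
 (Net.cons (nat_lit 8) (nat_lit 0xde009100c800000050007800e40071)
 (Net.cons (nat_lit 4) (nat_lit 0x90b020001040c050100000a0c010a0f)
 (Net.cons (nat_lit 2) (nat_lit 0x30231000112020021000230220210211)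
 (Net.cons (nat_lit 1) (nat_lit 0x11141100414004140000041414141141)
 (Net.cons (nat_lit 2) (nat_lit 0x20202000220000000000000222000200)
 (Net.cons (nat_lit 4) (nat_lit 0x40400000c0c0004000008020c080a0a)
 (Net.cons (nat_lit 8) (nat_lit 0x9200e000440040009800740040)
 (Net.cons (nat_lit 16) (nat_lit 0x4170000073360000233000002130)
 (Net.cons (nat_lit 32) (nat_lit 0x530f41f4000000005301416c)
 (Net.cons (nat_lit 64) (nat_lit 0xcc9e236103ec0ae4)
 Net.nil)))))))))))))

noncomputable def ns_12 : Net :=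
 (Net.cons (nat_lit 64) (nat_lit 0x48a012081c24448)
 (Net.cons (nat_lit 32) (nat_lit 0x59a02020000000091f209d0)
 (Net.cons (nat_lit 16) (nat_lit 0x3220000acf0000045b000003340)
 (Net.cons (nat_lit 8) (nat_lit 0x800004006a001c005e00d8000000ad)
 (Net.cons (nat_lit 4) (nat_lit 0x8000000000008080d0e090f06000209)
 (Net.cons (nat_lit 2) (nat_lit 0x100001020330200020002000133)
 (Net.cons (nat_lit 1) (nat_lit 0x5100000400040050010115544000541)
 (Net.cons (nat_lit 2) (nat_lit 0x20000000200020000022)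
 (Net.cons (nat_lit 4) (nat_lit 0x8000000000000080802020008000a04)
 (Net.cons (nat_lit 8) (nat_lit 0x8000040040001c001a00d800000000)
 (Net.cons (nat_lit 16) (nat_lit 0x3200000acf0000045b000002340)
 (Net.cons (nat_lit 32) (nat_lit 0x59a02020000000091f20990)
 (Net.cons (nat_lit 64) (nat_lit 0x48a012081c24448)
 Net.nil)))))))))))))

noncomputable def ns_13 : Net :=
 (Net.cons (nat_lit 64) (nat_lit 0xc7c1d5e424025600)
 (Net.cons (nat_lit 32) (nat_lit 0x80b0952d000000002428092d)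
 (Net.cons (nat_lit 16) (nat_lit 0x53a5000097bd0000200e0000acec)
 (Net.cons (nat_lit 8) (nat_lit 0x45002b001700850014000700c0004e)
 (Net.cons (nat_lit 4) (nat_lit 0x5050c040f0a080c0c0404020a090c01)
 (Net.cons (nat_lit 2) (nat_lit 0x1302103000320011032220221103000)
 (Net.cons (nat_lit 1) (nat_lit 0x40404504010541401040410004050010)
 (Net.cons (nat_lit 2) (nat_lit 0x200002000000002020220000000020)
 (Net.cons (nat_lit 4) (nat_lit 0x4000804020008080c0404000004000a)
 (Net.cons (nat_lit 8) (nat_lit 0xc0002a0016004c0020000400c600ae)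
 (Net.cons (nat_lit 16) (nat_lit 0x92e4000041b40000080400000664)
 (Net.cons (nat_lit 32) (nat_lit 0xc3b094400000000024080128)
 (Net.cons (nat_lit 64) (nat_lit 0xc7c1d5e16423d940)
 Net.nil)))))))))))))

noncomputable def ns_14 : Net :=
 (Net.cons (nat_lit 64) (nat_lit 0xa53af1858ee6678)
 (Net.cons (nat_lit 32) (nat_lit 0xdc8926c50000000019f82408)
 (Net.cons (nat_lit 16) (nat_lit 0x119500008a0a000060660000ec41)
 (Net.cons (nat_lit 8) (nat_lit 0x4003e0029005a00dc000800010054)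
 (Net.cons (nat_lit 4) (nat_lit 0x8010a0100010202050a060e02000609)
 (Net.cons (nat_lit 2) (nat_lit 0x1330013200201110230100112003023)
 (Net.cons (nat_lit 1) (nat_lit 0x5141015010411145100040511415141)
 (Net.cons (nat_lit 2) (nat_lit 0x220000000200020200020002020022)
 (Net.cons (nat_lit 4) (nat_lit 0xc0208000400000004060a0a080608)
 (Net.cons (nat_lit 8) (nat_lit 0x4a00b60000004a00340008000a0050)
 (Net.cons (nat_lit 16) (nat_lit 0x9b440000a90a0000008200003fe8)
 (Net.cons (nat_lit 32) (nat_lit 0xde890ec0000000002d70348c)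
 (Net.cons (nat_lit 64) (nat_lit 0xa53af123fe50990)
 Net.nil)))))))))))))

noncomputable def ns_15 : Net :=
 (Net.cons (nat_lit 64) (nat_lit 0x32381936ff464c12)
 (Net.cons (nat_lit 32) (nat_lit 0x9420143d00000000d241b13c)
 (Net.cons (nat_lit 16) (nat_lit 0xaa2c00008989000041cb000020ea)
 (Net.cons (nat_lit 8) (nat_lit 0x18008e00df0059008600f400a5000e)
 (Net.cons (nat_lit 4) (nat_lit 0xc0c0a0d0b0d060e000c080504090004)
 (Net.cons (nat_lit 2) (nat_lit 0x10102020300100020103212001232023)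
 (Net.cons (nat_lit 1) (nat_lit 0x40100141540514450400451004550445)
 (Net.cons (nat_lit 2) (nat_lit 0x200022000002200200200000000000)
 (Net.cons (nat_lit 4) (nat_lit 0xc0c080e0a0e04040c0008020400040a)
 (Net.cons (nat_lit 8) (nat_lit 0x18009c00a40012004a000400a00040)
 (Net.cons (nat_lit 16) (nat_lit 0xba3c0000f8e8000011080000606a)
 (Net.cons (nat_lit 32) (nat_lit 0x84281d32000000009b01f370)
 (Net.cons (nat_lit 64) (nat_lit 0x323819318ea9bb3e)
 Net.nil)))))))))))))

noncomputable def ns_16 : Net :=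
 (Net.cons (nat_lit 64) (nat_lit 0xfffe00)
 (Net.cons (nat_lit 32) (nat_lit 0xff000000)
 (Net.cons (nat_lit 16) 255
 (Net.cons (nat_lit 8) (nat_lit 0x5c00ff00ff00000000)
 (Net.cons (nat_lit 4) (nat_lit 0xf080b070b0b04080000)
 (Net.cons (nat_lit 2) (nat_lit 0x33300210020030020020)
 (Net.cons (nat_lit 1) (nat_lit 0x1410055545555511555440544)
 (Net.cons (nat_lit 2) (nat_lit 0x2000200002)
 (Net.cons (nat_lit 4) (nat_lit 0x80000040404000008)
 (Net.cons (nat_lit 8) (nat_lit 0x440000000000000000)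
 (Net.cons (nat_lit 32) (nat_lit 0xff000000)
 (Net.cons (nat_lit 64) (nat_lit 0xfffe00)
 Net.nil))))))))))))

noncomputable def ns_17 : Net :=
 (Net.cons (nat_lit 64) (nat_lit 0x35a1e9b8fd5f95d0)
 (Net.cons (nat_lit 32) (nat_lit 0x9671f4a000000000ca238419)
 (Net.cons (nat_lit 16) (nat_lit 0xbfb8000017930000c82700001436)
 (Net.cons (nat_lit 8) (nat_lit 0x680015002200e900900088006e00f3)
 (Net.cons (nat_lit 4) (nat_lit 0x9080205080a0c0002000c0603020d02)
 (Net.cons (nat_lit 2) (nat_lit 0x13202100000033000000023021020022)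
 (Net.cons (nat_lit 1) (nat_lit 0x41101041401111401040441151444444)
 (Net.cons (nat_lit 2) (nat_lit 0x2200020000202000000020202020022)
 (Net.cons (nat_lit 4) (nat_lit 0x80800040808000002080c0a06040000)
 (Net.cons (nat_lit 8) (nat_lit 0xc0009200020084009000ca004e00b0)
 (Net.cons (nat_lit 16) (nat_lit 0x1fa800007f300000486a00005ab0)
 (Net.cons (nat_lit 32) (nat_lit 0xb3d1d5a00000000002238258)
 (Net.cons (nat_lit 64) (nat_lit 0x35a1e9b8552f2014)
 Net.nil)))))))))))))

noncomputable def ns_18 : Net :=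
 (Net.cons (nat_lit 64) (nat_lit 0x6b69460a9cf41ef8)
 (Net.cons (nat_lit 32) (nat_lit 0x54a7486d000000006c02ab11)
 (Net.cons (nat_lit 16) (nat_lit 0x40ab0000a6d10000c8f000001d26)
 (Net.cons (nat_lit 8) (nat_lit 0x680062004300af00540006001c0097)
 (Net.cons (nat_lit 4) (nat_lit 0xf060a0c0002040b08040e08090c0a01)
 (Net.cons (nat_lit 2) (nat_lit 0x33000200201013321010220220320031)
 (Net.cons (nat_lit 1) (nat_lit 0x14014444044101404410040110141444)
 (Net.cons (nat_lit 2) (nat_lit 0x2002202002202200020020020220220)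
 (Net.cons (nat_lit 4) (nat_lit 0xc020808080a00080004000808000800)
 (Net.cons (nat_lit 8) (nat_lit 0x48002400c200be00400004008000f2)
 (Net.cons (nat_lit 16) (nat_lit 0x4e8a000027d80000687000008988)
 (Net.cons (nat_lit 32) (nat_lit 0x76ef486000000000e882aa14)
 (Net.cons (nat_lit 64) (nat_lit 0x6b69460ab0340800)
 Net.nil)))))))))))))

noncomputable def ns_19 : Net :=
 (Net.cons (nat_lit 64) (nat_lit 0x16b601c1e28887c4)
 (Net.cons (nat_lit 32) (nat_lit 0x312340f400000000b69e0557)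
 (Net.cons (nat_lit 16) (nat_lit 0x269a0000eb1e00001a1700005021)
 (Net.cons (nat_lit 8) (nat_lit 0xa100450024001c0019004400f800ee)
 (Net.cons (nat_lit 4) (nat_lit 0xa000607030c06000d080b0c020e000a)
 (Net.cons (nat_lit 2) (nat_lit 0x2020100010010021303102000210031)
 (Net.cons (nat_lit 1) (nat_lit 0x1050041114450011444101001150455)
 (Net.cons (nat_lit 2) (nat_lit 0x20220000022200200000200000)
 (Net.cons (nat_lit 4) (nat_lit 0xa000400000002080408060802060000)
 (Net.cons (nat_lit 8) (nat_lit 0xa00022000400de0052002c00f000c2)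
 (Net.cons (nat_lit 16) (nat_lit 0x270c0000635c000099080000f000)
 (Net.cons (nat_lit 32) (nat_lit 0x3315407c000000001697e76e)
 (Net.cons (nat_lit 64) (nat_lit 0x16b601cd63af6ee6)
 Net.nil)))))))))))))

noncomputable def ns_20 : Net :=
 (Net.cons (nat_lit 64) (nat_lit 0x57173ac9cb2ef15)
 (Net.cons (nat_lit 32) (nat_lit 0xb5477d4e00000000c912a661)
 (Net.cons (nat_lit 16) (nat_lit 0x9c6d000015ba0000f302000016af)
 (Net.cons (nat_lit 8) (nat_lit 0x6300d200e900900088004100dc000d)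
 (Net.cons (nat_lit 4) (nat_lit 0xb030006020901000a0e090008090a06)
 (Net.cons (nat_lit 2) (nat_lit 0x33032031320021202030301300012021)
 (Net.cons (nat_lit 1) (nat_lit 0x14014041104041000040501440411415)
 (Net.cons (nat_lit 2) (nat_lit 0x2000000000020000000000200000000)
 (Net.cons (nat_lit 4) (nat_lit 0xc02040602080400000e04020804020c)
 (Net.cons (nat_lit 8) (nat_lit 0x4e001200f200b40088005c00940086)
 (Net.cons (nat_lit 16) (nat_lit 0x890c000014a2000073180000ca6c)
 (Net.cons (nat_lit 32) (nat_lit 0xb5072ee4000000009b94a224)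
 (Net.cons (nat_lit 64) (nat_lit 0x57173a751c47098)
 Net.nil)))))))))))))

noncomputable def ns_21 : Net :=
 (Net.cons (nat_lit 64) (nat_lit 0xb9362f4a18b35954)
 (Net.cons (nat_lit 32) (nat_lit 0x7839deff000000000747e27f)
 (Net.cons (nat_lit 16) (nat_lit 0x792700003f940000010c0000bc1d)
 (Net.cons (nat_lit 8) (nat_lit 0x7d006e00e2001300800070009c0055)
 (Net.cons (nat_lit 4) (nat_lit 0x400010f06020601080404010600010e)
 (Net.cons (nat_lit 2) (nat_lit 0x32302123012012220000211200312023)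
 (Net.cons (nat_lit 1) (nat_lit 0x1405114040010100401114154040005)
 (Net.cons (nat_lit 2) (nat_lit 0x2200022020000200200200200000000)
 (Net.cons (nat_lit 4) (nat_lit 0xc000a02020006000c00060402000002)
 (Net.cons (nat_lit 8) (nat_lit 0x74006000e6000000c0001000c000fc)
 (Net.cons (nat_lit 16) (nat_lit 0x293000003696000003480000e41c)
 (Net.cons (nat_lit 32) (nat_lit 0x683bd8b00000000047ceb256)
 (Net.cons (nat_lit 64) (nat_lit 0xb9362f44ea127348)
 Net.nil)))))))))))))

noncomputable def ns_22 : Net :=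
 (Net.cons (nat_lit 64) (nat_lit 0xcdece157c76071ba)
 (Net.cons (nat_lit 32) (nat_lit 0x85a832c800000000d6d00852)
 (Net.cons (nat_lit 16) (nat_lit 0xb8660000a4b80000f4d600002c2a)
 (Net.cons (nat_lit 8) (nat_lit 0xa40058002800f4005600f200220082)
 (Net.cons (nat_lit 4) (nat_lit 0x502050c0b060a00060c020b0d090208)
 (Net.cons (nat_lit 2) (nat_lit 0x1020321210212223012322030200201)
 (Net.cons (nat_lit 1) (nat_lit 0x40440440011404414000145140001004)
 (Net.cons (nat_lit 2) (nat_lit 0x220220000202022000020200000002)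
 (Net.cons (nat_lit 4) (nat_lit 0x4000a040200020c08080e080a02)
 (Net.cons (nat_lit 8) (nat_lit 0x2400d0001800fc004400e20000002a)
 (Net.cons (nat_lit 16) (nat_lit 0xb8660000e5f80000e28400002c28)
 (Net.cons (nat_lit 32) (nat_lit 0x81a892c800000000c4d00050)
 (Net.cons (nat_lit 64) (nat_lit 0xcdece151deb255fa)
 Net.nil)))))))))))))

noncomputable def ns_23 : Net :=
 (Net.cons (nat_lit 64) (nat_lit 0xe1c05152a0e0001)
 (Net.cons (nat_lit 32) (nat_lit 0xf8449010000000045e08301)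
 (Net.cons (nat_lit 16) (nat_lit 0x46100000310a0000904800002a20)
 (Net.cons (nat_lit 8) (nat_lit 0xd8000a007c007000e4002000980048)
 (Net.cons (nat_lit 4) (nat_lit 0x90400020d08040c0200020401000004)
 (Net.cons (nat_lit 2) (nat_lit 0x20120300023022020323220)
 (Net.cons (nat_lit 1) (nat_lit 0x4000114444000500100514011005044)
 (Net.cons (nat_lit 2) (nat_lit 0x20000000000022002000020)
 (Net.cons (nat_lit 4) (nat_lit 0x80000020c08000c020002040a000004)
 (Net.cons (nat_lit 8) (nat_lit 0xd0000a005c007000a4002000980048)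
 (Net.cons (nat_lit 16) (nat_lit 0x4610000031080000904800002a20)
 (Net.cons (nat_lit 32) (nat_lit 0xf8449000000000045e08300)
 (Net.cons (nat_lit 64) (nat_lit 0xe1c05142a0e0000)
 Net.nil)))))))))))))

noncomputable def ns_24 : Net :=
 (Net.cons (nat_lit 64) (nat_lit 0xaa650204cf025000)
 (Net.cons (nat_lit 32) (nat_lit 0x8a6c800000000000c0308888)
 (Net.cons (nat_lit 16) (nat_lit 0xa80000009fe30000a49000008240)
 (Net.cons (nat_lit 8) (nat_lit 0x8000280039009100b20062004400b0)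
 (Net.cons (nat_lit 4) (nat_lit 0x802060c080c0c080b0909040b00)
 (Net.cons (nat_lit 2) (nat_lit 0x220200002032201020000002022210)
 (Net.cons (nat_lit 1) (nat_lit 0x10005101050400510110440441100)
 (Net.cons (nat_lit 2) (nat_lit 0x20000002000200020000000022200)
 (Net.cons (nat_lit 4) (nat_lit 0x802020808040c08000808040000)
 (Net.cons (nat_lit 8) (nat_lit 0x8000280018009000920022004400b0)
 (Net.cons (nat_lit 16) (nat_lit 0xa80000009ee00000a49000008240)
 (Net.cons (nat_lit 32) (nat_lit 0x8a2c800000000000c0308880)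
 (Net.cons (nat_lit 64) (nat_lit 0xaa650204cf025000)
 Net.nil)))))))))))))

noncomputable def ns : List Net := [ModelJ2.ns_0, ModelJ2.ns_1, ns_2, ns_3, ns_4, ns_5, ns_6, ns_7, ns_8, ns_9, ns_10, ns_11, ns_12, ns_13, ns_14, ns_15, ns_16, ns_17, ns_18, ns_19, ns_20, ns_21, ns_22, ns_23, ns_24]

theorem ctx : Ctx 128 7 ns := ctx_of (by decide +kernel)

theorem lctx : LCtx 128 7 8 127 trN7 ns := lctx_of ctx trOK7 (by decide +kernel)

noncomputable def E : List ℕ → ℕ → ℕ := pfW0 128 7 8 127 trN7 ns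

theorem hE : Evl 128 ns E := evl_pfW0 lctx

open Cfsg.Agent.Spor.LXO

theorem geq : gen ModelJ2.ns ModelJ2.G_ss0 = gen ns [[0], [2]] :=
  gen_eq_of_take (ns := ModelJ2.ns) (ns' := ns) (k := 2) rfl (ws := ModelJ2.G_ss0) (by decide +kernel)

theorem hn : Nat.card (gen ns [[0], [2]]) = 604800 :=
  geq ▸ ModelJ2.G_card

noncomputable def equiv : Cfsg.Spor.J2 ≃* ↥(gen ns [[0], [2]]) :=
  ModelJ2.equiv.trans (MulEquiv.subgroupCongr geq)

theorem kn_0 : Known ns (gen ns [[0], [2]]) 3 :=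
  known_gen (by decide +kernel)

noncomputable def CG_S4 : List SD :=
  []

noncomputable def CG_d3 : SD :=
  ⟨0, 3, [22], lab 1 1 (nat_lit 0x1000000000000000000000000), 2⟩

noncomputable def CG_S3 : List SD :=
  CG_d3 :: CG_S4

noncomputable def CG_d2 : SD :=
  ⟨17, 2, [16, 18, 20, 22], lab 3 7 (nat_lit 0x10003860136f001c001f50f8e20c001e8c40000190181056006001007037000100000180000), 4⟩

noncomputable def CG_S2 : List SD :=
  CG_d2 :: CG_S3

noncomputable def CG_d1 : SD :=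
  ⟨10, 2, [10, 12, 14, 16, 18, 20, 22], lab 4 15 (nat_lit 0xa00b0a0b08900000000000000000700809000050b001008400600003c0c060002050c0200070a000700a300000011002d205), 3⟩

noncomputable def CG_S1 : List SD :=
  CG_d1 :: CG_S2

noncomputable def CG_d0 : SD :=
  ⟨1, 1, [0, 2, 6, 8, 10, 12, 14, 16, 18, 20, 22], lab 5 31 (nat_lit 0x20e4c849d39423299e062cd5193e49899ef7b283645543c1a9840a97500c211a25c54b35686744ca035aaa44674d12b230955ae673d6a8901837990a1a00d), 3⟩

noncomputable def CG_S0 : List SD :=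
  CG_d0 :: CG_S1

theorem kn_1 : Known ns (gen ns [[0], [2]]) 65535 :=
  kn_0.steps ctx (es := [(3, [2, 0]),
 (4, [1, 3, 0, 3, 3]),
 (5, [7, 1, 9, 2, 1, 2, 6, 1, 7, 8, 3, 6, 6]),
 (6, [3, 1, 8, 0, 9, 3, 8, 8, 2, 7]),
 (7, [10, 13, 10, 13]),
 (8, [12, 10, 14, 13, 13, 13, 10, 14, 14, 14, 14, 12]),
 (9, [12, 12, 15, 11, 12, 10, 14, 11]),
 (10, [18, 18, 18]),
 (11, [18, 16, 19, 16, 16, 18, 18, 17, 18, 16]),
 (12, [20, 16, 18, 22]),
 (13, [20, 13, 22, 16, 18, 16, 22, 22]),
 (14, [13, 23, 19, 23]),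
 (15, [0, 12, 16, 10, 20]),
 (2, [22, 22])]) (by decide +kernel)

theorem CG_ex : Exact 128 ns CG_S0 ∧ gen ns (sTop CG_S0) = gen ns [[0], [2]] ∧ gen ns [[0], [2]] = gen ns [[0], [2]] :=
  exact_of_known ctx hn (le_rfl) kn_1 (by decide +kernel)

noncomputable def C_as : List (List ℕ) :=
  [[4]]

noncomputable def C_p : List (List ℕ × List ℕ) :=
  derAs (dg C_as) [[0]]

noncomputable def C_s : List (ℕ × ℕ) :=
  derSs 128 7 ns (dg C_as) [[0]]

noncomputable def C_k0 : List (List ℕ) :=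
  [[30], [26], [28], [24], [22]]

noncomputable def C_k1 : List (List ℕ) :=
  [[26], [28], [24], [22]]

noncomputable def C_k2 : List (List ℕ) :=
  [[24], [22]]

noncomputable def C_k3 : List (List ℕ) :=
  [[22]]

noncomputable def C_k4 : List (List ℕ) :=
  []

theorem C_cm : commB 128 7 ns (dg C_as) C_k0 = true :=
  by decide +kernel

theorem C_g0 : Good 128 ns C_p C_s (gen ns (sTop CG_S0)) C_k0 :=
  good_der ctx kn_1 (CG_ex.2.1.trans CG_ex.2.2.symm) _ _ ((and'_eq_true _ _).2 ⟨by decide +kernel, C_cm⟩)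

theorem C_g1 : Good 128 ns C_p C_s (gen ns (sTop CG_S1)) C_k1 :=
  C_g0.tail ctx CG_ex.1 (by decide +kernel)

theorem C_g2 : Good 128 ns C_p C_s (gen ns (sTop CG_S2)) C_k2 :=
  C_g1.tail ctx CG_ex.1.tail (by decide +kernel)

theorem C_g3 : Good 128 ns C_p C_s (gen ns (sTop CG_S3)) C_k3 :=
  C_g2.tail ctx CG_ex.1.tail.tail (by decide +kernel)

theorem C_l4 : LevX 128 ns C_p C_s (gen ns (sTop CG_S4)) C_k4 1 :=
  levX_nil _ _ _ _

theorem C_l3 : LevX 128 ns C_p C_s (gen ns (sTop CG_S3)) C_k3 4 :=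
  C_l4.step ctx CG_ex.1.tail.tail.tail C_g3 (br_zero _ _ _ _ _ _ _) [] 3 3 (by decide +kernel)

theorem C_l2 : LevX 128 ns C_p C_s (gen ns (sTop CG_S2)) C_k2 8 :=
  C_l3.step ctx CG_ex.1.tail.tail C_g2 (br_zero _ _ _ _ _ _ _) [] 1 1 (by decide +kernel)

theorem C_l1 : LevX 128 ns C_p C_s (gen ns (sTop CG_S1)) C_k1 96 :=
  C_l2.step ctx CG_ex.1.tail C_g1 (br_zero _ _ _ _ _ _ _) [] 2 2 (by decide +kernel)

theorem C_l0 : LevX 128 ns C_p C_s (gen ns (sTop CG_S0)) C_k0 1920 :=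
  C_l1.step ctx CG_ex.1 C_g0 (br_zero _ _ _ _ _ _ _) [] 3 3 (by decide +kernel)

theorem C : CentEq ns (gen ns [[0], [2]]) C_as C_k0 1920 :=
  centEq_of ctx CG_ex.2.1 C_l0 C_g0 C_cm

theorem Q_0 : XSm (gen ns [[4]]) (wp ns [4]) 0 :=
  xsm_gen_zero ctx 0 (by decide +kernel)

theorem Q_1 : XSm (gen ns [[34], [32], [4]]) (wp ns [4]) 1 :=
  Q_0.gen_succ ctx (by decide +kernel) (by decide +kernel)

theorem Q_2 : XSm (gen ns [[38], [36], [34], [32], [4]]) (wp ns [4]) 2 :=
  Q_1.gen_succ ctx (by decide +kernel) (by decide +kernel)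

noncomputable def Q_ws : List (List ℕ) :=
  [[38], [36], [34], [32], [4]]

theorem Q : XSm (gen ns Q_ws) (wp ns [4]) 2 :=
  Q_2

theorem kn_2 : Known ns (gen ns [[0], [2]]) 2097151 :=
  kn_1.steps ctx (es := [(16, [21, 2, 20, 10, 23, 21, 16, 22]),
 (17, [21, 2, 20, 10, 16, 19, 16, 23]),
 (18, [21, 2, 20, 10, 23, 21, 16, 22, 22]),
 (19, [21, 2, 23, 10, 23, 18, 16]),
 (20, [21, 10, 0, 14, 16, 18, 16, 22, 22])]) (by decide +kernel)

theorem Q_le : gen ns Q_ws ≤ gen ns C_k0 :=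
  C.le_of ctx kn_2 (by decide +kernel)

theorem kc_0 : Known ns (gen ns C_k0) 63488 :=
  known_gen (by decide +kernel)

noncomputable def DG_S3 : List SD :=
  []

noncomputable def DG_d2 : SD :=
  ⟨6, 2, [24, 46, 48], lab 3 7 (nat_lit 0x10800020000000000010000000000000000000000000000000000000000000000000000), 3⟩

noncomputable def DG_S2 : List SD :=
  DG_d2 :: DG_S3

noncomputable def DG_d1 : SD :=
  ⟨10, 2, [28, 42, 44, 24, 46, 48], lab 4 15 (nat_lit 0x2000000405000000000000000000200000000000000000080000000000000000006000000010400030030000000000000000), 2⟩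

noncomputable def DG_S1 : List SD :=
  DG_d1 :: DG_S2

noncomputable def DG_d0 : SD :=
  ⟨1, 2, [30, 26, 22, 28, 42, 44, 24, 46, 48], lab 5 31 (nat_lit 0x180000000a01000000000000000002000001000000100000000000000009000000000600000000000014000000000e008c003102200000000000000000000), 3⟩

noncomputable def DG_S0 : List SD :=
  DG_d0 :: DG_S1

theorem kc_1 : Known ns (gen ns C_k0) 32503812 :=
  kc_0.steps ctx (es := [(21, [24, 27]),
 (22, [29, 43]),
 (23, [45, 43, 45, 45, 29, 29, 29, 44, 42, 29]),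
 (24, [47, 24, 46]),
 (2, [48, 24]),
 (19, [30, 22, 31, 24, 46]),
 (18, [30, 22, 31, 42, 42, 46]),
 (17, [30, 22, 31, 42, 42, 48, 24]),
 (16, [30, 22, 31, 42, 42, 48])]) (by decide +kernel)

theorem DG_ex : Exact 128 ns DG_S0 ∧ gen ns (sTop DG_S0) = gen ns C_k0 ∧ gen ns C_k0 = gen ns C_k0 :=
  exact_of_known ctx C.card (le_rfl) kc_1 (by decide +kernel)

noncomputable def D_as : List (List ℕ) :=
  [[38], [36], [34], [32], [4]]

noncomputable def D_p : List (List ℕ × List ℕ) :=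
  derAs (dg D_as) [[0], [2], [4], [6], [8]]

noncomputable def D_s : List (ℕ × ℕ) :=
  derSs 128 7 ns (dg D_as) [[0], [2], [4], [6], [8]]

noncomputable def D_k0 : List (List ℕ) :=
  [[4]]

noncomputable def D_k1 : List (List ℕ) :=
  [[4]]

noncomputable def D_k2 : List (List ℕ) :=
  [[4]]

noncomputable def D_k3 : List (List ℕ) :=
  []

theorem D_cm : commB 128 7 ns (dg D_as) D_k0 = true :=
  by decide +kernel

theorem D_g0 : Good 128 ns D_p D_s (gen ns (sTop DG_S0)) D_k0 :=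
  good_der ctx kc_1 (DG_ex.2.1.trans DG_ex.2.2.symm) _ _ ((and'_eq_true _ _).2 ⟨by decide +kernel, D_cm⟩)

theorem D_g1 : Good 128 ns D_p D_s (gen ns (sTop DG_S1)) D_k1 :=
  D_g0.tail ctx DG_ex.1 (by decide +kernel)

theorem D_g2 : Good 128 ns D_p D_s (gen ns (sTop DG_S2)) D_k2 :=
  D_g1.tail ctx DG_ex.1.tail (by decide +kernel)

theorem D_l3 : LevX 128 ns D_p D_s (gen ns (sTop DG_S3)) D_k3 1 :=
  levX_nil _ _ _ _

theorem D_c2_14 : Br 128 ns D_p D_s (gen ns (sTop DG_S2)) DG_d2.p (Nat.shiftLeft 1 14) (InCs ns DG_S2 []) :=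
  br_of_cnt ctx DG_ex.1.tail.tail [24, 46] (.pair 62 0 8 0 0) (by decide +kernel) _

theorem D_l2 : LevX 128 ns D_p D_s (gen ns (sTop DG_S2)) D_k2 2 :=
  D_l3.step ctx DG_ex.1.tail.tail D_g2 ((br_zero _ _ _ _ _ _ _).lor D_c2_14) [] 1 1 (by decide +kernel)

noncomputable def D_B1_cs : List (List ℕ) :=
  []

noncomputable def D_B1_pl : List Pl :=
  [⟨.lst 0, []⟩, ⟨.free, []⟩]

noncomputable def D_B1_M0 : ℕ :=
  nat_lit 0x800000000000000000

theorem D_B1_b0 : Br 128 ns D_p D_s (gen ns (sTop DG_S1)) DG_d1.p D_B1_M0 (InCs ns DG_S1 D_B1_cs) :=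
  br_of_brB ctx hE DG_ex.1.tail (pl := D_B1_pl) (bs := [1]) (tps := [7]) (by decide +kernel)

theorem D_l1 : LevX 128 ns D_p D_s (gen ns (sTop DG_S1)) D_k1 2 :=
  D_l2.step ctx DG_ex.1.tail D_g1 ((br_zero _ _ _ _ _ _ _).lor D_B1_b0) [] 0 0 (by decide +kernel)

noncomputable def D_B0_cs : List (List ℕ) :=
  []

noncomputable def D_B0_pl : List Pl :=
  [⟨.lst 0, []⟩, ⟨.free, []⟩, ⟨.free, []⟩]

noncomputable def D_B0_M0 : ℕ :=
  nat_lit 0x400000000000000000000

theorem D_B0_b0 : Br 128 ns D_p D_s (gen ns (sTop DG_S0)) DG_d0.p D_B0_M0 (InCs ns DG_S0 D_B0_cs) :=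
  br_of_brB ctx hE DG_ex.1 (pl := D_B0_pl) (bs := []) (tps := [62]) (by decide +kernel)

theorem D_l0 : LevX 128 ns D_p D_s (gen ns (sTop DG_S0)) D_k0 2 :=
  D_l1.step ctx DG_ex.1 D_g0 ((br_zero _ _ _ _ _ _ _).lor D_B0_b0) [] 0 0 (by decide +kernel)

theorem D : CentEq ns (gen ns C_k0) D_as D_k0 2 :=
  centEq_of ctx DG_ex.2.1 D_l0 D_g0 D_cm

theorem data : Data Cfsg.Spor.J2 (2 ^ 5) 1920 :=
  data_of_model ctx C Q Q_le D (ess := [[[4], [2, 6, 4], [2], [0, 4], [8]], [[4], [0, 4, 6], [0], [2, 0, 4], [8]], [[2, 8], [0, 2, 6], [2, 4, 6], [6], [8]], [[0], [2], [4, 8], [6, 8], [8]], [[0, 8], [2], [4, 8], [6], [8]]])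
    (by decide +kernel) equiv (g := [40]) (v := [0, 4, 8]) (kn_2.word (by decide +kernel)) 0 (by decide +kernel)

theorem isType : IsType Cfsg.Spor.J2 5 (Omega (ZMod 2) (quadFormMinus 1 (ZMod 2) 1 1)) :=
  haveI : Finite Cfsg.Spor.J2 := Nat.finite_of_card_ne_zero (by rw [ModelJ2.card_J2]; norm_num)
  data.hj

end Cfsg.Agent.Spor.TypeJ2
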