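import Cfsg.Agent.Spor.M24Enum

/-!
Orbits of the stabiliser of an octad on octads, trios and sextets.
-/

set_option autoImplicit false
set_option maxRecDepth 100000

namespace Cfsg.Agent.Spor.M24C

open Cfsg Cfsg.Agent.Comp Cfsg.Agent.Spor
open scoped Pointwise
open Cfsg.Agent.Comp.T3

local notation "E" => T3.N T3.L T3.L T3.L

/-- A generator. -/
def gO0 : ℕ := 357237464246492573439481816903876836
/-- A generator. -/
def gO1 : ℕ := 732584369847545006113661951950193738
/-- A generator. -/
def gO2 : ℕ := 357237464246492573439481816903876836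
theorem okgO0 : okM gO0 = true := by decide +kernel
theorem memgO0 : mc gO0 ∈ MulAction.stabilizer M24 (setOf' 5279) :=
  mc_mem_stabilizer_set okgO0 (by decide +kernel)
theorem okgO1 : okM gO1 = true := by decide +kernel
theorem memgO1 : mc gO1 ∈ MulAction.stabilizer M24 (setOf' 5279) :=
  mc_mem_stabilizer_set okgO1 (by decide +kernel)
theorem okgO2 : okM gO2 = true := by decide +kernel
theorem memgO2 : mc gO2 ∈ MulAction.stabilizer M24 (setOf' 5279) :=
  mc_mem_stabilizer_set okgO2 (by decide +kernel)
attribute [irreducible] gO0 gO1 gO2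

theorem orbO_trios0_0 : 15 ≤ (MulAction.orbit (MulAction.stabilizer M24 (setOf' 5279)) (famOf 3 0x84a9607b420000149f)).ncard :=
  fam_orbit_ge _ okgO0 okgO1 okgO2 memgO0 memgO1 memgO2 3 (N (N (N (N E E L) E L) L L) (N (N (N L E L) (N E L L) L) (N E L L) L) L) 0x84a9607b420000149f (hsh 0x10001000500000001 5 1959149 16) 4 (by decide +kernel)

theorem orbO_trios0_1 : 420 ≤ (MulAction.orbit (MulAction.stabilizer M24 (setOf' 5279)) (famOf 3 0x800c7542528a3da100)).ncard :=
  fam_orbit_ge _ okgO0 okgO1 okgO2 memgO0 memgO1 memgO2 3 (N (N (N (N (N (N (N E (N (N E (N (N L E L) E L) L) (N (N E E L) L L) L) L) (N (N (N L E L) (N E E L) L) E L) L) (N (N (N E L L) (N (N L (N L E L) L) (N (N E E L) L L) L) L) (N (N (N (N L E L) (N E E L) L) L L) (N (N (N E L L) L L) (N (N E L L) E L) L) L) L) L) (N (N E (N E (N L (N (N E L L) L L) L) L) L) (N (N (N L (N E E L) L) L L) (N (N (N (N L E L) (N L E L) L) (N L E L) L) (N E (N E L L) L) L) L) L) L) (N (N (N (N (N (N (N E L L) (N E L L) L) (N (N L E L) L L) L) (N (N E L L) (N E L L) L) L) (N (N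 (N E L L) (N L (N E L L) L) L) (N (N E E L) (N (N L E L) E L) L) L) L) (N (N (N (N (N E L L) E L) E L) (N E (N E E L) L) L) (N L (N (N E (N E L L) L) L L) L) L) L) (N (N (N (N L E L) L L) (N (N E L L) E L) L) (N (N (N E (N E E L) L) (N (N L (N L (N L E L) L) L) (N L E L) L) L) (N (N (N L E L) (N E E L) L) (N (N L E L) L L) L) L) L) L) L) (N (N (N (N L (N (N E (N E (N L E L) L) L) L L) L) (N (N (N (N E E L) (N (N E L L) L L) L) (N E E L) L) (N E (N E (N E L L) L) L) L) L) (N (N (N L (N (N E E L) L L) L) (N (N L (N E L L) L) (N (N L E L) L L) L) L) (N (N (N (N E E L) (N (N E E L) (N E L L) L) L) (N (N E E L) E L) L) (N L E L) L) L) L) (N (N (N (N (N (N E L L) (N L E L) L) (N E L L) L) (N (N (N (N L E L) E L) (N E L L) L) E L) L) (N (N (N L (N (N E L L) L L) L) (N (N E L L) (N L E L) L) L) (N (N (N L E L) (N E E L) L) L L) L) L) (N (N (N (N (N L (N L E L) L) E L) (N (N L E L) L L) L) (N (N L (N L E L) L) (N L (N L (N E L L) L) L) L) L) L L) L) L) L) (N (N (N (N (N L (N E (N E L L) L) L) (N L (N (N (N E L L) E L) (N L E L) L) L)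 L) (N (N (N (N L (N L E L) L) (N (N L E L) (N (N E L L) L L) L) L) L L) (N (N (N E (N L E L) L) L L) (N (N E L L) L L) L) L) L) (N (N (N (N (N E L L) (N L E L) L) (N (N L E L) (N L (N L E L) L) L) L) (N E (N (N E L L) (N E L L) L) L) L) (N (N (N (N L E L) (N E E L) L) (N (N (N L E L) (N E L L) L) L L) L) (N (N (N (N E (N E L L) L) L L) E L) E L) L) L) L) (N (N (N (N (N E (N (N E L L) E L) L) (N (N L E L) (N (N (N L E L) L L) L L) L) L) (N L (N E (N E E L) L) L) L) (N (N E (N (N L (N L E L) L) L L) L) (N (N (N E E L) (N (N L E L) L L) L) (N (N (N (N E L L) L L) (N L (N E E L) L) L) (N L (N E E L) L) L) L) L) L) L L) L) L) 0x800c7542528a3da100 (hsh 0x300000022000000010003000100000013000200010000000600300003000400000003000800010000000b00020000000000000000000000160008001f000c0037000000000000000200040000000200180005000700020001000200010003001a000000040007000100000010000000040005001400090000000a0003001500010004000a000000060005000000040003000c000a00040000000c0024000a000e0001000500110006003f0000002a0003000500100006000100080002001b000000000001001a0000000300050005000100020000000100040007000d0002003f000100000009000100060009000800360004000400040000001400610030001d00010000000000050006000400030001000200000000000100110005000300050005001100020000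 149 1179193 512) 9 (by decide +kernel)

theorem orbO_trios0_2 : 3360 ≤ (MulAction.orbit (MulAction.stabilizer M24 (setOf' 5279)) (famOf 3 0x800c7549f002360388)).ncard :=
  fam_orbit_ge _ okgO0 okgO1 okgO2 memgO0 memgO1 memgO2 3 (N (N (N (N (N (N (N (N (N (N L (N (N (N L E L) L L) (N E (N E E L) L) L) L) L L) (N (N (N (N (N E E L) L L) (N (N L E L) L L) L) (N E E L) L) (N (N E (N L (N L E L) L) L) (N L E L) L) L) L) (N (N (N L (N (N (N E L L) E L) (N (N L E L) L L) L) L) (N (N L (N L E L) L) (N (N (N L E L) L L) E L) L) L) (N (N L (N (N (N L (N L E L) L) L L) (N L E L) L) L) (N E (N E (N (N L (N L E L) L) (N E L L) L) L) L) L) L) L) (N (N (N L (N (N (N (N (N L E L) L L) L L) (N L (N (N L E L) L L) L) L) (N L E L) L) L) (N (N (N (N E (N E L L) L) (N L E L) L) (N L E L) L) (N (N E (N E E L) L) (N E (N L E L) L) L) L) L) (N (N (N (N (N (N E E L) (N E (N E L L) L) L) (N E E L) L) (N L (N (N E L L) L L) L) L) (N (N E L L) L L) L) (N (N L (N (N (N L E L) (N E E L) L) L L) L) (N (N E (N (N E L L) L L) L) (N (N (N E E L) L L) (N (N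 L E L) (N E L L) L) L) L) L) L) L) L) (N (N (N (N L E L) (N (N L (N E (N L (N E E L) L) L) L) (N (N L E L) (N L (N L (N L E L) L) L) L) L) L) (N (N (N (N (N (N E L L) E L) (N L E L) L) E L) (N E (N (N E L L) L L) L) L) (N (N (N L (N L E L) L) (N (N (N E E L) L L) E L) L) (N (N E L L) (N (N E E L) (N E L L) L) L) L) L) L) (N (N (N (N L E L) (N (N (N L (N L E L) L) (N L E L) L) (N (N (N E L L) L L) L L) L) L) (N (N (N (N L E L) E L) (N (N (N E E L) L L) (N L (N E L L) L) L) L) (N (N E L L) L L) L) L) (N (N (N (N (N E L L) (N (N (N L E L) L L) E L) L) (N (N L (N L E L) L) (N (N L E L) E L) L) L) L L) (N (N (N (N (N E L L) E L) (N L (N E L L) L) L) (N (N (N E (N E L L) L) L L) (N L (N L (N E L L) L) L) L) L) (N (N E (N L E L) L) (N (N E L L) E L) L) L) L) L) L) L) (N (N (N (N (N (N (N E (N (N (N L E L) E L) L L) L) (N (N E L L) (N (N L E L) E L) L) L) (N (N L E L) (N (N L (N E L L) L) (N E (N L E L) L) L) L) L) (N (N (N (N L E L) (N (N L (N L E L) L) L L) L) L L) (N (N E (N L (N E L L) L) L) (N L (N E L L) L) L) L) L) (N (N (N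 (N (N (N E (N E L L) L) L L) L L) (N L E L) L) E L) (N (N L (N (N (N L (N L E L) L) L L) L L) L) (N (N (N L E L) (N E L L) L) (N (N (N (N E L L) L L) E L) L L) L) L) L) L) (N (N (N (N (N (N (N L E L) L L) L L) (N L (N E L L) L) L) (N (N E (N L E L) L) (N E (N (N E L L) E L) L) L) L) (N L (N (N L (N L E L) L) (N (N L (N E E L) L) (N L (N E L L) L) L) L) L) L) (N (N (N (N (N E L L) (N L (N E L L) L) L) E L) L L) (N (N (N L (N L E L) L) (N (N L (N E L L) L) (N E L L) L) L) L L) L) L) L) (N (N (N (N (N (N (N L (N L E L) L) (N E L L) L) (N E E L) L) (N (N L (N L (N E L L) L) L) (N L (N (N E E L) E L) L) L) L) (N (N (N (N (N E E L) L L) (N L E L) L) (N (N L E L) E L) L) (N (N (N (N L E L) L L) (N L E L) L) (N (N (N L E L) E L) (N E L L) L) L) L) L) (N (N (N E (N (N (N L E L) (N E L L) L) L L) L) (N (N L (N L E L) L) (N L (N L E L) L) L) L) (N E (N (N (N L E L) E L) (N L (N (N L E L) E L) L) L) L) L) L) (N (N (N (N (N E (N E E L) L) (N L (N (N L E L) E L) L) L) (N E (N (N E L L) E L) L) L) (N (N (N (N E E L) L L) (N (N (N L E L) L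 L) (N E E L) L) L) (N L (N (N E L L) (N L E L) L) L) L) L) (N (N (N (N (N L (N L E L) L) E L) (N (N (N E E L) L L) L L) L) E L) (N (N (N L (N (N E L L) L L) L) (N (N (N L E L) E L) (N L (N L E L) L) L) L) (N (N (N (N E E L) E L) E L) (N L E L) L) L) L) L) L) L) L) (N (N (N (N (N (N (N (N E E L) (N (N E (N E L L) L) E L) L) (N (N (N E (N E L L) L) (N (N E E L) L L) L) (N L E L) L) L) (N (N (N E (N (N E E L) E L) L) (N (N (N E L L) L L) (N L E L) L) L) (N L (N E (N L (N L E L) L) L) L) L) L) (N (N (N E (N L (N (N E L L) (N L E L) L) L) L) L L) (N (N (N (N L E L) (N L (N E L L) L) L) (N L (N E E L) L) L) (N (N E L L) (N (N L (N E L L) L) (N E L L) L) L) L) L) L) (N (N (N (N (N (N E (N E E L) L) (N (N E L L) L L) L) (N (N L E L) (N L E L) L) L) (N (N (N E L L) E L) (N (N L (N E L L) L) (N L (N E E L) L) L) L) L) (N L (N L (N (N L E L) L L) L) L) L) (N (N (N (N L (N E E L) L) (N (N E L L) L L) L) (N (N (N E (N L E L) L) (N (N E L L) (N L E L) L) L) (N (N E E L) (N E E L) L) L) L) (N (N L (N L E L) L) (N (N E L L) (N (N L E L) (N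 E (N E L L) L) L) L) L) L) L) L) (N (N (N (N (N (N E L L) (N E (N L (N (N L E L) L L) L) L) L) (N (N (N (N L E L) E L) (N (N E L L) L L) L) (N (N (N L E L) L L) L L) L) L) (N (N (N (N E (N L E L) L) L L) (N (N L (N L E L) L) (N L E L) L) L) (N E (N (N L E L) L L) L) L) L) (N (N (N (N L (N L E L) L) (N (N (N E E L) E L) L L) L) (N (N (N E L L) (N (N L E L) E L) L) (N E E L) L) L) (N (N (N E (N (N E L L) L L) L) E L) (N (N E (N E E L) L) (N L (N L (N E L L) L) L) L) L) L) L) (N (N (N (N (N E L L) E L) E L) (N (N L (N L (N L E L) L) L) L L) L) (N (N (N L (N (N (N (N E L L) L L) L L) L L) L) (N (N E (N (N E (N E L L) L) E L) L) E L) L) L L) L) L) L) (N (N (N (N (N (N L (N L (N E (N L E L) L) L) L) (N (N L E L) L L) L) (N (N (N (N E L L) (N L E L) L) (N L (N E L L) L) L) (N L (N E (N (N E L L) L L) L) L) L) L) (N (N (N (N E L L) (N L E L) L) (N (N (N L E L) (N L (N L E L) L) L) L L) L) (N (N E (N (N L E L) L L) L) L L) L) L) (N (N (N (N (N L (N (N E L L) E L) L) (N (N (N E L L) L L) (N (N L E L) E L) L) L) L L) (N (N L (N (N E E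 L) (N L (N E L L) L) L) L) (N (N (N (N L (N E L L) L) L L) L L) E L) L) L) (N L (N (N E (N (N (N E E L) (N L E L) L) E L) L) L L) L) L) L) (N (N (N (N (N (N (N E E L) E L) L L) E L) (N L (N E L L) L) L) (N (N L (N (N (N E (N E E L) L) E L) (N (N (N E L L) E L) (N E L L) L) L) L) (N L (N (N (N (N L E L) (N L E L) L) (N L E L) L) (N (N (N L E L) E L) (N (N E L L) (N E E L) L) L) L) L) L) L) (N (N (N L (N (N (N L (N E L L) L) (N (N L E L) L L) L) (N L (N L (N E L L) L) L) L) L) (N (N (N L (N L E L) L) (N L (N (N L E L) E L) L) L) (N (N (N L E L) L L) (N L (N (N E L L) L L) L) L) L) L) (N (N (N (N E L L) L L) (N L E L) L) (N (N (N (N (N L E L) (N L E L) L) E L) (N E (N (N E L L) L L) L) L) (N (N E (N L (N E L L) L) L) (N L (N E L L) L) L) L) L) L) L) L) L) L) (N (N (N (N (N (N (N (N (N E (N (N E L L) (N L E L) L) L) L L) (N (N E E L) (N (N (N L E L) E L) E L) L) L) (N (N (N (N E E L) (N L E L) L) L L) (N (N E (N L E L) L) (N (N L (N E L L) L) (N E E L) L) L) L) L) (N (N (N L (N L E L) L) (N (N L (N L (N E L L) L) L) (N (N (N E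 L L) L L) E L) L) L) (N (N (N L E L) (N L (N L (N E L L) L) L) L) (N (N L (N (N E L L) L L) L) (N L E L) L) L) L) L) (N (N (N (N (N (N (N L E L) E L) E L) (N (N E L L) L L) L) L L) (N (N (N E (N L (N L E L) L) L) L L) (N E (N (N L E L) L L) L) L) L) (N (N (N L (N (N E (N L E L) L) L L) L) (N (N (N L E L) (N E (N L E L) L) L) (N (N (N L E L) L L) (N E L L) L) L) L) (N (N L (N (N E L L) (N E L L) L) L) (N (N (N (N E L L) L L) L L) (N (N L E L) L L) L) L) L) L) L) (N (N (N (N (N L (N (N L (N E L L) L) (N E L L) L) L) (N (N (N L (N L E L) L) (N (N E E L) (N L (N L E L) L) L) L) (N E (N L (N (N L E L) L L) L) L) L) L) (N (N L (N (N L (N L E L) L) (N L E L) L) L) (N (N (N E L L) L L) (N E L L) L) L) L) (N (N (N (N L (N (N E L L) (N E E L) L) L) L L) (N (N (N E L L) L L) (N (N E (N E L L) L) L L) L) L) (N (N (N (N E L L) (N L E L) L) E L) (N E (N E E L) L) L) L) L) (N (N (N L (N (N (N E L L) L L) (N L E L) L) L) (N (N L (N (N E L L) (N E L L) L) L) (N (N E L L) (N (N L E L) E L) L) L) L) (N (N (N (N (N E L L) (N E L L) L) (N L (N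 L E L) L) L) (N (N (N E L L) L L) (N E (N (N E E L) L L) L) L) L) (N (N (N E (N E L L) L) (N L (N L (N E L L) L) L) L) (N (N (N L (N L E L) L) L L) (N E L L) L) L) L) L) L) L) (N (N (N (N (N (N (N E L L) E L) (N (N L (N E E L) L) (N L (N L (N E L L) L) L) L) L) (N (N (N E L L) (N (N E L L) L L) L) (N L (N E E L) L) L) L) (N (N (N (N E L L) L L) (N (N (N L E L) (N E E L) L) E L) L) (N (N (N (N E E L) E L) (N E (N E L L) L) L) (N (N L (N E L L) L) (N E L L) L) L) L) L) (N (N (N (N (N (N E L L) (N E E L) L) L L) (N (N L (N (N L E L) (N L E L) L) L) (N (N E L L) E L) L) L) (N (N (N E (N E E L) L) L L) E L) L) (N (N (N E (N L (N (N L E L) L L) L) L) (N (N L (N L E L) L) (N E (N E L L) L) L) L) (N (N (N (N E L L) L L) (N (N L E L) (N E E L) L) L) (N (N E L L) (N (N L (N L E L) L) L L) L) L) L) L) L) (N (N (N (N L (N L (N L E L) L) L) (N (N (N (N E E L) L L) (N (N E L L) E L) L) (N (N (N E L L) E L) (N L (N E L L) L) L) L) L) (N (N (N E E L) (N (N (N (N L E L) E L) (N L E L) L) L L) L) (N L E L) L) L) (N (N (N (N E E L) (N L (N L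 (N E L L) L) L) L) (N (N E (N (N (N E L L) L L) L L) L) (N (N L (N L (N L E L) L) L) (N E (N E L L) L) L) L) L) (N (N (N L (N (N L E L) L L) L) (N (N L (N L (N L E L) L) L) (N (N E L L) (N L E L) L) L) L) (N (N (N L (N E L L) L) (N (N L E L) (N L E L) L) L) (N (N E L L) L L) L) L) L) L) L) L) (N (N (N (N (N (N (N (N E E L) L L) (N L (N L (N L (N L E L) L) L) L) L) (N (N (N L (N L (N L (N E L L) L) L) L) L L) (N (N L (N E E L) L) L L) L) L) (N (N (N E L L) L L) (N (N (N (N E E L) L L) (N (N E L L) (N L E L) L) L) (N (N (N L (N L E L) L) (N E L L) L) (N E L L) L) L) L) L) (N (N (N (N (N L (N L E L) L) (N (N (N L E L) (N (N L E L) E L) L) E L) L) (N (N (N E E L) L L) (N E L L) L) L) (N (N (N (N (N E L L) (N L E L) L) L L) (N E (N L E L) L) L) (N (N L E L) (N L (N (N E L L) E L) L) L) L) L) (N (N (N (N L (N L E L) L) (N L (N (N E L L) L L) L) L) (N (N L (N E E L) L) (N (N (N L E L) L L) (N (N L E L) L L) L) L) L) (N (N (N L (N E E L) L) (N E L L) L) (N (N E (N L E L) L) L L) L) L) L) L) (N (N (N (N (N (N (N L (N L E L) L) L L)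 E L) (N (N E (N (N E L L) E L) L) L L) L) (N (N (N (N L (N L E L) L) (N E L L) L) (N (N (N E L L) E L) L L) L) (N L (N (N E (N E L L) L) (N (N L E L) L L) L) L) L) L) (N (N (N (N (N E L L) (N L E L) L) (N (N E L L) L L) L) E L) (N (N (N (N L (N L E L) L) (N L (N (N L E L) L L) L) L) (N E (N E L L) L) L) (N (N E (N (N L E L) L L) L) L L) L) L) L) (N (N (N (N (N E (N E E L) L) E L) (N (N (N E E L) (N E (N E L L) L) L) (N L (N E (N E E L) L) L) L) L) (N (N (N (N (N L (N L E L) L) L L) L L) L L) E L) L) (N (N (N (N L E L) (N (N L E L) (N E E L) L) L) (N (N (N E L L) (N (N E E L) L L) L) L L) L) (N (N L (N (N (N L E L) L L) L L) L) (N E (N L (N E E L) L) L) L) L) L) L) L) (N (N (N (N (N (N L E L) (N (N E L L) L L) L) (N (N (N L (N L E L) L) (N (N L (N E L L) L) L L) L) (N (N E L L) (N L (N L E L) L) L) L) L) (N (N (N (N E (N L E L) L) L L) (N E (N E L L) L) L) (N (N (N (N (N L E L) L L) L L) (N (N E L L) E L) L) E L) L) L) (N (N (N (N (N (N E L L) L L) L L) (N (N L (N L E L) L) (N (N L E L) L L) L) L) (N (N L (N L (N E L L) L) L)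 (N (N L (N L E L) L) L L) L) L) (N (N (N (N L E L) (N E (N L E L) L) L) (N (N E (N L E L) L) L L) L) (N (N (N E (N E L L) L) (N (N (N L E L) (N E L L) L) E L) L) (N (N (N L E L) L L) (N L (N E E L) L) L) L) L) L) L) (N (N (N (N L (N L (N E L L) L) L) (N (N (N (N E (N L E L) L) L L) (N (N (N L E L) L L) (N L (N E L L) L) L) L) (N (N (N (N E L L) (N E L L) L) (N L E L) L) (N E (N E L L) L) L) L) L) L L) (N (N (N (N (N L (N (N L E L) L L) L) (N (N E L L) L L) L) (N (N (N L E L) L L) L L) L) (N (N E (N (N E L L) E L) L) (N (N L (N (N L E L) E L) L) (N (N E E L) (N (N E L L) L L) L) L) L) L) (N (N E (N E (N L E L) L) L) L L) L) L) L) L) L) L) (N (N (N (N (N (N (N (N E (N (N L (N (N E L L) L L) L) (N E (N E L L) L) L) L) (N (N (N E (N L (N E L L) L) L) L L) (N (N (N E L L) E L) L L) L) L) (N (N (N (N (N L E L) L L) L L) (N (N (N L E L) E L) L L) L) (N (N L (N (N (N E L L) E L) L L) L) (N (N (N L (N E L L) L) L L) (N L E L) L) L) L) L) (N (N (N E (N L (N (N E L L) (N (N E E L) L L) L) L) L) (N E (N (N E (N (N L E L) L L) L) (N (N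 L E L) E L) L) L) L) (N (N (N (N L E L) (N (N L E L) L L) L) (N (N (N E L L) E L) (N E L L) L) L) L L) L) L) (N (N (N L (N (N (N L (N L E L) L) (N (N (N L E L) L L) E L) L) (N (N L (N L E L) L) (N (N (N E L L) E L) L L) L) L) L) L L) (N (N (N (N (N E E L) (N (N (N L E L) L L) L L) L) (N (N L E L) (N L (N L E L) L) L) L) (N E L L) L) (N (N (N (N (N L E L) (N E E L) L) (N (N E E L) (N L (N E L L) L) L) L) (N E (N (N E L L) (N L E L) L) L) L) (N (N L (N E E L) L) (N (N E L L) (N E (N L E L) L) L) L) L) L) L) L) (N (N (N (N (N (N (N E (N E L L) L) L L) (N L (N (N (N L E L) (N L E L) L) E L) L) L) (N (N (N (N (N L E L) L L) (N (N L E L) E L) L) L L) (N (N E L L) (N (N E L L) (N (N E E L) L L) L) L) L) L) (N (N (N E L L) L L) (N (N (N L (N E E L) L) (N L (N L (N L E L) L) L) L) (N L (N (N E L L) (N (N L E L) L L) L) L) L) L) L) (N (N (N L (N L (N E L L) L) L) (N (N (N L (N L E L) L) (N (N E L L) E L) L) (N L (N L (N (N L E L) L L) L) L) L) L) (N (N (N (N (N L E L) (N L (N E L L) L) L) L L) (N L (N (N (N E L L) L L) E L) L) L) (N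 (N (N (N (N (N E L L) L L) E L) E L) L L) L L) L) L) L) (N (N (N (N (N (N E L L) (N L E L) L) (N (N E E L) (N L (N E (N E L L) L) L) L) L) (N (N (N E L L) (N (N E L L) E L) L) (N E L L) L) L) (N (N (N E (N (N L E L) E L) L) (N L (N (N L E L) (N L (N E L L) L) L) L) L) (N (N (N L (N L E L) L) E L) (N (N L (N (N E L L) L L) L) (N L E L) L) L) L) L) (N (N (N (N (N (N E L L) (N E L L) L) (N (N (N L E L) L L) (N (N L E L) E L) L) L) (N E (N E (N E E L) L) L) L) (N (N L (N (N L E L) L L) L) (N (N (N (N L E L) L L) (N E L L) L) (N (N E E L) (N E L L) L) L) L) L) (N (N (N (N (N L (N E L L) L) (N E L L) L) E L) (N (N (N E L L) L L) (N E (N E L L) L) L) L) (N (N L (N (N L E L) L L) L) (N L (N E (N E L L) L) L) L) L) L) L) L) L) (N (N (N (N (N (N (N (N E E L) L L) (N (N (N E L L) (N L E L) L) (N (N L E L) E L) L) L) (N L (N (N E L L) (N L (N L (N L E L) L) L) L) L) L) (N (N (N (N E E L) (N L E L) L) (N E E L) L) (N (N (N (N L E L) L L) (N (N (N L E L) E L) L L) L) (N (N L (N L (N E L L) L) L) E L) L) L) L) (N (N (N (N (N E (N E L L) L)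 (N E L L) L) (N (N E (N E E L) L) E L) L) (N (N (N (N (N L E L) L L) L L) (N L E L) L) (N L (N (N L E L) L L) L) L) L) (N (N (N (N L E L) (N (N E E L) (N E E L) L) L) (N (N E (N L (N E L L) L) L) E L) L) (N (N (N (N E (N E L L) L) (N (N L E L) L L) L) (N E E L) L) (N (N (N L E L) (N E E L) L) L L) L) L) L) L) (N (N (N (N (N (N E (N L (N L E L) L) L) (N E (N E L L) L) L) (N E (N E E L) L) L) (N L (N (N (N E E L) L L) (N L (N E L L) L) L) L) L) L L) (N (N (N (N (N L (N L E L) L) (N E E L) L) (N (N (N L (N E E L) L) (N E L L) L) (N E L L) L) L) (N (N (N (N E L L) (N (N L E L) L L) L) (N (N L E L) E L) L) L L) L) (N (N L (N (N (N E L L) (N (N E L L) (N L E L) L) L) L L) L) (N (N (N E E L) L L) (N (N (N L E L) L L) (N (N E L L) L L) L) L) L) L) L) L) (N (N (N (N (N (N (N E L L) L L) (N (N (N E (N E L L) L) (N L E L) L) L L) L) (N (N (N (N L E L) (N E L L) L) L L) L L) L) (N (N (N (N (N E L L) (N E E L) L) L L) (N (N L (N E L L) L) L L) L) (N (N L (N E L L) L) E L) L) L) (N (N (N (N (N (N (N E E L) (N L E L) L) E L) L L) E L) (N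 (N (N L (N E (N E L L) L) L) E L) (N L (N (N L E L) E L) L) L) L) (N (N L (N (N L E L) L L) L) (N (N (N E (N E L L) L) (N (N E E L) L L) L) (N (N E L L) L L) L) L) L) L) (N (N (N (N (N (N (N L E L) (N L E L) L) (N (N L E L) L L) L) (N (N L (N E L L) L) (N E E L) L) L) (N (N E (N (N L E L) E L) L) L L) L) (N L (N L (N (N E E L) L L) L) L) L) (N (N (N (N (N E E L) L L) (N L (N L E L) L) L) (N (N (N L (N E (N L E L) L) L) (N E (N E E L) L) L) (N (N E (N L E L) L) (N L (N L E L) L) L) L) L) (N (N (N (N L (N E E L) L) (N (N E E L) L L) L) (N L E L) L) (N (N (N L E L) L L) (N (N E L L) (N E L L) L) L) L) L) L) L) L) L) (N (N (N (N (N (N (N (N L (N (N E L L) L L) L) (N E L L) L) (N (N (N L E L) (N E L L) L) L L) L) (N (N (N (N L E L) E L) (N (N E L L) E L) L) E L) L) (N (N (N (N (N (N E L L) (N E L L) L) L L) (N L (N E (N E L L) L) L) L) (N (N (N (N E L L) E L) (N (N E L L) (N L E L) L) L) (N (N (N E E L) (N E L L) L) (N E L L) L) L) L) (N (N (N L (N E L L) L) (N (N (N L E L) (N L E L) L) E L) L) (N (N E (N L (N L E L) L) L) (N (N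 (N L E L) L L) E L) L) L) L) L) (N L (N (N L (N (N E (N (N L (N L E L) L) L L) L) (N (N L E L) L L) L) L) (N (N L (N (N (N (N L E L) L L) (N L E L) L) (N (N E E L) L L) L) L) (N (N E (N E E L) L) (N (N (N (N L E L) E L) (N L E L) L) L L) L) L) L) L) L) (N (N (N (N (N (N (N E E L) L L) (N E L L) L) (N L (N (N E E L) L L) L) L) (N (N (N E (N (N E E L) L L) L) E L) (N (N (N L E L) E L) (N (N E L L) L L) L) L) L) (N (N (N (N L (N (N L E L) L L) L) (N (N (N L E L) E L) L L) L) (N L (N (N (N L E L) L L) L L) L) L) (N (N (N (N (N E L L) (N L E L) L) (N E (N L E L) L) L) (N L (N (N E L L) L L) L) L) (N (N (N L E L) E L) (N (N (N E L L) E L) (N E L L) L) L) L) L) L) (N (N (N (N (N L (N (N E L L) (N E E L) L) L) (N (N L E L) E L) L) (N (N (N E L L) (N (N L (N L E L) L) L L) L) (N (N E (N E L L) L) (N E L L) L) L) L) (N (N E (N (N L (N E L L) L) L L) L) (N (N L (N (N E E L) E L) L) (N E (N L E L) L) L) L) L) (N L (N (N E (N E (N (N L (N E L L) L) L L) L) L) (N (N L (N (N L E L) E L) L) E L) L) L) L) L) L) (N (N (N (N (N (N (N (N (N L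 (N E L L) L) E L) L L) (N L (N E E L) L) L) (N (N E E L) (N (N E L L) (N L E L) L) L) L) (N (N (N (N E L L) L L) (N (N L E L) (N L E L) L) L) (N (N L (N L E L) L) L L) L) L) (N (N (N (N (N E (N L E L) L) (N L (N L E L) L) L) (N (N E (N (N L E L) E L) L) (N L (N E E L) L) L) L) (N (N E L L) L L) L) (N (N (N (N E E L) (N L (N L E L) L) L) L L) (N (N (N (N (N E E L) L L) L L) (N L E L) L) E L) L) L) L) (N (N (N (N (N (N (N (N L E L) E L) E L) (N L (N E E L) L) L) (N (N L (N E L L) L) (N (N E L L) E L) L) L) (N (N (N (N L E L) L L) E L) (N (N (N L E L) L L) (N (N L E L) E L) L) L) L) (N (N E (N L (N L (N E L L) L) L) L) (N (N (N (N L E L) E L) (N (N L E L) E L) L) E L) L) L) (N (N (N L (N (N E (N L E L) L) L L) L) (N L (N (N (N L E L) (N E L L) L) (N (N E L L) E L) L) L) L) (N (N E (N L (N E L L) L) L) (N (N (N (N L E L) (N E L L) L) L L) L L) L) L) L) L) (N (N (N (N (N (N (N L E L) E L) (N (N L (N E L L) L) (N E (N E L L) L) L) L) (N (N (N L (N L E L) L) (N L (N (N E L L) L L) L) L) (N L (N L E L) L) L) L) (N (N (N L E L) E L)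 (N (N (N E L L) L L) (N (N E L L) (N L E L) L) L) L) L) (N (N (N (N (N E L L) L L) (N (N L E L) L L) L) (N L (N (N L (N L (N E L L) L) L) L L) L) L) (N L (N L (N (N L (N (N E L L) E L) L) L L) L) L) L) L) (N (N (N (N (N (N (N E L L) L L) (N (N L E L) E L) L) (N L (N E L L) L) L) (N (N E L L) (N (N (N L (N E L L) L) L L) E L) L) L) (N (N L (N (N L E L) L L) L) (N (N (N (N E L L) L L) (N E L L) L) (N (N (N E L L) (N L E L) L) L L) L) L) L) (N (N L (N (N L (N L (N L E L) L) L) (N (N L (N L E L) L) L L) L) L) (N E (N (N (N E (N E L L) L) (N E L L) L) (N E (N E L L) L) L) L) L) L) L) L) L) L) L) 0x800c7549f002360388 (hsh 0x20008000e0015000d0021000e0003000300000000000000080000000e0002000000000010004b004e000000030000000600090000000100000025000000000001000d00020004000000000004000c00020005000300030003000100430000000c0004000c000000170000001e0001001400060005000b0000000c0000001e0005001200020001000000000007002d0007000a003100000003001b000d000f000d0015001e002f0000000a000c0001000000030003000400000007001300000003000100050001000300000002000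0000f00130000000000000003000000080004000c000e001500040007000a000f0006001c000d0026000000070003005c003b00010002000000250000001e00120019000a000600200000000000010033000200280002000b0011000c0000005f000800030000001e00030011001400010000000000020010001b0001000200000000000b00590002000900060002000d0006000500300025000200200004000100090001000200060000004a00070002000000070007000d00000001000a0006000100000000000000000005000c0000000000060000001b0006000500040005000000050015000100000000001a0000000200030000000100090000000900010003000300040010000000000014000f001600010008000c00080022000b00010003000b0000000e0002000300090006001b0005001700020001000f000e00180004000b000b0001002d000000020001001a000400020000001b00000001000100020001000200030003000b00060000000100020000000300040003000900040015000500000009000000000003001c0007000400050038000c0004000000010010000000000000001f0000001c00010010002d0006000000000002000b000f00020000000e00010004000d000200030000003900050000000a00120000000000120001000200030000001f001200040005001800180000000a00010000000a00170006002000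19000f001200000004000d00010018000300030003000500100015000b0001000d007800000000000400010000000c00000001001d002e00000001000000020020002300050000000000030002000000020000000100000001002300010000000500030000001b0000000100020000000d0013000c00000018004d000000020000000200000000000900000007000500000001000500030001000000010001000800010014004200120026000900000007000300000003000000040003000000000009000100000001001f00330003002b006000020010002e0001000400190000000000100001000e0000001a000d0005000200070002000300340028001d00050000000e000200050000000000020003000000020008001c00000000001600050005000a002a00010000000100090003000200090004001c001b0000005100100008000000020000000300000009009f000100010005004e0007000000000001000900010000000a0000000100000000000d0002000600150002000700120001000400040000000e000000060002000900080003000300270001001c0000000000020001000000380000000c00010006000000300019000100010001000a00000000000200020008000c0003000e0001000e0014000100010000000100060000000300000003002300000005000800060000000100000043000000010003000b0004000200020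0090003001c0000000000020001000100050014000000010000004f003100080003000d0009003c000600020015000100080002000a00090003000900470006000c000100010000004000180005000000050040000000010009000400000004000100020003002e0003000000030008000a000000020002000300050008000d0004000d000000140001000100010001000300060000000300030002000700000004000f0007000000020009000a000b0007000300090002001600040004000000000003000100020004000d0001000500000000001500010002000b0000000000000018000d00010005000a0016002a000000060001000000030023000000020001000c0000004100050004000000000004000c00020001004e0005000600130000000100010000002c000c0019000f0000000000030000005f0002003d0008001a00010002000e000000020000000400120001000a0002000000070000000000150004000a000a0006002b00020004000100020002002b0000000300000016000000080017000c00380007000000010001000f000000080005000d00010058000400000001000900020000000b00080000001900100000000d0000000400040006001b0000000400060001003e000000040006000800350000001b00080011001f0000000c000e0000000100080001000100160000000500030000000500030000000300080006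002a000e00050018001e0004000f00200029001300050014000200080000000800100001001200060000000700000009000300000005001d000d000500120002000a00010007000200030005000000000000001a0006000400d700040025000800020000000200040000000000000003001900000001001700000002008100150001001c00090001001e00000002000100330000000000240000001600010006000d0001000400000002000000090008001500010005000000000003000500000004000d000000070002000200060001000600030006000500210006000e0000000100010002000b00030000000100010001000500010003000200060000000e00080022002c0004000200300015000100000003000200000000000000000009001b0000000e0007000c0002000100080017000a0003000000150000008e00060010000800060006000a00000000000200010003000000050001000000000008000c000300030039000300230007000400050002004c000f002200020005000d0000000700010006000c0005001e00000000000d0000000d0008000000000000000100060004000000010025000d0003002e00050000000100060001000c000e000000040005001f00010011001a004e00070004001b00050005000300020011 1123 1050977 4096) 12 (by decide +kernel)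

theorem orbO_trios0 : OrbDec (MulAction.stabilizer M24 (setOf' 5279)) trios ![15, 420, 3360] := by
  refine orbDec_fam _ (fun g _ h => smul_mem_trios g h) 1 5279 (smul_famOf_one (by norm_num)) 3 ![0x84a9607b420000149f, 0x800c7542528a3da100, 0x800c7549f002360388]
    (fun i => famOf_mem_trios (by revert i; decide +kernel)) (by decide +kernel) _ (fun i => ?_)
    (by rw [ncard_trios]; decide)
  · fin_cases i
    · exact orbO_trios0_0
    · exact orbO_trios0_1
    · exact orbO_trios0_2

theorem orbO_sextets0_0 : 35 ≤ (MulAction.orbit (MulAction.stabilizer M24 (setOf' 5279)) (famOf 6 0x80086042420039000004a10000108a000415)).ncard :=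
  fam_orbit_ge _ okgO0 okgO1 okgO2 memgO0 memgO1 memgO2 6 (N (N (N (N E (N (N E L L) E L) L) (N (N E (N E E L) L) (N L (N L E L) L) L) L) L L) (N (N (N L (N L E L) L) (N (N L (N E L L) L) (N L (N L E L) L) L) L) (N (N E (N L E L) L) L L) L) L) 0x80086042420039000004a10000108a000415 (hsh 0x3000400000006000200010005000000080001000d 11 1747217 64) 6 (by decide +kernel)

theorem orbO_sextets0_1 : 840 ≤ (MulAction.orbit (MulAction.stabilizer M24 (setOf' 5279)) (famOf 6 0x800023540040202a0009140002400c008190)).ncard :=
  fam_orbit_ge _ okgO0 okgO1 okgO2 memgO0 memgO1 memgO2 6 (N (N (N (N (N (N (N (N (N (N L (N E E L) L) (N E L L) L) (N (N L (N E L L) L) L L) L) (N (N (N E (N E (N L E L) L) L) L L) (N (N L (N E L L) L) (N (N E E L) E L) L) L) L) (N (N (N L (N (N E L L) E L) L) L L) (N (N (N L (N L E L) L) (N L E L) L) (N (N L E L) (N E E L) L) L) L) L) (N (N (N L (N L (N (N E L L) E L) L) L) (N (N E L L) (N E (N E L L) L) L) L) (N (N L (N (N (N E E L) E L) L L) L) (N (N (N E E L) E L) (N (N E L L) (N (N L (N E L L) L) (N L E L) L)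 L) L) L) L) L) (N (N (N (N (N (N (N E L L) L L) E L) (N (N L E L) (N E E L) L) L) (N (N L (N L (N L E L) L) L) L L) L) (N (N (N L (N E L L) L) (N (N E E L) (N L (N E L L) L) L) L) (N (N E L L) (N L (N L (N L E L) L) L) L) L) L) (N (N (N (N E E L) L L) (N (N E L L) (N L (N L (N E L L) L) L) L) L) (N (N (N (N E L L) (N E L L) L) (N L (N (N E (N L E L) L) E L) L) L) L L) L) L) L) (N (N (N (N (N (N L (N E L L) L) E L) (N (N (N E L L) (N (N E L L) E L) L) (N (N E (N L E L) L) (N L E L) L) L) L) (N (N E (N L E L) L) (N (N (N E L L) E L) (N (N (N E E L) L L) E L) L) L) L) (N (N (N (N E (N E L L) L) (N (N E E L) (N (N E L L) L L) L) L) (N (N L (N (N E L L) L L) L) (N (N (N E L L) (N E L L) L) E L) L) L) (N (N E (N L (N E L L) L) L) (N (N L (N L E L) L) (N (N E L L) (N (N E L L) L L) L) L) L) L) L) (N (N (N (N (N E L L) L L) (N (N E (N L E L) L) (N E (N (N L E L) E L) L) L) L) (N (N (N (N (N L E L) L L) L L) (N L E L) L) (N (N L E L) (N (N (N E E L) L L) (N L E L) L) L) L) L) (N (N (N (N (N E (N E L L) L) (N E L L) L) (N E E L) L) (N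 (N (N E L L) L L) (N (N E E L) E L) L) L) (N (N (N L (N L E L) L) L L) (N (N L E L) (N (N E E L) E L) L) L) L) L) L) L) (N (N (N (N (N (N (N (N E (N E L L) L) E L) L L) (N E (N (N L E L) L L) L) L) L L) (N (N (N (N (N E L L) (N E L L) L) L L) (N E (N (N (N L E L) L L) L L) L) L) (N (N (N E L L) L L) (N (N (N (N E L L) E L) (N E E L) L) L L) L) L) L) L L) (N (N (N (N L (N L (N E (N (N E L L) L L) L) L) L) L L) (N (N (N (N E (N E E L) L) (N (N E E L) E L) L) (N E (N L (N E E L) L) L) L) (N (N E (N E E L) L) (N (N (N L (N E L L) L) E L) E L) L) L) L) (N (N (N (N (N L (N (N L E L) E L) L) (N (N E (N E L L) L) L L) L) (N (N E E L) E L) L) L L) (N (N (N L (N (N L (N L E L) L) L L) L) (N (N E (N (N L E L) (N L E L) L) L) (N E L L) L) L) (N L (N L (N L (N (N E L L) E L) L) L) L) L) L) L) L) L) (N (N (N (N (N (N (N (N (N E (N E L L) L) (N E E L) L) (N L E L) L) (N E (N L (N E L L) L) L) L) (N (N (N (N E E L) (N (N L E L) L L) L) (N L E L) L) (N (N (N (N E L L) L L) (N L (N E L L) L) L) E L) L) L) (N (N (N (N E (N L E L) L) L L) (N (N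 (N (N E L L) L L) (N (N E L L) L L) L) E L) L) (N (N E (N (N L (N L E L) L) (N E L L) L) L) E L) L) L) (N (N (N (N (N L (N (N E (N L E L) L) L L) L) (N E L L) L) (N (N E E L) L L) L) (N (N (N E L L) (N (N L (N L E L) L) E L) L) (N (N E E L) (N L E L) L) L) L) (N (N (N (N (N L (N E E L) L) L L) (N (N L (N L E L) L) L L) L) (N (N E (N E (N L E L) L) L) (N (N L E L) L L) L) L) E L) L) L) (N (N (N (N (N L (N (N L (N L E L) L) (N E E L) L) L) (N (N (N E (N E L L) L) L L) (N (N L E L) L L) L) L) (N (N L (N L E L) L) (N (N L (N L (N L E L) L) L) (N L E L) L) L) L) (N (N E (N (N (N L E L) L L) L L) L) (N (N (N L E L) (N L (N E L L) L) L) (N E (N (N L (N E L L) L) L L) L) L) L) L) (N (N (N (N (N E (N E L L) L) (N L (N L (N L E L) L) L) L) (N (N E (N E L L) L) (N (N (N E E L) L L) L L) L) L) (N L (N (N E (N L (N L E L) L) L) (N (N E E L) L L) L) L) L) (N L (N (N (N (N L E L) L L) (N E L L) L) (N (N (N (N L E L) (N E L L) L) (N L E L) L) (N (N E E L) (N L (N L E L) L) L) L) L) L) L) L) L) (N (N (N (N (N (N L (N L (N E (N E L L) L) L)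 L) (N L (N (N L (N L E L) L) E L) L) L) (N (N L (N E L L) L) (N E (N (N L (N L E L) L) (N L (N L E L) L) L) L) L) L) (N (N (N (N L E L) (N L E L) L) (N L (N (N E L L) (N E E L) L) L) L) (N (N E (N E (N E L L) L) L) (N (N E E L) L L) L) L) L) (N (N (N (N L (N (N E E L) (N L E L) L) L) (N (N (N E L L) L L) L L) L) (N (N E L L) (N L E L) L) L) (N (N (N (N (N E L L) (N E L L) L) E L) L L) (N (N L (N L (N (N E L L) L L) L) L) (N (N L (N L E L) L) (N (N L (N E L L) L) L L) L) L) L) L) L) (N (N (N (N E E L) (N (N (N L (N E E L) L) (N E (N E L L) L) L) (N L (N E (N L E L) L) L) L) L) (N (N (N (N L E L) (N L (N L E L) L) L) (N (N (N L E L) L L) L L) L) (N L (N (N (N L E L) (N E L L) L) L L) L) L) L) (N (N (N (N (N L (N E L L) L) L L) L L) (N (N (N E L L) E L) L L) L) (N (N (N (N L E L) (N L E L) L) (N (N E L L) (N E (N L E L) L) L) L) (N (N (N E L L) E L) L L) L) L) L) L) L) L) 0x800023540040202a0009140002400c008190 (hsh 0x100030000000d00070002000300080023000a0004000b00030002000500060002000b0007000600030000000100060001000d0003000d0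00300020009002000050001001900300002000000070005000000100003000200030000001b000000120001001900030000000a000700000002000500010005000100430012000e00010002000000010001001100010004000000000003000000000000000b0007000200000002000000000002001600000001000100040000000a000100030006001000240009000d00010005000500000009000d00070033000b00000000000700000012000200000006000c000300010013001b001900030000000000010009000900010013000000010000000000030000000100040003000000020002001100110001002d00010008000800020003000000010001000000090000000800000000000e000000000005002400000001000000120000001700240006000a000a00000006000a0017001500130001000000040000001d00000000000b001500010004000000010003000f000f00040000000700010009000e000000070003000300030018000400050001000800000058000800310003000b000200530008000200840000001a00000008000000170015000300040003000500000007000800030002000b0000000c00040000000d00000002000000000005000f000000010000000000020003000b0004000e0018000100010000001f00030002000f0000000e000600000000000c00070004000c00000001 281 1730579 1024) 10 (by decide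 +kernel)

theorem orbO_sextets0_2 : 896 ≤ (MulAction.orbit (MulAction.stabilizer M24 (setOf' 5279)) (famOf 6 0x8000074120102800c0108600041900024028)).ncard :=
  fam_orbit_ge _ okgO0 okgO1 okgO2 memgO0 memgO1 memgO2 6 (N (N (N (N (N (N (N (N (N (N (N E L L) E L) (N (N L E L) L L) L) (N E L L) L) (N (N (N L (N L E L) L) (N E E L) L) (N (N L E L) L L) L) L) (N (N (N L (N L (N L E L) L) L) L L) (N (N (N L (N E E L) L) (N L E L) L) (N (N (N E L L) E L) (N (N E L L) E L) L) L) L) L) L L) (N (N (N (N (N (N (N L E L) (N L E L) L) (N E L L) L) E L) (N (N (N E L L) L L) (N (N E E L) E L) L) L) (N (N (N (N E (N L (N L E L) L) L) (N (N (N E L L) L L) L L) L) (N (N L E L) L L) L) (N (N E (N (N L E L) E L) L) (N E L L) L) L) L) (N (N (N (N E (N E L L) L) (N E (N (N E L L) (N L E L) L) L) L) L L) (N L (N (N (N E L L) L L) (N L (N E L L) L) L) L) L) L) L) (N (N (N (N (N (N (N L (N L E L) L) (N (N (N L E L) L L) L L) L) (N E E L) L) (N (N (N L (N L (N E L L) L) L) L L) (N (N E E L) E L) L) L) L L) (N (N (N (N (N E L L) (N E L L) L) L L) (N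 E (N (N (N L E L) L L) (N (N E L L) (N L E L) L) L) L) L) (N (N (N E L L) (N (N E L L) E L) L) (N (N (N E L L) (N L E L) L) (N E (N (N E L L) L L) L) L) L) L) L) (N (N (N (N L (N L (N (N L E L) (N E L L) L) L) L) (N (N (N E E L) E L) (N E L L) L) L) (N (N L (N (N E L L) E L) L) (N (N E E L) L L) L) L) (N (N (N (N E E L) (N (N L (N E L L) L) (N (N E L L) L L) L) L) (N (N L (N E (N L E L) L) L) (N (N E E L) E L) L) L) (N (N E (N L (N E (N E L L) L) L) L) (N (N (N E E L) L L) L L) L) L) L) L) L) (N (N (N (N (N (N (N (N L (N L E L) L) L L) (N (N E E L) (N L E L) L) L) (N (N L (N E E L) L) (N (N L E L) E L) L) L) (N (N (N (N E L L) (N L E L) L) (N E (N E L L) L) L) (N (N E L L) (N E E L) L) L) L) (N (N (N (N L E L) (N (N (N E (N L E L) L) E L) (N E (N (N E L L) E L) L) L) L) L L) (N (N (N (N (N E L L) (N E L L) L) L L) (N E (N L (N L E L) L) L) L) L L) L) L) (N (N (N (N (N (N L E L) L L) (N (N (N L E L) L L) (N L E L) L) L) (N (N (N E L L) (N E (N L E L) L) L) (N (N (N E L L) L L) (N E L L) L) L) L) (N (N (N E E L) L L) (N (N (N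 E E L) E L) E L) L) L) (N (N (N E (N (N (N L E L) L L) (N (N E L L) E L) L) L) (N (N E (N (N L E L) L L) L) (N (N E L L) (N (N E L L) L L) L) L) L) L L) L) L) (N (N (N (N (N (N L (N (N E L L) L L) L) (N (N L (N E L L) L) (N E (N E L L) L) L) L) (N (N (N (N E L L) L L) L L) (N (N E E L) L L) L) L) (N (N (N E L L) L L) (N (N E (N L (N E E L) L) L) L L) L) L) (N (N (N (N E L L) (N (N L E L) E L) L) L L) (N (N (N L (N E L L) L) (N (N L E L) E L) L) (N (N E E L) (N (N E L L) E L) L) L) L) L) (N (N (N (N (N E (N E (N L E L) L) L) L L) (N L (N (N E E L) (N L E L) L) L) L) (N (N (N E L L) L L) (N (N (N L (N E L L) L) (N E E L) L) L L) L) L) (N (N (N (N (N L E L) L L) (N L (N L E L) L) L) (N (N L E L) (N E E L) L) L) (N L (N (N L (N (N L E L) E L) L) (N (N L E L) (N L E L) L) L) L) L) L) L) L) L) (N (N (N (N (N (N (N (N (N E E L) (N (N L E L) L L) L) (N (N L E L) L L) L) L L) (N (N E L L) (N (N (N E L L) (N (N E L L) L L) L) (N L E L) L) L) L) (N (N (N (N L (N E L L) L) L L) L L) (N (N (N L (N L E L) L) (N (N E (N E L L) L) (N (N (N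 L E L) L L) (N E L L) L) L) L) (N L (N E E L) L) L) L) L) (N (N (N (N (N L (N E E L) L) L L) (N (N (N E (N L E L) L) L L) (N L (N E L L) L) L) L) (N (N (N L E L) L L) L L) L) (N (N L (N (N E (N E E L) L) (N L (N L E L) L) L) L) (N L (N (N (N L E L) L L) E L) L) L) L) L) (N (N (N (N (N (N (N L E L) (N L E L) L) L L) (N L (N L E L) L) L) (N (N L (N (N (N E L L) L L) E L) L) (N (N E E L) (N E E L) L) L) L) (N (N (N (N L (N E L L) L) L L) (N (N E E L) L L) L) (N (N (N (N L E L) E L) (N L (N L E L) L) L) (N L (N L (N L E L) L) L) L) L) L) (N (N (N (N (N (N E (N E L L) L) L L) L L) (N (N (N E L L) (N L E L) L) (N (N E L L) (N L E L) L) L) L) (N (N (N (N L E L) E L) L L) (N (N E E L) (N (N (N L E L) E L) L L) L) L) L) (N (N (N (N (N L E L) E L) (N E L L) L) (N L E L) L) (N (N (N L (N E E L) L) L L) (N (N E (N E E L) L) (N E (N E L L) L) L) L) L) L) L) L) (N (N (N (N (N (N E (N L (N E L L) L) L) (N L (N (N L E L) (N E L L) L) L) L) (N (N (N E L L) (N L (N L E L) L) L) (N (N L E L) (N (N E L L) E L) L) L) L) (N (N (N (N E E L) (N L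 (N E L L) L) L) E L) (N (N L (N E L L) L) (N (N E E L) E L) L) L) L) (N (N (N (N (N (N L (N E L L) L) (N E (N L E L) L) L) (N L (N L (N E L L) L) L) L) L L) (N (N L (N (N L E L) (N L E L) L) L) (N (N (N L (N L E L) L) L L) (N (N L E L) (N L E L) L) L) L) L) (N (N L (N (N (N (N L E L) (N E L L) L) E L) E L) L) (N L (N (N (N L (N (N L E L) L L) L) (N (N L E L) L L) L) E L) L) L) L) L) (N (N (N (N (N (N (N E L L) E L) L L) (N L (N (N L E L) E L) L) L) (N (N E (N (N L E L) L L) L) (N (N E L L) L L) L) L) (N (N (N L (N (N E L L) L L) L) L L) (N (N (N E E L) (N L E L) L) (N (N E E L) L L) L) L) L) (N (N (N (N L E L) (N (N E L L) (N (N E L L) (N E L L) L) L) L) (N (N (N (N L E L) L L) (N L (N E L L) L) L) (N L (N L (N L E L) L) L) L) L) (N (N E (N (N E (N E L L) L) E L) L) (N (N (N L (N E L L) L) (N L E L) L) E L) L) L) L) L) L) L) 0x8000074120102800c0108600041900024028 (hsh 0x1000f000800010000000000020016000500000030000f001600000048000000280000004d00180015000a000e000e00080037000e0007000d001100030000000600610014000600a80011000500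0a001c00330004000800030002000400090005000800090000000900050023000500050009000100000001000100000007006c0031000300170007000300050000000000260000000a005700030003000000000002001c0001006a0015000a0000000700030019000a000000240001000000080000001e0023000a0000001900000014000100100001000d0003001100080002000400300015000000280014000000040000003c0000000100090002000100100006000800040000000000010004001c001c0001000300160000000b000f000000050000000d0000000400000000001200000000000b000f0001000c001500000007001f003600050000000000060007000000010033000300060006000000000000000d000400150004000100060013000d000000060037000000020001000100020001001500090001000500000005000f000100060003000a000a000000000004000100000006000a00030004000700000000000a000a00030002006500220000000000050007000000140009000a001100010002001100000012001100030000000000060000000000060009000600010002000e00000003000e000000000004000f0009000200080006000000000005000100050040001a000d0011000000000002001c001800020000000000020012001c00010027000c001e0003001d0006000c00010003000400000000000000010002000a000200020002000300000016000f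 307 1513529 1024) 10 (by decide +kernel)

theorem orbO_sextets0 : OrbDec (MulAction.stabilizer M24 (setOf' 5279)) sextets ![35, 840, 896] := by
  refine orbDec_fam _ (fun g _ h => smul_mem_sextets g h) 1 5279 (smul_famOf_one (by norm_num)) 6 ![0x80086042420039000004a10000108a000415, 0x800023540040202a0009140002400c008190, 0x8000074120102800c0108600041900024028]
    (fun i => famOf_mem_sextets (by revert i; decide +kernel)) (by decide +kernel) _ (fun i => ?_)
    (by rw [ncard_sextets]; decide)
  · fin_cases i
    · exact orbO_sextets0_0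
    · exact orbO_sextets0_1
    · exact orbO_sextets0_2

theorem orbO_octads0_0 : 1 ≤ (MulAction.orbit (MulAction.stabilizer M24 (setOf' 5279)) (setOf' 5279)).ncard :=
  set_orbit_ge _ okgO0 okgO1 okgO2 memgO0 memgO1 memgO2 (E) (x := 5279) (by norm_num) (hsh 0x0 1 3 2) 1 (by decide +kernel)

theorem orbO_octads0_1 : 30 ≤ (MulAction.orbit (MulAction.stabilizer M24 (setOf' 5279)) (setOf' 1009728)).ncard :=
  set_orbit_ge _ okgO0 okgO1 okgO2 memgO0 memgO1 memgO2 (N (N (N (N (N L (N E L L) L) (N L (N L E L) L) L) (N (N E (N E L L) L) (N E E L) L) L) (N (N (N E L L) E L) L L) L) (N (N (N L (N L E L) L) L L) (N E L L) L) L) (x := 1009728) (by norm_num) (hsh 0x0 1 81 64) 6 (by decide +kernel)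

theorem orbO_octads0_2 : 280 ≤ (MulAction.orbit (MulAction.stabilizer M24 (setOf' 5279)) (setOf' 10558)).ncard :=
  set_orbit_ge _ okgO0 okgO1 okgO2 memgO0 memgO1 memgO2 (N (N (N (N (N (N (N (N L (N E (N E L L) L) L) (N E (N L E L) L) L) (N E (N L E L) L) L) (N (N (N (N E (N L E L) L) (N L (N L E L) L) L) (N (N (N E L L) L L) L L) L) (N (N L E L) (N (N L E L) E L) L) L) L) (N (N (N (N (N (N E L L) E L) (N (N E L L) L L) L) (N L (N E L L) L) L) E L) (N (N (N L (N E E L) L) (N (N E E L) E L) L) (N (N (N E (N L E L) L) L L) (N (N E L L) E L) L) L) L) L) (N (N (N L (N E (N L E L) L) L) (N E (N (N E L L) (N E (N E L L) L) L) L) L) (N (N (N (N L (N L (N L E L) L) L) (N (N L E L) (N E L L) L) L) (N L (N E L L) L) L) (N (N (N E L L) (N L (N (N E L L) L L) L) L) (N E L L) L) L) L) L) (N (N (N (N (N (N L (N L E L) L) L L) (N (N L E L) (N (N L E L) (N E E L) L) L) L) (N (N (N E L L) (N E E L) L) (N (N (N E E L) E L) E L) L) L) (N (N (N E (N L E L) L) (N (N L (N E E L) L) (N L (N L E L) L) L) L) (N (N (N (N L E L) L L) L L) L L) L) L)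 L L) L) (N (N (N (N (N E (N (N L E L) L L) L) (N (N E (N (N L E L) (N L E L) L) L) (N (N L E L) (N E (N L E L) L) L) L) L) (N (N (N (N L (N E (N E L L) L) L) L L) (N (N L (N L E L) L) (N L E L) L) L) (N E (N E (N E L L) L) L) L) L) (N (N (N L (N E (N E E L) L) L) L L) (N (N (N (N (N L E L) E L) L L) E L) L L) L) L) (N (N (N (N (N L (N E (N L E L) L) L) (N (N L (N E L L) L) (N E E L) L) L) (N L (N (N L E L) (N L (N L E L) L) L) L) L) (N (N (N E (N E L L) L) (N L (N L E L) L) L) E L) L) (N (N (N (N E (N E E L) L) (N E (N (N E L L) (N E E L) L) L) L) (N L (N E L L) L) L) L L) L) L) L) (x := 10558) (by norm_num) (hsh 0x30000000100100001000300010002000400010001000000050002000300000000000500000000000100000002000000040000000d00000002000600020004000000010001000000010000000100070001000500000004000700020000000000050000000000000000000300000000000000020000000100000002000500020000000900010005000000000000000000040005000600010000000000000000000000000000002d0002000200000000000000040000000000010000 97 1309559 512) 9 (by decide +kernel)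

theorem orbO_octads0_3 : 448 ≤ (MulAction.orbit (MulAction.stabilizer M24 (setOf' 5279)) (setOf' 31554)).ncard :=
  set_orbit_ge _ okgO0 okgO1 okgO2 memgO0 memgO1 memgO2 (N (N (N (N (N (N (N (N (N L (N E L L) L) (N (N E L L) E L) L) (N E (N E L L) L) L) (N (N L (N L (N E L L) L) L) L L) L) (N (N (N E (N E L L) L) (N (N (N L E L) (N E L L) L) (N (N (N L E L) E L) (N L E L) L) L) L) (N (N E L L) (N (N E (N E E L) L) (N (N L E L) E L) L) L) L) L) (N (N (N (N L E L) (N E (N L (N E L L) L) L) L) (N L (N (N L (N E E L) L) L L) L) L) (N (N L (N L (N (N E E L) L L) L) L) (N L (N E (N (N L E L) (N (N L E L) L L) L) L) L) L) L) L) (N (N (N (N (N L (N L E L) L) (N (N E E L) (N L (N E L L) L) L) L) (N L (N L (N (N E L L) E L) L) L) L) (N (N E (N E (N L E L) L) L) (N (N L (N E L L) L) (N L (N E (N L E L) L) L) L) L) L) (N (N (N (N (N (N E L L) L L) (N E L L) L) (N (N E (N (N E L L) L L) L) E L) L) (N (N (N E L L) (N (N L E L) L L) L) (N (N E (N E L L) L) (N L (N E L L) L) L) L) L) (N (N L (N L (N E L L) L) L) L L) L) L) L) (N (N (N (N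 (N (N (N (N L E L) (N L E L) L) (N (N E L L) L L) L) (N E (N (N L E L) L L) L) L) (N (N E (N L E L) L) L L) L) (N (N (N (N (N (N E L L) E L) L L) (N (N L E L) L L) L) (N E L L) L) (N (N E (N L E L) L) (N (N E L L) L L) L) L) L) (N (N (N L E L) E L) (N (N (N E L L) (N (N E L L) (N L E L) L) L) (N (N E (N E E L) L) E L) L) L) L) (N (N E (N (N (N L (N E E L) L) (N (N L (N L E L) L) (N (N E L L) L L) L) L) (N E (N L (N E L L) L) L) L) L) (N (N (N (N L (N (N E E L) L L) L) L L) (N (N (N L E L) (N L (N E E L) L) L) (N E (N E E L) L) L) L) (N (N (N (N (N L E L) E L) L L) (N (N E (N E L L) L) L L) L) (N (N L (N L E L) L) (N L (N L E L) L) L) L) L) L) L) L) (N (N (N (N (N (N (N (N L (N L E L) L) E L) L L) (N E E L) L) (N (N E (N L E L) L) (N (N E E L) (N L (N L E L) L) L) L) L) (N (N (N (N L (N E E L) L) (N (N E E L) (N L E L) L) L) (N (N L E L) (N (N E E L) L L) L) L) (N (N (N (N L E L) (N E L L) L) (N (N E (N L E L) L) L L) L) (N (N (N L E L) L L) L L) L) L) L) (N (N (N (N (N E E L) L L) (N (N E (N E (N E L L) L) L) (N E E L) L) L)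 (N (N (N (N L E L) L L) E L) (N (N (N E E L) L L) (N (N E L L) E L) L) L) L) (N (N E L L) (N (N (N (N L E L) (N L E L) L) (N (N E L L) E L) L) (N (N (N E (N E L L) L) L L) (N (N E L L) L L) L) L) L) L) L) (N (N (N (N (N (N L E L) L L) (N (N (N (N L E L) E L) L L) (N (N L (N L E L) L) (N L E L) L) L) L) (N (N (N L E L) (N (N L E L) E L) L) L L) L) L L) (N L (N (N (N (N E L L) L L) L L) (N (N E (N L (N L E L) L) L) (N E (N L (N L E L) L) L) L) L) L) L) L) L) (x := 31554) (by norm_num) (hsh 0x600130017000300020010001000000005000200000002000a0001000e0000000d00000007000e0006001f00b9000b0000000200080002000200010000001000000003000900020009000000120000000f00010001002800050000001300090019001d00000002000000010057000e0003000200020008000e002a0000000000010015000e00030008001d00060004000000070000000300130003000100010001000c000700000007000a0001000400020018000800000008000200040001000800260003001b0004000400000021000e00010024004f00000012000400030001000800020004000b00000016000e0004000f00040003000000000000000000060000000300110002002800080006000c000300070036000500010015000c00010018000000040000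 149 1443941 512) 9 (by decide +kernel)

theorem orbO_octads0 : OrbDecAt (MulAction.stabilizer M24 (setOf' 5279)) octads ![1, 30, 280, 448]
    fun i => setOf' (![5279, 1009728, 10558, 31554] i) := by
  refine orbDecAt_of_inv _ _ (Set.toFinite _) (fun g _ _ h => (smul_mem_octads_iff g).2 h)
    (fun s => (setOf' 5279 ∩ s).card) (fun g hg a _ => ?_) _
    (fun i => setOf'_mem_octads (by revert i; decide +kernel)) ?_ _ (fun i => ?_)
    (by rw [ncard_octads]; decide)
  · conv_lhs => rw [← MulAction.mem_stabilizer_iff.1 hg, card_smul_inter]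
  · simp only [← setOf'_land, card_setOf']
    decide +kernel
  · fin_cases i
    · exact orbO_octads0_0
    · exact orbO_octads0_1
    · exact orbO_octads0_2
    · exact orbO_octads0_3

theorem orbO_trios {o : Finset GolayPt} (ho : o ∈ octads) :
    OrbDec (MulAction.stabilizer M24 o) trios ![15, 420, 3360] := by
  obtain ⟨g, rfl⟩ := exists_smul_octad o0_mem ho
  exact orbO_trios0.smul (fun g _ h => smul_mem_trios g h) g

theorem orbO_sextets {o : Finset GolayPt} (ho : o ∈ octads) :
    OrbDec (MulAction.stabilizer M24 o) sextets ![35, 840, 896] := by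
  obtain ⟨g, rfl⟩ := exists_smul_octad o0_mem ho
  exact orbO_sextets0.smul (fun g _ h => smul_mem_sextets g h) g

/-- The orbits of an octad stabiliser on octads, with the intersection sizes. -/
theorem orbO_octads {o : Finset GolayPt} (ho : o ∈ octads) :
    ∃ y, OrbDecAt (MulAction.stabilizer M24 o) octads ![1, 30, 280, 448] y ∧
      ∀ i, (o ∩ y i).card = ![8, 0, 4, 2] i := by
  obtain ⟨g, rfl⟩ := exists_smul_octad o0_mem ho
  refine ⟨_, orbO_octads0.conj g (fun k => mem_stabilizer_smul_iff g k _)
    (fun a => smul_mem_octads_iff g), fun i => ?_⟩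
  rw [card_smul_inter, ← setOf'_land, card_setOf']
  revert i
  decide +kernel

theorem exists_smul_octad_pair {o o' o'' : Finset GolayPt} (ho : o ∈ octads) (ho' : o' ∈ octads)
    (ho'' : o'' ∈ octads) (h : (o ∩ o').card = (o ∩ o'').card) :
    ∃ g ∈ MulAction.stabilizer M24 o, g • o' = o'' := by
  obtain ⟨y, hy, hc⟩ := orbO_octads ho
  refine hy.exists_smul (fun s => (o ∩ s).card) (fun g hg a _ => ?_) ?_ ho' ho'' h
  · conv_lhs => rw [← MulAction.mem_stabilizer_iff.1 hg, card_smul_inter]
  · simp only [hc]; decide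

theorem ncard_orbit_octad_pair {o o' : Finset GolayPt} (ho : o ∈ octads) (ho' : o' ∈ octads)
    (i : Fin 4) (h : (o ∩ o').card = ![8, 0, 4, 2] i) :
    (MulAction.orbit (MulAction.stabilizer M24 o) o').ncard = ![1, 30, 280, 448] i := by
  obtain ⟨y, hy, hc⟩ := orbO_octads ho
  obtain ⟨g, hg, e⟩ := exists_smul_octad_pair ho (hy.mem i) ho' ((hc i).trans h.symm)
  rw [← hy.card i]
  congr 1
  exact MulAction.orbit_eq_iff.2 ⟨⟨g, hg⟩, e⟩

theorem card_stabilizer_octad_pair {o o' : Finset GolayPt} (ho : o ∈ octads) (ho' : o' ∈ octads)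
    (i : Fin 4) (h : (o ∩ o').card = ![8, 0, 4, 2] i) :
    Nat.card ↥(MulAction.stabilizer M24 o ⊓ MulAction.stabilizer M24 o') =
      ![322560, 10752, 1152, 720] i := by
  have := card_eq_orbit_mul (MulAction.stabilizer M24 o) o'
  rw [card_stabilizer_octad ho, ncard_orbit_octad_pair ho ho' i h] at this
  fin_cases i <;> simp at this ⊢ <;> omega

end Cfsg.Agent.Spor.M24C

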