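import Mathlib
import Cfsg.Agent.Block.OneBlock
import Cfsg.Agent.Spor.M24Conj
import Cfsg.Agent.Spor.M24Sub
import Cfsg.Agent.Spor.MathieuDefs
import Cfsg.Agent.S5607

/-! Involution centralisers of `M24` are `2`-constrained; centralisers of some elements of odd
prime order. -/

set_option autoImplicit false

namespace Cfsg.Agent.Spor.M24C

open Cfsg Cfsg.Agent.Comp Cfsg.Agent.Spor Cfsg.Agent.Block Subgroup
open scoped Pointwise

theorem isPGroup_two_of_sq {G : Type*} [Group G] {Q : Subgroup G} (h : ∀ g ∈ Q, g * g = 1) :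
    IsPGroup 2 Q := fun g => ⟨1, Subtype.ext (by simpa [pow_two] using h g g.2)⟩

theorem comm_of_sq {G : Type*} [Group G] {Q : Subgroup G} (h : ∀ g ∈ Q, g * g = 1) {a b : G}
    (ha : a ∈ Q) (hb : b ∈ Q) : a * b = b * a := by
  have h1 := h _ (mul_mem ha hb)
  calc a * b = a * (a * b * (a * b)) * b * (b * b) := by
        rw [h1, h b hb]; group
    _ = (a * a) * (b * a) * (b * b) * (b * b) := by group
    _ = b * a := by rw [h a ha, h b hb]; group

theorem stabilizer_le_normalizer_fixS (o : Finset GolayPt) :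
    MulAction.stabilizer M24 o ≤ normalizer (fixS o : Set M24) := by
  have key : ∀ g ∈ MulAction.stabilizer M24 o, ∀ u ∈ fixS o, g * u * g⁻¹ ∈ fixS o := by
    intro g hg u hu
    rw [mem_fixS] at hu ⊢
    intro q hq
    have : g⁻¹ • q ∈ o := (smul_mem_of_mem_stabilizer (inv_mem hg) q).2 hq
    rw [mul_smul, mul_smul, hu _ this, smul_inv_smul]
  intro g hg
  rw [mem_normalizer_iff]
  refine fun u => ⟨key g hg u, fun hu => ?_⟩
  simpa [mul_assoc] using key g⁻¹ (inv_mem hg) _ hu

theorem locCon_octad {t : M24} (ht : fixSet (t : Equiv.Perm GolayPt) ∈ octads) :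
    LocCon 2 ⊤ t (fixS (fixSet (t : Equiv.Perm GolayPt))) := by
  set o := fixSet (t : Equiv.Perm GolayPt) with ho
  have htU : t ∈ fixS o := mem_fixS.2 fun p hp => mem_fixSet.1 hp
  have hsq : ∀ u ∈ fixS o, u * u = 1 := fun u hu => mul_self_of_mem_fixS_octad ht hu
  have hst : centralizer {t} ≤ MulAction.stabilizer M24 o := fun c hc => by
    have := fixSet_conj (c : Equiv.Perm GolayPt) t
    rw [← Subgroup.coe_inv, ← Subgroup.coe_mul, ← Subgroup.coe_mul,
      mem_centralizer_singleton_iff.1 hc, mul_inv_cancel_right] at this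
    exact this.symm
  refine ⟨isPGroup_two_of_sq hsq, le_inf le_top fun u hu =>
    mem_centralizer_singleton_iff.2 (comm_of_sq hsq hu htU),
    inf_le_right.trans (hst.trans (stabilizer_le_normalizer_fixS o)), fun m hm => ?_⟩
  obtain ⟨p, hp⟩ : ∃ p, p ∉ o := by
    by_contra h
    push Not at h
    have := Finset.eq_univ_iff_forall.2 h
    have h8 := ht.2
    rw [this, Finset.card_univ, card_golayPt] at h8
    omega
  have hq : m • p ∉ o := fun h => hp ((smul_mem_of_mem_stabilizer (hst hm.1.2) p).1 h)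
  obtain ⟨u, hu, hup⟩ := exists_fixS_octad ht hp hq
  suffices u⁻¹ * m = 1 by rwa [← inv_mul_eq_one.1 this]
  by_contra h1
  obtain ⟨q, hq, hmq⟩ := exists_moved _ h1 o (by rw [ht.2]; norm_num)
  obtain ⟨v, hv, rfl⟩ := exists_fixS_octad ht hp hq
  apply hmq
  rw [mul_smul, ← mul_smul m, ← mem_centralizer_iff.1 hm.2 v hv, mul_smul, ← hup, ← mul_smul,
    ← mul_smul, comm_of_sq hsq (inv_mem hu) hv, inv_mul_cancel_right]

/-- The sextet fixed by the centraliser of `z2`. -/
def sxZ : ℕ := 0x80508040890024000c102003090240020430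

/-- The elements fixing all the tetrads of `sxZ`. -/
noncomputable def fixT (c : ℕ) : Bool := allLT 6 fun j => Nat.beq (imgC c (mem24 sxZ j)) (mem24 sxZ j)

theorem fixT_iff (g : M24) :
    fixT (code (g : Equiv.Perm GolayPt)) = true ↔ ∀ T ∈ famOf 6 sxZ, g • T = T := by
  rw [forall_mem_famOf, fixT, allLT_iff]
  refine forall₂_congr fun j _ => ?_
  rw [beq_iff, smul_setOf'_M]
  exact ⟨fun h => by rw [h], setOf'_inj (imgC_lt _ _) (mem24_lt _ _)⟩

/-- The test made on the centraliser of `z2`. -/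
noncomputable def testZ (c : ℕ) : Bool := Bool.rec (motive := fun _ => Bool)
  (or' (not' (Nat.beq (conjC c 302030692143839256070503955178817568)
    302030692143839256070503955178817568)) (not' (Nat.beq
      (conjC c 527165418976163018438287172555163680) 527165418976163018438287172555163680)))
  (Nat.beq (mulC c c) oneC) (fixT c)

theorem testZ_spec (g : M24) (hg : g * mc z2 * g⁻¹ = mc z2) :
    testZ (code (g : Equiv.Perm GolayPt)) = true :=
  chainM'.forall_conj okM_z2 okM_z2 testZ (by decide +kernel) g trivial hg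

theorem cent_z2 (g : M24) (hg : g ∈ centralizer {mc z2}) :
    (fixT (code (g : Equiv.Perm GolayPt)) = true → g * g = 1) ∧
      (g * mc 302030692143839256070503955178817568 * g⁻¹ = mc 302030692143839256070503955178817568 →
       g * mc 527165418976163018438287172555163680 * g⁻¹ = mc 527165418976163018438287172555163680 →
        fixT (code (g : Equiv.Perm GolayPt)) = true) := by
  have := testZ_spec g (by rw [mem_centralizer_singleton_iff.1 hg, mul_inv_cancel_right])
  unfold testZ at this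
  refine ⟨fun h => ?_, fun h1 h2 => ?_⟩
  · rw [h] at this
    rwa [eq_iff_code, code_mul', code_one', ← beq_iff]
  · by_contra h
    rw [Bool.not_eq_true] at h
    rw [h] at this
    rw [eq_iff_code, code_conj', code_mc (by decide +kernel)] at h1 h2
    simp only [or'_eq_true, not'_eq_true, beq_iff, h1, h2, not_true, or_self] at this

theorem exists_locCon_z2 : ∃ Q, LocCon 2 ⊤ (mc z2) Q := by
  let K : Subgroup M24 := ⨅ T ∈ famOf 6 sxZ, MulAction.stabilizer M24 T
  have hK : ∀ g, g ∈ K ↔ fixT (code (g : Equiv.Perm GolayPt)) = true := fun g => by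
    rw [fixT_iff]
    simp only [K, mem_iInf, MulAction.mem_stabilizer_iff]
  have hf : ∀ c, and' (and' (okM c) (Nat.beq (conjC c z2) z2)) (fixT c) = true →
      mc c ∈ K ⊓ centralizer {mc z2} := fun c hc => by
    rw [and'_eq_true] at hc
    have h1 := inH_centralizer okM_z2 hc.1
    exact ⟨(hK _).2 (by rw [h1.code_mc]; exact hc.2), h1.mc_mem⟩
  have key : ∀ g ∈ centralizer {mc z2}, ∀ u ∈ K ⊓ centralizer {mc z2},
      g * u * g⁻¹ ∈ K ⊓ centralizer {mc z2} := by
    intro g hg u hu
    refine ⟨(hK _).2 ((fixT_iff _).2 fun T hT => ?_), (centralizer _).mul_mem ((centralizer _).mul_mem hg hu.2) (inv_mem hg)⟩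
    have h1 : g⁻¹ • famOf 6 sxZ = famOf 6 sxZ := S5607.le_stab (inv_mem hg)
    have h2 : g⁻¹ • T ∈ famOf 6 sxZ := h1 ▸ Finset.smul_mem_smul_finset hT
    rw [mul_smul, mul_smul, (fixT_iff u).1 ((hK u).1 hu.1) _ h2, smul_inv_smul]
  refine ⟨K ⊓ centralizer {mc z2}, isPGroup_two_of_sq fun g hg => (cent_z2 g hg.2).1 ((hK g).1 hg.1),
    le_inf le_top inf_le_right, fun g hg => ?_, fun g hg => ⟨(hK g).2 ((cent_z2 g hg.1.2).2 ?_ ?_),
      hg.1.2⟩⟩
  · rw [mem_normalizer_iff]
    refine fun u => ⟨key g hg.2 u, fun hu => ?_⟩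
    simpa [mul_assoc] using key g⁻¹ (inv_mem hg.2) _ hu
  · rw [← mem_centralizer_iff.1 hg.2 _ (hf _ (by decide +kernel)), mul_inv_cancel_right]
  · rw [← mem_centralizer_iff.1 hg.2 _ (hf _ (by decide +kernel)), mul_inv_cancel_right]

theorem fixSet_mem_octads {t : M24} (h : orderOf t = 2)
    (h0 : (fixSet (t : Equiv.Perm GolayPt)).card ≠ 0) :
    fixSet (t : Equiv.Perm GolayPt) ∈ octads := by
  obtain ⟨k, rfl⟩ := conj_z1 h h0
  rw [Subgroup.coe_mul, Subgroup.coe_mul, Subgroup.coe_inv, fixSet_conj]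
  exact (smul_mem_octads_iff k).2 fixSet_z1_mem

/-- Counting the elements with property `Q` that conjugate `z` to `w`. -/
theorem ncard_conj {z w : ℕ} (hz : okM z = true) (hw : okM w = true) (Q : ℕ → Bool) {N : ℕ}
    (h0 : and' (allLT 7 fun j => Nat.blt (dg bM j) 24) (Nat.beq (srch 7 orbM uM
      (fun k c y => anyL [w] fun w => okConj z w bM k c y)
      (fun c => and' (force (conjC c z) fun x => anyL [w] fun w => Nat.beq w x) (Q c)) 7 oneC) N) =
        true) {H : Subgroup M24} (hH : ∀ g, g ∈ H ↔ Q (code (g : Equiv.Perm GolayPt)) = true) :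
    {g : M24 | g ∈ H ∧ g * mc z * g⁻¹ = mc w}.ncard = N := by
  rw [← chainM.ncard_conj_list hz [w] Q h0]
  congr 1
  ext g
  simp only [Set.mem_ofPred_eq, hH, mem_top, true_and, List.mem_singleton, eq_iff_code, code_mc hw]
  exact and_comm

theorem conj_mc {k z w : ℕ} (h : and' (and' (okM k) (okM z)) (Nat.beq (conjC k z) w) = true) :
    mc k * mc z * (mc k)⁻¹ = mc w := by
  simp only [and'_eq_true, beq_iff] at h
  rw [← h.2, ← code_mc h.1.1, ← code_mc h.1.2, ← code_conj', mc_code, mc_code, mc_code]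

theorem inv_mc {z : ℕ} (h : okM z = true) : (mc z)⁻¹ = mc (invC z) := by
  rw [← code_mc h, ← code_inv, mc_code, ← Subgroup.coe_inv, mc_code]

theorem pow_mc {z : ℕ} (h : okM z = true) (n : ℕ) : mc z ^ n = mc (powC z n) := by
  rw [← code_mc h, ← code_pow', mc_code, mc_code]

attribute [irreducible] sxZ fixT testZ

end Cfsg.Agent.Spor.M24C
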