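import Cfsg.Agent.KSG.MultH
import Cfsg.Agent.Spor.ModelJ2

set_option autoImplicit false
set_option Elab.async false
set_option maxRecDepth 4096
set_option Elab.async false

namespace Cfsg.Agent.Spor.MultJ2

open Cfsg Cfsg.Agent.Comp Cfsg.Agent.KSG.Pc

noncomputable def ns_2 : Net :=
 (Net.cons (nat_lit 64) (nat_lit 0x5c0f139d97660263)
 (Net.cons (nat_lit 32) (nat_lit 0x428033590000000030e9c316)
 (Net.cons (nat_lit 16) (nat_lit 0x45c000045d300005d30000094ce)
 (Net.cons (nat_lit 8) (nat_lit 0xe00810020004c001000c900d60044)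
 (Net.cons (nat_lit 4) (nat_lit 0xa0107000f01020905020c080c0a040c)
 (Net.cons (nat_lit 2) (nat_lit 0x10123000312201112002210021020023)
 (Net.cons (nat_lit 1) (nat_lit 0x40011104150054115401100404144041)
 (Net.cons (nat_lit 2) (nat_lit 0x20002000200000200200000000220020)
 (Net.cons (nat_lit 4) (nat_lit 0xe08040002000a08020a0e080e00000c)
 (Net.cons (nat_lit 8) (nat_lit 0x400840004001200f800f800c200c4)
 (Net.cons (nat_lit 16) (nat_lit 0x14d40000d9d60000ff18000094ea)
 (Net.cons (nat_lit 32) (nat_lit 0xa87314000000000b2f94332)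
 (Net.cons (nat_lit 64) (nat_lit 0x5c0f1395b350d570)
 Net.nil)))))))))))))

noncomputable def ns_3 : Net :=
 (Net.cons (nat_lit 64) (nat_lit 0xb047fd37b61da7de)
 (Net.cons (nat_lit 32) (nat_lit 0x1c86bd9000000000bc33b76)
 (Net.cons (nat_lit 16) (nat_lit 0x945b0000463e00001ede00001ac0)
 (Net.cons (nat_lit 8) (nat_lit 0x680075000400cd0023000100140052)
 (Net.cons (nat_lit 4) (nat_lit 0xc09020104080308050a020d0d000809)
 (Net.cons (nat_lit 2) (nat_lit 0x13020302003100220302030131000210)
 (Net.cons (nat_lit 1) (nat_lit 0x1140110401000410141051444440444)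
 (Net.cons (nat_lit 2) (nat_lit 0x2000020000000200022000020000200)
 (Net.cons (nat_lit 4) (nat_lit 0x80000080a00040606000608000000)
 (Net.cons (nat_lit 8) (nat_lit 0xe8009c000000fc0028000000140050)
 (Net.cons (nat_lit 16) (nat_lit 0x341e000006180000168c0000dec0)
 (Net.cons (nat_lit 32) (nat_lit 0x118bc2d4000000000e533bf8)
 (Net.cons (nat_lit 64) (nat_lit 0xb047fd3c66b600f0)
 Net.nil)))))))))))))

noncomputable def ns_4 : Net :=
 (Net.cons (nat_lit 64) (nat_lit 0x631022cd475d5f32)
 (Net.cons (nat_lit 32) (nat_lit 0x1eeca91f000000007a84b22e)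
 (Net.cons (nat_lit 16) (nat_lit 0xb9d4000031920000980a00001044)
 (Net.cons (nat_lit 8) (nat_lit 0x4009b005200660078008700cc0026)
 (Net.cons (nat_lit 4) (nat_lit 0xe0c020c0800000e0008090c0d04040c)
 (Net.cons (nat_lit 2) (nat_lit 0x2302233021021132012200002302130)
 (Net.cons (nat_lit 1) (nat_lit 0x45441114004041144045015141414510)
 (Net.cons (nat_lit 2) (nat_lit 0x20000222000020220020000202200020)
 (Net.cons (nat_lit 4) (nat_lit 0x60c080c0800040c000c080c08040a00)
 (Net.cons (nat_lit 8) (nat_lit 0xcc008200500002001200a000c8002a)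
 (Net.cons (nat_lit 16) (nat_lit 0x935c000051900000b80a00009000)
 (Net.cons (nat_lit 32) (nat_lit 0x5decab98000000007a807234)
 (Net.cons (nat_lit 64) (nat_lit 0x631022cf09f8ee22)
 Net.nil)))))))))))))

noncomputable def ns_5 : Net :=
 (Net.cons (nat_lit 64) (nat_lit 0x49c1f173e85bb7d8)
 (Net.cons (nat_lit 32) (nat_lit 0x95fe579a00000000d2016dcc)
 (Net.cons (nat_lit 16) (nat_lit 0x249200004bc2000092ba00008d62)
 (Net.cons (nat_lit 8) (nat_lit 0xc300a7000000c900aa00c5008800a6)
 (Net.cons (nat_lit 4) (nat_lit 0x60409000000050800040a020c0704)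
 (Net.cons (nat_lit 2) (nat_lit 0x31320021020032110000303102121222)
 (Net.cons (nat_lit 1) (nat_lit 0x5141014010110500401404414404014)
 (Net.cons (nat_lit 2) (nat_lit 0x220022020020000200202000000020)
 (Net.cons (nat_lit 4) (nat_lit 0xa06020400000200040202040004060c)
 (Net.cons (nat_lit 8) (nat_lit 0x4200e0000000a800ae00b200940030)
 (Net.cons (nat_lit 16) (nat_lit 0xb10800000bc20000d6b600000d44)
 (Net.cons (nat_lit 32) (nat_lit 0x9c3e178000000000d20565cc)
 (Net.cons (nat_lit 64) (nat_lit 0x49c1f17bcc17c38c)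
 Net.nil)))))))))))))

noncomputable def ns_6 : Net :=
 (Net.cons (nat_lit 64) (nat_lit 0x2a5617ff7d57db6c)
 (Net.cons (nat_lit 32) (nat_lit 0x9102e28b0000000083cf777a)
 (Net.cons (nat_lit 16) (nat_lit 0x33c8000072a9000030bf00004418)
 (Net.cons (nat_lit 8) (nat_lit 0xb800e600e20007000e006b00390030)
 (Net.cons (nat_lit 4) (nat_lit 0x808050b0e0100000c0404020c01080e)
 (Net.cons (nat_lit 2) (nat_lit 0x20023031300000012331002103001002)
 (Net.cons (nat_lit 1) (nat_lit 0x11444045040501140441140401100440)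
 (Net.cons (nat_lit 2) (nat_lit 0x20202020020000020220020002000000)
 (Net.cons (nat_lit 4) (nat_lit 0x800060c040000040a0400020c000404)
 (Net.cons (nat_lit 8) (nat_lit 0x3a009000f8006c006c00ea009000bc)
 (Net.cons (nat_lit 16) (nat_lit 0xa1c8000078f60000e29000006418)
 (Net.cons (nat_lit 32) (nat_lit 0x9344e4460000000097461f7c)
 (Net.cons (nat_lit 64) (nat_lit 0x2a5617f7206b1a3a)
 Net.nil)))))))))))))

noncomputable def ns_7 : Net :=
 (Net.cons (nat_lit 64) (nat_lit 0x7fc86182030d7b4a)
 (Net.cons (nat_lit 32) (nat_lit 0x70d3dc08000000000d177a78)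
 (Net.cons (nat_lit 16) (nat_lit 0xa4c100003bac00009964000075e6)
 (Net.cons (nat_lit 8) (nat_lit 0x37008200ee009400c8009e00b00052)
 (Net.cons (nat_lit 4) (nat_lit 0x40f07000804040f000b07020e010a02)
 (Net.cons (nat_lit 2) (nat_lit 0x22323201210210211022212020322212)
 (Net.cons (nat_lit 1) (nat_lit 0x14101000404454110014440141151004)
 (Net.cons (nat_lit 2) (nat_lit 0x20000000000202200020200022202002)
 (Net.cons (nat_lit 4) (nat_lit 0xc0600000c04080e000006020c040006)
 (Net.cons (nat_lit 8) (nat_lit 0x3400c2000a00a400d800b800b00030)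
 (Net.cons (nat_lit 16) (nat_lit 0xc940000018ac000095740000f536)
 (Net.cons (nat_lit 32) (nat_lit 0xf539d84000000000d33fa0e)
 (Net.cons (nat_lit 64) (nat_lit 0x7fc8618da8a5a3c2)
 Net.nil)))))))))))))

noncomputable def ns_8 : Net :=
 (Net.cons (nat_lit 64) (nat_lit 0xcc09e5395c7b06e4)
 (Net.cons (nat_lit 32) (nat_lit 0x55bfe6bf0000000097ed891c)
 (Net.cons (nat_lit 16) (nat_lit 0x2b1b00000479000039c500007674)
 (Net.cons (nat_lit 8) (nat_lit 0x4000220050004b001000c600b20060)
 (Net.cons (nat_lit 4) (nat_lit 0x90f0c0d0e020f04000b0e080c060e0c)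
 (Net.cons (nat_lit 2) (nat_lit 0x2132312220021032033012201320210)
 (Net.cons (nat_lit 1) (nat_lit 0x11144041140100011514011004441414)
 (Net.cons (nat_lit 2) (nat_lit 0x2200002200000022020022000222200)
 (Net.cons (nat_lit 4) (nat_lit 0xa000c040e020c00080e080808020c08)
 (Net.cons (nat_lit 8) (nat_lit 0xf000220050000a008600c400d00000)
 (Net.cons (nat_lit 16) (nat_lit 0x6a020000407800002a8600006410)
 (Net.cons (nat_lit 32) (nat_lit 0x11be26be00000000961d81d0)
 (Net.cons (nat_lit 64) (nat_lit 0xcc09e538555e4464)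
 Net.nil)))))))))))))

noncomputable def ns_9 : Net :=
 (Net.cons (nat_lit 64) (nat_lit 0xeef5445065022820)
 (Net.cons (nat_lit 32) (nat_lit 0x8c14a4d00000000ddb807a8)
 (Net.cons (nat_lit 16) (nat_lit 0x60720000e0300000299400000120)
 (Net.cons (nat_lit 8) (nat_lit 0xd4004800370078008a00a200620080)
 (Net.cons (nat_lit 4) (nat_lit 0x600000a020708050c04080103080808)
 (Net.cons (nat_lit 2) (nat_lit 0x20021021331331320022020201020)
 (Net.cons (nat_lit 1) (nat_lit 0x14040411501554144440141141011110)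
 (Net.cons (nat_lit 2) (nat_lit 0x20020020000000222020202020002220)
 (Net.cons (nat_lit 4) (nat_lit 0x200000a000800040c04000002080808)
 (Net.cons (nat_lit 8) (nat_lit 0x540024006400b8002200aa00420080)
 (Net.cons (nat_lit 16) (nat_lit 0x62620000b1f8000034bc00000020)
 (Net.cons (nat_lit 32) (nat_lit 0x88104e4000000000ccb80600)
 (Net.cons (nat_lit 64) (nat_lit 0xeef5445065402860)
 Net.nil)))))))))))))

noncomputable def ns_10 : Net :=
 (Net.cons (nat_lit 64) (nat_lit 0xb04bd80a4200)
 (Net.cons (nat_lit 32) (nat_lit 0x7004100000000000628c5c20)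
 (Net.cons (nat_lit 16) (nat_lit 0x30400000ad400000b884000059d8)
 (Net.cons (nat_lit 8) (nat_lit 0x9000be00710014000e004b002a)
 (Net.cons (nat_lit 4) (nat_lit 0x40009010000040c0908040e0a0502)
 (Net.cons (nat_lit 2) (nat_lit 0x10000000222301130200232000023132)
 (Net.cons (nat_lit 1) (nat_lit 0x4000041044440054101011450)
 (Net.cons (nat_lit 2) (nat_lit 0x22020200002002002000)
 (Net.cons (nat_lit 4) (nat_lit 0x800000e040c0808040a0a0802)
 (Net.cons (nat_lit 8) (nat_lit 0x90001400320014000e00e0002a)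
 (Net.cons (nat_lit 16) (nat_lit 0x10400000ad400000b804000059d8)
 (Net.cons (nat_lit 32) (nat_lit 0x7004100000000000628c1c20)
 (Net.cons (nat_lit 64) (nat_lit 0xb04bd80a4200)
 Net.nil)))))))))))))

noncomputable def ns_11 : Net :=
 (Net.cons (nat_lit 64) (nat_lit 0x1a73407200c10220)
 (Net.cons (nat_lit 32) (nat_lit 0xe260800000000000c99c0708)
 (Net.cons (nat_lit 16) (nat_lit 0x3400006cb800002e10000099c0)
 (Net.cons (nat_lit 8) (nat_lit 0x9a004000c8002a00800084008800f0)
 (Net.cons (nat_lit 4) (nat_lit 0x407000800040c0d00000c0108040c00)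
 (Net.cons (nat_lit 2) (nat_lit 0x2330030330230000000020212002220)
 (Net.cons (nat_lit 1) (nat_lit 0x14144051551051444100510401014110)
 (Net.cons (nat_lit 2) (nat_lit 0x2000000000000000000020202002220)
 (Net.cons (nat_lit 4) (nat_lit 0x408000800000c0000000c0008000c00)
 (Net.cons (nat_lit 8) (nat_lit 0x9a004000c8002a00800084008000b0)
 (Net.cons (nat_lit 16) (nat_lit 0x3400006cb800002e1000009840)
 (Net.cons (nat_lit 32) (nat_lit 0xe260800000000000c99c0700)
 (Net.cons (nat_lit 64) (nat_lit 0x1a73407200c10220)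
 Net.nil)))))))))))))

noncomputable def ns_12 : Net :=
 (Net.cons (nat_lit 64) (nat_lit 0xeef5445065402860)
 (Net.cons (nat_lit 32) (nat_lit 0x67e6b03f00000000ecb00220)
 (Net.cons (nat_lit 16) (nat_lit 0xfb4a00007362000004ba00000420)
 (Net.cons (nat_lit 8) (nat_lit 0xbc0031008b00e4000a00aa006a0080)
 (Net.cons (nat_lit 4) (nat_lit 0x20d020002000a0c08060b0d000a08)
 (Net.cons (nat_lit 2) (nat_lit 0x30021121032020230320320302001220)
 (Net.cons (nat_lit 1) (nat_lit 0x50541440051414141100101554014110)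
 (Net.cons (nat_lit 2) (nat_lit 0x22220000020220000000002002020)
 (Net.cons (nat_lit 4) (nat_lit 0x80200020006000a0c08060a0c000008)
 (Net.cons (nat_lit 8) (nat_lit 0xfc0034000a008800a20082006a0080)
 (Net.cons (nat_lit 16) (nat_lit 0xfb480000717200002d3000000520)
 (Net.cons (nat_lit 32) (nat_lit 0xe737b43200000000edb003a8)
 (Net.cons (nat_lit 64) (nat_lit 0xeef5445065022820)
 Net.nil)))))))))))))

noncomputable def ns_13 : Net :=
 (Net.cons (nat_lit 64) (nat_lit 0xaa650204cf025000)
 (Net.cons (nat_lit 32) (nat_lit 0x8a6c800000000000c0308888)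
 (Net.cons (nat_lit 16) (nat_lit 0xa80000009fe30000a49000008240)
 (Net.cons (nat_lit 8) (nat_lit 0x8000280039009100b20062004400b0)
 (Net.cons (nat_lit 4) (nat_lit 0x802060c080c0c080b0909040b00)
 (Net.cons (nat_lit 2) (nat_lit 0x220200002032201020000002022210)
 (Net.cons (nat_lit 1) (nat_lit 0x10005101050400510110440441100)
 (Net.cons (nat_lit 2) (nat_lit 0x20000002000200020000000022200)
 (Net.cons (nat_lit 4) (nat_lit 0x802020808040c08000808040000)
 (Net.cons (nat_lit 8) (nat_lit 0x8000280018009000920022004400b0)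
 (Net.cons (nat_lit 16) (nat_lit 0xa80000009ee00000a49000008240)
 (Net.cons (nat_lit 32) (nat_lit 0x8a2c800000000000c0308880)
 (Net.cons (nat_lit 64) (nat_lit 0xaa650204cf025000)
 Net.nil)))))))))))))

noncomputable def ns_14 : Net :=
 (Net.cons (nat_lit 64) (nat_lit 0x451f5550110a00c0)
 (Net.cons (nat_lit 32) (nat_lit 0xec23812600000000c8688800)
 (Net.cons (nat_lit 16) (nat_lit 0x43200003d960000b08000005810)
 (Net.cons (nat_lit 8) (nat_lit 0x8001e003700d20020002200500030)
 (Net.cons (nat_lit 4) (nat_lit 0xc000c01090b090c04080a02090a0a00)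
 (Net.cons (nat_lit 2) (nat_lit 0x21002020031200200200222022022220)
 (Net.cons (nat_lit 1) (nat_lit 0x40151540441404110440100011100010)
 (Net.cons (nat_lit 2) (nat_lit 0x20002020020002200200200022000020)
 (Net.cons (nat_lit 4) (nat_lit 0x4000c00080c080804080800000a0000)
 (Net.cons (nat_lit 8) (nat_lit 0x8001a002000d20000008000100030)
 (Net.cons (nat_lit 16) (nat_lit 0x432000039140000b08000005810)
 (Net.cons (nat_lit 32) (nat_lit 0xec23812600000000c8688800)
 (Net.cons (nat_lit 64) (nat_lit 0x451f5550110a0080)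
 Net.nil)))))))))))))

noncomputable def ns : List Net := [ModelJ2.ns_0, ModelJ2.ns_1, ns_2, ns_3, ns_4, ns_5, ns_6, ns_7, ns_8, ns_9, ns_10, ns_11, ns_12, ns_13, ns_14]

theorem ctx : Ctx 128 7 ns := ctx_of (by decide +kernel)

theorem lctx : LCtx 128 7 8 127 trN7 ns := lctx_of ctx trOK7 (by decide +kernel)

noncomputable def E : List ℕ → ℕ → ℕ := pfW0 128 7 8 127 trN7 ns

theorem hE : Evl 128 ns E := evl_pfW0 lctx

theorem geq : gen ModelJ2.ns ModelJ2.G_ss0 = gen ns [[0], [2]] :=
  gen_eq_of_take (ns := ModelJ2.ns) (ns' := ns) (k := 2) rfl (ws := ModelJ2.G_ss0) (by decide +kernel)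

theorem hn : Nat.card (gen ns [[0], [2]]) = 604800 :=
  geq ▸ ModelJ2.G_card

theorem kn_0 : Known ns (gen ns [[0], [2]]) 3 :=
  known_gen (by decide +kernel)

noncomputable def A_S7 : List SD :=
  []

noncomputable def A_d6 : SD :=
  ⟨4, 1, [28], lab 1 1 0, 1⟩

noncomputable def A_S6 : List SD :=
  A_d6 :: A_S7

noncomputable def A_d5 : SD :=
  ⟨3, 1, [26, 22, 28], lab 3 7 0, 1⟩

noncomputable def A_S5 : List SD :=
  A_d5 :: A_S6

noncomputable def A_d4 : SD :=
  ⟨10, 1, [24, 26, 22, 28], lab 3 7 0, 1⟩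

noncomputable def A_S4 : List SD :=
  A_d4 :: A_S5

noncomputable def A_d3 : SD :=
  ⟨15, 1, [18, 20, 24, 26, 22, 28], lab 4 15 (nat_lit 0x200000000000000000000000000000000000000000000000000000000000000000000000000000000000000000000), 2⟩

noncomputable def A_S3 : List SD :=
  A_d3 :: A_S4

noncomputable def A_d2 : SD :=
  ⟨2, 1, [14, 16, 18, 20, 24, 26, 22, 28], lab 4 15 (nat_lit 0xa00000000000000000000300000000200000000000000000000000000000000000000010000000000000000000), 2⟩

noncomputable def A_S2 : List SD :=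
  A_d2 :: A_S3

noncomputable def A_d1 : SD :=
  ⟨1, 1, [8, 10, 12, 14, 16, 18, 20, 24, 26, 22, 28], lab 5 31 (nat_lit 0x380e03004038180000000000000000000000264700000000091a0000000691c00001601900000005100000004081800001401940000000080000102329800), 3⟩

noncomputable def A_S1 : List SD :=
  A_d1 :: A_S2

noncomputable def A_d0 : SD :=
  ⟨0, 1, [0, 2, 4, 6, 8, 10, 12, 14, 16, 18, 20, 24, 26, 22, 28], lab 5 31 (nat_lit 0x6e14d59e46448893c0920144d8be8f445ee94a7198a226c5cf715c622da014464601c87209a2538a6b80486a0e8c8f03b1947bd8fa1c6ed3e835b9cf60da0), 3⟩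

noncomputable def A_S0 : List SD :=
  A_d0 :: A_S1

theorem kn_1 : Known ns (gen ns [[0], [2]]) 32767 :=
  kn_0.steps ctx (es := [(2, [0, 2, 0]),
 (3, [3, 3, 3, 1, 3]),
 (4, [5, 0, 3, 7, 7, 3, 5, 3]),
 (5, [4, 2, 4, 0, 6, 1, 2, 4, 1, 5]),
 (6, [11, 11, 9]),
 (7, [9, 11, 8, 12, 10, 8, 11, 13, 8]),
 (8, [9, 10, 13, 8, 11, 8, 10, 13]),
 (9, [15, 17, 15, 15, 15]),
 (10, [15, 15, 17, 14]),
 (11, [21, 21, 18, 20, 18, 18, 20]),
 (12, [21, 21, 19, 21, 19, 21, 21, 18, 20]),
 (13, [24, 24]),
 (14, [27, 22, 26, 23, 26, 23, 27, 27])]) (by decide +kernel)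

theorem A_ex : Exact 128 ns A_S0 ∧ gen ns (sTop A_S0) = gen ns [[0], [2]] ∧ gen ns [[0], [2]] = gen ns [[0], [2]] :=
  exact_of_known ctx hn (le_rfl) kn_1 (by decide +kernel)

theorem hbase : IsBase 128 (gen ns [[0], [2]]) [0, 1, 2, 15, 10, 3, 4] :=
  isBase_of_exact A_ex (by decide +kernel)

noncomputable def m2_P : Pd :=
  ⟨6, 2, 1, nat_lit 0x200000000000101040000000080828400000040c1424000002060e12062801030105050d10,
  nat_lit 0xffffffffffff000000000000000000000000000000000000000000000000ffffffffffffffffffffffffffffffffffff000000000000000000000000000000000000ffffffffffffffffffffffffffffffffffffffffffffffff000000000000000000000000ffffffffffff000000000000ffffffffffffffffffffffffffffffffffff, 109, 4, 61,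
  nat_lit 0x600000000000000000000000000000000000000000000000000000000000000050000000000000000000000000000000400000000000000030000000200010000⟩

noncomputable def m2_aws : List (List ℕ) :=
  [[12, 5, 17, 13, 17, 18, 20, 24, 26], [22, 2, 11, 17, 18, 20, 24, 28], [26, 8, 26, 14, 26], [26, 4, 13, 17, 18, 20, 26], [15, 6, 17, 13, 20, 28], [18, 7, 18, 8, 20, 26, 28], [17, 4, 15, 12, 16, 14, 26, 28], [18, 6, 15, 11, 14, 14], [8, 0, 11, 26, 8, 17, 20, 24, 26, 28]]

theorem m2_mem : ∀ u ∈ m2_aws, wp ns u ∈ gen ns [[0], [2]] :=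
  kn_1.words (by decide +kernel)

noncomputable def m2_prs : Prs :=
  [(7, 4, 96), (7, 32, 68), (8, 4, 20), (8, 16, 40), (8, 64, 64), (8, 1, 66), (8, 8, 88), (8, 32, 32), (7, 16, 28), (7, 64, 64), (7, 8, 108), (8, 2, 103)]

noncomputable def m2_rels : List Rel :=
  [.con 1 0 0 [1025],
  .con 8 3 3 [6913],
  .con 16 4 4 [8705],
  .con 32 3 5 [6658],
  .fus 7 [0, 0] [] [4099, 10241, 10497, 12289, 12546],
  .fus 7 [1, 1] [] [4097, 5121, 10243, 12289, 12802],
  .con 32 3 3 [6658, 10497],
  .con 16 0 4 [1026, 1537],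
  .con 32 0 5 [1282, 10499, 12291],
  .con 32 1 5 [3074, 10499, 12291],
  .con 32 2 5 [4866, 10499, 12291],
  .con 16 2 2 [4610, 5121, 12289],
  .con 32 2 2 [4866, 5121, 12289],
  .fus 8 [2, 2] [] [4609, 8193, 8705, 12289, 13058],
  .con 2 1 1 [2561, 3073, 10497, 12289],
  .fus 8 [3, 3] [4] [6145, 6657, 8195, 10241, 10498, 13314, 13571],
  .con 32 0 0 [1282, 1537, 8451, 12289],
  .con 8 0 3 [770, 1537, 6659, 10243, 10498],
  .con 8 1 3 [2562, 3329, 6915, 12291],
  .fus 8 [5, 5] [3] [3, 2049, 3329, 12289, 13315, 13826],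
  .con 32 1 1 [3074, 3329, 6659, 12289],
  .con 4 1 2 [2306, 4355, 6147, 6915, 12291],
  .con 8 0 0 [770, 1281, 6401, 10241, 10498, 12289],
  .con 16 1 4 [2818, 3329, 8451, 8707, 10243, 10499, 12291],
  .fus 8 [6, 6] [4] [6401, 6913, 8193, 8706, 12290, 13571, 14082],
  .fus 8 [7, 5] [5, 7, 4] [1283, 3073, 10499, 13571],
  .con 16 1 1 [2818, 3073, 3329, 6403, 8449, 10241, 12289],
  .fus 7 [8, 8] [9] [4097, 4353, 4609, 6145, 6401, 8706, 12290, 14594, 14851],
  .fus 7 [1, 0] [0, 1, 9] [4866, 5123, 10497, 12291, 14851],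
  .con 4 1 1 [2306, 2561, 4353, 4865, 6145, 6658, 6913, 10498, 12290],
  .fus 7 [10, 10] [9] [4097, 4353, 4865, 5121, 6657, 6913, 10241, 10498, 12290, 14851, 15106],
  .fus 8 [3, 2] [2, 3, 4] [4353, 4611, 4865, 6403, 8449, 13571],
  .fus 8 [6, 5] [5, 6, 7] [771, 2561, 2817, 3329, 6915, 10497, 12289, 14339],
  .fus 8 [2, 5] [5, 2, 3] [515, 2305, 2817, 5123, 6403, 6915, 8707, 13315],
  .con 2 0 1 [258, 769, 1281, 2563, 2819, 6147, 6403, 6659, 6915, 8195, 8451, 10499, 12290],
  .fus 8 [6, 2] [2, 6, 4] [4609, 5121, 6403, 8705, 13571],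
  .con 4 0 1 [769, 2819, 4353, 4609, 6403, 6659, 8451, 8707, 10499],
  .fus 8 [2, 11] [11, 2, 6] [513, 1025, 3329, 4353, 4867, 6403, 6659, 8450, 8707, 10498, 12291, 14083],
  .fus 8 [11, 11] [6, 7] [1, 257, 513, 1281, 1537, 2305, 2561, 2818, 3329, 4097, 4355, 4609, 4866, 5121, 6145, 6401, 6659, 6914, 8193, 8451, 8706, 10242, 10497, 12291, 14083, 14339, 15362]]

noncomputable def m2_ys : List (List ℕ) :=
  [[15107, 15363],
  [13059, 13827, 14083, 15107, 15363],
  [2817, 10241, 13058, 14082, 15107],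
  [2817, 10241, 13058, 13313, 14083],
  [8193, 14083],
  [2817, 8193, 14082],
  [8193, 13058]]

noncomputable def m2_ss : List (List ℕ × ℕ × ℕ) :=
  [([2049, 8193, 13313, 13826, 14083, 14594, 15362], 2, (nat_lit 0x20003000302020100030000000000030301000203010203020203030101020303020001020002))]

noncomputable def m2_cs : List (List ℕ) :=
  [[(nat_lit 0x2000303030202010102020102010301000201030102020003020101010202020200000301000001)],
  [(nat_lit 0x3020103000101030203010103000000010101030303020203030002030000000000020002030201), (nat_lit 0x2000303030202010102020102010302000201020100010003020101010203010000000002000201)],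
  [(nat_lit 0x30003000000030000020201030103030002000301030202020302030301000302000103020100), (nat_lit 0x30000000300030000020200000303000003000300020202030203000202020300020100030100), (nat_lit 0x3000000030302030200020203020203000200000202000201030302000202000100010000)],
  [(nat_lit 0x300000000010003020201020103020101000302000003000002020000020100020300000000), (nat_lit 0x3000000000202000202010202010201000301000203010203020000030002020302030200), (nat_lit 0x30001020200010000010303000103030001010200000001020300020103030000), (nat_lit 0x3000000000202000203030100030202000303030100010203020301020102020202000000)],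
  [768, (nat_lit 0x3000000000000000002020302020002000202000000030201020000020002020002030000), (nat_lit 0x202000200020000020202000202000202030301010000020302020301000000), (nat_lit 0x3000000000202000203030001030203000101020200030102030002010100000103030200), (nat_lit 0x3000000000000000002020302020002000202000000030201020000020002020002030000)],
  [(nat_lit 0x3000000000202000201010203000200000002020202010001000002000202020103000000), (nat_lit 0x3000000000202000202030002030203000103000200030300010000010200000100030200), (nat_lit 0x3000000000003020200030200030101000301000003030300030000030100020302030200), (nat_lit 0x1000300000002000000000000000200000200030000), (nat_lit 0x202000200020000020202000202010202020002000003010300000302000200), (nat_lit 0x3000000000102010002020303010303010202020301010200)],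
  [(nat_lit 0x30000000000000200), (nat_lit 0x202000200020000020202000102000200020002000100020300000302030000), (nat_lit 0x202000200020000020202000202000202020302010000020100000102000000), 196608, (nat_lit 0x3000000), (nat_lit 0x300000100000000), (nat_lit 0x20303010000000302020102000000)]]

noncomputable def m2_B : List (ℕ × ℕ × List (List ℕ)) :=
  [(0, 1, [[6], [5], [4], [3], [1], [0], [2]]),
  (1, 1, [[2]])]

theorem m2_row0 : AllIn (fun j => m2_P.chkRow (eqB (Comp.evL E) [0, 1, 2, 15, 10, 3, 4] m2_aws) j = true) 0 7 :=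
  allIn_of_allFrom (a := 0) (n := 7) (by decide +kernel)

theorem m2_pr0 : AllIn (fun j => m2_P.chkPr (eqB (Comp.evL E) [0, 1, 2, 15, 10, 3, 4] m2_aws) (m2_prs.get j) = true) 0 12 :=
  allIn_of_allFrom (a := 0) (n := 12) (by decide +kernel)

theorem m2_rel0 : AllIn (fun k => m2_P.chkRel m2_prs (getL (Rel.con 0 0 0 []) m2_rels k) = true) 0 39 :=
  allIn_of_allFrom (a := 0) (n := 39) (by decide +kernel)

theorem m2_lin : m2_P.chkLin 1 m2_rels m2_ys m2_ss m2_cs = true :=
  by decide +kernel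

theorem m2_bound : MultBound 2 1 (gen ns [[0], [2]]) :=
  multBound_net ctx m2_mem hn (P := m2_P) (B := m2_B) (by norm_num [m2_P])
    (GOK.of_rows (eSound_eqB (evl_evL ctx.ok hE) hbase m2_mem) m2_row0 m2_pr0 (by decide +kernel))
    (rels_of_allIn m2_rel0 (by decide +kernel)) m2_lin (by decide +kernel) (by decide +kernel)

noncomputable def m3_P : Pd :=
  ⟨2, 3, 2, nat_lit 0x400010900,
  nat_lit 0xffffffffffff, 50, 3, 12,
  nat_lit 0x20000000000000000000000000000000200000000000000010000000100000000⟩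

noncomputable def m3_aws : List (List ℕ) :=
  [[26, 14, 24, 28], [13, 15, 24], [11, 26, 8, 14, 14, 28], [15, 10, 15, 26]]

theorem m3_mem : ∀ u ∈ m3_aws, wp ns u ∈ gen ns [[0], [2]] :=
  kn_1.words (by decide +kernel)

noncomputable def m3_prs : Prs :=
  [(3, 16, 16), (3, 1, 5), (3, 4, 41)]

noncomputable def m3_rels : List Rel :=
  [.fus 3 [0, 1] [1, 0] [1281],
  .fus 3 [0, 2] [2, 0] [513, 1281],
  .con 8 0 1 [2049],
  .fus 3 [1, 1, 1] [] [514, 1025, 1281, 2050],
  .fus 3 [2, 2, 2] [] [1, 513, 1025, 1281, 2049]]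

noncomputable def m3_ys : List (List ℕ) :=
  [[],
  [],
  [258]]

noncomputable def m3_ss : List (List ℕ × ℕ × ℕ) :=
  []

noncomputable def m3_cs : List (List ℕ) :=
  [[(nat_lit 0x201020201)],
  [0, (nat_lit 0x2020202)],
  [513, 2, 131072]]

noncomputable def m3_B : List (ℕ × ℕ × List (List ℕ)) :=
  [(1, 1, [[2], [2], [1], [1], [0]]),
  (2, 1, [[0], [0]])]

theorem m3_row0 : AllIn (fun j => m3_P.chkRow (eqB (Comp.evL E) [0, 1, 2, 15, 10, 3, 4] m3_aws) j = true) 0 3 :=
  allIn_of_allFrom (a := 0) (n := 3) (by decide +kernel)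

theorem m3_pr0 : AllIn (fun j => m3_P.chkPr (eqB (Comp.evL E) [0, 1, 2, 15, 10, 3, 4] m3_aws) (m3_prs.get j) = true) 0 3 :=
  allIn_of_allFrom (a := 0) (n := 3) (by decide +kernel)

theorem m3_rel0 : AllIn (fun k => m3_P.chkRel m3_prs (getL (Rel.con 0 0 0 []) m3_rels k) = true) 0 5 :=
  allIn_of_allFrom (a := 0) (n := 5) (by decide +kernel)

theorem m3_lin : m3_P.chkLin 0 m3_rels m3_ys m3_ss m3_cs = true :=
  by decide +kernel

theorem m3_bound : MultBound 3 0 (gen ns [[0], [2]]) :=
  multBound_net ctx m3_mem hn (P := m3_P) (B := m3_B) (by norm_num [m3_P])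
    (GOK.of_rows (eSound_eqB (evl_evL ctx.ok hE) hbase m3_mem) m3_row0 m3_pr0 (by decide +kernel))
    (rels_of_allIn m3_rel0 (by decide +kernel)) m3_lin (by decide +kernel) (by decide +kernel)

noncomputable def m5_P : Pd :=
  ⟨1, 5, 3, 512,
  0, 33, 5, 7,
  nat_lit 0x10000000000000000000000000000000100000000000000010000000000000000⟩

noncomputable def m5_aws : List (List ℕ) :=
  [[6, 14, 11, 16, 14, 18, 20, 24, 26, 28], [0, 15, 0, 11, 8, 14, 26, 28], [13, 8, 0, 12, 16, 14, 28], [18, 3, 11, 26, 8, 14, 14, 20, 24, 26, 28]]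

theorem m5_mem : ∀ u ∈ m5_aws, wp ns u ∈ gen ns [[0], [2]] :=
  kn_1.words (by decide +kernel)

noncomputable def m5_prs : Prs :=
  [(2, 8, 8), (2, 1, 12), (3, 1, 4)]

noncomputable def m5_rels : List Rel :=
  [.fus 2 [0, 1] [1, 0] [259],
  .fus 3 [2, 2, 2, 2, 2] [] [3],
  .fus 2 [1, 1, 1, 1, 1] [] [3, 769]]

noncomputable def m5_ys : List (List ℕ) :=
  [[],
  []]

noncomputable def m5_ss : List (List ℕ × ℕ × ℕ) :=
  []

noncomputable def m5_cs : List (List ℕ) :=
  [[768],
  [3, 262400]]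

noncomputable def m5_B : List (ℕ × ℕ × List (List ℕ)) :=
  [(0, 1, [[1], [1], [1], [1], [0], [0], [0], [0]])]

theorem m5_row0 : AllIn (fun j => m5_P.chkRow (eqB (Comp.evL E) [0, 1, 2, 15, 10, 3, 4] m5_aws) j = true) 0 2 :=
  allIn_of_allFrom (a := 0) (n := 2) (by decide +kernel)

theorem m5_pr0 : AllIn (fun j => m5_P.chkPr (eqB (Comp.evL E) [0, 1, 2, 15, 10, 3, 4] m5_aws) (m5_prs.get j) = true) 0 3 :=
  allIn_of_allFrom (a := 0) (n := 3) (by decide +kernel)

theorem m5_rel0 : AllIn (fun k => m5_P.chkRel m5_prs (getL (Rel.con 0 0 0 []) m5_rels k) = true) 0 3 :=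
  allIn_of_allFrom (a := 0) (n := 3) (by decide +kernel)

theorem m5_lin : m5_P.chkLin 0 m5_rels m5_ys m5_ss m5_cs = true :=
  by decide +kernel

theorem m5_bound : MultBound 5 0 (gen ns [[0], [2]]) :=
  multBound_net ctx m5_mem hn (P := m5_P) (B := m5_B) (by norm_num [m5_P])
    (GOK.of_rows (eSound_eqB (evl_evL ctx.ok hE) hbase m5_mem) m5_row0 m5_pr0 (by decide +kernel))
    (rels_of_allIn m5_rel0 (by decide +kernel)) m5_lin (by decide +kernel) (by decide +kernel)

theorem bounds : ∀ x ∈ ([(2, 1), (3, 0), (5, 0)] : List (ℕ × ℕ)), MultBound x.1 x.2 (gen ns [[0], [2]]) :=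
  List.forall_mem_cons.2 ⟨m2_bound, List.forall_mem_cons.2 ⟨m3_bound, List.forall_mem_cons.2 ⟨m5_bound, fun _ h => absurd h List.not_mem_nil⟩⟩⟩

theorem mult_of : ∀ {A : Type} [CommGroup A], Nat.card A = 2 → MultOnto (gen ModelJ2.ns ModelJ2.G_ss0) A →
    HasSchurMultiplier (gen ModelJ2.ns ModelJ2.G_ss0) A :=
  fun ha h => hasMult_of_list ModelJ2.G_card ha (geq ▸ bounds) (by decide +kernel) h

end Cfsg.Agent.Spor.MultJ2
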