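import Cfsg.Agent.SylT.UT5
import Cfsg.Agent.SylT.A8Syl
import Cfsg.Agent.S2133
import Cfsg.Agent.S0364
import Cfsg.Prelude.Def_Transfer
import Cfsg.Agent.Grp.Card
import Cfsg.Agent.Grp.PFrattini

/-! The Sylow 2-subgroups of `M24` are unitriangular groups of size five; facts on the quotient
by the centre. -/

set_option autoImplicit false

namespace Cfsg.Agent.Spor.SylM24UT

open Cfsg.Agent.SylT Cfsg.Agent.SylT.UT Cfsg.Agent.He5 Cfsg.Agent.TT Cfsg.Agent.Comp Subgroup

theorem exists_equiv (P : Sylow 2 ↥Cfsg.M24) : Nonempty (UT ≃* ↥(P : Subgroup ↥Cfsg.M24)) := by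
  have h : mu 17043523 17043523 = o5 := by decide +kernel
  have e : dec 17043523 = Matrix.transvection (0 : Fin 5) 1 (1 : ZMod 2) := by decide +kernel
  obtain ⟨f⟩ := BN.centralizer_equiv (conj_s (slOf _ _ h) e)
  obtain ⟨t, -, ⟨g⟩⟩ := Cfsg.Agent.S2133.result (slOf _ _ h) e
  refine exists_equiv_sylow ((Subgroup.subtype _).comp ((f.symm.trans g.symm).toMonoidHom.comp emb))
    ?_ ?_ P
  · exact (Subgroup.subtype_injective _).comp ((f.symm.trans g.symm).injective.comp emb_inj)
  · have hf : (Nat.card ↥Cfsg.M24).factorization 2 = 10 := by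
      rw [Cfsg.Agent.S0364.result]; decide +kernel
    rw [hf, card_eq]; norm_num

/-- the quotient map -/
noncomputable abbrev π : UT →* UT ⧸ center UT := QuotientGroup.mk' _

theorem π_eq {x y : UT} : π x = π y ↔ Eqv z x y := by
  rw [eq_comm, QuotientGroup.mk'_apply, QuotientGroup.mk'_apply, QuotientGroup.eq, mem_center,
    inv_mul_eq_one, inv_mul_eq_iff_eq_mul, eq_comm, Eqv]

/-- commuting modulo the centre -/
def C (x y : UT) : Prop := Eqv z (x * y) (y * x)

noncomputable instance instDecC (x y : UT) : Decidable (C x y) := by unfold C; infer_instance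

theorem C_iff {x y : UT} : C x y ↔ Commute (π x) (π y) := by
  rw [C, ← π_eq, map_mul, map_mul]; rfl

theorem card_center : Nat.card (center UT) = 2 := by
  have : ∀ x : UT, x ∈ center UT ↔ x = 1 ∨ x = z := fun x => mem_center
  rw [Nat.card_congr (Equiv.subtypeEquivRight this)]
  exact (card_of _).trans (by decide +kernel)

theorem card_comap (A : Subgroup (UT ⧸ center UT)) : Nat.card (A.comap π) = Nat.card A * 2 := by
  rw [← card_center]
  have := Grp.card_comap_of_surjective π (QuotientGroup.mk'_surjective _) A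
  rwa [QuotientGroup.ker_mk'] at this

/-- test pairs -/
def L : List UT := [1, 2, 16, 32, 128, 256, 512].map of

/-- the elements with a large centraliser -/
def Big (x : UT) : Prop := ∀ g ∈ L, ∀ h ∈ L, C x g ∨ C x h ∨ C x (g * h)

noncomputable instance instDecBig (x : UT) : Decidable (Big x) := by unfold Big; infer_instance

theorem card_Big : Nat.card {x // Big x} = 24 := (card_of _).trans (by decide +kernel)

theorem card_center_le {M : Subgroup (UT ⧸ center UT)} (hM : IsCoatom M) :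
    Nat.card (center M) ≤ 8 := by
  have hp : IsPGroup 2 (UT ⧸ center UT) := UT.isPGroup.to_quotient _
  have h2 : M.index = 2 := Grp.PFrattini.index_of_isCoatom hp hM
  have h1 : Nat.card (((center M).map M.subtype).comap π) ≤ 24 := by
    rw [← card_Big]
    refine Nat.card_le_card_of_injective (fun x => ⟨x.1, fun g _ h _ => ?_⟩)
      fun x y h => Subtype.ext (Subtype.mk.inj h)
    obtain ⟨m, hm, e⟩ := x.2
    have key : ∀ y, π y ∈ M → C x.1 y := fun y hy => by
      rw [C_iff, ← e]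
      exact (congrArg Subtype.val (mem_center_iff.1 hm ⟨_, hy⟩)).symm
    by_cases hg : π g ∈ M
    · exact .inl (key g hg)
    by_cases hh : π h ∈ M
    · exact .inr (.inl (key h hh))
    exact .inr (.inr (key _ (by
      rw [map_mul]; exact (mul_mem_iff_of_index_two h2).2 (iff_of_false hg hh))))
  rw [card_comap, card_map_of_injective M.subtype_injective] at h1
  obtain ⟨k, hk⟩ := ((hp.to_subgroup M).to_subgroup (center M)).exists_card_eq
  rw [hk] at h1 ⊢
  have : k < 4 := (Nat.pow_lt_pow_iff_right one_lt_two).1 (by omega)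
  exact (Nat.pow_le_pow_right two_pos (by omega : k ≤ 3)).trans (by norm_num)

theorem E_facts : (∀ x ∈ E, Eqv z (x * x) 1 ∧ ∀ y ∈ E, C x y) ∧ z ∈ E ∧
    (∀ d ∈ LD, ∀ x ∈ E, d * x * d⁻¹ ∈ E) ∧ a * b * a⁻¹ * b⁻¹ ∉ E := by decide +kernel

instance normal_E : E.Normal := ⟨fun x hx g => by
  obtain ⟨d, hd, e⟩ := UT.dec g
  have := mul_mem (mul_mem e (E_facts.2.2.1 d hd x hx)) (inv_mem e)
  convert this using 1; group⟩

theorem center_le : center UT ≤ E := fun x hx => by
  rcases mem_center.1 hx with rfl | rfl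
  · exact one_mem _
  · exact E_facts.2.1

theorem fix_chk : ∀ d ∈ LD, d ∉ E → (cntPow 10 fun k => decide (of k ∈ E ∧ C (of k) d)) ≤ 32 ∧
    ∀ d' ∈ LD, d' ∉ E → d * d' ∉ E →
      (cntPow 10 fun k => decide (of k ∈ E ∧ C (of k) d ∧ C (of k) d')) ≤ 16 := by decide +kernel

theorem C_red {x g d : UT} (hx : x ∈ E) (e : g * d⁻¹ ∈ E) (h : C x g) : C x d := by
  have h1 := C_iff.1 ((E_facts.1 x hx).2 _ e)
  have := h1.inv_right.mul_right (C_iff.1 h)
  rw [← map_inv, ← map_mul, show (g * d⁻¹)⁻¹ * g = d by group] at this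
  exact C_iff.2 this

theorem eq_E {H : Subgroup UT} (hc : Nat.card H = 128) (h : ∀ x ∈ H, ∀ y ∈ H, C x y) : H = E := by
  by_contra hne
  obtain ⟨x, hx, hxE⟩ : ∃ x ∈ H, x ∉ E := by
    by_contra hcon
    push Not at hcon
    exact hne (eq_of_le_of_card_ge hcon (by rw [hc, card_E]))
  obtain ⟨d, hd, e⟩ := UT.dec x
  have hdE : d ∉ E := fun h => hxE (by simpa using mul_mem e h)
  by_cases h1 : ∀ y ∈ H, y * x ∈ E ∨ y ∈ E
  · have h2 : E.relIndex H ∣ 2 := index_dvd_two_iff.2 ⟨⟨x, hx⟩, fun y => h1 y.1 y.2⟩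
    have h3 := Grp.card_inf_mul_relIndex' E H
    have h4 : Nat.card ↥(E ⊓ H) ≤ 32 := by
      refine le_trans ?_ ((card_of fun y => y ∈ E ∧ C y d).le.trans (fix_chk d hd hdE).1)
      exact Nat.card_le_card_of_injective (fun y => ⟨y.1, y.2.1, C_red y.2.1 e (h _ y.2.2 _ hx)⟩)
        fun x y h => Subtype.ext (by simpa using h)
    have := Nat.le_of_dvd two_pos h2
    nlinarith
  push Not at h1
  obtain ⟨y, hy, h1, hyE⟩ := h1
  obtain ⟨d', hd', e'⟩ := UT.dec y
  have hdE' : d' ∉ E := fun h => hyE (by simpa using mul_mem e' h)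
  have h5 : d' * d ∉ E := fun h => h1 (by
    have := mul_mem (mul_mem e' (normal_E.conj_mem _ e d')) h
    convert this using 1; group)
  have h4 : Nat.card ↥(H ⊓ E) ≤ 16 := by
    refine le_trans ?_ ((card_of fun y => y ∈ E ∧ C y d' ∧ C y d).le.trans
      ((fix_chk d' hd' hdE').2 d hd hdE h5))
    exact Nat.card_le_card_of_injective
      (fun y => ⟨y.1, y.2.2, C_red y.2.2 e' (h _ y.2.1 _ hy), C_red y.2.2 e (h _ y.2.1 _ hx)⟩)
        fun x y h => Subtype.ext (by simpa using h)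
  have h6 := Grp.card_sup_mul_card_inf H E
  rw [hc, card_E] at h6
  have h7 : H ⊔ E = ⊤ := eq_top_of_le_card _ (by rw [card_eq]; nlinarith)
  have h8 : ∀ g : UT, ∃ u ∈ H, QuotientGroup.mk' E u = QuotientGroup.mk' E g := fun g => by
    obtain ⟨u, hu, v, hv, rfl⟩ := mem_sup_of_normal_right.1 (h7.ge (mem_top g))
    exact ⟨u, hu, by
      rw [map_mul, show QuotientGroup.mk' E v = 1 from (QuotientGroup.eq_one_iff v).2 hv, mul_one]⟩
  obtain ⟨u, hu, eu⟩ := h8 a
  obtain ⟨v, hv, ev⟩ := h8 b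
  refine E_facts.2.2.2 ((QuotientGroup.eq_one_iff _).1 ?_)
  have h9 : u * v * u⁻¹ * v⁻¹ ∈ E := center_le ((QuotientGroup.eq_one_iff _).1 (by
    have := (C_iff.1 (h u hu v hv)).eq
    change π _ = 1
    rw [map_mul, map_mul, map_mul, this]; simp))
  have := (QuotientGroup.eq_one_iff _).2 h9
  change QuotientGroup.mk' E _ = 1 at this ⊢
  simpa only [map_mul, map_inv, eu, ev] using this

theorem eq_map {A : Subgroup (UT ⧸ center UT)} (h : IsMulCommutative A) (hc : Nat.card A = 64) :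
    A = E.map π := by
  rw [← eq_E (H := A.comap π) (by rw [card_comap, hc]) fun x hx y hy =>
    C_iff.2 (congrArg Subtype.val (h.is_comm.comm ⟨_, hx⟩ ⟨_, hy⟩)),
    map_comap_eq_self_of_surjective (QuotientGroup.mk'_surjective _)]

theorem card_map_E : Nat.card (E.map π) = 64 := by
  have := card_comap (E.map π)
  rw [comap_map_eq_self (by rw [QuotientGroup.ker_mk']; exact center_le), card_E] at this
  omega

theorem elem_E : Cfsg.IsElementaryAbelian 2 (E.map π) := by
  refine ⟨⟨⟨?_⟩⟩, ?_⟩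
  · rintro ⟨_, x, hx, rfl⟩ ⟨_, y, hy, rfl⟩
    exact Subtype.ext (C_iff.1 ((E_facts.1 x hx).2 y hy)).eq
  · rintro _ ⟨x, hx, rfl⟩
    rw [pow_two, ← map_mul, π_eq.2 (E_facts.1 x hx).1, map_one]

theorem exists_equiv_quot (P : Sylow 2 ↥Cfsg.M24) : Nonempty ((UT ⧸ center UT) ≃*
    (↥(P : Subgroup ↥Cfsg.M24) ⧸ center ↥(P : Subgroup ↥Cfsg.M24))) := by
  obtain ⟨e⟩ := exists_equiv P
  refine ⟨QuotientGroup.congr _ _ e ?_⟩
  ext x
  obtain ⟨y, rfl⟩ := e.surjective x
  refine (mem_map_iff_mem (f := e.toMonoidHom) e.injective).trans ?_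
  simp only [mem_center_iff, e.surjective.forall, ← map_mul, e.injective.eq_iff]

end Cfsg.Agent.Spor.SylM24UT
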