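import Cfsg.Agent.KSG.MultH
import Cfsg.Agent.Spor.ModelM23

set_option autoImplicit false
set_option maxRecDepth 4096

namespace Cfsg.Agent.Spor.MultM23

open Cfsg Cfsg.Agent.Comp Cfsg.Agent.KSG.Pc

noncomputable def ns_2 : Net :=
 (Net.cons (nat_lit 16) 49770
 (Net.cons (nat_lit 8) (nat_lit 0xea0010)
 (Net.cons (nat_lit 4) (nat_lit 0x60d0408)
 (Net.cons (nat_lit 2) (nat_lit 0x132201)
 (Net.cons (nat_lit 1) (nat_lit 0x4014150)
 (Net.cons (nat_lit 2) (nat_lit 0x2002200)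
 (Net.cons (nat_lit 4) (nat_lit 0x4080408)
 (Net.cons (nat_lit 8) (nat_lit 0xa80038)
 (Net.cons (nat_lit 16) 49770
 Net.nil)))))))))

noncomputable def ns_3 : Net :=
 (Net.cons (nat_lit 16) 39826
 (Net.cons (nat_lit 8) (nat_lit 0x830050)
 (Net.cons (nat_lit 4) (nat_lit 0x8040406)
 (Net.cons (nat_lit 2) (nat_lit 0x2121020)
 (Net.cons (nat_lit 1) (nat_lit 0x1440044)
 (Net.cons (nat_lit 2) (nat_lit 0x220022)
 (Net.cons (nat_lit 8) (nat_lit 0x920010)
 (Net.cons (nat_lit 16) 39862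
 Net.nil))))))))

noncomputable def ns_4 : Net :=
 (Net.cons (nat_lit 16) 41568
 (Net.cons (nat_lit 8) (nat_lit 0x620030)
 (Net.cons (nat_lit 4) (nat_lit 0xc080608)
 (Net.cons (nat_lit 2) (nat_lit 0x211202)
 (Net.cons (nat_lit 1) (nat_lit 0x4010400)
 (Net.cons (nat_lit 2) (nat_lit 0x2000000)
 (Net.cons (nat_lit 4) (nat_lit 0xc080600)
 (Net.cons (nat_lit 8) (nat_lit 0x420020)
 (Net.cons (nat_lit 16) 41568
 Net.nil)))))))))

noncomputable def ns_5 : Net :=
 (Net.cons (nat_lit 16) 4586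
 (Net.cons (nat_lit 8) (nat_lit 0x8100e2)
 (Net.cons (nat_lit 4) (nat_lit 0x102060c)
 (Net.cons (nat_lit 2) (nat_lit 0x20232012)
 (Net.cons (nat_lit 1) (nat_lit 0x10444010)
 (Net.cons (nat_lit 2) (nat_lit 0x20222020)
 (Net.cons (nat_lit 4) 132104
 (Net.cons (nat_lit 8) (nat_lit 0x9000a4)
 (Net.cons (nat_lit 16) 4512
 Net.nil)))))))))

noncomputable def ns_6 : Net :=
 (Net.cons (nat_lit 16) 47892
 (Net.cons (nat_lit 8) (nat_lit 0x880074)
 (Net.cons (nat_lit 4) (nat_lit 0x205040c)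
 (Net.cons (nat_lit 2) (nat_lit 0x2301000)
 (Net.cons (nat_lit 1) (nat_lit 0x11511040)
 (Net.cons (nat_lit 2) (nat_lit 0x2020000)
 (Net.cons (nat_lit 8) (nat_lit 0xa20030)
 (Net.cons (nat_lit 16) 47968
 Net.nil))))))))

noncomputable def ns_7 : Net :=
 (Net.cons (nat_lit 16) 15460
 (Net.cons (nat_lit 8) 786556
 (Net.cons (nat_lit 4) (nat_lit 0xc000100)
 (Net.cons (nat_lit 2) (nat_lit 0x30013100)
 (Net.cons (nat_lit 1) (nat_lit 0x144540)
 (Net.cons (nat_lit 4) (nat_lit 0xc020400)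
 (Net.cons (nat_lit 8) (nat_lit 0x30003c)
 (Net.cons (nat_lit 16) 15460
 Net.nil))))))))

noncomputable def ns_8 : Net :=
 (Net.cons (nat_lit 16) 4680
 (Net.cons (nat_lit 8) 524448
 (Net.cons (nat_lit 4) (nat_lit 0xa040c02)
 (Net.cons (nat_lit 2) (nat_lit 0x20000022)
 (Net.cons (nat_lit 1) (nat_lit 0x10014014)
 (Net.cons (nat_lit 2) 32
 (Net.cons (nat_lit 4) (nat_lit 0xa020802)
 (Net.cons (nat_lit 8) 524320
 (Net.cons (nat_lit 16) 4616
 Net.nil)))))))))

noncomputable def ns_9 : Net :=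
 (Net.cons (nat_lit 16) 6824
 (Net.cons (nat_lit 8) (nat_lit 0x8600d8)
 (Net.cons (nat_lit 4) (nat_lit 0xc070c00)
 (Net.cons (nat_lit 2) (nat_lit 0x12013000)
 (Net.cons (nat_lit 1) (nat_lit 0x40041040)
 (Net.cons (nat_lit 2) 139296
 (Net.cons (nat_lit 4) (nat_lit 0xc060800)
 (Net.cons (nat_lit 8) (nat_lit 0x8400d8)
 (Net.cons (nat_lit 16) 6896
 Net.nil)))))))))

noncomputable def ns_10 : Net :=
 (Net.cons (nat_lit 16) 18736
 (Net.cons (nat_lit 8) (nat_lit 0x480068)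
 (Net.cons (nat_lit 4) (nat_lit 0x4040c00)
 (Net.cons (nat_lit 2) (nat_lit 0x1103000)
 (Net.cons (nat_lit 1) (nat_lit 0x114410)
 (Net.cons (nat_lit 2) 131104
 (Net.cons (nat_lit 4) (nat_lit 0x4040800)
 (Net.cons (nat_lit 8) 524504
 (Net.cons (nat_lit 16) 18736
 Net.nil)))))))))

noncomputable def ns_11 : Net :=
 (Net.cons (nat_lit 16) 35016
 (Net.cons (nat_lit 8) (nat_lit 0x140048)
 (Net.cons (nat_lit 4) (nat_lit 0x4020500)
 (Net.cons (nat_lit 2) (nat_lit 0x10221010)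
 (Net.cons (nat_lit 1) (nat_lit 0x40410510)
 (Net.cons (nat_lit 4) (nat_lit 0xc080400)
 (Net.cons (nat_lit 8) (nat_lit 0x140068)
 (Net.cons (nat_lit 16) 34944
 Net.nil))))))))

noncomputable def ns_12 : Net :=
 (Net.cons (nat_lit 16) 25648
 (Net.cons (nat_lit 8) (nat_lit 0x2e0050)
 (Net.cons (nat_lit 4) (nat_lit 0xe030500)
 (Net.cons (nat_lit 2) (nat_lit 0x2002020)
 (Net.cons (nat_lit 1) (nat_lit 0x44011410)
 (Net.cons (nat_lit 2) (nat_lit 0x2002200)
 (Net.cons (nat_lit 4) (nat_lit 0xc020400)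
 (Net.cons (nat_lit 8) (nat_lit 0x2a00c0)
 (Net.cons (nat_lit 16) 25648
 Net.nil)))))))))

noncomputable def ns_13 : Net :=
 (Net.cons (nat_lit 16) 27488
 (Net.cons (nat_lit 8) (nat_lit 0x260090)
 (Net.cons (nat_lit 4) 984064
 (Net.cons (nat_lit 2) (nat_lit 0x23213020)
 (Net.cons (nat_lit 1) (nat_lit 0x41001040)
 (Net.cons (nat_lit 2) (nat_lit 0x22002000)
 (Net.cons (nat_lit 4) (nat_lit 0x20c0400)
 (Net.cons (nat_lit 8) (nat_lit 0x260090)
 (Net.cons (nat_lit 16) 27488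
 Net.nil)))))))))

noncomputable def ns_14 : Net :=
 (Net.cons (nat_lit 16) 5442
 (Net.cons (nat_lit 8) (nat_lit 0x1d00c0)
 (Net.cons (nat_lit 4) (nat_lit 0x8030406)
 (Net.cons (nat_lit 2) (nat_lit 0x21012202)
 (Net.cons (nat_lit 1) (nat_lit 0x10010404)
 (Net.cons (nat_lit 2) (nat_lit 0x20000202)
 (Net.cons (nat_lit 4) (nat_lit 0x8020404)
 (Net.cons (nat_lit 8) (nat_lit 0x180040)
 (Net.cons (nat_lit 16) 5394
 Net.nil)))))))))

noncomputable def ns_15 : Net :=
 (Net.cons (nat_lit 16) 656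
 (Net.cons (nat_lit 8) 262352
 (Net.cons (nat_lit 4) 591872
 (Net.cons (nat_lit 2) (nat_lit 0x2323120)
 (Net.cons (nat_lit 1) (nat_lit 0x4515010)
 (Net.cons (nat_lit 2) (nat_lit 0x2020020)
 (Net.cons (nat_lit 4) 2048
 (Net.cons (nat_lit 8) 262352
 (Net.cons (nat_lit 16) 656
 Net.nil)))))))))

noncomputable def ns_16 : Net :=
 (Net.cons (nat_lit 16) 5256
 (Net.cons (nat_lit 8) (nat_lit 0x140020)
 (Net.cons (nat_lit 4) (nat_lit 0x4050208)
 (Net.cons (nat_lit 2) (nat_lit 0x10312200)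
 (Net.cons (nat_lit 1) 336
 (Net.cons (nat_lit 2) 512
 (Net.cons (nat_lit 4) (nat_lit 0x4000208)
 (Net.cons (nat_lit 8) 32
 (Net.cons (nat_lit 16) 5256
 Net.nil)))))))))

noncomputable def ns_17 : Net :=
 (Net.cons (nat_lit 16) 41728
 (Net.cons (nat_lit 8) (nat_lit 0xd80050)
 (Net.cons (nat_lit 4) (nat_lit 0x40c0400)
 (Net.cons (nat_lit 2) (nat_lit 0x3221020)
 (Net.cons (nat_lit 1) (nat_lit 0x15410410)
 (Net.cons (nat_lit 2) (nat_lit 0x220020)
 (Net.cons (nat_lit 4) (nat_lit 0x40c0400)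
 (Net.cons (nat_lit 8) (nat_lit 0xd80050)
 (Net.cons (nat_lit 16) 41728
 Net.nil)))))))))

noncomputable def ns_18 : Net :=
 (Net.cons (nat_lit 16) 2256
 (Net.cons (nat_lit 8) (nat_lit 0x880042)
 (Net.cons (nat_lit 4) (nat_lit 0x8010902)
 (Net.cons (nat_lit 2) (nat_lit 0x202000)
 (Net.cons (nat_lit 1) (nat_lit 0x444410)
 (Net.cons (nat_lit 2) (nat_lit 0x202000)
 (Net.cons (nat_lit 4) 2050
 (Net.cons (nat_lit 8) (nat_lit 0x880042)
 (Net.cons (nat_lit 16) 2256
 Net.nil)))))))))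

noncomputable def ns : List Net := [ModelM23.ns_0, ModelM23.ns_1, ns_2, ns_3, ns_4, ns_5, ns_6, ns_7, ns_8, ns_9, ns_10, ns_11, ns_12, ns_13, ns_14, ns_15, ns_16, ns_17, ns_18]

theorem ctx : Ctx 32 5 ns := ctx_of (by decide +kernel)

theorem lctx : LCtx 32 5 8 31 trN5 ns := lctx_of ctx trOK5 (by decide +kernel)

noncomputable def E : List ℕ → ℕ → ℕ := pfW0 32 5 8 31 trN5 ns

theorem hE : Evl 32 ns E := evl_pfW0 lctx

theorem geq : gen ModelM23.ns ModelM23.G_ss0 = gen ns [[0], [2]] :=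
  gen_eq_of_take (ns := ModelM23.ns) (ns' := ns) (k := 2) rfl (ws := ModelM23.G_ss0) (by decide +kernel)

theorem hn : Nat.card (gen ns [[0], [2]]) = 10200960 :=
  geq ▸ ModelM23.G_card

theorem kn_0 : Known ns (gen ns [[0], [2]]) 3 :=
  known_gen (by decide +kernel)

noncomputable def A_S6 : List SD :=
  []

noncomputable def A_d5 : SD :=
  ⟨4, 1, [30, 32, 34, 36], lab 3 7 (nat_lit 0x1b4186c16934c80000), 4⟩

noncomputable def A_S5 : List SD :=
  A_d5 :: A_S6

noncomputable def A_d4 : SD :=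
  ⟨5, 1, [24, 26, 28, 30, 32, 34, 36], lab 4 15 (nat_lit 0x100000000000000), 1⟩

noncomputable def A_S4 : List SD :=
  A_d4 :: A_S5

noncomputable def A_d3 : SD :=
  ⟨3, 1, [18, 20, 22, 24, 26, 28, 30, 32, 34, 36], lab 5 31 (nat_lit 0x116331c8511062300e4484a800000), 2⟩

noncomputable def A_S3 : List SD :=
  A_d3 :: A_S4

noncomputable def A_d2 : SD :=
  ⟨2, 1, [12, 14, 16, 18, 20, 22, 24, 26, 28, 30, 32, 34, 36], lab 5 31 (nat_lit 0x24e329dad30029115e81c98a10000), 2⟩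

noncomputable def A_S2 : List SD :=
  A_d2 :: A_S3

noncomputable def A_d1 : SD :=
  ⟨1, 1, [6, 8, 10, 12, 14, 16, 18, 20, 22, 24, 26, 28, 30, 32, 34, 36], lab 5 31 (nat_lit 0x157548cc020a4c0a0401500d1a400), 2⟩

noncomputable def A_S1 : List SD :=
  A_d1 :: A_S2

noncomputable def A_d0 : SD :=
  ⟨0, 2, [0, 2, 4, 6, 8, 10, 12, 14, 16, 18, 20, 22, 24, 26, 28, 30, 32, 34, 36], lab 6 63 (nat_lit 0xc1c24843da30788b5c691929b4dc2c40c0), 3⟩

noncomputable def A_S0 : List SD :=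
  A_d0 :: A_S1

theorem kn_1 : Known ns (gen ns [[0], [2]]) 524287 :=
  kn_0.steps ctx (es := [(2, [0, 2, 0]),
 (3, [3, 5, 3, 3, 3, 5, 3, 1, 3, 0, 3]),
 (4, [5, 5, 3, 3]),
 (5, [6, 6, 6, 6, 9, 7]),
 (6, [8, 10, 10, 8, 8, 11, 6, 10, 7, 7]),
 (7, [7, 10, 8, 7, 7, 7, 8]),
 (8, [15, 13, 13]),
 (9, [14, 13, 16, 16, 15, 16, 14, 13, 14, 13]),
 (10, [14, 12, 12]),
 (11, [18, 21, 21, 19, 20]),
 (12, [20, 18, 21]),
 (13, [20, 23, 18, 22, 19, 20, 23]),
 (14, [23, 23, 20, 20, 18, 18, 20]),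
 (15, [24, 26, 26]),
 (16, [24, 26, 29, 24, 24, 28, 27]),
 (17, [24, 24, 28]),
 (18, [28, 26, 26])]) (by decide +kernel)

theorem A_ex : Exact 32 ns A_S0 ∧ gen ns (sTop A_S0) = gen ns [[0], [2]] ∧ gen ns [[0], [2]] = gen ns [[0], [2]] :=
  exact_of_known ctx hn (le_rfl) kn_1 (by decide +kernel)

theorem hbase : IsBase 32 (gen ns [[0], [2]]) [0, 1, 2, 3, 5, 4] :=
  isBase_of_exact A_ex (by decide +kernel)

noncomputable def m2_P : Pd :=
  ⟨6, 2, 1, nat_lit 0x20000000000010100000000008082800000004041c34200002020e021200010301011f0500,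
  nat_lit 0xffffffffffff000000000000000000000000000000000000000000000000000000000000ffffffffffffffffffffffff000000000000000000000000000000000000000000000000ffffffffffff000000000000ffffffffffff000000000000000000000000ffffffffffff000000000000000000000000ffffffffffffffffffffffff, 49, 2, 68,
  nat_lit 0x600000000000000000000000000000000000000000000000000000000000000050000000000000000000000000000000400000000000000030000000200010000⟩

noncomputable def m2_aws : List (List ℕ) :=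
  [[14, 6, 12, 23, 24, 36, 34, 32, 30], [21, 24, 36, 30], [19, 12, 20, 32], [19, 34, 32, 30], [30, 13, 22, 18, 24, 36, 32, 30], [18, 12, 24, 19, 24, 34, 32], [15, 19, 36, 32, 30], [6, 17, 12, 23, 25], [14, 6, 25, 13, 20, 18, 36, 34, 30], [25, 13, 23, 21, 36, 32, 30], [3, 7, 2, 9, 6, 13, 29, 18, 34]]

theorem m2_mem : ∀ u ∈ m2_aws, wp ns u ∈ gen ns [[0], [2]] :=
  kn_1.words (by decide +kernel)

noncomputable def m2_prs : Prs :=
  [(7, 1, 8), (7, 32, 16), (8, 2, 8), (9, 8, 64), (8, 16, 6), (7, 64, 64), (8, 8, 2), (8, 64, 32), (10, 16, 48), (10, 8, 2), (10, 64, 96), (9, 32, 10), (9, 1, 9), (9, 64, 8), (10, 2, 8), (10, 32, 32), (10, 4, 30), (7, 8, 65), (7, 6, 38)]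

noncomputable def m2_rels : List Rel :=
  [.fus 7 [0, 0] [] [1, 6145],
  .fus 7 [1, 1] [] [8193, 10241],
  .fus 8 [2, 2] [] [2049, 6145],
  .fus 9 [3, 3] [] [6145, 12289],
  .con 4 2 2 [4865],
  .con 64 2 2 [10497],
  .con 2 0 1 [2561, 6145],
  .con 16 3 4 [8705, 12289],
  .con 32 0 5 [10497, 12289],
  .con 8 2 3 [6657, 6913, 10241, 10497, 12289],
  .con 16 1 4 [8449, 8705, 10241, 10497, 12289],
  .con 64 0 1 [6913],
  .con 2 0 0 [769, 6145],
  .con 32 0 0 [1537, 12289],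
  .con 4 1 1 [3073, 10241],
  .fus 8 [4, 4] [] [2049, 2305, 4097, 4865, 8193, 10241],
  .con 32 0 1 [3329, 6657, 6913],
  .con 16 1 1 [3073, 3329, 10241, 10497, 12289],
  .con 8 2 2 [4865, 5121, 6657, 10241, 10497, 12289],
  .fus 7 [1, 0] [0, 1, 5] [1281, 6401, 13825],
  .fus 8 [4, 6] [6, 4, 7] [2305, 6401, 14337],
  .fus 10 [8, 9] [9, 8, 10] [2817, 3073, 6401, 10497, 15105],
  .fus 9 [11, 12] [12, 11, 13] [257, 769, 1281, 2561, 15873],
  .fus 10 [8, 14] [14, 8, 15, 10] [2817, 6401, 6657, 10241, 10497, 15105, 16385],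
  .fus 10 [16, 14] [14, 16, 15] [2305, 2561, 4353, 6401, 6657, 6913, 8449, 8705, 10241, 10497, 16385],
  .con 4 0 0 [769, 1025, 1281, 1537, 6145, 6401, 6657, 6913, 8193, 8449, 10241, 10497],
  .con 16 0 1 [1281, 1537, 6401, 6657, 6913, 10497],
  .con 4 0 2 [1281, 4353, 4609, 4865, 5121, 6145, 6401, 6657, 6913, 8193, 8705, 10497],
  .fus 7 [17, 18] [18, 17, 1, 5] [257, 513, 1281, 2561, 3329, 5121, 6145, 6657, 6913, 8193, 8705, 10241, 12801, 13825],
  .con 4 0 1 [1281, 2561, 2817, 3073, 3329, 4353, 6401, 6657, 6913, 8705, 10497]]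

noncomputable def m2_ys : List (List ℕ) :=
  [[],
  [],
  [],
  [14337, 15105, 15873],
  [12801, 15105],
  [15105],
  [14337, 15105]]

noncomputable def m2_ss : List (List ℕ × ℕ × ℕ) :=
  []

noncomputable def m2_cs : List (List ℕ) :=
  [[(nat_lit 0x10000010001000001)],
  [(nat_lit 0x10000000001010100010000000100010001010100000101000000000000), (nat_lit 0x10000010001010000)],
  [(nat_lit 0x100010000000100000101010000010101010001010100010100000100), (nat_lit 0x10000010001010000000000010000000100010100000100000000000000), (nat_lit 0x10000010001010000000000010001000100010100010100010101010100)],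
  [(nat_lit 0x1000000010000010001000000), (nat_lit 0x10001010001000000), (nat_lit 0x1010001010000000000010000010100000001000001000000), (nat_lit 0x10000010001000000)],
  [(nat_lit 0x10100000000000000010100010001000101000100010000000100), (nat_lit 0x10000010001010001010000000100000100010101000100010000000000), (nat_lit 0x1010001010001010001010100000100000100010101010000000100), (nat_lit 0x10000010001010000010000010000000100010100000100000000000000), (nat_lit 0x10100010000000001000000000000000100)],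
  [(nat_lit 0x10000000001010000010000000100010000010100000100000000000000), (nat_lit 0x10100000000000001000000000000000000), (nat_lit 0x100000000), (nat_lit 0x10100010000010000010000000000000000), (nat_lit 0x10100010000000101000100010000000000), (nat_lit 0x10100010000000001000000000000000000)],
  [(nat_lit 0x100000000010000010000000000), (nat_lit 0x10000010000000000010000000000000000), (nat_lit 0x1000000000000010001000000000100000000), (nat_lit 0x10000000000000000000000), (nat_lit 0x10100010000000000), (nat_lit 0x10000000000), (nat_lit 0x10000010000000000)]]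

noncomputable def m2_B : List (ℕ × ℕ × List (List ℕ)) :=
  [(2, 1, [[6], [5], [4], [2], [0], [1], [3]]),
  (3, 1, [[3], [1], [0]]),
  (1, 1, [[0]])]

theorem m2_row0 : AllIn (fun j => m2_P.chkRow (eqB (Comp.evL E) [0, 1, 2, 3, 5, 4] m2_aws) j = true) 0 7 :=
  allIn_of_allFrom (a := 0) (n := 7) (by decide +kernel)

theorem m2_pr0 : AllIn (fun j => m2_P.chkPr (eqB (Comp.evL E) [0, 1, 2, 3, 5, 4] m2_aws) (m2_prs.get j) = true) 0 19 :=
  allIn_of_allFrom (a := 0) (n := 19) (by decide +kernel)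

theorem m2_rel0 : AllIn (fun k => m2_P.chkRel m2_prs (getL (Rel.con 0 0 0 []) m2_rels k) = true) 0 30 :=
  allIn_of_allFrom (a := 0) (n := 30) (by decide +kernel)

theorem m2_lin : m2_P.chkLin 0 m2_rels m2_ys m2_ss m2_cs = true :=
  by decide +kernel

theorem m2_bound : MultBound 2 0 (gen ns [[0], [2]]) :=
  multBound_net ctx m2_mem hn (P := m2_P) (B := m2_B) (by norm_num [m2_P])
    (GOK.of_rows (eSound_eqB (evl_evL ctx.ok hE) hbase m2_mem) m2_row0 m2_pr0 (by decide +kernel))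
    (rels_of_allIn m2_rel0 (by decide +kernel)) m2_lin (by decide +kernel) (by decide +kernel)

noncomputable def m3_P : Pd :=
  ⟨1, 3, 2, 64,
  0, 12, 3, 8,
  nat_lit 0x10000000100000000⟩

noncomputable def m3_aws : List (List ℕ) :=
  [[23, 21, 34, 32], [12, 6, 14, 20, 36, 32, 30], [15, 7, 25, 13, 21, 25, 32, 30], [2, 17, 6, 19, 14, 18, 36, 32]]

theorem m3_mem : ∀ u ∈ m3_aws, wp ns u ∈ gen ns [[0], [2]] :=
  kn_1.words (by decide +kernel)

noncomputable def m3_prs : Prs :=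
  [(2, 1, 2), (2, 4, 8), (3, 4, 4), (3, 1, 10)]

noncomputable def m3_rels : List Rel :=
  [.fus 2 [0, 0, 0] [] [1],
  .fus 2 [1, 1, 1] [] [769],
  .fus 3 [2, 3] [3, 2] [257]]

noncomputable def m3_ys : List (List ℕ) :=
  [[],
  []]

noncomputable def m3_ss : List (List ℕ × ℕ × ℕ) :=
  []

noncomputable def m3_cs : List (List ℕ) :=
  [[2],
  [131072, 512]]

noncomputable def m3_B : List (ℕ × ℕ × List (List ℕ)) :=
  [(1, 1, [[1], [1], [0]]),
  (3, 1, [[0], [0]])]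

theorem m3_row0 : AllIn (fun j => m3_P.chkRow (eqB (Comp.evL E) [0, 1, 2, 3, 5, 4] m3_aws) j = true) 0 2 :=
  allIn_of_allFrom (a := 0) (n := 2) (by decide +kernel)

theorem m3_pr0 : AllIn (fun j => m3_P.chkPr (eqB (Comp.evL E) [0, 1, 2, 3, 5, 4] m3_aws) (m3_prs.get j) = true) 0 4 :=
  allIn_of_allFrom (a := 0) (n := 4) (by decide +kernel)

theorem m3_rel0 : AllIn (fun k => m3_P.chkRel m3_prs (getL (Rel.con 0 0 0 []) m3_rels k) = true) 0 3 :=
  allIn_of_allFrom (a := 0) (n := 3) (by decide +kernel)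

theorem m3_lin : m3_P.chkLin 0 m3_rels m3_ys m3_ss m3_cs = true :=
  by decide +kernel

theorem m3_bound : MultBound 3 0 (gen ns [[0], [2]]) :=
  multBound_net ctx m3_mem hn (P := m3_P) (B := m3_B) (by norm_num [m3_P])
    (GOK.of_rows (eSound_eqB (evl_evL ctx.ok hE) hbase m3_mem) m3_row0 m3_pr0 (by decide +kernel))
    (rels_of_allIn m3_rel0 (by decide +kernel)) m3_lin (by decide +kernel) (by decide +kernel)

theorem bounds : ∀ x ∈ ([(2, 0), (3, 0)] : List (ℕ × ℕ)), MultBound x.1 x.2 (gen ns [[0], [2]]) :=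
  List.forall_mem_cons.2 ⟨m2_bound, List.forall_mem_cons.2 ⟨m3_bound, fun _ h => absurd h List.not_mem_nil⟩⟩

theorem mult_of : ∀ {A : Type} [CommGroup A], Nat.card A = 1 → MultOnto (gen ModelM23.ns ModelM23.G_ss0) A →
    HasSchurMultiplier (gen ModelM23.ns ModelM23.G_ss0) A :=
  fun ha h => hasMult_of_list ModelM23.G_card ha (geq ▸ bounds) (by decide +kernel) h

end Cfsg.Agent.Spor.MultM23
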