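import Cfsg.Agent.KSG.MultCov
import Cfsg.Agent.Spor.ModelM12

set_option autoImplicit false
set_option maxRecDepth 4096
set_option Elab.async false

namespace Cfsg.Agent.Spor.CovM12

open Cfsg Cfsg.Agent.Comp Cfsg.Agent.KSG.Pc

noncomputable def ns_0 : Net :=
 (Net.cons (nat_lit 16) 3268
 (Net.cons (nat_lit 8) (nat_lit 0xf0000800c0)
 (Net.cons (nat_lit 4) (nat_lit 0xc0000060208)
 (Net.cons (nat_lit 2) (nat_lit 0x33330220032)
 (Net.cons (nat_lit 1) (nat_lit 0x500001101454)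
 (Net.cons (nat_lit 2) (nat_lit 0x200002)
 (Net.cons (nat_lit 4) (nat_lit 0xc0000020208)
 (Net.cons (nat_lit 8) (nat_lit 0xf000080040)
 (Net.cons (nat_lit 16) 3268
 Net.nil)))))))))

noncomputable def ns_1 : Net :=
 (Net.cons (nat_lit 32) (nat_lit 0xc0000000)
 (Net.cons (nat_lit 16) (nat_lit 0xf3000000f6b6)
 (Net.cons (nat_lit 8) (nat_lit 0xc000bd0059)
 (Net.cons (nat_lit 4) (nat_lit 0x3000c030d01020c)
 (Net.cons (nat_lit 2) (nat_lit 0x3000003010021132)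
 (Net.cons (nat_lit 1) (nat_lit 0x11440400)
 (Net.cons (nat_lit 2) (nat_lit 0x200200)
 (Net.cons (nat_lit 4) 524292
 (Net.cons (nat_lit 8) (nat_lit 0xcc00d20044)
 (Net.cons (nat_lit 16) (nat_lit 0xf3000000ed6a)
 (Net.cons (nat_lit 32) (nat_lit 0xc0000000)
 Net.nil)))))))))))

noncomputable def ns_2 : Net :=
 (Net.cons (nat_lit 32) (nat_lit 0xff000000)
 (Net.cons (nat_lit 16) (nat_lit 0xf0000000a3b5)
 (Net.cons (nat_lit 8) (nat_lit 0x3c007900b4)
 (Net.cons (nat_lit 4) (nat_lit 0xf000c0302020405)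
 (Net.cons (nat_lit 2) (nat_lit 0x3000333032231000)
 (Net.cons (nat_lit 1) (nat_lit 0x5000400440044004)
 (Net.cons (nat_lit 2) (nat_lit 0x20022000)
 (Net.cons (nat_lit 4) (nat_lit 0xc00000008000400)
 (Net.cons (nat_lit 8) (nat_lit 0x30005a00f0)
 (Net.cons (nat_lit 16) (nat_lit 0xc3000000a364)
 (Net.cons (nat_lit 32) (nat_lit 0xff000000)
 Net.nil)))))))))))

noncomputable def ns_3 : Net :=
 (Net.cons (nat_lit 32) (nat_lit 0xff000000)
 (Net.cons (nat_lit 16) (nat_lit 0x333000004541)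
 (Net.cons (nat_lit 8) (nat_lit 0x30003f0040004c)
 (Net.cons (nat_lit 4) (nat_lit 0xc00000304090601)
 (Net.cons (nat_lit 2) (nat_lit 0x3000033001013200)
 (Net.cons (nat_lit 1) (nat_lit 0x1000440100144400)
 (Net.cons (nat_lit 2) (nat_lit 0x222000)
 (Net.cons (nat_lit 4) 526336
 (Net.cons (nat_lit 8) (nat_lit 0x30000400d4)
 (Net.cons (nat_lit 16) (nat_lit 0x3c3000004508)
 (Net.cons (nat_lit 32) (nat_lit 0xff000000)
 Net.nil)))))))))))

noncomputable def ns_4 : Net :=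
 (Net.cons (nat_lit 32) (nat_lit 0xcc000000)
 (Net.cons (nat_lit 16) (nat_lit 0xcc000000ddf0)
 (Net.cons (nat_lit 8) (nat_lit 0xff009a0000)
 (Net.cons (nat_lit 4) (nat_lit 0x30c05090004)
 (Net.cons (nat_lit 2) (nat_lit 0x30310210030)
 (Net.cons (nat_lit 1) (nat_lit 0x4400041044000004)
 (Net.cons (nat_lit 2) (nat_lit 0x2000000)
 (Net.cons (nat_lit 4) (nat_lit 0xc00080c0000)
 (Net.cons (nat_lit 8) (nat_lit 0xc001a0000)
 (Net.cons (nat_lit 16) (nat_lit 0xcc000000dde8)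
 (Net.cons (nat_lit 32) (nat_lit 0xcc000000)
 Net.nil)))))))))))

noncomputable def ns_5 : Net :=
 (Net.cons (nat_lit 32) (nat_lit 0xfc000000)
 (Net.cons (nat_lit 16) (nat_lit 0x3f0c0000c5ac)
 (Net.cons (nat_lit 8) (nat_lit 0xc00fc00040050)
 (Net.cons (nat_lit 4) (nat_lit 0xf00000f00020204)
 (Net.cons (nat_lit 2) (nat_lit 0x3000303001322030)
 (Net.cons (nat_lit 1) (nat_lit 0x400104001014100)
 (Net.cons (nat_lit 2) 139264
 (Net.cons (nat_lit 4) (nat_lit 0xc0004000c)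
 (Net.cons (nat_lit 8) (nat_lit 0xc00fc00c40048)
 (Net.cons (nat_lit 16) (nat_lit 0x30c0000c688)
 (Net.cons (nat_lit 32) (nat_lit 0xfc000000)
 Net.nil)))))))))))

noncomputable def ns_6 : Net :=
 (Net.cons (nat_lit 32) (nat_lit 0xfc000000)
 (Net.cons (nat_lit 16) (nat_lit 0xc0000000bbd8)
 (Net.cons (nat_lit 8) (nat_lit 0x3c003100c0)
 (Net.cons (nat_lit 4) (nat_lit 0xc00000f00010c08)
 (Net.cons (nat_lit 2) (nat_lit 0x3000300020120020)
 (Net.cons (nat_lit 1) (nat_lit 0x551101100450)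
 (Net.cons (nat_lit 2) (nat_lit 0x2000000)
 (Net.cons (nat_lit 4) (nat_lit 0xc00000000060808)
 (Net.cons (nat_lit 8) (nat_lit 0xfc003a00c0)
 (Net.cons (nat_lit 16) (nat_lit 0xf0000000bb58)
 (Net.cons (nat_lit 32) (nat_lit 0xfc000000)
 Net.nil)))))))))))

noncomputable def ns_7 : Net :=
 (Net.cons (nat_lit 32) (nat_lit 0xfc000000)
 (Net.cons (nat_lit 16) (nat_lit 0xfc0000007748)
 (Net.cons (nat_lit 8) (nat_lit 0xf3009e0020)
 (Net.cons (nat_lit 4) (nat_lit 0x307000804)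
 (Net.cons (nat_lit 2) (nat_lit 0x33020122020)
 (Net.cons (nat_lit 1) (nat_lit 0x4000404441040014)
 (Net.cons (nat_lit 2) (nat_lit 0x22020020)
 (Net.cons (nat_lit 4) (nat_lit 0xc000a06080c)
 (Net.cons (nat_lit 8) (nat_lit 0x30009800a0)
 (Net.cons (nat_lit 16) (nat_lit 0xc000000077d0)
 (Net.cons (nat_lit 32) (nat_lit 0xfc000000)
 Net.nil)))))))))))

noncomputable def ns_8 : Net :=
 (Net.cons (nat_lit 32) (nat_lit 0xc0000000)
 (Net.cons (nat_lit 16) (nat_lit 0xc000000094f8)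
 (Net.cons (nat_lit 8) (nat_lit 0xf3006c0000)
 (Net.cons (nat_lit 4) (nat_lit 0x30f000b0400)
 (Net.cons (nat_lit 2) (nat_lit 0x300330221000)
 (Net.cons (nat_lit 1) (nat_lit 0x4000544505000150)
 (Net.cons (nat_lit 4) (nat_lit 0xc00000400)
 (Net.cons (nat_lit 8) (nat_lit 0x6c0000)
 (Net.cons (nat_lit 16) (nat_lit 0xc000000094f8)
 (Net.cons (nat_lit 32) (nat_lit 0xc0000000)
 Net.nil))))))))))

noncomputable def ns_9 : Net :=
 (Net.cons (nat_lit 32) (nat_lit 0xfc000000)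
 (Net.cons (nat_lit 16) (nat_lit 0xf300000073f8)
 (Net.cons (nat_lit 8) (nat_lit 0xcc005200b0)
 (Net.cons (nat_lit 4) (nat_lit 0xf00000304050408)
 (Net.cons (nat_lit 2) (nat_lit 0x3000003003313000)
 (Net.cons (nat_lit 1) (nat_lit 0x1500044414014040)
 (Net.cons (nat_lit 2) (nat_lit 0x2000000)
 (Net.cons (nat_lit 4) (nat_lit 0xc00000c04000400)
 (Net.cons (nat_lit 8) (nat_lit 0xfc000000b8)
 (Net.cons (nat_lit 16) (nat_lit 0xcf0000007358)
 (Net.cons (nat_lit 32) (nat_lit 0xfc000000)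
 Net.nil)))))))))))

noncomputable def ns_10 : Net :=
 (Net.cons (nat_lit 32) (nat_lit 0xfc000000)
 (Net.cons (nat_lit 16) (nat_lit 0x33300000b7f0)
 (Net.cons (nat_lit 8) (nat_lit 0x30003c00d40070)
 (Net.cons (nat_lit 4) (nat_lit 0x3000003030b0800)
 (Net.cons (nat_lit 2) (nat_lit 0x3000000302003000)
 (Net.cons (nat_lit 1) (nat_lit 0x5010405004044040)
 (Net.cons (nat_lit 2) (nat_lit 0x2000000)
 (Net.cons (nat_lit 4) (nat_lit 0xc00000004000800)
 (Net.cons (nat_lit 8) (nat_lit 0x30003c00440070)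
 (Net.cons (nat_lit 16) (nat_lit 0x3300000b7f0)
 (Net.cons (nat_lit 32) (nat_lit 0xfc000000)
 Net.nil)))))))))))

noncomputable def ns_11 : Net :=
 (Net.cons (nat_lit 32) (nat_lit 0xfc000000)
 (Net.cons (nat_lit 16) (nat_lit 0xf300000072f8)
 (Net.cons (nat_lit 8) (nat_lit 0xcc005200b0)
 (Net.cons (nat_lit 4) (nat_lit 0xf00000304050408)
 (Net.cons (nat_lit 2) (nat_lit 0x3000003003313000)
 (Net.cons (nat_lit 1) (nat_lit 0x4000501114014140)
 (Net.cons (nat_lit 2) (nat_lit 0x2000000)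
 (Net.cons (nat_lit 4) (nat_lit 0xc00000c04000400)
 (Net.cons (nat_lit 8) (nat_lit 0xfc000000b8)
 (Net.cons (nat_lit 16) (nat_lit 0xcf0000007158)
 (Net.cons (nat_lit 32) (nat_lit 0xfc000000)
 Net.nil)))))))))))

noncomputable def ns_12 : Net :=
 (Net.cons (nat_lit 1) (nat_lit 0x555555000000)
 Net.nil)

noncomputable def ns : List Net := [ns_0, ns_1, ns_2, ns_3, ns_4, ns_5, ns_6, ns_7, ns_8, ns_9, ns_10, ns_11, ns_12]

theorem ctx : Ctx 64 6 ns := ctx_of (by decide +kernel)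

noncomputable def X_C6 : List Lvl :=
  []

noncomputable def X_ss5 : List (List ℕ) :=
  [[24]]

noncomputable def X_D5 : ℕ :=
  nat_lit 0x3000000

noncomputable def X_l5 : Lvl :=
  ⟨24, [[24]],
  tabA [(25, 6144)], 1⟩

noncomputable def X_C5 : List Lvl :=
  X_l5 :: X_C6

noncomputable def X_ss4 : List (List ℕ) :=
  [[18], [20], [22]]

noncomputable def X_D4 : ℕ :=
  340816

noncomputable def X_l4 : Lvl :=
  ⟨4, [[18], [20], [22], [24]],
  tabA [(18, 1024), (13, 1025), (16, 1026), (8, 1027), (12, 4608), (6, 4610), (9, 4611)], 2⟩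

noncomputable def X_C4 : List Lvl :=
  X_l4 :: X_C5

noncomputable def X_ss3 : List (List ℕ) :=
  [[12], [14], [16]]

noncomputable def X_D3 : ℕ :=
  340824

noncomputable def X_l3 : Lvl :=
  ⟨3, [[12], [14], [16], [18], [20], [22], [24]],
  tabA [(16, 768), (13, 769), (4, 770), (18, 772), (12, 4096), (9, 4102), (6, 4103), (8, 3331)], 2⟩

noncomputable def X_C3 : List Lvl :=
  X_l3 :: X_C4

noncomputable def X_ss2 : List (List ℕ) :=
  [[8], [10]]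

noncomputable def X_D2 : ℕ :=
  340828

noncomputable def X_l2 : Lvl :=
  ⟨2, [[8], [10], [12], [14], [16], [18], [20], [22], [24]],
  tabA [(3, 512), (4, 513), (12, 514), (9, 515), (8, 768), (16, 770), (13, 773), (18, 776), (6, 3073)], 2⟩

noncomputable def X_C2 : List Lvl :=
  X_l2 :: X_C3

noncomputable def X_ss1 : List (List ℕ) :=
  [[4], [6]]

noncomputable def X_D1 : ℕ :=
  340829

noncomputable def X_l1 : Lvl :=
  ⟨0, [[4], [6], [8], [10], [12], [14], [16], [18], [20], [22], [24]],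
  tabA [(12, 0), (8, 1), (4, 2), (3, 3), (16, 3072), (13, 3075), (6, 3077), (2, 3079), (18, 3083), (9, 2049)], 2⟩

noncomputable def X_C1 : List Lvl :=
  X_l1 :: X_C2

noncomputable def X_ss0 : List (List ℕ) :=
  [[0], [2]]

noncomputable def X_D0 : ℕ :=
  340831

noncomputable def X_l0 : Lvl :=
  ⟨1, [[0], [2], [4], [6], [8], [10], [12], [14], [16], [18], [20], [22], [24]],
  tabA [(18, 256), (4, 258), (3, 4612), (8, 4614), (16, 4615), (6, 4616), (12, 4622), (9, 4623), (13, 1029), (2, 1030), (0, 1031)], 2⟩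

noncomputable def X_C0 : List Lvl :=
  X_l0 :: X_C1

theorem X_ver6 : Ver ns X_C6 1 :=
  ver_nil _

theorem X_le5 : gen ns X_l5.ws ≤ gen ns X_ss5 :=
  gen_le_step ctx (tgt := [])
  (es := []) (le_refl (gen _ [])) (by decide +kernel)

theorem X_lv5 : chkLvl 64 ns X_l5 X_C6 X_D5 1 = true :=
  by decide +kernel

theorem X_pt5_0 : AllIn (PtOK 64 ns X_l5 X_C6 X_ss5 X_D5) 0 64 :=
  ptOK_of_chkPts ctx X_ver6 (a := 0) (n := 1) (by decide +kernel)

theorem X_st5 : IsStab 64 (gen ns X_l5.ws) (cgrp ns X_C6) X_l5.b X_D5 :=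
  isStab_plain ctx X_le5 X_lv5 (by norm_num) X_pt5_0

theorem X_ver5 : Ver ns X_C5 2 :=
  X_ver6.cons ctx X_st5 (by decide +kernel)

theorem X_le4 : gen ns X_l4.ws ≤ gen ns X_ss4 :=
  gen_le_step ctx (tgt := [[24]])
  (es := [([24], [3, 3, 4, 1, 1, 1])]) X_le5 (by decide +kernel)

theorem X_lv4 : chkLvl 64 ns X_l4 X_C5 X_D4 2 = true :=
  by decide +kernel

theorem X_pt4_0 : AllIn (PtOK 64 ns X_l4 X_C5 X_ss4 X_D4) 0 64 :=
  ptOK_of_chkPts ctx X_ver5 (a := 0) (n := 1) (by decide +kernel)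

theorem X_st4 : IsStab 64 (gen ns X_l4.ws) (cgrp ns X_C5) X_l4.b X_D4 :=
  isStab_plain ctx X_le4 X_lv4 (by norm_num) X_pt4_0

theorem X_ver4 : Ver ns X_C4 16 :=
  X_ver5.cons ctx X_st4 (by decide +kernel)

theorem X_le3 : gen ns X_l3.ws ≤ gen ns X_ss3 :=
  gen_le_step ctx (tgt := [[18], [20], [22]])
  (es := [([18], [1, 2, 0]), ([20], [7, 7, 2, 5]), ([22], [9, 6, 6, 6, 4, 4])]) X_le4 (by decide +kernel)

theorem X_lv3 : chkLvl 64 ns X_l3 X_C4 X_D3 1 = true :=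
  by decide +kernel

theorem X_pt3_0 : AllIn (PtOK 64 ns X_l3 X_C4 X_ss3 X_D3) 0 64 :=
  ptOK_of_chkPts ctx X_ver4 (a := 0) (n := 1) (by decide +kernel)

theorem X_st3 : IsStab 64 (gen ns X_l3.ws) (cgrp ns X_C4) X_l3.b X_D3 :=
  isStab_plain ctx X_le3 X_lv3 (by norm_num) X_pt3_0

theorem X_ver3 : Ver ns X_C3 144 :=
  X_ver4.cons ctx X_st3 (by decide +kernel)

theorem X_le2 : gen ns X_l2.ws ≤ gen ns X_ss2 :=
  gen_le_step ctx (tgt := [[12], [14], [16]])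
  (es := [([12], [1, 1, 2, 0, 2, 1, 1, 1]), ([14], [3, 3, 5, 3, 4, 3, 3]), ([16], [7, 4, 7, 7])]) X_le3 (by decide +kernel)

theorem X_lv2 : chkLvl 64 ns X_l2 X_C3 X_D2 1 = true :=
  by decide +kernel

theorem X_pt2_0 : AllIn (PtOK 64 ns X_l2 X_C3 X_ss2 X_D2) 0 64 :=
  ptOK_of_chkPts ctx X_ver3 (a := 0) (n := 1) (by decide +kernel)

theorem X_st2 : IsStab 64 (gen ns X_l2.ws) (cgrp ns X_C3) X_l2.b X_D2 :=
  isStab_plain ctx X_le2 X_lv2 (by norm_num) X_pt2_0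

theorem X_ver2 : Ver ns X_C2 1440 :=
  X_ver3.cons ctx X_st2 (by decide +kernel)

theorem X_le1 : gen ns X_l1.ws ≤ gen ns X_ss1 :=
  gen_le_step ctx (tgt := [[8], [10]])
  (es := [([8], [0, 3, 1, 3, 3]), ([10], [3, 4, 3, 3, 4, 2, 2])]) X_le2 (by decide +kernel)

theorem X_lv1 : chkLvl 64 ns X_l1 X_C2 X_D1 1 = true :=
  by decide +kernel

theorem X_pt1_0 : AllIn (PtOK 64 ns X_l1 X_C2 X_ss1 X_D1) 0 64 :=
  ptOK_of_chkPts ctx X_ver2 (a := 0) (n := 1) (by decide +kernel)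

theorem X_st1 : IsStab 64 (gen ns X_l1.ws) (cgrp ns X_C2) X_l1.b X_D1 :=
  isStab_plain ctx X_le1 X_lv1 (by norm_num) X_pt1_0

theorem X_ver1 : Ver ns X_C1 15840 :=
  X_ver2.cons ctx X_st1 (by decide +kernel)

theorem X_le0 : gen ns X_l0.ws ≤ gen ns X_ss0 :=
  gen_le_step ctx (tgt := [[4], [6]])
  (es := [([4], [1, 3]), ([6], [5, 3, 4, 4, 3, 4, 2, 4, 3, 5])]) X_le1 (by decide +kernel)

theorem X_lv0 : chkLvl 64 ns X_l0 X_C1 X_D0 1 = true :=
  by decide +kernel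

theorem X_pt0_0 : AllIn (PtOK 64 ns X_l0 X_C1 X_ss0 X_D0) 0 64 :=
  ptOK_of_chkPts ctx X_ver1 (a := 0) (n := 1) (by decide +kernel)

theorem X_st0 : IsStab 64 (gen ns X_l0.ws) (cgrp ns X_C1) X_l0.b X_D0 :=
  isStab_plain ctx X_le0 X_lv0 (by norm_num) X_pt0_0

theorem X_ver0 : Ver ns X_C0 190080 :=
  X_ver1.cons ctx X_st0 (by decide +kernel)

theorem X_eq : gen ns X_ss0 = cgrp ns X_C0 :=
  le_antisymm (gen_le_of_subsetL _ (by decide +kernel)) X_le0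

theorem X_card : Nat.card (gen ns X_ss0) = 190080 :=
  by rw [X_eq]; exact X_ver0.card

noncomputable def ps : List (List ℕ × List ℕ) :=
  [([0], [0]), ([2], [2])]

theorem chk : chkCover 64 6 ns 32 5 ModelM12.ns 24 ps [1, 0, 2, 3, 4] [1, 0, 2, 3, 4, 24] [([24], [0, 3, 0], [3, 0, 3, 0, 2], 6)] = true :=
  by decide +kernel

theorem hb : StabIn 64 (cgrp ns X_C0) (gen ns [[24]]) [1, 0, 2, 3, 4] :=
  (stabIn_cons X_st0 (stabIn_cons X_st1 (stabIn_cons X_st2 (stabIn_cons X_st3 (stabIn_cons X_st4 (stabIn_nil _ _))))))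

theorem hb' : IsBase 64 (cgrp ns X_C0) [1, 0, 2, 3, 4, 24] :=
  StabIn.isBase (stabIn_cons X_st0 (stabIn_cons X_st1 (stabIn_cons X_st2 (stabIn_cons X_st3 (stabIn_cons X_st4 (stabIn_cons X_st5 (stabIn_nil _ _)))))))

theorem onto : MultOnto (gen ModelM12.ns [[0], [2]]) (Multiplicative (ZMod 2)) :=
  multOnto_cover ctx ModelM12.ctx (ps := ps) chk
    (((X_ver0.nested X_l5 (by simp [X_C0, X_C1, X_C2, X_C3, X_C4, X_C5])).trans X_eq.ge :))
    (X_eq ▸ hb :) (X_eq ▸ hb' :) X_ver5.card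

end Cfsg.Agent.Spor.CovM12
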