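import Cfsg.Agent.KSG.MultH
import Cfsg.Agent.Spor.ModelM12

set_option autoImplicit false
set_option maxRecDepth 4096

namespace Cfsg.Agent.Spor.MultM12

open Cfsg Cfsg.Agent.Comp Cfsg.Agent.KSG.Pc

noncomputable def ns_2 : Net :=
 (Net.cons (nat_lit 16) 51844
 (Net.cons (nat_lit 8) (nat_lit 0x4a00a1)
 (Net.cons (nat_lit 4) (nat_lit 0x80d0500)
 (Net.cons (nat_lit 2) (nat_lit 0x2302010)
 (Net.cons (nat_lit 1) (nat_lit 0x154014)
 (Net.cons (nat_lit 2) 2
 (Net.cons (nat_lit 4) 918528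
 (Net.cons (nat_lit 8) 655520
 (Net.cons (nat_lit 16) 51844
 Net.nil)))))))))

noncomputable def ns_3 : Net :=
 (Net.cons (nat_lit 16) 12638
 (Net.cons (nat_lit 8) (nat_lit 0x330058)
 (Net.cons (nat_lit 4) 134154
 (Net.cons (nat_lit 2) (nat_lit 0x101022)
 (Net.cons (nat_lit 1) (nat_lit 0x1014040)
 (Net.cons (nat_lit 2) 131072
 (Net.cons (nat_lit 4) 396288
 (Net.cons (nat_lit 8) (nat_lit 0x2200d0)
 (Net.cons (nat_lit 16) 12762
 Net.nil)))))))))

noncomputable def ns_4 : Net :=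
 (Net.cons (nat_lit 16) 19944
 (Net.cons (nat_lit 8) (nat_lit 0xc10080)
 (Net.cons (nat_lit 4) (nat_lit 0xc0e0204)
 (Net.cons (nat_lit 2) (nat_lit 0x320002)
 (Net.cons (nat_lit 1) (nat_lit 0x40141014)
 (Net.cons (nat_lit 2) (nat_lit 0x220002)
 (Net.cons (nat_lit 4) 786438
 (Net.cons (nat_lit 8) (nat_lit 0xc40000)
 (Net.cons (nat_lit 16) 19900
 Net.nil)))))))))

noncomputable def ns_5 : Net :=
 (Net.cons (nat_lit 16) 26856
 (Net.cons (nat_lit 8) (nat_lit 0xb20016)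
 (Net.cons (nat_lit 4) (nat_lit 0x20a0500)
 (Net.cons (nat_lit 2) (nat_lit 0x12031020)
 (Net.cons (nat_lit 1) (nat_lit 0x50440104)
 (Net.cons (nat_lit 2) 131072
 (Net.cons (nat_lit 4) 918536
 (Net.cons (nat_lit 8) (nat_lit 0xb20014)
 (Net.cons (nat_lit 16) 26696
 Net.nil)))))))))

noncomputable def ns_6 : Net :=
 (Net.cons (nat_lit 16) 52228
 (Net.cons (nat_lit 8) (nat_lit 0xf4005c)
 (Net.cons (nat_lit 4) (nat_lit 0xe040800)
 (Net.cons (nat_lit 2) (nat_lit 0x20020120)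
 (Net.cons (nat_lit 1) (nat_lit 0x14405000)
 (Net.cons (nat_lit 2) (nat_lit 0x22000000)
 (Net.cons (nat_lit 4) (nat_lit 0xe0c0e00)
 (Net.cons (nat_lit 8) (nat_lit 0xb4004c)
 (Net.cons (nat_lit 16) 52228
 Net.nil)))))))))

noncomputable def ns_7 : Net :=
 (Net.cons (nat_lit 16) 40476
 (Net.cons (nat_lit 8) (nat_lit 0x3c0044)
 (Net.cons (nat_lit 4) (nat_lit 0x20d0600)
 (Net.cons (nat_lit 2) (nat_lit 0x2020130)
 (Net.cons (nat_lit 1) (nat_lit 0x10400140)
 (Net.cons (nat_lit 2) (nat_lit 0x20000020)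
 (Net.cons (nat_lit 4) (nat_lit 0x8040200)
 (Net.cons (nat_lit 8) (nat_lit 0x2c0044)
 (Net.cons (nat_lit 16) 40632
 Net.nil)))))))))

noncomputable def ns_8 : Net :=
 (Net.cons (nat_lit 16) 21354
 (Net.cons (nat_lit 8) (nat_lit 0x360028)
 (Net.cons (nat_lit 4) 591880
 (Net.cons (nat_lit 2) (nat_lit 0x31302010)
 (Net.cons (nat_lit 1) (nat_lit 0x40110014)
 (Net.cons (nat_lit 2) (nat_lit 0x20200022)
 (Net.cons (nat_lit 4) 526350
 (Net.cons (nat_lit 8) (nat_lit 0x360028)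
 (Net.cons (nat_lit 16) 21454
 Net.nil)))))))))

noncomputable def ns_9 : Net :=
 (Net.cons (nat_lit 16) 30088
 (Net.cons (nat_lit 8) (nat_lit 0xb30088)
 (Net.cons (nat_lit 4) (nat_lit 0xc070008)
 (Net.cons (nat_lit 2) (nat_lit 0x12000030)
 (Net.cons (nat_lit 1) (nat_lit 0x4050040)
 (Net.cons (nat_lit 4) (nat_lit 0xe020008)
 (Net.cons (nat_lit 8) (nat_lit 0xb20000)
 (Net.cons (nat_lit 16) 30144
 Net.nil))))))))

noncomputable def ns_10 : Net :=
 (Net.cons (nat_lit 16) 52228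
 (Net.cons (nat_lit 8) (nat_lit 0xb4004c)
 (Net.cons (nat_lit 4) (nat_lit 0xe0c0e00)
 (Net.cons (nat_lit 2) (nat_lit 0x22020120)
 (Net.cons (nat_lit 1) (nat_lit 0x14405000)
 (Net.cons (nat_lit 2) (nat_lit 0x20000000)
 (Net.cons (nat_lit 4) (nat_lit 0xe040800)
 (Net.cons (nat_lit 8) (nat_lit 0xf4005c)
 (Net.cons (nat_lit 16) 52228
 Net.nil)))))))))

noncomputable def ns_11 : Net :=
 (Net.cons (nat_lit 16) 46512
 (Net.cons (nat_lit 8) (nat_lit 0x2c0048)
 (Net.cons (nat_lit 4) (nat_lit 0x1090400)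
 (Net.cons (nat_lit 2) (nat_lit 0x21000010)
 (Net.cons (nat_lit 1) (nat_lit 0x140410)
 (Net.cons (nat_lit 2) 131584
 (Net.cons (nat_lit 4) (nat_lit 0x8080400)
 (Net.cons (nat_lit 8) (nat_lit 0x2c0048)
 (Net.cons (nat_lit 16) 46512
 Net.nil)))))))))

noncomputable def ns_12 : Net :=
 (Net.cons (nat_lit 16) 29560
 (Net.cons (nat_lit 8) (nat_lit 0xc300c0)
 (Net.cons (nat_lit 4) (nat_lit 0x2030402)
 (Net.cons (nat_lit 2) (nat_lit 0x30130022)
 (Net.cons (nat_lit 1) (nat_lit 0x1140410)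
 (Net.cons (nat_lit 2) 131104
 (Net.cons (nat_lit 4) (nat_lit 0x204080a)
 (Net.cons (nat_lit 8) (nat_lit 0xd200c0)
 (Net.cons (nat_lit 16) 29560
 Net.nil)))))))))

noncomputable def ns_13 : Net :=
 (Net.cons (nat_lit 16) 29560
 (Net.cons (nat_lit 8) 184
 (Net.cons (nat_lit 4) (nat_lit 0x4040400)
 (Net.cons (nat_lit 2) (nat_lit 0x1333000)
 (Net.cons (nat_lit 1) (nat_lit 0x11041040)
 (Net.cons (nat_lit 2) 131072
 (Net.cons (nat_lit 4) (nat_lit 0x4040408)
 (Net.cons (nat_lit 8) (nat_lit 0x5200b0)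
 (Net.cons (nat_lit 16) 29560
 Net.nil)))))))))

noncomputable def ns_14 : Net :=
 (Net.cons (nat_lit 16) 43264
 (Net.cons (nat_lit 8) (nat_lit 0xf100d0)
 (Net.cons (nat_lit 4) (nat_lit 0x80c0400)
 (Net.cons (nat_lit 2) (nat_lit 0x200200)
 (Net.cons (nat_lit 1) (nat_lit 0x50404400)
 (Net.cons (nat_lit 2) (nat_lit 0x200200)
 (Net.cons (nat_lit 4) (nat_lit 0x8040400)
 (Net.cons (nat_lit 8) (nat_lit 0xf000c0)
 (Net.cons (nat_lit 16) 43264
 Net.nil)))))))))

noncomputable def ns : List Net := [ModelM12.ns_0, ModelM12.ns_1, ns_2, ns_3, ns_4, ns_5, ns_6, ns_7, ns_8, ns_9, ns_10, ns_11, ns_12, ns_13, ns_14]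

theorem ctx : Ctx 32 5 ns := ctx_of (by decide +kernel)

theorem lctx : LCtx 32 5 8 31 trN5 ns := lctx_of ctx trOK5 (by decide +kernel)

noncomputable def E : List ℕ → ℕ → ℕ := pfW0 32 5 8 31 trN5 ns

theorem hE : Evl 32 ns E := evl_pfW0 lctx

theorem geq : gen ModelM12.ns ModelM12.G_ss0 = gen ns [[0], [2]] :=
  gen_eq_of_take (ns := ModelM12.ns) (ns' := ns) (k := 2) rfl (ws := ModelM12.G_ss0) (by decide +kernel)

theorem hn : Nat.card (gen ns [[0], [2]]) = 95040 :=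
  geq ▸ ModelM12.G_card

theorem kn_0 : Known ns (gen ns [[0], [2]]) 3 :=
  known_gen (by decide +kernel)

noncomputable def A_S6 : List SD :=
  []

noncomputable def A_d5 : SD :=
  ⟨4, 1, [28], lab 1 1 0, 1⟩

noncomputable def A_S5 : List SD :=
  A_d5 :: A_S6

noncomputable def A_d4 : SD :=
  ⟨5, 1, [24, 26, 28], lab 3 7 (nat_lit 0x400010000000000000), 2⟩

noncomputable def A_S4 : List SD :=
  A_d4 :: A_S5

noncomputable def A_d3 : SD :=
  ⟨3, 1, [18, 20, 22, 24, 26, 28], lab 4 15 (nat_lit 0x1050043004203000000), 2⟩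

noncomputable def A_S3 : List SD :=
  A_d3 :: A_S4

noncomputable def A_d2 : SD :=
  ⟨2, 1, [12, 14, 16, 18, 20, 22, 24, 26, 28], lab 5 31 (nat_lit 0xc06000a7001c20040400000), 2⟩

noncomputable def A_S2 : List SD :=
  A_d2 :: A_S3

noncomputable def A_d1 : SD :=
  ⟨1, 1, [6, 8, 10, 12, 14, 16, 18, 20, 22, 24, 26, 28], lab 5 31 (nat_lit 0x1000000080008100c0209400), 2⟩

noncomputable def A_S1 : List SD :=
  A_d1 :: A_S2

noncomputable def A_d0 : SD :=
  ⟨0, 1, [0, 2, 4, 6, 8, 10, 12, 14, 16, 18, 20, 22, 24, 26, 28], lab 5 31 (nat_lit 0x3008001c5000620340a3acc0), 2⟩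

noncomputable def A_S0 : List SD :=
  A_d0 :: A_S1

theorem kn_1 : Known ns (gen ns [[0], [2]]) 32767 :=
  kn_0.steps ctx (es := [(2, [0, 2, 0]),
 (3, [2, 5, 3, 3, 5, 3, 1, 3, 0, 3]),
 (4, [2, 2, 4]),
 (5, [7, 8, 7, 7, 9]),
 (6, [7, 11, 6, 10, 8]),
 (7, [6, 11, 6, 11]),
 (8, [15, 13, 15, 13, 15, 15]),
 (9, [15, 12, 17, 14, 16, 15]),
 (10, [13]),
 (11, [21, 19, 21, 19, 19, 19]),
 (12, [19, 22, 22, 20, 23, 23]),
 (13, [19, 19, 19, 21, 18, 20, 20, 20, 18]),
 (14, [25, 25, 25, 25, 25, 25])]) (by decide +kernel)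

theorem A_ex : Exact 32 ns A_S0 ∧ gen ns (sTop A_S0) = gen ns [[0], [2]] ∧ gen ns [[0], [2]] = gen ns [[0], [2]] :=
  exact_of_known ctx hn (le_rfl) kn_1 (by decide +kernel)

theorem hbase : IsBase 32 (gen ns [[0], [2]]) [0, 1, 2, 3, 5, 4] :=
  isBase_of_exact A_ex (by decide +kernel)

noncomputable def m2_P : Pd :=
  ⟨5, 2, 1, nat_lit 0x800000000810800000830a00000810a2c000810a04480,
  nat_lit 0xffffffffffffffffffffffff000000000000000000000000000000000000000000000000ffffffffffffffffffffffff000000000000000000000000000000000000ffffffffffff000000000000ffffffffffff, 35, 4, 45,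
  nat_lit 0x50000000000000000000000000000000400000000000000030000000200010000⟩

noncomputable def m2_aws : List (List ℕ) :=
  [[26, 14, 22, 18, 24, 28], [7, 12, 15, 18, 24], [10, 3, 14, 6, 19, 14, 20, 19, 26, 24, 28], [8, 2, 9, 12, 15, 21, 26, 28], [8, 26, 14, 21, 18, 24, 28], [12, 2, 7, 12, 15, 26, 24, 28], [6, 2, 8, 18, 26, 28], [2, 6, 6, 19, 14, 23, 18, 24]]

theorem m2_mem : ∀ u ∈ m2_aws, wp ns u ∈ gen ns [[0], [2]] :=
  kn_1.words (by decide +kernel)

noncomputable def m2_prs : Prs :=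
  [(6, 1, 16), (7, 16, 32), (7, 1, 34), (7, 32, 48), (6, 16, 49), (6, 4, 57), (7, 2, 42), (6, 8, 28), (6, 32, 32)]

noncomputable def m2_rels : List Rel :=
  [.fus 6 [0, 0] [] [3, 7169, 9218],
  .fus 7 [1, 1] [] [7171, 8961, 9474],
  .con 8 3 3 [5889],
  .con 16 3 4 [5634],
  .fus 7 [2, 2] [] [3, 1793, 2817, 8961, 9730],
  .fus 7 [3, 3] [] [7169, 7425, 9986],
  .fus 6 [4, 4] [] [1, 1025, 1281, 7425, 8961, 10242],
  .con 16 3 3 [5634, 7425],
  .con 2 0 1 [258, 2563, 7171],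
  .con 16 2 4 [4098, 7427, 8963],
  .fus 7 [1, 2] [2, 1] [1027, 2817],
  .con 2 0 0 [258, 1025, 7169],
  .con 8 1 1 [2306, 2817, 8961],
  .con 16 0 2 [1281],
  .con 8 2 2 [3842, 4353, 8961],
  .con 16 2 2 [4098, 4353, 8961],
  .fus 6 [5, 0] [0, 5] [515, 1027, 5635, 7425],
  .fus 7 [6, 6] [] [2305, 2817, 5377, 8962, 10754],
  .con 4 1 2 [2050, 3843, 4355, 5379, 8962],
  .fus 6 [5, 5] [] [1, 769, 1025, 1281, 3587, 5377, 5633, 7169, 7427, 8962, 10498],
  .con 4 1 1 [2050, 2305, 2817, 5377, 5889, 8962],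
  .fus 6 [7, 7] [8] [3585, 3841, 4097, 5633, 7169, 7427, 8961, 11010, 11267],
  .con 16 1 2 [2817, 5635, 5891, 7425],
  .fus 6 [7, 0] [0, 7, 8] [771, 4099, 5635, 5891, 7427, 8963, 11267],
  .fus 7 [6, 2] [2, 6, 1] [259, 2305, 5891, 9475],
  .con 4 0 1 [769, 1281, 4097, 5633, 5889, 7427, 8961]]

noncomputable def m2_ys : List (List ℕ) :=
  [[10499, 10755, 11011],
  [9731, 10243],
  [9987, 11011],
  [2049, 5377, 10754],
  [5377, 9473, 9986, 10754],
  [5377, 10242, 10498, 11010]]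

noncomputable def m2_ss : List (List ℕ × ℕ × ℕ) :=
  [([4097, 5377, 10754], 2, (nat_lit 0x2000001010000000002000200000002000000))]

noncomputable def m2_cs : List (List ℕ) :=
  [[(nat_lit 0x20001030301030303000300010000010100010200000301000200)],
  [(nat_lit 0x100000000000001000000000300000000010003000301030000), (nat_lit 0x30000010000010102030300000200)],
  [(nat_lit 0x30000000000010000020000010000020200000203020200), (nat_lit 0x20001030301030301000300020300000100020100000201020000), (nat_lit 0x10003010103020103000100010300020300000001000000020201)],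
  [(nat_lit 0x10003000103010101000100030000000300000302000003000001), (nat_lit 0x20001030301030102000203020200000200010102000301000000), (nat_lit 0x20001030300030002000000020300000000010100000302020000), (nat_lit 0x20001030300030302000300020300000100020100000202020000)],
  [(nat_lit 0x202000101000100010300030000000100000000), (nat_lit 0x202000101020103010301030202000100020200), (nat_lit 0x20001030301030101000203020300000100000102000001000001), (nat_lit 0x10000000202000101000100000300020000000201000000), (nat_lit 0x200000101000000000300030000000100010000)],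
  [(nat_lit 0x30000000000000000000000000000), (nat_lit 0x202000101000100000300030000000100000000), (nat_lit 0x300000000000100030002000100020000), (nat_lit 0x3000000), (nat_lit 0x30000000100000000), (nat_lit 0x200000101000000000300030000000100000000)]]

noncomputable def m2_B : List (ℕ × ℕ × List (List ℕ)) :=
  [(0, 1, [[5], [3], [2], [0], [1], [4]]),
  (1, 1, [[4], [1], [0]]),
  (2, 1, [[0]])]

theorem m2_row0 : AllIn (fun j => m2_P.chkRow (eqB (Comp.evL E) [0, 1, 2, 3, 5, 4] m2_aws) j = true) 0 6 :=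
  allIn_of_allFrom (a := 0) (n := 6) (by decide +kernel)

theorem m2_pr0 : AllIn (fun j => m2_P.chkPr (eqB (Comp.evL E) [0, 1, 2, 3, 5, 4] m2_aws) (m2_prs.get j) = true) 0 9 :=
  allIn_of_allFrom (a := 0) (n := 9) (by decide +kernel)

theorem m2_rel0 : AllIn (fun k => m2_P.chkRel m2_prs (getL (Rel.con 0 0 0 []) m2_rels k) = true) 0 26 :=
  allIn_of_allFrom (a := 0) (n := 26) (by decide +kernel)

theorem m2_lin : m2_P.chkLin 1 m2_rels m2_ys m2_ss m2_cs = true :=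
  by decide +kernel

theorem m2_bound : MultBound 2 1 (gen ns [[0], [2]]) :=
  multBound_net ctx m2_mem hn (P := m2_P) (B := m2_B) (by norm_num [m2_P])
    (GOK.of_rows (eSound_eqB (evl_evL ctx.ok hE) hbase m2_mem) m2_row0 m2_pr0 (by decide +kernel))
    (rels_of_allIn m2_rel0 (by decide +kernel)) m2_lin (by decide +kernel) (by decide +kernel)

noncomputable def m3_P : Pd :=
  ⟨2, 3, 2, nat_lit 0x400010900,
  nat_lit 0xffffffffffff, 23, 3, 12,
  nat_lit 0x20000000000000000000000000000000200000000000000010000000100000000⟩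

noncomputable def m3_aws : List (List ℕ) :=
  [[26, 14, 22, 26], [13, 2, 6, 6, 15, 18, 26, 28], [6, 2, 7, 7, 18, 14, 21, 18], [10, 3, 7, 7, 14, 22, 18, 24]]

theorem m3_mem : ∀ u ∈ m3_aws, wp ns u ∈ gen ns [[0], [2]] :=
  kn_1.words (by decide +kernel)

noncomputable def m3_prs : Prs :=
  [(3, 1, 34), (3, 4, 40), (3, 16, 16)]

noncomputable def m3_rels : List Rel :=
  [.fus 3 [0, 0, 0] [] [1, 2050],
  .fus 3 [1, 1, 1] [] [1025, 2050],
  .fus 3 [2, 0] [0, 2] [513],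
  .fus 3 [2, 1] [1, 2] [1281],
  .con 8 0 1 [2049]]

noncomputable def m3_ys : List (List ℕ) :=
  [[],
  [],
  [258]]

noncomputable def m3_ss : List (List ℕ × ℕ × ℕ) :=
  []

noncomputable def m3_cs : List (List ℕ) :=
  [[(nat_lit 0x200000002)],
  [0, (nat_lit 0x200000200)],
  [131072, (nat_lit 0x2000000), (nat_lit 0x200000000)]]

noncomputable def m3_B : List (ℕ × ℕ × List (List ℕ)) :=
  [(0, 1, [[2], [2], [1], [1], [0]]),
  (2, 1, [[0], [0]])]

theorem m3_row0 : AllIn (fun j => m3_P.chkRow (eqB (Comp.evL E) [0, 1, 2, 3, 5, 4] m3_aws) j = true) 0 3 :=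
  allIn_of_allFrom (a := 0) (n := 3) (by decide +kernel)

theorem m3_pr0 : AllIn (fun j => m3_P.chkPr (eqB (Comp.evL E) [0, 1, 2, 3, 5, 4] m3_aws) (m3_prs.get j) = true) 0 3 :=
  allIn_of_allFrom (a := 0) (n := 3) (by decide +kernel)

theorem m3_rel0 : AllIn (fun k => m3_P.chkRel m3_prs (getL (Rel.con 0 0 0 []) m3_rels k) = true) 0 5 :=
  allIn_of_allFrom (a := 0) (n := 5) (by decide +kernel)

theorem m3_lin : m3_P.chkLin 0 m3_rels m3_ys m3_ss m3_cs = true :=
  by decide +kernel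

theorem m3_bound : MultBound 3 0 (gen ns [[0], [2]]) :=
  multBound_net ctx m3_mem hn (P := m3_P) (B := m3_B) (by norm_num [m3_P])
    (GOK.of_rows (eSound_eqB (evl_evL ctx.ok hE) hbase m3_mem) m3_row0 m3_pr0 (by decide +kernel))
    (rels_of_allIn m3_rel0 (by decide +kernel)) m3_lin (by decide +kernel) (by decide +kernel)

theorem bounds : ∀ x ∈ ([(2, 1), (3, 0)] : List (ℕ × ℕ)), MultBound x.1 x.2 (gen ns [[0], [2]]) :=
  List.forall_mem_cons.2 ⟨m2_bound, List.forall_mem_cons.2 ⟨m3_bound, fun _ h => absurd h List.not_mem_nil⟩⟩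

theorem mult_of : ∀ {A : Type} [CommGroup A], Nat.card A = 2 → MultOnto (gen ModelM12.ns ModelM12.G_ss0) A →
    HasSchurMultiplier (gen ModelM12.ns ModelM12.G_ss0) A :=
  fun ha h => hasMult_of_list ModelM12.G_card ha (geq ▸ bounds) (by decide +kernel) h

end Cfsg.Agent.Spor.MultM12
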