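import Cfsg.Agent.KSG.MultCov
import Cfsg.Agent.Spor.J3Main

/-! The centre of `threeJ3` lies in the commutator subgroup. -/

set_option autoImplicit false

namespace Cfsg.Agent.Spor.J3c

open Cfsg Cfsg.Spor Cfsg.Agent.KSG.Pc Cfsg.Agent.Comp.SS Cfsg.Agent.Comp.Kron
open scoped commutatorElement

theorem multOnto_J3 {F : Type} [Field F] {ω : F} (h4 : F4 F ω) :
    MultOnto (J3 F ω) (Multiplicative (ZMod 3)) := by
  have h45 := real_of_codesB (rz_o h4) (opIn_DP h4) c_l45
  have hne : l45 ≠ [] := by unfold l45; exact List.cons_ne_nil _ _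
  obtain ⟨a, ha, ha'⟩ := h45 _ (pick_mem hne 3)
  obtain ⟨d, hd, hd'⟩ := h45 _ (pick_mem hne 21)
  rw [rz_gen_iff h4 (by norm_num) (by norm_num) (by norm_num)] at ha' hd'
  have ea : (a : Matrix F9 F9 F) = j3A F ω (1, 0) := ha'
  have ed : (d : Matrix F9 F9 F) = j3D F ω (1, 0) := hd'
  have e : z h4 = ⁅a, d⁆ := by
    rw [commutatorElement_def, eq_mul_inv_iff_mul_eq, eq_mul_inv_iff_mul_eq]
    refine Units.ext ?_
    simp only [Units.val_mul, ea, ed]
    change Matrix.scalar F9 ω * _ * _ = _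
    ext w t
    rw [j3A, Matrix.mul_diagonal, Matrix.diagonal_mul, Matrix.scalar_apply, Matrix.diagonal_mul,
      j3D, Matrix.of_apply]
    split_ifs with h
    · have : ∀ s : ZMod 3, omegaPow F ω (s + 1) = ω * omegaPow F ω s := by
        intro s
        fin_cases s
        · change ω ^ 1 = ω * ω ^ 0; ring
        · change ω ^ 2 = ω * ω ^ 1; ring
        · change ω ^ 0 = ω * ω ^ 2; rw [← pow_succ', h4.cube, pow_zero]
      subst h
      simp only [Prod.fst_add, one_mul, zero_mul, add_zero, this]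
      ring
    · simp
  have hz : z h4 ∈ A ω := H_le h4 (z_mem h4)
  unfold J3
  rw [← A_eq h4]
  refine multOnto_center (z := (⟨z h4, hz⟩ : A ω)) Nat.prime_three (fun h => ?_)
    (Subtype.ext (z_cube h4)) ?_ ?_
  · have := card_Z h4
    rw [show z h4 = 1 from congrArg Subtype.val h] at this
    simp at this
  · rw [(center_simple_A h4).1]; exact Subgroup.mem_zpowers _
  · rw [show (⟨z h4, hz⟩ : A ω) = ⁅(⟨a, ha⟩ : A ω), ⟨d, hd⟩⁆ from Subtype.ext e]
    exact Subgroup.commutator_mem_commutator (Subgroup.mem_top _) (Subgroup.mem_top _)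

end Cfsg.Agent.Spor.J3c
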