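import Cfsg.Agent.Fus.SylCert
import Cfsg.Agent.Spor.ModelM24

set_option autoImplicit false
set_option maxRecDepth 4096

namespace Cfsg.Agent.Spor.Syl2M24

open Cfsg.Agent.Comp

noncomputable def ns_2 : Net :=
 (Net.cons (nat_lit 16) 38300
 (Net.cons (nat_lit 8) (nat_lit 0x3c00f0)
 (Net.cons (nat_lit 4) (nat_lit 0xe0e0e00)
 (Net.cons (nat_lit 2) (nat_lit 0x10022023)
 (Net.cons (nat_lit 1) (nat_lit 0x1111445)
 (Net.cons (nat_lit 2) 139296
 (Net.cons (nat_lit 4) (nat_lit 0x60a0c00)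
 (Net.cons (nat_lit 8) (nat_lit 0x3c00f0)
 (Net.cons (nat_lit 16) 38300
 Net.nil)))))))))

noncomputable def ns_3 : Net :=
 (Net.cons (nat_lit 16) 648
 (Net.cons (nat_lit 8) (nat_lit 0x28004c)
 (Net.cons (nat_lit 4) (nat_lit 0x202040d)
 (Net.cons (nat_lit 2) (nat_lit 0x2200021)
 (Net.cons (nat_lit 1) (nat_lit 0x100454)
 (Net.cons (nat_lit 4) 131072
 (Net.cons (nat_lit 8) (nat_lit 0x2800dc)
 (Net.cons (nat_lit 16) 648
 Net.nil))))))))

noncomputable def ns_4 : Net :=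
 (Net.cons (nat_lit 16) 1104
 (Net.cons (nat_lit 8) 53
 (Net.cons (nat_lit 4) 394760
 (Net.cons (nat_lit 2) (nat_lit 0x200030)
 (Net.cons (nat_lit 1) (nat_lit 0x410550)
 (Net.cons (nat_lit 2) (nat_lit 0x220000)
 (Net.cons (nat_lit 4) 393736
 (Net.cons (nat_lit 8) 262180
 (Net.cons (nat_lit 16) 1040
 Net.nil)))))))))

noncomputable def ns_5 : Net :=
 (Net.cons (nat_lit 16) 34382
 (Net.cons (nat_lit 8) (nat_lit 0x760069)
 (Net.cons (nat_lit 4) 264194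
 (Net.cons (nat_lit 2) (nat_lit 0x10000032)
 (Net.cons (nat_lit 1) (nat_lit 0x10414014)
 (Net.cons (nat_lit 2) 139266
 (Net.cons (nat_lit 4) (nat_lit 0x4040804)
 (Net.cons (nat_lit 8) (nat_lit 0xf20010)
 (Net.cons (nat_lit 16) 34306
 Net.nil)))))))))

noncomputable def ns_6 : Net :=
 (Net.cons (nat_lit 16) 9296
 (Net.cons (nat_lit 8) (nat_lit 0x440059)
 (Net.cons (nat_lit 4) 395278
 (Net.cons (nat_lit 2) (nat_lit 0x20222000)
 (Net.cons (nat_lit 1) (nat_lit 0x40411041)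
 (Net.cons (nat_lit 2) (nat_lit 0x20202000)
 (Net.cons (nat_lit 4) 395274
 (Net.cons (nat_lit 8) (nat_lit 0x400048)
 (Net.cons (nat_lit 16) 9232
 Net.nil)))))))))

noncomputable def ns_7 : Net :=
 (Net.cons (nat_lit 16) 21928
 (Net.cons (nat_lit 8) (nat_lit 0x100080)
 (Net.cons (nat_lit 4) (nat_lit 0x5070802)
 (Net.cons (nat_lit 2) (nat_lit 0x1130010)
 (Net.cons (nat_lit 1) (nat_lit 0x110045)
 (Net.cons (nat_lit 2) (nat_lit 0x220000)
 (Net.cons (nat_lit 4) 131082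
 (Net.cons (nat_lit 8) (nat_lit 0x100080)
 (Net.cons (nat_lit 16) 21984
 Net.nil)))))))))

noncomputable def ns_8 : Net :=
 (Net.cons (nat_lit 16) 42320
 (Net.cons (nat_lit 8) (nat_lit 0x350030)
 (Net.cons (nat_lit 4) (nat_lit 0x4060000)
 (Net.cons (nat_lit 2) (nat_lit 0x10203001)
 (Net.cons (nat_lit 1) (nat_lit 0x40414004)
 (Net.cons (nat_lit 2) (nat_lit 0x222000)
 (Net.cons (nat_lit 4) (nat_lit 0x40e0004)
 (Net.cons (nat_lit 8) (nat_lit 0x300020)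
 (Net.cons (nat_lit 16) 42288
 Net.nil)))))))))

noncomputable def ns_9 : Net :=
 (Net.cons (nat_lit 16) 46214
 (Net.cons (nat_lit 8) (nat_lit 0x9c0009)
 (Net.cons (nat_lit 4) (nat_lit 0xc0c040c)
 (Net.cons (nat_lit 2) (nat_lit 0x20100130)
 (Net.cons (nat_lit 1) (nat_lit 0x40040411)
 (Net.cons (nat_lit 2) (nat_lit 0x20000000)
 (Net.cons (nat_lit 4) (nat_lit 0x4080404)
 (Net.cons (nat_lit 8) (nat_lit 0x280008)
 (Net.cons (nat_lit 16) 46098
 Net.nil)))))))))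

noncomputable def ns_10 : Net :=
 (Net.cons (nat_lit 16) 18860
 (Net.cons (nat_lit 8) (nat_lit 0xfe00e4)
 (Net.cons (nat_lit 4) (nat_lit 0xc080403)
 (Net.cons (nat_lit 2) (nat_lit 0x10003000)
 (Net.cons (nat_lit 1) (nat_lit 0x1401001)
 (Net.cons (nat_lit 2) (nat_lit 0x2000002)
 (Net.cons (nat_lit 4) (nat_lit 0x208000a)
 (Net.cons (nat_lit 8) (nat_lit 0xbe00d4)
 (Net.cons (nat_lit 16) 18920
 Net.nil)))))))))

noncomputable def ns_11 : Net :=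
 (Net.cons (nat_lit 16) 102
 (Net.cons (nat_lit 8) 80
 (Net.cons (nat_lit 4) 789005
 (Net.cons (nat_lit 2) 4114
 (Net.cons (nat_lit 1) 263237
 (Net.cons (nat_lit 2) 544
 (Net.cons (nat_lit 4) 526848
 (Net.cons (nat_lit 8) 88
 (Net.cons (nat_lit 16) 118
 Net.nil)))))))))

noncomputable def ns_12 : Net :=
 (Net.cons (nat_lit 16) 144
 (Net.cons (nat_lit 8) 41
 (Net.cons (nat_lit 4) 919045
 (Net.cons (nat_lit 2) (nat_lit 0x221221)
 (Net.cons (nat_lit 1) (nat_lit 0x144500)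
 (Net.cons (nat_lit 2) 131072
 (Net.cons (nat_lit 4) 3596
 (Net.cons (nat_lit 8) 16
 (Net.cons (nat_lit 16) 40
 Net.nil)))))))))

noncomputable def ns_13 : Net :=
 (Net.cons (nat_lit 16) 29872
 (Net.cons (nat_lit 8) (nat_lit 0x7800e9)
 (Net.cons (nat_lit 4) (nat_lit 0x4000c09)
 (Net.cons (nat_lit 2) 139552
 (Net.cons (nat_lit 1) (nat_lit 0x4140410)
 (Net.cons (nat_lit 2) 131104
 (Net.cons (nat_lit 4) 263168
 (Net.cons (nat_lit 8) (nat_lit 0x680060)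
 (Net.cons (nat_lit 16) 29872
 Net.nil)))))))))

noncomputable def ns_14 : Net :=
 (Net.cons (nat_lit 16) 61512
 (Net.cons (nat_lit 8) (nat_lit 0xa40001)
 (Net.cons (nat_lit 4) 786441
 (Net.cons (nat_lit 2) (nat_lit 0x30220100)
 (Net.cons (nat_lit 1) (nat_lit 0x10140440)
 (Net.cons (nat_lit 2) (nat_lit 0x20020020)
 (Net.cons (nat_lit 4) (nat_lit 0x4040008)
 (Net.cons (nat_lit 8) (nat_lit 0x540000)
 (Net.cons (nat_lit 16) 61568
 Net.nil)))))))))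

noncomputable def ns_15 : Net :=
 (Net.cons (nat_lit 16) 2304
 (Net.cons (nat_lit 8) (nat_lit 0xc800e0)
 (Net.cons (nat_lit 4) (nat_lit 0xc040c02)
 (Net.cons (nat_lit 2) (nat_lit 0x1122022)
 (Net.cons (nat_lit 1) 17424
 (Net.cons (nat_lit 2) 8224
 (Net.cons (nat_lit 4) (nat_lit 0x4040c02)
 (Net.cons (nat_lit 8) (nat_lit 0xc800e0)
 (Net.cons (nat_lit 16) 2304
 Net.nil)))))))))

noncomputable def ns_16 : Net :=
 (Net.cons (nat_lit 16) 34296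
 (Net.cons (nat_lit 8) (nat_lit 0xf40068)
 (Net.cons (nat_lit 4) (nat_lit 0x508080d)
 (Net.cons (nat_lit 2) (nat_lit 0x31022021)
 (Net.cons (nat_lit 1) (nat_lit 0x40004010)
 (Net.cons (nat_lit 2) (nat_lit 0x20000000)
 (Net.cons (nat_lit 4) 526348
 (Net.cons (nat_lit 8) (nat_lit 0x700000)
 (Net.cons (nat_lit 16) 34288
 Net.nil)))))))))

noncomputable def ns_17 : Net :=
 (Net.cons (nat_lit 16) 10548
 (Net.cons (nat_lit 8) (nat_lit 0xb80044)
 (Net.cons (nat_lit 4) (nat_lit 0x9060807)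
 (Net.cons (nat_lit 2) (nat_lit 0x22020031)
 (Net.cons (nat_lit 1) (nat_lit 0x11040411)
 (Net.cons (nat_lit 2) (nat_lit 0x2020020)
 (Net.cons (nat_lit 4) 264202
 (Net.cons (nat_lit 8) (nat_lit 0xb000c0)
 (Net.cons (nat_lit 16) 10548
 Net.nil)))))))))

noncomputable def ns_18 : Net :=
 (Net.cons (nat_lit 16) 36144
 (Net.cons (nat_lit 8) (nat_lit 0xc800e0)
 (Net.cons (nat_lit 4) (nat_lit 0x8000005)
 (Net.cons (nat_lit 2) (nat_lit 0x3222001)
 (Net.cons (nat_lit 1) (nat_lit 0x1144014)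
 (Net.cons (nat_lit 2) (nat_lit 0x2200000)
 (Net.cons (nat_lit 4) (nat_lit 0x4000004)
 (Net.cons (nat_lit 8) (nat_lit 0x440080)
 (Net.cons (nat_lit 16) 36328
 Net.nil)))))))))

noncomputable def ns_19 : Net :=
 (Net.cons (nat_lit 16) 132
 (Net.cons (nat_lit 8) 242
 (Net.cons (nat_lit 4) 524804
 (Net.cons (nat_lit 2) 196608
 (Net.cons (nat_lit 1) 332816
 (Net.cons (nat_lit 4) 524290
 (Net.cons (nat_lit 8) 64
 (Net.cons (nat_lit 16) 132
 Net.nil))))))))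

noncomputable def ns_20 : Net :=
 (Net.cons (nat_lit 16) 23690
 (Net.cons (nat_lit 8) (nat_lit 0x5c0036)
 (Net.cons (nat_lit 4) 459268
 (Net.cons (nat_lit 2) (nat_lit 0x202221)
 (Net.cons (nat_lit 1) (nat_lit 0x141400)
 (Net.cons (nat_lit 2) 8704
 (Net.cons (nat_lit 4) 131076
 (Net.cons (nat_lit 8) (nat_lit 0x5800b4)
 (Net.cons (nat_lit 16) 23682
 Net.nil)))))))))

noncomputable def ns_21 : Net :=
 (Net.cons (nat_lit 16) 588
 (Net.cons (nat_lit 8) 20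
 (Net.cons (nat_lit 4) 524801
 (Net.cons (nat_lit 2) 70147
 (Net.cons (nat_lit 1) (nat_lit 0x544411)
 (Net.cons (nat_lit 2) 131618
 (Net.cons (nat_lit 4) 526856
 (Net.cons (nat_lit 8) 131216
 (Net.cons (nat_lit 16) 706
 Net.nil)))))))))

noncomputable def ns_22 : Net :=
 (Net.cons (nat_lit 16) 5432
 (Net.cons (nat_lit 8) (nat_lit 0x4400b2)
 (Net.cons (nat_lit 4) (nat_lit 0x50a0c0c)
 (Net.cons (nat_lit 2) (nat_lit 0x11030223)
 (Net.cons (nat_lit 1) (nat_lit 0x101440)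
 (Net.cons (nat_lit 2) 544
 (Net.cons (nat_lit 4) 656396
 (Net.cons (nat_lit 8) (nat_lit 0x4400b2)
 (Net.cons (nat_lit 16) 5424
 Net.nil)))))))))

noncomputable def ns_23 : Net :=
 (Net.cons (nat_lit 16) 11476
 (Net.cons (nat_lit 8) (nat_lit 0x6c00a4)
 (Net.cons (nat_lit 4) (nat_lit 0x8010402)
 (Net.cons (nat_lit 2) (nat_lit 0x203222)
 (Net.cons (nat_lit 1) (nat_lit 0x40145401)
 (Net.cons (nat_lit 2) 131586
 (Net.cons (nat_lit 4) (nat_lit 0x8000002)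
 (Net.cons (nat_lit 8) (nat_lit 0x680024)
 (Net.cons (nat_lit 16) 11476
 Net.nil)))))))))

noncomputable def ns_24 : Net :=
 (Net.cons (nat_lit 16) 15072
 (Net.cons (nat_lit 8) (nat_lit 0x6c0040)
 (Net.cons (nat_lit 4) (nat_lit 0x6000401)
 (Net.cons (nat_lit 2) (nat_lit 0x10200113)
 (Net.cons (nat_lit 1) (nat_lit 0x14014041)
 (Net.cons (nat_lit 2) 2
 (Net.cons (nat_lit 4) (nat_lit 0x4080408)
 (Net.cons (nat_lit 8) (nat_lit 0x4e0044)
 (Net.cons (nat_lit 16) 14958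
 Net.nil)))))))))

noncomputable def ns_25 : Net :=
 (Net.cons (nat_lit 16) 5029
 (Net.cons (nat_lit 8) (nat_lit 0x300014)
 (Net.cons (nat_lit 4) (nat_lit 0x1090a06)
 (Net.cons (nat_lit 2) (nat_lit 0x111003)
 (Net.cons (nat_lit 1) (nat_lit 0x10010444)
 (Net.cons (nat_lit 2) 131586
 (Net.cons (nat_lit 4) 525830
 (Net.cons (nat_lit 8) (nat_lit 0x220010)
 (Net.cons (nat_lit 16) 5062
 Net.nil)))))))))

noncomputable def ns_26 : Net :=
 (Net.cons (nat_lit 16) 59122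
 (Net.cons (nat_lit 8) 393414
 (Net.cons (nat_lit 4) (nat_lit 0xc0d0700)
 (Net.cons (nat_lit 2) (nat_lit 0x20011102)
 (Net.cons (nat_lit 1) (nat_lit 0x44411401)
 (Net.cons (nat_lit 2) (nat_lit 0x22220002)
 (Net.cons (nat_lit 4) (nat_lit 0x8020a00)
 (Net.cons (nat_lit 8) (nat_lit 0x2000c6)
 (Net.cons (nat_lit 16) 59128
 Net.nil)))))))))

noncomputable def ns_27 : Net :=
 (Net.cons (nat_lit 16) 23778
 (Net.cons (nat_lit 8) (nat_lit 0xcc0029)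
 (Net.cons (nat_lit 4) (nat_lit 0x8080206)
 (Net.cons (nat_lit 2) (nat_lit 0x10210210)
 (Net.cons (nat_lit 1) (nat_lit 0x44110100)
 (Net.cons (nat_lit 2) (nat_lit 0x200000)
 (Net.cons (nat_lit 4) 786948
 (Net.cons (nat_lit 8) (nat_lit 0xd40028)
 (Net.cons (nat_lit 16) 23714
 Net.nil)))))))))

noncomputable def ns_28 : Net :=
 (Net.cons (nat_lit 16) 51436
 (Net.cons (nat_lit 8) (nat_lit 0xd80039)
 (Net.cons (nat_lit 4) (nat_lit 0x80c0602)
 (Net.cons (nat_lit 2) (nat_lit 0x10232200)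
 (Net.cons (nat_lit 1) (nat_lit 0x40054110)
 (Net.cons (nat_lit 2) 8192
 (Net.cons (nat_lit 4) (nat_lit 0x8080600)
 (Net.cons (nat_lit 8) (nat_lit 0xd80028)
 (Net.cons (nat_lit 16) 51240
 Net.nil)))))))))

noncomputable def ns_29 : Net :=
 (Net.cons (nat_lit 16) 6274
 (Net.cons (nat_lit 8) (nat_lit 0x880044)
 (Net.cons (nat_lit 4) 2572
 (Net.cons (nat_lit 2) (nat_lit 0x20000002)
 (Net.cons (nat_lit 1) (nat_lit 0x10050410)
 (Net.cons (nat_lit 2) (nat_lit 0x20000000)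
 (Net.cons (nat_lit 4) 2056
 (Net.cons (nat_lit 8) (nat_lit 0x880044)
 (Net.cons (nat_lit 16) 6274
 Net.nil)))))))))

noncomputable def ns_30 : Net :=
 (Net.cons (nat_lit 16) 13824
 (Net.cons (nat_lit 8) (nat_lit 0xa400c0)
 (Net.cons (nat_lit 4) (nat_lit 0xc020804)
 (Net.cons (nat_lit 2) (nat_lit 0x12010032)
 (Net.cons (nat_lit 1) 4
 (Net.cons (nat_lit 2) 2
 (Net.cons (nat_lit 4) (nat_lit 0xc000004)
 (Net.cons (nat_lit 8) (nat_lit 0xa400c0)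
 (Net.cons (nat_lit 16) 13824
 Net.nil)))))))))

noncomputable def ns_31 : Net :=
 (Net.cons (nat_lit 16) 2064
 (Net.cons (nat_lit 8) 524484
 (Net.cons (nat_lit 4) 330242
 (Net.cons (nat_lit 2) 131584
 (Net.cons (nat_lit 1) (nat_lit 0x401040)
 (Net.cons (nat_lit 4) 264704
 (Net.cons (nat_lit 8) 524480
 (Net.cons (nat_lit 16) 2064
 Net.nil))))))))

noncomputable def ns_32 : Net :=
 (Net.cons (nat_lit 16) 22836
 (Net.cons (nat_lit 8) (nat_lit 0x580030)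
 (Net.cons (nat_lit 4) (nat_lit 0x40b0806)
 (Net.cons (nat_lit 2) (nat_lit 0x1300020)
 (Net.cons (nat_lit 1) (nat_lit 0x411440)
 (Net.cons (nat_lit 2) 544
 (Net.cons (nat_lit 4) (nat_lit 0x4000804)
 (Net.cons (nat_lit 8) (nat_lit 0x4800b0)
 (Net.cons (nat_lit 16) 22832
 Net.nil)))))))))

noncomputable def ns_33 : Net :=
 (Net.cons (nat_lit 16) 14080
 (Net.cons (nat_lit 8) (nat_lit 0x72007c)
 (Net.cons (nat_lit 4) (nat_lit 0x20b0408)
 (Net.cons (nat_lit 2) (nat_lit 0x10031002)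
 (Net.cons (nat_lit 1) (nat_lit 0x1005040)
 (Net.cons (nat_lit 4) (nat_lit 0x2080400)
 (Net.cons (nat_lit 8) (nat_lit 0x74007c)
 (Net.cons (nat_lit 16) 14080
 Net.nil))))))))

noncomputable def ns_34 : Net :=
 (Net.cons (nat_lit 16) 17324
 (Net.cons (nat_lit 8) (nat_lit 0xe30008)
 (Net.cons (nat_lit 4) (nat_lit 0x6020402)
 (Net.cons (nat_lit 2) (nat_lit 0x23212000)
 (Net.cons (nat_lit 1) (nat_lit 0x4405010)
 (Net.cons (nat_lit 2) (nat_lit 0x2200020)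
 (Net.cons (nat_lit 4) (nat_lit 0x406040a)
 (Net.cons (nat_lit 8) (nat_lit 0xa00008)
 (Net.cons (nat_lit 16) 17312
 Net.nil)))))))))

noncomputable def ns_35 : Net :=
 (Net.cons (nat_lit 16) 474
 (Net.cons (nat_lit 8) 524322
 (Net.cons (nat_lit 4) 527375
 (Net.cons (nat_lit 2) (nat_lit 0x2320200)
 (Net.cons (nat_lit 1) (nat_lit 0x1414054)
 (Net.cons (nat_lit 2) (nat_lit 0x2220000)
 (Net.cons (nat_lit 4) 527360
 (Net.cons (nat_lit 8) 524418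
 (Net.cons (nat_lit 16) 482
 Net.nil)))))))))

noncomputable def ns_36 : Net :=
 (Net.cons (nat_lit 16) 17424
 (Net.cons (nat_lit 8) 262320
 (Net.cons (nat_lit 4) (nat_lit 0x4030902)
 (Net.cons (nat_lit 2) (nat_lit 0x130002)
 (Net.cons (nat_lit 1) (nat_lit 0x140014)
 (Net.cons (nat_lit 2) 131074
 (Net.cons (nat_lit 4) 262146
 (Net.cons (nat_lit 8) 262320
 (Net.cons (nat_lit 16) 17424
 Net.nil)))))))))

noncomputable def ns_37 : Net :=
 (Net.cons (nat_lit 16) 37200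
 (Net.cons (nat_lit 8) (nat_lit 0xa40070)
 (Net.cons (nat_lit 4) (nat_lit 0x6020206)
 (Net.cons (nat_lit 2) (nat_lit 0x10001022)
 (Net.cons (nat_lit 1) (nat_lit 0x1100044)
 (Net.cons (nat_lit 2) 34
 (Net.cons (nat_lit 4) (nat_lit 0x6020000)
 (Net.cons (nat_lit 8) (nat_lit 0x240070)
 (Net.cons (nat_lit 16) 37200
 Net.nil)))))))))

noncomputable def ns_38 : Net :=
 (Net.cons (nat_lit 16) 4312
 (Net.cons (nat_lit 8) 262240
 (Net.cons (nat_lit 4) (nat_lit 0x40a0006)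
 (Net.cons (nat_lit 2) (nat_lit 0x10020023)
 (Net.cons (nat_lit 1) (nat_lit 0x510445)
 (Net.cons (nat_lit 2) 131104
 (Net.cons (nat_lit 4) (nat_lit 0x40a0000)
 (Net.cons (nat_lit 8) 262240
 (Net.cons (nat_lit 16) 4312
 Net.nil)))))))))

noncomputable def ns_39 : Net :=
 (Net.cons (nat_lit 16) 196
 (Net.cons (nat_lit 8) 80
 (Net.cons (nat_lit 4) 526343
 (Net.cons (nat_lit 2) 131635
 (Net.cons (nat_lit 1) (nat_lit 0x441041)
 (Net.cons (nat_lit 2) 131072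
 (Net.cons (nat_lit 4) 526344
 (Net.cons (nat_lit 8) 80
 (Net.cons (nat_lit 16) 196
 Net.nil)))))))))

noncomputable def ns_40 : Net :=
 (Net.cons (nat_lit 16) 49536
 (Net.cons (nat_lit 8) (nat_lit 0xc00000)
 (Net.cons (nat_lit 4) (nat_lit 0x40c0204)
 (Net.cons (nat_lit 2) (nat_lit 0x1020001)
 (Net.cons (nat_lit 1) 1104
 (Net.cons (nat_lit 4) (nat_lit 0x4080004)
 (Net.cons (nat_lit 8) (nat_lit 0xc00000)
 (Net.cons (nat_lit 16) 49536
 Net.nil))))))))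

noncomputable def ns_41 : Net :=
 (Net.cons (nat_lit 16) 33032
 (Net.cons (nat_lit 8) (nat_lit 0xc000a4)
 (Net.cons (nat_lit 4) (nat_lit 0x4000c00)
 (Net.cons (nat_lit 2) (nat_lit 0x1012002)
 (Net.cons (nat_lit 1) 5140
 (Net.cons (nat_lit 2) 8194
 (Net.cons (nat_lit 4) (nat_lit 0x4000c00)
 (Net.cons (nat_lit 8) (nat_lit 0x4000a4)
 (Net.cons (nat_lit 16) 33024
 Net.nil)))))))))

noncomputable def ns_42 : Net :=
 (Net.cons (nat_lit 16) 49348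
 (Net.cons (nat_lit 8) (nat_lit 0xc80070)
 (Net.cons (nat_lit 4) (nat_lit 0x80c0402)
 (Net.cons (nat_lit 2) 205570
 (Net.cons (nat_lit 1) (nat_lit 0x40154001)
 (Net.cons (nat_lit 2) 8194
 (Net.cons (nat_lit 4) (nat_lit 0x80c0400)
 (Net.cons (nat_lit 8) (nat_lit 0xc80060)
 (Net.cons (nat_lit 16) 49216
 Net.nil)))))))))

noncomputable def ns_43 : Net :=
 (Net.cons (nat_lit 16) 5176
 (Net.cons (nat_lit 8) 262222
 (Net.cons (nat_lit 4) (nat_lit 0x408040f)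
 (Net.cons (nat_lit 2) (nat_lit 0x10030302)
 (Net.cons (nat_lit 1) (nat_lit 0x504504)
 (Net.cons (nat_lit 2) 2
 (Net.cons (nat_lit 4) (nat_lit 0x4080604)
 (Net.cons (nat_lit 8) 262188
 (Net.cons (nat_lit 16) 5176
 Net.nil)))))))))

noncomputable def ns : List Net := [ModelM24.ns_0, ModelM24.ns_1, ns_2, ns_3, ns_4, ns_5, ns_6, ns_7, ns_8, ns_9, ns_10, ns_11, ns_12, ns_13, ns_14, ns_15, ns_16, ns_17, ns_18, ns_19, ns_20, ns_21, ns_22, ns_23, ns_24, ns_25, ns_26, ns_27, ns_28, ns_29, ns_30, ns_31, ns_32, ns_33, ns_34, ns_35, ns_36, ns_37, ns_38, ns_39, ns_40, ns_41, ns_42, ns_43]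

theorem ctx : Ctx 32 5 ns := ctx_of (by decide +kernel)

theorem lctx : LCtx 32 5 8 31 trN5 ns := lctx_of ctx trOK5 (by decide +kernel)

noncomputable def E : List ℕ → ℕ → ℕ := pfW0 32 5 8 31 trN5 ns

theorem hE : Evl 32 ns E := evl_pfW0 lctx

open Cfsg.Agent.Fus

theorem geq : gen ModelM24.ns ModelM24.G_ss0 = gen ns [[0], [2]] :=
  gen_eq_of_take (ns := ModelM24.ns) (ns' := ns) (k := 2) rfl (ws := ModelM24.G_ss0) (by decide +kernel)

theorem hn : Nat.card (gen ns [[0], [2]]) = 244823040 :=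
  geq ▸ ModelM24.G_card

theorem kn_0 : Known ns (gen ns [[0], [2]]) 3 :=
  known_gen (by decide +kernel)

noncomputable def ss : List ℕ :=
  [56, 54, 52, 50, 48, 46, 44, 42, 40, 38]

theorem pc : IsPc ns ss :=
  isPc_of_pcB ctx (hs := [([4, 6, 14, 16], [[0, 10, 14, 16], [2, 4, 6, 10], [6, 14, 16], [4, 14, 16], [4, 8, 12, 16], [10], [4, 6, 12, 16], [6, 12], [16]]), ([0, 2, 4, 10, 12, 14], [[2, 4, 10, 12, 14], [0, 4, 8, 10, 12, 14], [0, 2, 8, 10, 12, 14], [2, 6, 8, 10, 12, 14], [8], [0, 2, 4, 8, 12, 14], [8, 12, 14], [14]]), ([2, 6, 8, 12], [[0, 6, 12], [6, 8], [2, 4, 6, 8, 10], [6], [2, 6, 12], [10, 12], [12]]), ([0, 6, 10], [[6], [2, 8], [4], [0, 10], [8, 10], [10]]), ([6, 8], [[0, 6], [2], [4, 8], [6], [8]]), ([6], [[0, 6], [2, 4, 6], [4, 6], [6]]), ([], [[0], [2], [4]]), ([0], [[0], [2]]), ([0], [[0]]), ([], [])]) (by decide +kernel)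

theorem kS_0 : Known ns (gen ns (ltrs ss)) 536346624 :=
  known_gen (by decide +kernel)

noncomputable def A_S7 : List SD :=
  []

noncomputable def A_d6 : SD :=
  ⟨7, 2, [36], lab 1 1 8192, 1⟩

noncomputable def A_S6 : List SD :=
  A_d6 :: A_S7

noncomputable def A_d5 : SD :=
  ⟨5, 2, [30, 32, 34, 36], lab 3 7 (nat_lit 0xa000f0830e020c2a00), 3⟩

noncomputable def A_S5 : List SD :=
  A_d5 :: A_S6

noncomputable def A_d4 : SD :=
  ⟨12, 1, [24, 26, 28, 30, 32, 34, 36], lab 4 15 (nat_lit 0x3643b5606230140012924002), 2⟩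

noncomputable def A_S4 : List SD :=
  A_d4 :: A_S5

noncomputable def A_d3 : SD :=
  ⟨2, 1, [18, 20, 22, 24, 26, 28, 30, 32, 34, 36], lab 5 31 (nat_lit 0x21423839601bd098800a988e04000b), 2⟩

noncomputable def A_S3 : List SD :=
  A_d3 :: A_S4

noncomputable def A_d2 : SD :=
  ⟨16, 1, [12, 14, 16, 18, 20, 22, 24, 26, 28, 30, 32, 34, 36], lab 5 31 (nat_lit 0x2082d036203d481b3c0530cb710c02), 2⟩

noncomputable def A_S2 : List SD :=
  A_d2 :: A_S3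

noncomputable def A_d1 : SD :=
  ⟨9, 1, [6, 8, 10, 12, 14, 16, 18, 20, 22, 24, 26, 28, 30, 32, 34, 36], lab 5 31 (nat_lit 0x7fc23df905a37022700e7aec80300a), 3⟩

noncomputable def A_S1 : List SD :=
  A_d1 :: A_S2

noncomputable def A_d0 : SD :=
  ⟨1, 2, [0, 2, 4, 6, 8, 10, 12, 14, 16, 18, 20, 22, 24, 26, 28, 30, 32, 34, 36], lab 6 63 (nat_lit 0x42539a0c448f1065156e21c85981dc090000), 2⟩

noncomputable def A_S0 : List SD :=
  A_d0 :: A_S1

theorem kn_1 : Known ns (gen ns [[0], [2]]) 536870911 :=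
  kn_0.steps ctx (es := [(2, [3, 0, 2]),
 (3, [3, 1, 1, 3, 4, 4, 4, 2, 1]),
 (4, [3, 1, 3, 1, 5, 3, 3, 4, 4, 4]),
 (5, [6, 8]),
 (6, [7, 10, 9, 11, 6]),
 (7, [7, 11, 11, 11, 8, 10, 10, 8]),
 (8, [15, 13, 15]),
 (9, [16, 15, 13, 17, 15, 16, 13, 13]),
 (10, [13, 14, 13, 14, 17]),
 (11, [21, 19]),
 (12, [19, 20, 18, 22, 20, 18, 20, 22, 18, 22]),
 (13, [19, 20, 18, 21, 18, 20, 19, 22, 19, 19]),
 (14, [27, 24, 24, 27, 27]),
 (15, [25, 29, 24, 28, 25, 27, 27, 24]),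
 (16, [26, 29, 24, 29]),
 (17, [29, 27, 27, 28, 27]),
 (18, [32, 34, 34, 33]),
 (19, [21, 0, 18, 7, 29, 15, 21, 18, 26, 25, 36, 30, 36]),
 (20, [15, 2, 6, 18, 12, 29, 18, 30, 24, 34, 30]),
 (21, [7, 2, 37, 6, 25, 13, 18, 18, 25, 37]),
 (22, [6, 0, 37, 6, 17, 33, 19, 30, 25, 30, 33, 30, 36]),
 (23, [4, 2, 8, 6, 12, 33, 19, 30, 33, 30]),
 (24, [7, 0, 34, 6, 35, 12, 21, 26, 36, 32, 30]),
 (25, [7, 2, 14, 8, 6, 29, 15, 29, 20, 30, 25, 30, 35, 36]),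
 (26, [16, 0, 9, 6, 33, 13, 26, 18, 33, 24, 37, 30, 37]),
 (27, [34, 2, 12, 26, 19, 28, 27, 33, 30, 37]),
 (28, [20, 0, 11, 12, 18, 18, 25, 30, 33, 36])]) (by decide +kernel)

theorem A_ex : Exact 32 ns A_S0 ∧ gen ns (sTop A_S0) = gen ns [[0], [2]] ∧ gen ns [[0], [2]] = gen ns [[0], [2]] :=
  exact_of_known ctx hn (le_rfl) kn_1 (by decide +kernel)

noncomputable def B_S4 : List SD :=
  []

noncomputable def B_d3 : SD :=
  ⟨1, 1, [58, 60, 38, 62], lab 3 7 (nat_lit 0xc00130cb48b0836180), 4⟩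

noncomputable def B_S3 : List SD :=
  B_d3 :: B_S4

noncomputable def B_d2 : SD :=
  ⟨8, 1, [64, 66, 58, 60, 38, 62], lab 4 15 (nat_lit 0x2200000000000000000000), 2⟩

noncomputable def B_S2 : List SD :=
  B_d2 :: B_S3

noncomputable def B_d1 : SD :=
  ⟨3, 1, [68, 64, 66, 58, 60, 38, 62], lab 4 15 0, 1⟩

noncomputable def B_S1 : List SD :=
  B_d1 :: B_S2

noncomputable def B_d0 : SD :=
  ⟨0, 2, [70, 68, 64, 66, 58, 60, 38, 62], lab 4 15 (nat_lit 0x61000000000000600001000), 3⟩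

noncomputable def B_S0 : List SD :=
  B_d0 :: B_S1

theorem kS_1 : Known ns (gen ns (ltrs ss)) 17592185520128 :=
  kS_0.steps ctx (es := [(29, [52, 44, 42, 40, 38]),
 (30, [48, 44, 42, 40, 38]),
 (31, [56, 54, 50, 46, 44, 40]),
 (32, [56, 54, 50, 48, 46, 44, 42, 38]),
 (33, [56, 54, 44, 42, 38]),
 (34, [56, 54, 50, 48, 44, 40, 38]),
 (35, [56, 52, 48, 44, 42, 40]),
 (36, [56, 54, 42, 40, 38]),
 (37, [56, 54, 52, 48, 44, 42, 40, 38]),
 (38, [56, 54, 52, 50, 44, 42, 40, 38]),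
 (39, [56, 54, 50, 44, 40, 38]),
 (40, [52, 46]),
 (41, [52, 48, 46, 44, 42, 40]),
 (42, [48, 46, 42, 40]),
 (43, [56, 42, 40, 38])]) (by decide +kernel)

theorem syl : gen ns (ltrs ss) ≤ gen ns [[0], [2]] ∧ SylIn 2 (gen ns (ltrs ss)) (gen ns [[0], [2]]) :=
  pc.sylIn ctx hn (k := 10) kn_1 kS_1 (C := B_S0) (by decide +kernel)

noncomputable def CA_as : List (List ℕ × List ℕ) :=
  [([42], [42])]

noncomputable def CA_cs : List (List ℕ) :=
  [[]]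

noncomputable def CA_pl : List Pl :=
  [⟨.lst 0, []⟩, ⟨.forced 0 0, []⟩, ⟨.forced 0 0, []⟩, ⟨.forced 0 0, []⟩, ⟨.forced 0 0, []⟩, ⟨.forced 0 0, []⟩, ⟨.forced 0 0, []⟩]

noncomputable def CA_M0 : ℕ :=
  nat_lit 0x200003

theorem CA_b0 : Br 32 ns (derAs CA_as [[0]]) (derSs 32 5 ns CA_as [[0]]) (gen ns (sTop A_S0)) A_d0.p CA_M0 (InCs ns A_S0 CA_cs) :=
  br_of_brB ctx hE A_ex.1 (pl := CA_pl) (bs := []) (tps := []) (by decide +kernel)

theorem CA : SolList ns (gen ns [[0], [2]]) CA_as [[42], [44]] CA_cs :=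
  solList_of_br ctx A_ex.1 A_ex.2.1 kn_1 CA_b0 (cons := []) (r := 7) (by decide +kernel)

theorem nrm : gen ns (ltrs ss) ≠ ⊥ ∧ Cfsg.FusionSystem.normalizerIn (gen ns [[0], [2]]) (gen ns (ltrs ss)) ≤ gen ns (ltrs ss) :=
  pc.normalizerIn_le ctx syl kS_1 (a := [42]) (a' := [42]) (gs := [[], [46], [48], [50], [52], [54], [56], [48, 46], [50, 46], [50, 48], [52, 46], [52, 48], [52, 50], [54, 46], [54, 48], [54, 50], [54, 52], [56, 46], [56, 48], [56, 50], [56, 52], [56, 54], [50, 48, 46], [52, 48, 46], [52, 50, 46], [52, 50, 48], [54, 48, 46], [54, 50, 46], [54, 50, 48], [54, 52, 46], [54, 52, 48], [54, 52, 50], [56, 48, 46], [56, 50, 46], [56, 50, 48], [56, 52, 46], [56, 52, 48], [56, 52, 50], [56, 54, 46], [56, 54, 48], [56, 54, 50], [56, 54, 52], [52, 50, 48, 46], [54, 50, 48, 46], [54, 52, 48, 46], [54, 52, 50, 46], [54, 52, 50, 48], [56, 50, 48, 46], [56, 52, 48, 46], [56,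 52, 50, 46], [56, 52, 50, 48], [56, 54, 48, 46], [56, 54, 50, 46], [56, 54, 50, 48], [56, 54, 52, 46], [56, 54, 52, 48], [56, 54, 52, 50], [54, 52, 50, 48, 46], [56, 52, 50, 48, 46], [56, 54, 50, 48, 46], [56, 54, 52, 48, 46], [56, 54, 52, 50, 46], [56, 54, 52, 50, 48], [56, 54, 52, 50, 48, 46]]) CA (by decide +kernel)

instance fin : Finite (gen ns [[0], [2]]) := finite_gen ctx.ok _

theorem simple : (Cfsg.fusionSystemOfSubgroup (gen ns [[0], [2]]) _ syl.1).IsSimple 2 :=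
  pc.isSimple ctx syl nrm kn_1 kS_1 (j := 19) (es := [(30, [6, 0, 8, 6, 15, 12, 21, 18, 25, 25, 30, 36], [38]),
 (36, [22, 0, 18, 7, 13, 35, 18, 30, 26, 34, 30], [60]),
 (37, [42], [72]),
 (38, [54], [72]),
 (39, [42], [76]),
 (40, [37, 2, 34, 6, 33, 13, 20, 29, 30, 36], [38, 76, 78]),
 (41, [42], [80]),
 (42, [6, 0, 21, 7, 25, 12, 29, 20, 28, 35, 30], [72, 78]),
 (43, [14, 0, 14, 6, 14, 12, 30, 24, 30, 37], [60, 74, 84, 76]),
 (28, [], [72, 74, 86, 80, 84]),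
 (27, [], [72, 80, 86, 82]),
 (26, [], [60, 84, 86, 80, 86]),
 (25, [], [72, 76, 80, 84]),
 (24, [], [72, 74, 80, 84]),
 (23, [], [74, 76, 86, 84, 86]),
 (22, [], [38, 72, 74, 76, 78]),
 (21, [], [78, 80, 84, 78]),
 (20, [], [60, 82, 80])]) (by decide +kernel)

theorem isSimple : ∀ S : Sylow 2 Cfsg.M24, (Cfsg.groupFusionSystem (S : Subgroup Cfsg.M24)).IsSimple 2 :=
  isSimple_of_equiv (ModelM24.equiv.trans (MulEquiv.subgroupCongr geq)) syl simple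

theorem normalizer_eq : ∀ S : Sylow 2 Cfsg.M24, Subgroup.normalizer ((S : Subgroup Cfsg.M24) : Set Cfsg.M24) = S :=
  normalizer_eq_of_equiv (ModelM24.equiv.trans (MulEquiv.subgroupCongr geq)) syl nrm.2

end Cfsg.Agent.Spor.Syl2M24
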