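import Cfsg.Agent.Comp.MatClass

set_option autoImplicit false
set_option maxRecDepth 4096

namespace Cfsg.Agent.Spor.ModelO8p

open Cfsg.Agent.Comp

noncomputable def ns_0 : Net :=
 (Net.cons (nat_lit 64) (nat_lit 0xb23308d583a1e76b)
 (Net.cons (nat_lit 32) (nat_lit 0xfba7e9fd00000000df22597c)
 (Net.cons (nat_lit 16) (nat_lit 0x7ea80000a4b1000083a400002cd2)
 (Net.cons (nat_lit 8) (nat_lit 0x10004e003200670015005c003800de)
 (Net.cons (nat_lit 4) (nat_lit 0xc0d05090408090e0502040507040606)
 (Net.cons (nat_lit 2) (nat_lit 0x22310202100322322321003010030330)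
 (Net.cons (nat_lit 1) (nat_lit 0x11411141104541441451455004450411)
 (Net.cons (nat_lit 2) (nat_lit 0x2222022200020002000200002000202)
 (Net.cons (nat_lit 4) (nat_lit 0x808080206020e00040c0200020e0202)
 (Net.cons (nat_lit 8) (nat_lit 0xf0003e0082003800c400e000100014)
 (Net.cons (nat_lit 16) (nat_lit 0x3dd40000b0400000d4a000000cea)
 (Net.cons (nat_lit 32) (nat_lit 0x6b18042200000000d38d8c00)
 (Net.cons (nat_lit 64) (nat_lit 0xb20fb56a0c3f8b30)
 Net.nil)))))))))))))

noncomputable def ns_1 : Net :=
 (Net.cons (nat_lit 64) (nat_lit 0xeafae7b7836a081d)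
 (Net.cons (nat_lit 32) (nat_lit 0x157e8e200000000057507125)
 (Net.cons (nat_lit 16) (nat_lit 0xd7fa0000438a0000fbb200004cf5)
 (Net.cons (nat_lit 8) (nat_lit 0x270076006300ac006a0001009c0080)
 (Net.cons (nat_lit 4) (nat_lit 0xd07060b0c0f0a060201020201060d08)
 (Net.cons (nat_lit 2) (nat_lit 0x1100222030112122102003320101010)
 (Net.cons (nat_lit 1) (nat_lit 0x44004151015110001014101454141051)
 (Net.cons (nat_lit 2) (nat_lit 0x22000002000020000020002000022002)
 (Net.cons (nat_lit 4) (nat_lit 0x200080c0600000c0c08020604080600)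
 (Net.cons (nat_lit 8) (nat_lit 0xc600dc00ea004c00ba000600a400a6)
 (Net.cons (nat_lit 16) (nat_lit 0x2c080000c9300000bfc20000e5ca)
 (Net.cons (nat_lit 32) (nat_lit 0x5d2c4f7c000000004354eec4)
 (Net.cons (nat_lit 64) (nat_lit 0xeaf2e4876a4954d8)
 Net.nil)))))))))))))

noncomputable def ns_2 : Net :=
 (Net.cons (nat_lit 64) (nat_lit 0x37e679d282506712)
 (Net.cons (nat_lit 32) (nat_lit 0xfa5b9ea5000000004f68a394)
 (Net.cons (nat_lit 16) (nat_lit 0x103800000f9d0000e4d100008ace)
 (Net.cons (nat_lit 8) (nat_lit 0x3d00c000d80019008b0064001c0092)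
 (Net.cons (nat_lit 4) (nat_lit 0xe08040b00090e05020d0b05000e0a08)
 (Net.cons (nat_lit 2) (nat_lit 0x20331310230022322221103310233330)
 (Net.cons (nat_lit 1) (nat_lit 0x10041541401041144140511404111404)
 (Net.cons (nat_lit 2) (nat_lit 0x22002022222000002000200200)
 (Net.cons (nat_lit 4) (nat_lit 0x8000c060c0804040c0408080c0c0600)
 (Net.cons (nat_lit 8) (nat_lit 0x10001a00c0005c00c40078009e007a)
 (Net.cons (nat_lit 16) (nat_lit 0xdc00000019600000e34800000220)
 (Net.cons (nat_lit 32) (nat_lit 0xfe65ee4400000000075d1ebc)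
 (Net.cons (nat_lit 64) (nat_lit 0x375c7274579832a0)
 Net.nil)))))))))))))

noncomputable def ns_3 : Net :=
 (Net.cons (nat_lit 64) (nat_lit 0xb54f16f76ea4d1ae)
 (Net.cons (nat_lit 32) (nat_lit 0x7de5c183000000001b736b84)
 (Net.cons (nat_lit 16) (nat_lit 0xb4ac0000598b00001c7e0000c7b2)
 (Net.cons (nat_lit 8) (nat_lit 0xc1003d009d0097005e0034001d002c)
 (Net.cons (nat_lit 4) (nat_lit 0xe0b07060a0a080002020b070106020c)
 (Net.cons (nat_lit 2) (nat_lit 0x11130132300203330023232101031232)
 (Net.cons (nat_lit 1) (nat_lit 0x5114414041410141005550115415410)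
 (Net.cons (nat_lit 2) (nat_lit 0x222020020000020000000000220020)
 (Net.cons (nat_lit 4) (nat_lit 0xa020a040004080a020c0006000c0e0c)
 (Net.cons (nat_lit 8) (nat_lit 0xa8005400c00024005a007400b4003c)
 (Net.cons (nat_lit 16) (nat_lit 0x58f40000ee8600001562000081e0)
 (Net.cons (nat_lit 32) (nat_lit 0x7d3558180000000013c6e0f0)
 (Net.cons (nat_lit 64) (nat_lit 0xb5693ba58e1c4dce)
 Net.nil)))))))))))))

noncomputable def ns_4 : Net :=
 (Net.cons (nat_lit 64) (nat_lit 0x3f5b27b001cb46a)
 (Net.cons (nat_lit 32) (nat_lit 0x371c0c87000000005c80f9bd)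
 (Net.cons (nat_lit 16) (nat_lit 0x17a90000537d00000ca90000e075)
 (Net.cons (nat_lit 8) (nat_lit 0x54005f00a500eb00f6009d00cf00f8)
 (Net.cons (nat_lit 4) (nat_lit 0x4070d08010a0a0d0a09020404040607)
 (Net.cons (nat_lit 2) (nat_lit 0x21123202210021113000203211320233)
 (Net.cons (nat_lit 1) (nat_lit 0x40011155541041414404054145141111)
 (Net.cons (nat_lit 2) (nat_lit 0x20000200002000202000002020200220)
 (Net.cons (nat_lit 4) (nat_lit 0xc0800020a08020c00060008000008)
 (Net.cons (nat_lit 8) (nat_lit 0x40007800660004001600b0000e00f4)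
 (Net.cons (nat_lit 16) (nat_lit 0x25ee000098c40000bc5e00001064)
 (Net.cons (nat_lit 32) (nat_lit 0x36cb1ee000000000c8447cbe)
 (Net.cons (nat_lit 64) (nat_lit 0x3c6f33cfdc788f4)
 Net.nil)))))))))))))

noncomputable def ns_5 : Net :=
 (Net.cons (nat_lit 64) (nat_lit 0x69ed40e0a939fb5c)
 (Net.cons (nat_lit 32) (nat_lit 0xd8dd675000000000b3e195f4)
 (Net.cons (nat_lit 16) (nat_lit 0x11580000a4a600007a0700006c98)
 (Net.cons (nat_lit 8) (nat_lit 0x9e00b300b1004e007800f20008004c)
 (Net.cons (nat_lit 4) (nat_lit 0xe08090e0904060e010e030f000f0d0c)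
 (Net.cons (nat_lit 2) (nat_lit 0x120132000210222320103232222110)
 (Net.cons (nat_lit 1) (nat_lit 0x1115044410101540511104044141400)
 (Net.cons (nat_lit 2) (nat_lit 0x2020002020000000020000000202200)
 (Net.cons (nat_lit 4) (nat_lit 0x80800060a000002080204080a0404)
 (Net.cons (nat_lit 8) (nat_lit 0x9600da0010000e002000e0009800c4)
 (Net.cons (nat_lit 16) (nat_lit 0xd87800008c1a00007b400000ec60)
 (Net.cons (nat_lit 32) (nat_lit 0xd05ab5f000000000a3fdc4e4)
 (Net.cons (nat_lit 64) (nat_lit 0x69ee1911b66c791c)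
 Net.nil)))))))))))))

noncomputable def ns_6 : Net :=
 (Net.cons (nat_lit 64) (nat_lit 0xa4d4a6b17d43ce08)
 (Net.cons (nat_lit 32) (nat_lit 0xfa471bcd000000005ef4752a)
 (Net.cons (nat_lit 16) (nat_lit 0x9be300007ea70000b3650000a704)
 (Net.cons (nat_lit 8) (nat_lit 0xfe003e00fd00c400b1000c00ae004a)
 (Net.cons (nat_lit 4) (nat_lit 0xc070c040309040607000d060f090b0e)
 (Net.cons (nat_lit 2) (nat_lit 0x11223023303021102012030302322030)
 (Net.cons (nat_lit 1) (nat_lit 0x1545440454140411451444514144104)
 (Net.cons (nat_lit 2) (nat_lit 0x20200200220000020020220000)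
 (Net.cons (nat_lit 4) (nat_lit 0x2000c0a0c0000040e0e0c0e04080004)
 (Net.cons (nat_lit 8) (nat_lit 0xf8003c00cc00c4003e005400f00080)
 (Net.cons (nat_lit 16) (nat_lit 0x219c0000da000000ebe400008598)
 (Net.cons (nat_lit 32) (nat_lit 0x7edbe24a000000001c77e1b2)
 (Net.cons (nat_lit 64) (nat_lit 0xa4987d696f551a08)
 Net.nil)))))))))))))

noncomputable def ns_7 : Net :=
 (Net.cons (nat_lit 64) (nat_lit 0xc2f0de6ea0d68c0a)
 (Net.cons (nat_lit 32) (nat_lit 0x42193bcc000000006d433416)
 (Net.cons (nat_lit 16) (nat_lit 0x9e170000ca3e0000d1430000079a)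
 (Net.cons (nat_lit 8) (nat_lit 0x5000be005f00c80066006b00fc0084)
 (Net.cons (nat_lit 4) (nat_lit 0x2050102050a000c0006030d0e0e0f00)
 (Net.cons (nat_lit 2) (nat_lit 0x331200123011101221013213320212)
 (Net.cons (nat_lit 1) (nat_lit 0x14411441511115010411104150015440)
 (Net.cons (nat_lit 2) (nat_lit 0x20020020000220020222000000000220)
 (Net.cons (nat_lit 4) (nat_lit 0xe040c0006020008060204000c060c04)
 (Net.cons (nat_lit 8) (nat_lit 0xca001c0084009000860068005c0058)
 (Net.cons (nat_lit 16) (nat_lit 0x1c8e000091780000dc300000b120)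
 (Net.cons (nat_lit 32) (nat_lit 0x475a00000000044dc3434)
 (Net.cons (nat_lit 64) (nat_lit 0xc22cd2ca164bf390)
 Net.nil)))))))))))))

noncomputable def ns_8 : Net :=
 (Net.cons (nat_lit 64) (nat_lit 0xbd1f9693bc40b528)
 (Net.cons (nat_lit 32) (nat_lit 0xb2ba8d3000000000efb1f958)
 (Net.cons (nat_lit 16) (nat_lit 0x76d2000081b20000d1b7000052f6)
 (Net.cons (nat_lit 8) (nat_lit 0x7600c000e400a800b400e30008007e)
 (Net.cons (nat_lit 4) (nat_lit 0xa0d0a02060b060c0002060708010e04)
 (Net.cons (nat_lit 2) (nat_lit 0x10023003033020330231002110000230)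
 (Net.cons (nat_lit 1) (nat_lit 0x45441011451010050415415140401544)
 (Net.cons (nat_lit 2) (nat_lit 0x20022002000000220200200202002)
 (Net.cons (nat_lit 4) (nat_lit 0x20c040a06000a0800040e0408000a02)
 (Net.cons (nat_lit 8) (nat_lit 0xe2004e005800ac00b000c000480018)
 (Net.cons (nat_lit 16) (nat_lit 0xec500000bd4400005e88000012d6)
 (Net.cons (nat_lit 32) (nat_lit 0xa2ebd2a000000000efe581d0)
 (Net.cons (nat_lit 64) (nat_lit 0xbdc09f88c8ccc128)
 Net.nil)))))))))))))

noncomputable def ns_9 : Net :=
 (Net.cons (nat_lit 64) (nat_lit 0xafdafa170d37833c)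
 (Net.cons (nat_lit 32) (nat_lit 0x9194d12100000000812d9a50)
 (Net.cons (nat_lit 16) (nat_lit 0x163e0000594b00007c2c00003284)
 (Net.cons (nat_lit 8) (nat_lit 0x42006200b300c1006d00bf00500000)
 (Net.cons (nat_lit 4) (nat_lit 0xa0d040900030e0004070002060b0602)
 (Net.cons (nat_lit 2) (nat_lit 0x10022311110200322120302010300012)
 (Net.cons (nat_lit 1) (nat_lit 0x40404514145105400041551010041444)
 (Net.cons (nat_lit 2) (nat_lit 0x2000000000000000000000000202)
 (Net.cons (nat_lit 4) (nat_lit 0x40c0000080c0a08000a0c02060c020e)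
 (Net.cons (nat_lit 8) (nat_lit 0xd80026001c000800ac002e001000e0)
 (Net.cons (nat_lit 16) (nat_lit 0x662000059300000bcbc000058a0)
 (Net.cons (nat_lit 32) (nat_lit 0xb7e8a02a00000000d1261940)
 (Net.cons (nat_lit 64) (nat_lit 0xaf1f0ba7455ac22c)
 Net.nil)))))))))))))

noncomputable def ns_10 : Net :=
 (Net.cons (nat_lit 64) (nat_lit 0xda223297832909c0)
 (Net.cons (nat_lit 32) (nat_lit 0x40fb617900000000c090609c)
 (Net.cons (nat_lit 16) (nat_lit 0x503d00007eae000017690000fa0c)
 (Net.cons (nat_lit 8) (nat_lit 0x5c005500d8005e0071007900830088)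
 (Net.cons (nat_lit 4) (nat_lit 0xc0a030506090f050603040a00040f0c)
 (Net.cons (nat_lit 2) (nat_lit 0x32221211022003223012312310303230)
 (Net.cons (nat_lit 1) (nat_lit 0x10014414400141151015144014400110)
 (Net.cons (nat_lit 2) (nat_lit 0x20022200000022202000002002200220)
 (Net.cons (nat_lit 4) (nat_lit 0x208040808000402000c00060408)
 (Net.cons (nat_lit 8) (nat_lit 0x5c0040009000b60064001400200090)
 (Net.cons (nat_lit 16) (nat_lit 0xda640000cf9c0000b3e40000fd8c)
 (Net.cons (nat_lit 32) (nat_lit 0x4a6d443000000000c0435d88)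
 (Net.cons (nat_lit 64) (nat_lit 0xda02320624a54640)
 Net.nil)))))))))))))

noncomputable def ns_11 : Net :=
 (Net.cons (nat_lit 64) (nat_lit 0x24c3bc88ae1a2844)
 (Net.cons (nat_lit 32) (nat_lit 0x2a9c213800000000db978d00)
 (Net.cons (nat_lit 16) (nat_lit 0x73b800000495000029f000009c44)
 (Net.cons (nat_lit 8) (nat_lit 0x340068001c00d10022002200340004)
 (Net.cons (nat_lit 4) (nat_lit 0x3050c02070908070a0e040400020a00)
 (Net.cons (nat_lit 2) (nat_lit 0x12032222021201311032211000100100)
 (Net.cons (nat_lit 1) (nat_lit 0x4010404050114441054510004110400)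
 (Net.cons (nat_lit 2) (nat_lit 0x2020200000200222002020000220200)
 (Net.cons (nat_lit 4) (nat_lit 0x2000c08060c08080208020400080a00)
 (Net.cons (nat_lit 8) (nat_lit 0x6000c8004c00c000b0002600b80004)
 (Net.cons (nat_lit 16) (nat_lit 0x7994000010140000a9700000bc44)
 (Net.cons (nat_lit 32) (nat_lit 0xed8f18000000000db192144)
 (Net.cons (nat_lit 64) (nat_lit 0x244e8c88cf1aa844)
 Net.nil)))))))))))))

noncomputable def ns_12 : Net :=
 (Net.cons (nat_lit 64) (nat_lit 0x5bcfd5a7e245176c)
 (Net.cons (nat_lit 32) (nat_lit 0x8988311300000000c63df51c)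
 (Net.cons (nat_lit 16) (nat_lit 0x847400001110000042c600000382)
 (Net.cons (nat_lit 8) (nat_lit 0x31009c00fc0001004e002200b80020)
 (Net.cons (nat_lit 4) (nat_lit 0x806000a06010000020b06060a010a0a)
 (Net.cons (nat_lit 2) (nat_lit 0x32320132220120000000003002010202)
 (Net.cons (nat_lit 1) (nat_lit 0x44410410140510004014504511100154)
 (Net.cons (nat_lit 2) (nat_lit 0x20220020020000000000002002000002)
 (Net.cons (nat_lit 4) (nat_lit 0x80600080a000000080a020c00000a08)
 (Net.cons (nat_lit 8) (nat_lit 0x30009c00e60000004a003000b80070)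
 (Net.cons (nat_lit 16) (nat_lit 0x847400001110000062c400003386)
 (Net.cons (nat_lit 32) (nat_lit 0x8988311200000000c62df71c)
 (Net.cons (nat_lit 64) (nat_lit 0x5bcfd5a7e245176c)
 Net.nil)))))))))))))

noncomputable def ns_13 : Net :=
 (Net.cons (nat_lit 64) (nat_lit 0x1b9f860b29308400)
 (Net.cons (nat_lit 32) (nat_lit 0x2a61059000000000b2e9a140)
 (Net.cons (nat_lit 16) (nat_lit 0x43c800009d540000d61400007080)
 (Net.cons (nat_lit 8) (nat_lit 0x7200d100e5007000e40028006400a0)
 (Net.cons (nat_lit 4) (nat_lit 0x20f000e0809030e0000000e08020400)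
 (Net.cons (nat_lit 2) (nat_lit 0x121002033100312002223030000020)
 (Net.cons (nat_lit 1) (nat_lit 0x10550450541515504010410104050040)
 (Net.cons (nat_lit 2) (nat_lit 0x22000002000220000000020)
 (Net.cons (nat_lit 4) (nat_lit 0x200000e0804000e0000000e08020000)
 (Net.cons (nat_lit 8) (nat_lit 0x6000d000e200700060002800640020)
 (Net.cons (nat_lit 16) (nat_lit 0x43c800009d540000c41400007080)
 (Net.cons (nat_lit 32) (nat_lit 0x2a61059000000000b2692140)
 (Net.cons (nat_lit 64) (nat_lit 0x1b9f860b29308400)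
 Net.nil)))))))))))))

noncomputable def ns : List Net := [ns_0, ns_1, ns_2, ns_3, ns_4, ns_5, ns_6, ns_7, ns_8, ns_9, ns_10, ns_11, ns_12, ns_13]

theorem ctx : Ctx 128 7 ns := ctx_of (by decide +kernel)

open Cfsg Cfsg.Agent.Comp.Kron Cfsg.Agent.Class
open scoped MatrixGroups

noncomputable def G_C7 : List Lvl :=
  []

noncomputable def G_ss6 : List (List ℕ) :=
  [[23]]

noncomputable def G_D6 : ℕ :=
  nat_lit 0x800800000000000000000000400

noncomputable def G_l6 : Lvl :=
  ⟨10, [[23]],
  tabA [(95, 2560), (107, 2561)], 1⟩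

noncomputable def G_C6 : List Lvl :=
  G_l6 :: G_C7

noncomputable def G_ss5 : List (List ℕ) :=
  [[23], [26]]

noncomputable def G_D5 : ℕ :=
  nat_lit 0x8000000000000000000000100

noncomputable def G_l5 : Lvl :=
  ⟨8, [[26], [23]],
  tabA [(99, 2048)], 1⟩

noncomputable def G_C5 : List Lvl :=
  G_l5 :: G_C6

noncomputable def G_ss4 : List (List ℕ) :=
  [[22], [24]]

noncomputable def G_D4 : ℕ :=
  nat_lit 0x20800800000002040004000081410

noncomputable def G_l4 : Lvl :=
  ⟨4, [[22], [24], [26], [23]],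
  tabA [(113, 1026), (61, 1027), (38, 28928), (12, 28929), (19, 28932), (54, 15617), (95, 9730), (107, 3074), (10, 24320)], 4⟩

noncomputable def G_C4 : List Lvl :=
  G_l4 :: G_C5

noncomputable def G_ss3 : List (List ℕ) :=
  [[16], [18]]

noncomputable def G_D3 : ℕ :=
  nat_lit 0x4400106800088108050128008

noncomputable def G_l3 : Lvl :=
  ⟨3, [[16], [18], [22], [24], [26], [23]],
  tabC 15 32767 [nat_lit 0x9206000000000004e040000000000000000000000500000000000000000006020000000000000000000000000000014004000490200000000000000000000000000030200000000a000000920000000000000000000000000000000000000000000000000000000000,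
 nat_lit 0x1400c000000000005004000000000000000000000000000000000000000000000000030300000000000000000003c1818000004e0a00000000000000000000000000], 3⟩

noncomputable def G_C3 : List Lvl :=
  G_l3 :: G_C4

noncomputable def G_ss2 : List (List ℕ) :=
  [[10], [12]]

noncomputable def G_D2 : ℕ :=
  nat_lit 0x2080088206001a5704241004c5414

noncomputable def G_l2 : Lvl :=
  ⟨2, [[10], [12], [20], [16], [18], [22], [24], [26], [23]],
  tabC 15 32767 [nat_lit 0x4012000130100000000280c000360500000805303b6060000000000000000001541000000000000000130180000000080000000000000000000002050000000000000000000000000000000000d81000000004c0c980000000000000a41c000260a0000080c0000000000000000000202000000000000000,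
 nat_lit 0x130580000000000000000006c1a000000000000000000000000000000000000000004c1800000000000081200000000000000000001020000000000000000000000010145020000000000000000000000000000000000000000000005503], 3⟩

noncomputable def G_C2 : List Lvl :=
  G_l2 :: G_C3

noncomputable def G_ss1 : List (List ℕ) :=
  [[4], [6]]

noncomputable def G_D1 : ℕ :=
  nat_lit 0x2080fc8216681a5fc5bc1785ef73e

noncomputable def G_l1 : Lvl :=
  ⟨1, [[4], [6], [14], [10], [12], [20], [16], [18], [22], [24], [26], [23]],
  tabC 15 32767 [nat_lit 0xb60e00017078000000138100004e091e157c317014e07641538000000000000004040002e0464180002f83df00381d7c4c0000000000000000005f0a0000b80d9084e023802000000000000001381800055010209383270280009c07382d702ae0a00017c40884b213000000023824e0a1e03542c0000000,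
 nat_lit 0x2f840000000000000000000be2200000000000000000000000000641d7c05a0113000204c8180000000020a00000000000000000000818000000000000005f05000004027078000000070319018000641200000000000000000000004e11], 4⟩

noncomputable def G_C1 : List Lvl :=
  G_l1 :: G_C2

noncomputable def G_ss0 : List (List ℕ) :=
  [[0, 3, 2, 1, 3, 2, 1, 2, 0, 3], [2, 1, 2, 3, 1, 3, 0, 3, 0, 2]]

noncomputable def G_D0 : ℕ :=
  nat_lit 0xffffffffffffffffffffffffffffff

noncomputable def G_l0 : Lvl :=
  ⟨0, [[0, 3, 2, 1, 3, 2, 1, 2, 0, 3], [2, 1, 2, 3, 1, 3, 0, 3, 0, 2], [8], [4], [6], [14], [10], [12], [20], [16], [18], [22], [24], [26], [23]],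
  tabC 15 32767 [nat_lit 0x6c1030095846b039a064c20182a80b5000a010604b602061aa05af01030270083428700111400080c108830000501aa02498193056c07540a50082111a06a04540111191a269815287820036063421c011113500cac18000ca022204a020001800594003418887a8128e03840d583ab0b0004a00c9858000,
 nat_lit 0xa00328141018d049a08d80060b5f038e06a84c982580d2207601e3824a04be0b6025581ce02060044614072815500e0c1db801d0404090006f809104c00698088808c006e04780180d28103a0a4428184d80f9c02a02818955052210c00130188021c02a820980110b], 4⟩

noncomputable def G_C0 : List Lvl :=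
  G_l0 :: G_C1

theorem G_lb7 : 1 ≤ Nat.card (cgrp ns G_C7) :=
  lb_nil _

theorem G_le6 : gen ns G_l6.ws ≤ gen ns G_ss6 :=
  gen_le_step ctx (tgt := [])
  (es := []) (le_refl (gen _ [])) (by decide +kernel)

theorem G_lv6 : chkLvl 128 ns G_l6 G_C7 G_D6 2 = true :=
  by decide +kernel

theorem G_lb6 : 3 ≤ Nat.card (cgrp ns G_C6) :=
  lb_step ctx G_lv6 G_lb7 (by decide +kernel)

theorem G_le5 : gen ns G_l5.ws ≤ gen ns G_ss5 :=
  gen_le_step ctx (tgt := [[23]])
  (es := [([23], [3, 3, 0, 3, 0, 3, 0])]) G_le6 (by decide +kernel)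

theorem G_lv5 : chkLvl 128 ns G_l5 G_C6 G_D5 1 = true :=
  by decide +kernel

theorem G_lb5 : 6 ≤ Nat.card (cgrp ns G_C5) :=
  lb_step ctx G_lv5 G_lb6 (by decide +kernel)

theorem G_le4 : gen ns G_l4.ws ≤ gen ns G_ss4 :=
  gen_le_step ctx (tgt := [[23], [26]])
  (es := [([23], [2, 0, 0, 3, 3, 0, 2, 1, 3, 3]), ([26], [4, 2, 5, 2, 2, 4])]) G_le5 (by decide +kernel)

theorem G_lv4 : chkLvl 128 ns G_l4 G_C5 G_D4 2 = true :=
  by decide +kernel

theorem G_lb4 : 60 ≤ Nat.card (cgrp ns G_C4) :=
  lb_step ctx G_lv4 G_lb5 (by decide +kernel)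

theorem G_le3 : gen ns G_l3.ws ≤ gen ns G_ss3 :=
  gen_le_step ctx (tgt := [[22], [24]])
  (es := [([22], [1, 2, 1, 2, 2, 1, 1, 1, 1]), ([24], [5, 2, 2, 5, 2])]) G_le4 (by decide +kernel)

theorem G_lv3 : chkLvl 128 ns G_l3 G_C4 G_D3 2 = true :=
  by decide +kernel

theorem G_lb3 : 960 ≤ Nat.card (cgrp ns G_C3) :=
  lb_step ctx G_lv3 G_lb4 (by decide +kernel)

theorem G_le2 : gen ns G_l2.ws ≤ gen ns G_ss2 :=
  gen_le_step ctx (tgt := [[16], [18], [20]])
  (es := [([16], [1, 1, 3, 0, 3, 3]), ([18], [4, 4, 4, 2, 4, 2, 5, 2, 2, 5, 3, 4]), ([20], [5, 7, 7])]) G_le3 (by decide +kernel)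

theorem G_lv2 : chkLvl 128 ns G_l2 G_C3 G_D2 1 = true :=
  by decide +kernel

theorem G_lb2 : 25920 ≤ Nat.card (cgrp ns G_C2) :=
  lb_step ctx G_lv2 G_lb3 (by decide +kernel)

theorem G_le1 : gen ns G_l1.ws ≤ gen ns G_ss1 :=
  gen_le_step ctx (tgt := [[10], [12], [14]])
  (es := [([10], [2, 0, 0, 0, 3]), ([12], [2, 4, 4, 2, 2, 4, 3, 3, 4, 4, 3]), ([14], [6, 5, 6, 6])]) G_le2 (by decide +kernel)

theorem G_lv1 : chkLvl 128 ns G_l1 G_C2 G_D1 2 = true :=
  by decide +kernel

theorem G_lb1 : 1451520 ≤ Nat.card (cgrp ns G_C1) :=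
  lb_step ctx G_lv1 G_lb2 (by decide +kernel)

theorem G_le0 : gen ns G_l0.ws ≤ gen ns G_ss0 :=
  gen_le_step ctx (tgt := [[4], [6], [8]])
  (es := [([4], [1, 1, 2, 2, 0, 0, 2, 1, 1, 3, 1]), ([6], [3, 5, 2, 5, 2, 5, 2, 4, 3, 3, 3]), ([8], [5, 6, 4, 6, 5, 6, 5])]) G_le1 (by decide +kernel)

theorem G_lv0 : chkLvl 128 ns G_l0 G_C1 G_D0 2 = true :=
  by decide +kernel

theorem G_lb0 : 174182400 ≤ Nat.card (cgrp ns G_C0) :=
  lb_step ctx G_lv0 G_lb1 (by decide +kernel)

theorem G_lb : 174182400 ≤ Nat.card (gen ns G_ss0) :=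
  lb_of_le ctx G_le0 G_lb0

/-- enumeration of the coordinates -/
def ix (i : ℕ) : Fin 4 ⊕ Fin 4 := ([.inl 0, .inl 1, .inl 2, .inl 3, .inr 0, .inr 1, .inr 2, .inr 3] : List (Fin 4 ⊕ Fin 4)).getD i (.inl 0)

/-- its inverse -/
def qx : Fin 4 ⊕ Fin 4 → ℕ := Sum.elim (fun i => i.val) fun i => i.val + 4

theorem hq : ∀ a, qx a < 8 ∧ ix (qx a) = a :=
  by decide

noncomputable def MASK : ℕ :=
  nat_lit 0x80000000008000000000800000000080000000008000000000800000000080000000008000000000040000000004000000000400000000040000000004000000000400000000040000000004000000000020000000002000000000200000000020000000002000000000200000000020000000002000000000010000000001000000000100000000010000000001000000000100000000010000000001000000000008000000000800000000080000000008000000000800000000080000000008000000000800000000004000000000400000000040000000004000000000400000000040000000004000000000400000000002000000000200000000020000000002000000000200000000020000000002000000000200000000001000000000100000000010000000001000000000100000000010000000001000000000100000000000000000000000000000000000000000000000000000000000000000000000000000000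

noncomputable def MOD : ℕ :=
  nat_lit 0xffffffffffffffffffffffffffffffffffffffffffffffffffffffffffffffffffffffffffffffff

noncomputable def DW : ℕ :=
  nat_lit 0x10000000000000000000000000000000000000000000000000000000000000000000000000000000100000000000000000000000000000000000000000000000000000000000000000000000000000001000000000000000000000000000000000000000000000000000000000000000000000000000000010000000000000000000000000000000000000000000000000000000000000000000000000000000100000000000000000000000000000000000000000000000000000000000000000000000000000001000000000000000000000000000000000000000000000000000000000000000000000000000000010000000000000000000000000000000000000000000000000000000000000000000000000000000100000000000000000000000000000000000000000000000000000000000000000000000000000000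

noncomputable def Cw : ℕ :=
  nat_lit 0x8000000000040000000000200000000001000000000008000000000040000000000200000000001

noncomputable def op : ℕ → ℕ → ℕ :=
  raw MASK MOD

theorem X : Kron.Ctx ix (1 : ZMod 2) 5 8 1 8 2 op DW :=
  ctx_two (isEnum_of qx hq (by decide)) (isBase_zmod 2) Cw (by decide +kernel)

noncomputable def o : ℕ :=
  nat_lit 0x8000000000040000000000200000000001000000000008000000000040000000000200000000001

theorem ho : matB 5 8 1 8 2 oneCode o = true :=
  by decide +kernel

noncomputable def S : ℕ → ℕ :=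
  tabC 40 (ones 40) [nat_lit 0x42008020000210800100401084000842108420084210800008000084200802008001004210842108021080210040000401000210002008401080200040100021004200040108001084000000100401000200002100020080210842100001000210000108001080000840008021080210800000421084000840108421084000040100401080210800100401000210042000421004000842000400000010840108400004210802000020080010842008020080000042108020004000040000421000200840000400080210040100001080210040100001000200842008020004210800100001000200002000420004000840100021080210002008420080010002000421080200002100401004200842000401084200842100021004010842100020084200002108401004200040000420000010000100001004210842100400,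
 nat_lit 0x8420080000042000020000200842108420000200840108401000010800100021084200800100021004000842000401004000842108021000010842108020084010800008421080000800108021084210802008400004200802108401080000842008420080000840108400080200042000021080000802100400084210802100001084210042100001000210840008001080010802000401084200842108401000210802000020080200042108001004200840100421004210840100400080000840008400004200042100001004200840008000080000802100420004000042100401080010040008400084000800000021084010802108400080200042008401000010800008020000200042000400084010800100421]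

noncomputable def Z : ℕ :=
  nat_lit 0x8000000000040000000000200000000001000000000008000000000040000000000200000000001

theorem hZ : matB 5 8 1 8 2 (scalCode (fun t => getL 0 [1, 0] t)) Z = true :=
  by decide +kernel

theorem hS : validT 5 8 8 2 120 S = true :=
  by decide +kernel

/-- the points -/
noncomputable def pt : ℕ → Sub (Fin 4 ⊕ Fin 4) (ZMod 2) := subPt ix (1 : ZMod 2) 5 8 8 S

noncomputable def C0 : ℕ :=
  nat_lit 0x21004210800000421004000802008021000210802008021000010002000000004000002008401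

theorem act0 : ∀ g : GL (Fin 4 ⊕ Fin 4) (ZMod 2), RepE ix (1 : ZMod 2) 5 8 8 2 C0 g → RepBy 120 pt g (wp ns [0]) :=
  fun _ hg => X.repBy_of_chkLine ctx hS hZ hg (t := 1) (by decide +kernel)

theorem rep0 : ∃ g ∈ isometryGroup (ZMod 2) (quadFormPlus 4 (ZMod 2)), RepBy 120 pt g (wp ns [0]) :=
  by
  obtain ⟨g, hg⟩ := X.exists_repE' ho (C := C0) (nat_lit 0x8001000200002108400084000842108001084010800000401000000002008001080010040008001) (by decide +kernel)
  have hm := X.coe_eq_matS hq hg
  exact ⟨g, mem_isometry_of (Orth.plusQF 4 (ZMod 2)) (Orth.plusQF_apply 4 (ZMod 2)) hm (by decide +kernel) (by decide +kernel), act0 g hg⟩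

noncomputable def C1 : ℕ :=
  nat_lit 0x4200842100000004200042008420004200040100401004200000100001084000042008001

theorem act1 : ∀ g : GL (Fin 4 ⊕ Fin 4) (ZMod 2), RepE ix (1 : ZMod 2) 5 8 8 2 C1 g → RepBy 120 pt g (wp ns [2]) :=
  fun _ hg => X.repBy_of_chkLine ctx hS hZ hg (t := 1) (by decide +kernel)

theorem rep1 : ∃ g ∈ isometryGroup (ZMod 2) (quadFormPlus 4 (ZMod 2)), RepBy 120 pt g (wp ns [2]) :=
  by
  obtain ⟨g, hg⟩ := X.exists_repE' ho (C := C1) (nat_lit 0x21000000802008021000000802108401000000000000401084010042100401004210802000400) (by decide +kernel)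
  have hm := X.coe_eq_matS hq hg
  exact ⟨g, mem_isometry_of (Orth.plusQF 4 (ZMod 2)) (Orth.plusQF_apply 4 (ZMod 2)) hm (by decide +kernel) (by decide +kernel), act1 g hg⟩

noncomputable def ls : List (List ℕ) :=
  [[0], [2]]

theorem repsL : Reps 120 pt (isometryGroup (ZMod 2) (quadFormPlus 4 (ZMod 2))) ns ls :=
  Reps.cons rep0 (Reps.cons rep1 (Reps.nil))

theorem sep0 : Sep 120 pt 0 :=
  X.sep_of_chkSepSub hS (P := (nat_lit 0x84210040000000000000000000000)) (by decide +kernel)

theorem inj : ∀ i < 120, ∀ j < 120, pt i = pt j → i = j :=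
  repsL.inj ctx (ps := [0]) 6 (List.forall_mem_cons.2 ⟨sep0, fun _ h => absurd h List.not_mem_nil⟩) (by decide +kernel)

noncomputable def ps : List (List ℕ × List ℕ) :=
  [([0, 3], [2, 1, 3]), ([2, 1, 2], [3, 1])]

theorem hcomm : chkComm ls ps G_ss0 = true :=
  by decide +kernel

theorem cardP : Nat.card (POmega (ZMod 2) (quadFormPlus 4 (ZMod 2))) = 174182400 :=
  by
  have h := Orth.card_POmega_plus (F := ZMod 2) (m := 3) (by norm_num)
  rw [Nat.card_zmod] at h
  exact (one_mul _).symm.trans (h.trans (by decide +kernel))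

theorem card : Nat.card (Omega (ZMod 2) (quadFormPlus 4 (ZMod 2))) = 174182400 :=
  (card_Omega_plus_two (by decide) (by norm_num)).trans cardP

theorem model : ∃ e : Omega (ZMod 2) (quadFormPlus 4 (ZMod 2)) ≃* gen ns G_ss0,
    ∀ g, RepBy 120 pt (omGL (quadFormPlus 4 (ZMod 2)) g) (e g : Equiv.Perm ℕ) :=
  omega_model inj (repsL.comm ps hcomm) (card.trans_le G_lb)

noncomputable def equiv : Omega (ZMod 2) (quadFormPlus 4 (ZMod 2)) ≃* gen ns G_ss0 :=
  Classical.choose model

theorem equiv_rep : ∀ g, RepBy 120 pt (omGL (quadFormPlus 4 (ZMod 2)) g) (equiv g : Equiv.Perm ℕ) :=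
  Classical.choose_spec model

noncomputable def equivP : POmega (ZMod 2) (quadFormPlus 4 (ZMod 2)) ≃* gen ns G_ss0 :=
  (quotCenterEquiv (card.trans cardP.symm).le).symm.trans equiv

theorem G_card : Nat.card (gen ns G_ss0) = 174182400 :=
  (Nat.card_congr equiv.toEquiv).symm.trans card

theorem G_eq : gen ns G_ss0 = cgrp ns G_C0 :=
  eq_of_le_of_lb ctx G_le0 G_card G_lb0

theorem G_card0 : Nat.card (cgrp ns G_C0) = 174182400 :=
  G_eq ▸ G_card

theorem G_st0 : IsStab 128 (gen ns G_l0.ws) (cgrp ns G_C1) G_l0.b G_D0 :=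
  isStab_known ctx G_card0 G_lb1 G_lv0 (by decide +kernel)

theorem G_card1 : Nat.card (cgrp ns G_C1) = 1451520 :=
  card_step ctx G_st0 G_card0 (by decide +kernel)

theorem G_st1 : IsStab 128 (gen ns G_l1.ws) (cgrp ns G_C2) G_l1.b G_D1 :=
  isStab_known ctx G_card1 G_lb2 G_lv1 (by decide +kernel)

theorem G_card2 : Nat.card (cgrp ns G_C2) = 25920 :=
  card_step ctx G_st1 G_card1 (by decide +kernel)

theorem G_st2 : IsStab 128 (gen ns G_l2.ws) (cgrp ns G_C3) G_l2.b G_D2 :=
  isStab_known ctx G_card2 G_lb3 G_lv2 (by decide +kernel)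

theorem G_card3 : Nat.card (cgrp ns G_C3) = 960 :=
  card_step ctx G_st2 G_card2 (by decide +kernel)

theorem G_st3 : IsStab 128 (gen ns G_l3.ws) (cgrp ns G_C4) G_l3.b G_D3 :=
  isStab_known ctx G_card3 G_lb4 G_lv3 (by decide +kernel)

theorem G_card4 : Nat.card (cgrp ns G_C4) = 60 :=
  card_step ctx G_st3 G_card3 (by decide +kernel)

theorem G_st4 : IsStab 128 (gen ns G_l4.ws) (cgrp ns G_C5) G_l4.b G_D4 :=
  isStab_known ctx G_card4 G_lb5 G_lv4 (by decide +kernel)

theorem G_card5 : Nat.card (cgrp ns G_C5) = 6 :=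
  card_step ctx G_st4 G_card4 (by decide +kernel)

theorem G_st5 : IsStab 128 (gen ns G_l5.ws) (cgrp ns G_C6) G_l5.b G_D5 :=
  isStab_known ctx G_card5 G_lb6 G_lv5 (by decide +kernel)

theorem G_card6 : Nat.card (cgrp ns G_C6) = 3 :=
  card_step ctx G_st5 G_card5 (by decide +kernel)

theorem G_st6 : IsStab 128 (gen ns G_l6.ws) (cgrp ns G_C7) G_l6.b G_D6 :=
  isStab_known ctx G_card6 G_lb7 G_lv6 (by decide +kernel)

theorem G_ver7 : Ver ns G_C7 1 :=
  ver_nil _

theorem G_ver6 : Ver ns G_C6 3 :=
  G_ver7.cons ctx G_st6 (by decide +kernel)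

theorem G_ver5 : Ver ns G_C5 6 :=
  G_ver6.cons ctx G_st5 (by decide +kernel)

theorem G_ver4 : Ver ns G_C4 60 :=
  G_ver5.cons ctx G_st4 (by decide +kernel)

theorem G_ver3 : Ver ns G_C3 960 :=
  G_ver4.cons ctx G_st3 (by decide +kernel)

theorem G_ver2 : Ver ns G_C2 25920 :=
  G_ver3.cons ctx G_st2 (by decide +kernel)

theorem G_ver1 : Ver ns G_C1 1451520 :=
  G_ver2.cons ctx G_st1 (by decide +kernel)

theorem G_ver0 : Ver ns G_C0 174182400 :=
  G_ver1.cons ctx G_st0 (by decide +kernel)

theorem G_supp : gen ns G_ss0 ≤ suppSub 120 :=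
  gen_le_supp_of_suppW ctx (by decide +kernel)

end Cfsg.Agent.Spor.ModelO8p
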