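import Cfsg.Agent.Comp.Enum
import Cfsg.Agent.Spor.ModelJ2
import Cfsg.Agent.Misc.Spectrum

set_option autoImplicit false
set_option Elab.async false
set_option maxRecDepth 4096

namespace Cfsg.Agent.Spor.SpecJ2

open Cfsg.Agent.Comp

noncomputable def ns_2 : Net :=
 (Net.cons (nat_lit 64) (nat_lit 0x5c0f139d97660263)
 (Net.cons (nat_lit 32) (nat_lit 0x428033590000000030e9c316)
 (Net.cons (nat_lit 16) (nat_lit 0x45c000045d300005d30000094ce)
 (Net.cons (nat_lit 8) (nat_lit 0xe00810020004c001000c900d60044)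
 (Net.cons (nat_lit 4) (nat_lit 0xa0107000f01020905020c080c0a040c)
 (Net.cons (nat_lit 2) (nat_lit 0x10123000312201112002210021020023)
 (Net.cons (nat_lit 1) (nat_lit 0x40011104150054115401100404144041)
 (Net.cons (nat_lit 2) (nat_lit 0x20002000200000200200000000220020)
 (Net.cons (nat_lit 4) (nat_lit 0xe08040002000a08020a0e080e00000c)
 (Net.cons (nat_lit 8) (nat_lit 0x400840004001200f800f800c200c4)
 (Net.cons (nat_lit 16) (nat_lit 0x14d40000d9d60000ff18000094ea)
 (Net.cons (nat_lit 32) (nat_lit 0xa87314000000000b2f94332)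
 (Net.cons (nat_lit 64) (nat_lit 0x5c0f1395b350d570)
 Net.nil)))))))))))))

noncomputable def ns_3 : Net :=
 (Net.cons (nat_lit 64) (nat_lit 0xb047fd37b61da7de)
 (Net.cons (nat_lit 32) (nat_lit 0x1c86bd9000000000bc33b76)
 (Net.cons (nat_lit 16) (nat_lit 0x945b0000463e00001ede00001ac0)
 (Net.cons (nat_lit 8) (nat_lit 0x680075000400cd0023000100140052)
 (Net.cons (nat_lit 4) (nat_lit 0xc09020104080308050a020d0d000809)
 (Net.cons (nat_lit 2) (nat_lit 0x13020302003100220302030131000210)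
 (Net.cons (nat_lit 1) (nat_lit 0x1140110401000410141051444440444)
 (Net.cons (nat_lit 2) (nat_lit 0x2000020000000200022000020000200)
 (Net.cons (nat_lit 4) (nat_lit 0x80000080a00040606000608000000)
 (Net.cons (nat_lit 8) (nat_lit 0xe8009c000000fc0028000000140050)
 (Net.cons (nat_lit 16) (nat_lit 0x341e000006180000168c0000dec0)
 (Net.cons (nat_lit 32) (nat_lit 0x118bc2d4000000000e533bf8)
 (Net.cons (nat_lit 64) (nat_lit 0xb047fd3c66b600f0)
 Net.nil)))))))))))))

noncomputable def ns_4 : Net :=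
 (Net.cons (nat_lit 64) (nat_lit 0x631022cd475d5f32)
 (Net.cons (nat_lit 32) (nat_lit 0x1eeca91f000000007a84b22e)
 (Net.cons (nat_lit 16) (nat_lit 0xb9d4000031920000980a00001044)
 (Net.cons (nat_lit 8) (nat_lit 0x4009b005200660078008700cc0026)
 (Net.cons (nat_lit 4) (nat_lit 0xe0c020c0800000e0008090c0d04040c)
 (Net.cons (nat_lit 2) (nat_lit 0x2302233021021132012200002302130)
 (Net.cons (nat_lit 1) (nat_lit 0x45441114004041144045015141414510)
 (Net.cons (nat_lit 2) (nat_lit 0x20000222000020220020000202200020)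
 (Net.cons (nat_lit 4) (nat_lit 0x60c080c0800040c000c080c08040a00)
 (Net.cons (nat_lit 8) (nat_lit 0xcc008200500002001200a000c8002a)
 (Net.cons (nat_lit 16) (nat_lit 0x935c000051900000b80a00009000)
 (Net.cons (nat_lit 32) (nat_lit 0x5decab98000000007a807234)
 (Net.cons (nat_lit 64) (nat_lit 0x631022cf09f8ee22)
 Net.nil)))))))))))))

noncomputable def ns_5 : Net :=
 (Net.cons (nat_lit 64) (nat_lit 0x49c1f173e85bb7d8)
 (Net.cons (nat_lit 32) (nat_lit 0x95fe579a00000000d2016dcc)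
 (Net.cons (nat_lit 16) (nat_lit 0x249200004bc2000092ba00008d62)
 (Net.cons (nat_lit 8) (nat_lit 0xc300a7000000c900aa00c5008800a6)
 (Net.cons (nat_lit 4) (nat_lit 0x60409000000050800040a020c0704)
 (Net.cons (nat_lit 2) (nat_lit 0x31320021020032110000303102121222)
 (Net.cons (nat_lit 1) (nat_lit 0x5141014010110500401404414404014)
 (Net.cons (nat_lit 2) (nat_lit 0x220022020020000200202000000020)
 (Net.cons (nat_lit 4) (nat_lit 0xa06020400000200040202040004060c)
 (Net.cons (nat_lit 8) (nat_lit 0x4200e0000000a800ae00b200940030)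
 (Net.cons (nat_lit 16) (nat_lit 0xb10800000bc20000d6b600000d44)
 (Net.cons (nat_lit 32) (nat_lit 0x9c3e178000000000d20565cc)
 (Net.cons (nat_lit 64) (nat_lit 0x49c1f17bcc17c38c)
 Net.nil)))))))))))))

noncomputable def ns_6 : Net :=
 (Net.cons (nat_lit 64) (nat_lit 0x2a5617ff7d57db6c)
 (Net.cons (nat_lit 32) (nat_lit 0x9102e28b0000000083cf777a)
 (Net.cons (nat_lit 16) (nat_lit 0x33c8000072a9000030bf00004418)
 (Net.cons (nat_lit 8) (nat_lit 0xb800e600e20007000e006b00390030)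
 (Net.cons (nat_lit 4) (nat_lit 0x808050b0e0100000c0404020c01080e)
 (Net.cons (nat_lit 2) (nat_lit 0x20023031300000012331002103001002)
 (Net.cons (nat_lit 1) (nat_lit 0x11444045040501140441140401100440)
 (Net.cons (nat_lit 2) (nat_lit 0x20202020020000020220020002000000)
 (Net.cons (nat_lit 4) (nat_lit 0x800060c040000040a0400020c000404)
 (Net.cons (nat_lit 8) (nat_lit 0x3a009000f8006c006c00ea009000bc)
 (Net.cons (nat_lit 16) (nat_lit 0xa1c8000078f60000e29000006418)
 (Net.cons (nat_lit 32) (nat_lit 0x9344e4460000000097461f7c)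
 (Net.cons (nat_lit 64) (nat_lit 0x2a5617f7206b1a3a)
 Net.nil)))))))))))))

noncomputable def ns_7 : Net :=
 (Net.cons (nat_lit 64) (nat_lit 0x7fc86182030d7b4a)
 (Net.cons (nat_lit 32) (nat_lit 0x70d3dc08000000000d177a78)
 (Net.cons (nat_lit 16) (nat_lit 0xa4c100003bac00009964000075e6)
 (Net.cons (nat_lit 8) (nat_lit 0x37008200ee009400c8009e00b00052)
 (Net.cons (nat_lit 4) (nat_lit 0x40f07000804040f000b07020e010a02)
 (Net.cons (nat_lit 2) (nat_lit 0x22323201210210211022212020322212)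
 (Net.cons (nat_lit 1) (nat_lit 0x14101000404454110014440141151004)
 (Net.cons (nat_lit 2) (nat_lit 0x20000000000202200020200022202002)
 (Net.cons (nat_lit 4) (nat_lit 0xc0600000c04080e000006020c040006)
 (Net.cons (nat_lit 8) (nat_lit 0x3400c2000a00a400d800b800b00030)
 (Net.cons (nat_lit 16) (nat_lit 0xc940000018ac000095740000f536)
 (Net.cons (nat_lit 32) (nat_lit 0xf539d84000000000d33fa0e)
 (Net.cons (nat_lit 64) (nat_lit 0x7fc8618da8a5a3c2)
 Net.nil)))))))))))))

noncomputable def ns_8 : Net :=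
 (Net.cons (nat_lit 64) (nat_lit 0xcc09e5395c7b06e4)
 (Net.cons (nat_lit 32) (nat_lit 0x55bfe6bf0000000097ed891c)
 (Net.cons (nat_lit 16) (nat_lit 0x2b1b00000479000039c500007674)
 (Net.cons (nat_lit 8) (nat_lit 0x4000220050004b001000c600b20060)
 (Net.cons (nat_lit 4) (nat_lit 0x90f0c0d0e020f04000b0e080c060e0c)
 (Net.cons (nat_lit 2) (nat_lit 0x2132312220021032033012201320210)
 (Net.cons (nat_lit 1) (nat_lit 0x11144041140100011514011004441414)
 (Net.cons (nat_lit 2) (nat_lit 0x2200002200000022020022000222200)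
 (Net.cons (nat_lit 4) (nat_lit 0xa000c040e020c00080e080808020c08)
 (Net.cons (nat_lit 8) (nat_lit 0xf000220050000a008600c400d00000)
 (Net.cons (nat_lit 16) (nat_lit 0x6a020000407800002a8600006410)
 (Net.cons (nat_lit 32) (nat_lit 0x11be26be00000000961d81d0)
 (Net.cons (nat_lit 64) (nat_lit 0xcc09e538555e4464)
 Net.nil)))))))))))))

noncomputable def ns_9 : Net :=
 (Net.cons (nat_lit 64) (nat_lit 0xeef5445065022820)
 (Net.cons (nat_lit 32) (nat_lit 0x8c14a4d00000000ddb807a8)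
 (Net.cons (nat_lit 16) (nat_lit 0x60720000e0300000299400000120)
 (Net.cons (nat_lit 8) (nat_lit 0xd4004800370078008a00a200620080)
 (Net.cons (nat_lit 4) (nat_lit 0x600000a020708050c04080103080808)
 (Net.cons (nat_lit 2) (nat_lit 0x20021021331331320022020201020)
 (Net.cons (nat_lit 1) (nat_lit 0x14040411501554144440141141011110)
 (Net.cons (nat_lit 2) (nat_lit 0x20020020000000222020202020002220)
 (Net.cons (nat_lit 4) (nat_lit 0x200000a000800040c04000002080808)
 (Net.cons (nat_lit 8) (nat_lit 0x540024006400b8002200aa00420080)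
 (Net.cons (nat_lit 16) (nat_lit 0x62620000b1f8000034bc00000020)
 (Net.cons (nat_lit 32) (nat_lit 0x88104e4000000000ccb80600)
 (Net.cons (nat_lit 64) (nat_lit 0xeef5445065402860)
 Net.nil)))))))))))))

noncomputable def ns_10 : Net :=
 (Net.cons (nat_lit 64) (nat_lit 0xb04bd80a4200)
 (Net.cons (nat_lit 32) (nat_lit 0x7004100000000000628c5c20)
 (Net.cons (nat_lit 16) (nat_lit 0x30400000ad400000b884000059d8)
 (Net.cons (nat_lit 8) (nat_lit 0x9000be00710014000e004b002a)
 (Net.cons (nat_lit 4) (nat_lit 0x40009010000040c0908040e0a0502)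
 (Net.cons (nat_lit 2) (nat_lit 0x10000000222301130200232000023132)
 (Net.cons (nat_lit 1) (nat_lit 0x4000041044440054101011450)
 (Net.cons (nat_lit 2) (nat_lit 0x22020200002002002000)
 (Net.cons (nat_lit 4) (nat_lit 0x800000e040c0808040a0a0802)
 (Net.cons (nat_lit 8) (nat_lit 0x90001400320014000e00e0002a)
 (Net.cons (nat_lit 16) (nat_lit 0x10400000ad400000b804000059d8)
 (Net.cons (nat_lit 32) (nat_lit 0x7004100000000000628c1c20)
 (Net.cons (nat_lit 64) (nat_lit 0xb04bd80a4200)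
 Net.nil)))))))))))))

noncomputable def ns_11 : Net :=
 (Net.cons (nat_lit 64) (nat_lit 0x1a73407200c10220)
 (Net.cons (nat_lit 32) (nat_lit 0xe260800000000000c99c0708)
 (Net.cons (nat_lit 16) (nat_lit 0x3400006cb800002e10000099c0)
 (Net.cons (nat_lit 8) (nat_lit 0x9a004000c8002a00800084008800f0)
 (Net.cons (nat_lit 4) (nat_lit 0x407000800040c0d00000c0108040c00)
 (Net.cons (nat_lit 2) (nat_lit 0x2330030330230000000020212002220)
 (Net.cons (nat_lit 1) (nat_lit 0x14144051551051444100510401014110)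
 (Net.cons (nat_lit 2) (nat_lit 0x2000000000000000000020202002220)
 (Net.cons (nat_lit 4) (nat_lit 0x408000800000c0000000c0008000c00)
 (Net.cons (nat_lit 8) (nat_lit 0x9a004000c8002a00800084008000b0)
 (Net.cons (nat_lit 16) (nat_lit 0x3400006cb800002e1000009840)
 (Net.cons (nat_lit 32) (nat_lit 0xe260800000000000c99c0700)
 (Net.cons (nat_lit 64) (nat_lit 0x1a73407200c10220)
 Net.nil)))))))))))))

noncomputable def ns_12 : Net :=
 (Net.cons (nat_lit 64) (nat_lit 0xeef5445065402860)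
 (Net.cons (nat_lit 32) (nat_lit 0x67e6b03f00000000ecb00220)
 (Net.cons (nat_lit 16) (nat_lit 0xfb4a00007362000004ba00000420)
 (Net.cons (nat_lit 8) (nat_lit 0xbc0031008b00e4000a00aa006a0080)
 (Net.cons (nat_lit 4) (nat_lit 0x20d020002000a0c08060b0d000a08)
 (Net.cons (nat_lit 2) (nat_lit 0x30021121032020230320320302001220)
 (Net.cons (nat_lit 1) (nat_lit 0x50541440051414141100101554014110)
 (Net.cons (nat_lit 2) (nat_lit 0x22220000020220000000002002020)
 (Net.cons (nat_lit 4) (nat_lit 0x80200020006000a0c08060a0c000008)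
 (Net.cons (nat_lit 8) (nat_lit 0xfc0034000a008800a20082006a0080)
 (Net.cons (nat_lit 16) (nat_lit 0xfb480000717200002d3000000520)
 (Net.cons (nat_lit 32) (nat_lit 0xe737b43200000000edb003a8)
 (Net.cons (nat_lit 64) (nat_lit 0xeef5445065022820)
 Net.nil)))))))))))))

noncomputable def ns_13 : Net :=
 (Net.cons (nat_lit 64) (nat_lit 0xaa650204cf025000)
 (Net.cons (nat_lit 32) (nat_lit 0x8a6c800000000000c0308888)
 (Net.cons (nat_lit 16) (nat_lit 0xa80000009fe30000a49000008240)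
 (Net.cons (nat_lit 8) (nat_lit 0x8000280039009100b20062004400b0)
 (Net.cons (nat_lit 4) (nat_lit 0x802060c080c0c080b0909040b00)
 (Net.cons (nat_lit 2) (nat_lit 0x220200002032201020000002022210)
 (Net.cons (nat_lit 1) (nat_lit 0x10005101050400510110440441100)
 (Net.cons (nat_lit 2) (nat_lit 0x20000002000200020000000022200)
 (Net.cons (nat_lit 4) (nat_lit 0x802020808040c08000808040000)
 (Net.cons (nat_lit 8) (nat_lit 0x8000280018009000920022004400b0)
 (Net.cons (nat_lit 16) (nat_lit 0xa80000009ee00000a49000008240)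
 (Net.cons (nat_lit 32) (nat_lit 0x8a2c800000000000c0308880)
 (Net.cons (nat_lit 64) (nat_lit 0xaa650204cf025000)
 Net.nil)))))))))))))

noncomputable def ns_14 : Net :=
 (Net.cons (nat_lit 64) (nat_lit 0x451f5550110a00c0)
 (Net.cons (nat_lit 32) (nat_lit 0xec23812600000000c8688800)
 (Net.cons (nat_lit 16) (nat_lit 0x43200003d960000b08000005810)
 (Net.cons (nat_lit 8) (nat_lit 0x8001e003700d20020002200500030)
 (Net.cons (nat_lit 4) (nat_lit 0xc000c01090b090c04080a02090a0a00)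
 (Net.cons (nat_lit 2) (nat_lit 0x21002020031200200200222022022220)
 (Net.cons (nat_lit 1) (nat_lit 0x40151540441404110440100011100010)
 (Net.cons (nat_lit 2) (nat_lit 0x20002020020002200200200022000020)
 (Net.cons (nat_lit 4) (nat_lit 0x4000c00080c080804080800000a0000)
 (Net.cons (nat_lit 8) (nat_lit 0x8001a002000d20000008000100030)
 (Net.cons (nat_lit 16) (nat_lit 0x432000039140000b08000005810)
 (Net.cons (nat_lit 32) (nat_lit 0xec23812600000000c8688800)
 (Net.cons (nat_lit 64) (nat_lit 0x451f5550110a0080)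
 Net.nil)))))))))))))

noncomputable def ns_15 : Net :=
 (Net.cons (nat_lit 64) (nat_lit 0x2030d217c58141c0)
 (Net.cons (nat_lit 32) (nat_lit 0xb12890980000000023139000)
 (Net.cons (nat_lit 16) (nat_lit 0x72100000ee1a0000728a00000c90)
 (Net.cons (nat_lit 8) (nat_lit 0x8003200e2002c001100c400a000a0)
 (Net.cons (nat_lit 4) (nat_lit 0x400080d0c0d0700010100000a0d0204)
 (Net.cons (nat_lit 2) (nat_lit 0x23000232003211000002022013110302)
 (Net.cons (nat_lit 1) (nat_lit 0x10000051005100150040140105004004)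
 (Net.cons (nat_lit 2) (nat_lit 0x20000002000200000000020000000002)
 (Net.cons (nat_lit 4) (nat_lit 0x400080400040000000000000a000204)
 (Net.cons (nat_lit 8) (nat_lit 0x8003200e0002c0000008400a000a0)
 (Net.cons (nat_lit 16) (nat_lit 0x72000000ee1a0000728a00000c90)
 (Net.cons (nat_lit 32) (nat_lit 0xb10890980000000023139000)
 (Net.cons (nat_lit 64) (nat_lit 0x2030d217c58141c0)
 Net.nil)))))))))))))

noncomputable def ns_16 : Net :=
 (Net.cons (nat_lit 64) (nat_lit 0x302050a941840080)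
 (Net.cons (nat_lit 32) (nat_lit 0x10024a000000000083829028)
 (Net.cons (nat_lit 16) (nat_lit 0x32000000b0600000c6f000005d80)
 (Net.cons (nat_lit 8) (nat_lit 0x30009000f00099000000ca00b4000c)
 (Net.cons (nat_lit 4) (nat_lit 0x2020c0503090c020c04020d020a0000)
 (Net.cons (nat_lit 2) (nat_lit 0x2022313201210202001331221002)
 (Net.cons (nat_lit 1) (nat_lit 0x100440145110104014540050000004)
 (Net.cons (nat_lit 2) (nat_lit 0x20200200200002000000000002)
 (Net.cons (nat_lit 4) (nat_lit 0x20c040c0000040c04020802000000)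
 (Net.cons (nat_lit 8) (nat_lit 0x30009000f000dc000000ca00b40004)
 (Net.cons (nat_lit 16) (nat_lit 0x32000000b060000044f000005d80)
 (Net.cons (nat_lit 32) (nat_lit 0x10024a000000000082829028)
 (Net.cons (nat_lit 64) (nat_lit 0x302050a941840080)
 Net.nil)))))))))))))

noncomputable def ns_17 : Net :=
 (Net.cons (nat_lit 64) (nat_lit 0x101b002087d2e42)
 (Net.cons (nat_lit 32) (nat_lit 0x9989d82b00000000a2b4c246)
 (Net.cons (nat_lit 16) (nat_lit 0x51880000743f0000906600009b04)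
 (Net.cons (nat_lit 8) (nat_lit 0x800110037007100e2005400340086)
 (Net.cons (nat_lit 4) (nat_lit 0x8000801030e01080800080c0e070e04)
 (Net.cons (nat_lit 2) (nat_lit 0x10002003012311032200020300323132)
 (Net.cons (nat_lit 1) (nat_lit 0x40000004100450014054401110411104)
 (Net.cons (nat_lit 2) (nat_lit 0x200002000002020222002)
 (Net.cons (nat_lit 4) (nat_lit 0x80a020c000e0800040c0a060a06)
 (Net.cons (nat_lit 8) (nat_lit 0x100020005400800086004200d4)
 (Net.cons (nat_lit 16) (nat_lit 0xc180000050680000925400009346)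
 (Net.cons (nat_lit 32) (nat_lit 0x9888c8280000000020928aa4)
 (Net.cons (nat_lit 64) (nat_lit 0x101b00cee7d2b72)
 Net.nil)))))))))))))

noncomputable def ns_18 : Net :=
 (Net.cons (nat_lit 64) (nat_lit 0x9e265ceaea24e24c)
 (Net.cons (nat_lit 32) (nat_lit 0xdf77459500000000009d1d9c)
 (Net.cons (nat_lit 16) (nat_lit 0x88a6000082ae0000ba8000007a28)
 (Net.cons (nat_lit 8) (nat_lit 0x60093001800fa00e800340084000c)
 (Net.cons (nat_lit 4) (nat_lit 0xc04040c000c040d0c0801020200080e)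
 (Net.cons (nat_lit 2) (nat_lit 0x1100113001220312213010020203022)
 (Net.cons (nat_lit 1) (nat_lit 0x40410111040004541441000141540414)
 (Net.cons (nat_lit 2) (nat_lit 0x2000000022222000220000002)
 (Net.cons (nat_lit 4) (nat_lit 0x8020008000c040c040c000a0004000e)
 (Net.cons (nat_lit 8) (nat_lit 0x5400c2001000f00030003000a6000c)
 (Net.cons (nat_lit 16) (nat_lit 0x9ce20000962e0000bb940000da48)
 (Net.cons (nat_lit 32) (nat_lit 0xcf750dd40000000001d4bf9c)
 (Net.cons (nat_lit 64) (nat_lit 0x9e265ceec2227ad8)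
 Net.nil)))))))))))))

noncomputable def ns_19 : Net :=
 (Net.cons (nat_lit 64) (nat_lit 0xa57bd8fa7de51502)
 (Net.cons (nat_lit 32) (nat_lit 0xeded2df300000000f213e01e)
 (Net.cons (nat_lit 16) (nat_lit 0x38a8000087080000c21500007360)
 (Net.cons (nat_lit 8) (nat_lit 0x8c003000d000c300060031007800b8)
 (Net.cons (nat_lit 4) (nat_lit 0xb060502020b050a0e000d0002040a00)
 (Net.cons (nat_lit 2) (nat_lit 0x1231122100230233000010121100210)
 (Net.cons (nat_lit 1) (nat_lit 0x41014440001111441400040144004004)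
 (Net.cons (nat_lit 2) (nat_lit 0x2000020000020020200020222000002)
 (Net.cons (nat_lit 4) (nat_lit 0x60400040000000a00000c0200040c00)
 (Net.cons (nat_lit 8) (nat_lit 0x4c00d400d2000a00140034005000b8)
 (Net.cons (nat_lit 16) (nat_lit 0xfc760000970800006210000072ac)
 (Net.cons (nat_lit 32) (nat_lit 0x69aef5a600000000aa17e610)
 (Net.cons (nat_lit 64) (nat_lit 0xa57bd8f2406e0674)
 Net.nil)))))))))))))

noncomputable def ns_20 : Net :=
 (Net.cons (nat_lit 64) (nat_lit 0x98dc4c993e63a076)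
 (Net.cons (nat_lit 32) (nat_lit 0xbf3832830000000036aa4efa)
 (Net.cons (nat_lit 16) (nat_lit 0x2d440000c04c0000dbd30000c13a)
 (Net.cons (nat_lit 8) (nat_lit 0x30003d0018000c000f007800220012)
 (Net.cons (nat_lit 4) (nat_lit 0xa00040b000d040c040908030a000700)
 (Net.cons (nat_lit 2) (nat_lit 0x2201212202001022133221202202112)
 (Net.cons (nat_lit 1) (nat_lit 0x14100414101140411140044401451104)
 (Net.cons (nat_lit 2) (nat_lit 0x2000222202000222000022202202002)
 (Net.cons (nat_lit 4) (nat_lit 0x20804000808040e0400080208040402)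
 (Net.cons (nat_lit 8) (nat_lit 0x180024008800c400e4007c002e0020)
 (Net.cons (nat_lit 16) (nat_lit 0x3fc4000008da0000bb700000405c)
 (Net.cons (nat_lit 32) (nat_lit 0xa7b0720c0000000032aa4fb2)
 (Net.cons (nat_lit 64) (nat_lit 0x98dc4c9836cc2012)
 Net.nil)))))))))))))

noncomputable def ns_21 : Net :=
 (Net.cons (nat_lit 64) (nat_lit 0x1363662ccb9a607c)
 (Net.cons (nat_lit 32) (nat_lit 0xcce1b2190000000019de1b78)
 (Net.cons (nat_lit 16) (nat_lit 0x8b3500001d210000c8580000c0d5)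
 (Net.cons (nat_lit 8) (nat_lit 0x10003200610000008400b4000a0079)
 (Net.cons (nat_lit 4) (nat_lit 0xc0b02010c0704000d0c0001000b0800)
 (Net.cons (nat_lit 2) (nat_lit 0x2012102213003001202100020302212)
 (Net.cons (nat_lit 1) (nat_lit 0x4140101014014045104104000141151)
 (Net.cons (nat_lit 2) (nat_lit 0x20200002002000202000000222200)
 (Net.cons (nat_lit 4) (nat_lit 0xc08000208040400040006000004000e)
 (Net.cons (nat_lit 8) (nat_lit 0x4001000420042001800b6006e00e4)
 (Net.cons (nat_lit 16) (nat_lit 0x5f1600001f040000d1920000ec50)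
 (Net.cons (nat_lit 32) (nat_lit 0xdee290380000000055ca8ae6)
 (Net.cons (nat_lit 64) (nat_lit 0x13636622fbb082a0)
 Net.nil)))))))))))))

noncomputable def ns : List Net := [ModelJ2.ns_0, ModelJ2.ns_1, ns_2, ns_3, ns_4, ns_5, ns_6, ns_7, ns_8, ns_9, ns_10, ns_11, ns_12, ns_13, ns_14, ns_15, ns_16, ns_17, ns_18, ns_19, ns_20, ns_21]

theorem ctx : Ctx 128 7 ns := ctx_of (by decide +kernel)

theorem lctx : LCtx 128 7 8 127 trN7 ns := lctx_of ctx trOK7 (by decide +kernel)

noncomputable def E : List ℕ → ℕ → ℕ := pfW0 128 7 8 127 trN7 ns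

theorem hE : Evl 128 ns E := evl_pfW0 lctx

theorem geq : gen ModelJ2.ns ModelJ2.G_ss0 = gen ns [[0], [2]] :=
  gen_eq_of_take (ns := ModelJ2.ns) (ns' := ns) (k := 2) rfl (ws := ModelJ2.G_ss0) (by decide +kernel)

theorem hn : Nat.card (gen ns [[0], [2]]) = 604800 :=
  geq ▸ ModelJ2.G_card

theorem kn_0 : Known ns (gen ns [[0], [2]]) 3 :=
  known_gen (by decide +kernel)

noncomputable def A_S7 : List SD :=
  []

noncomputable def A_d6 : SD :=
  ⟨4, 1, [28], lab 1 1 0, 1⟩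

noncomputable def A_S6 : List SD :=
  A_d6 :: A_S7

noncomputable def A_d5 : SD :=
  ⟨3, 1, [26, 22, 28], lab 3 7 0, 1⟩

noncomputable def A_S5 : List SD :=
  A_d5 :: A_S6

noncomputable def A_d4 : SD :=
  ⟨10, 1, [24, 26, 22, 28], lab 3 7 0, 1⟩

noncomputable def A_S4 : List SD :=
  A_d4 :: A_S5

noncomputable def A_d3 : SD :=
  ⟨15, 1, [18, 20, 24, 26, 22, 28], lab 4 15 (nat_lit 0x200000000000000000000000000000000000000000000000000000000000000000000000000000000000000000000), 2⟩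

noncomputable def A_S3 : List SD :=
  A_d3 :: A_S4

noncomputable def A_d2 : SD :=
  ⟨2, 1, [14, 16, 18, 20, 24, 26, 22, 28], lab 4 15 (nat_lit 0xa00000000000000000000300000000200000000000000000000000000000000000000010000000000000000000), 2⟩

noncomputable def A_S2 : List SD :=
  A_d2 :: A_S3

noncomputable def A_d1 : SD :=
  ⟨1, 1, [8, 10, 12, 14, 16, 18, 20, 24, 26, 22, 28], lab 5 31 (nat_lit 0x380e03004038180000000000000000000000264700000000091a0000000691c00001601900000005100000004081800001401940000000080000102329800), 3⟩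

noncomputable def A_S1 : List SD :=
  A_d1 :: A_S2

noncomputable def A_d0 : SD :=
  ⟨0, 1, [0, 2, 4, 6, 8, 10, 12, 14, 16, 18, 20, 24, 26, 22, 28], lab 5 31 (nat_lit 0x6e14d59e46448893c0920144d8be8f445ee94a7198a226c5cf715c622da014464601c87209a2538a6b80486a0e8c8f03b1947bd8fa1c6ed3e835b9cf60da0), 3⟩

noncomputable def A_S0 : List SD :=
  A_d0 :: A_S1

theorem kn_1 : Known ns (gen ns [[0], [2]]) 32767 :=
  kn_0.steps ctx (es := [(2, [0, 2, 0]),
 (3, [3, 3, 3, 1, 3]),
 (4, [5, 0, 3, 7, 7, 3, 5, 3]),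
 (5, [4, 2, 4, 0, 6, 1, 2, 4, 1, 5]),
 (6, [11, 11, 9]),
 (7, [9, 11, 8, 12, 10, 8, 11, 13, 8]),
 (8, [9, 10, 13, 8, 11, 8, 10, 13]),
 (9, [15, 17, 15, 15, 15]),
 (10, [15, 15, 17, 14]),
 (11, [21, 21, 18, 20, 18, 18, 20]),
 (12, [21, 21, 19, 21, 19, 21, 21, 18, 20]),
 (13, [24, 24]),
 (14, [27, 22, 26, 23, 26, 23, 27, 27])]) (by decide +kernel)

theorem A_ex : Exact 128 ns A_S0 ∧ gen ns (sTop A_S0) = gen ns [[0], [2]] ∧ gen ns [[0], [2]] = gen ns [[0], [2]] :=
  exact_of_known ctx hn (le_rfl) kn_1 (by decide +kernel)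

noncomputable def A_T7 : List ETr :=
  []

noncomputable def A_t6 : ETr :=
  (.node 28 .nil .nil)

noncomputable def A_T6 : List ETr :=
  A_t6 :: A_T7

noncomputable def A_t5 : ETr :=
  (.node 26 .nil .nil)

noncomputable def A_T5 : List ETr :=
  A_t5 :: A_T6

noncomputable def A_t4 : ETr :=
  (.node 24 .nil .nil)

noncomputable def A_T4 : List ETr :=
  A_t4 :: A_T5

noncomputable def A_t3 : ETr :=
  (.node 20 (.node 18 .nil .nil) .nil)

noncomputable def A_T3 : List ETr :=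
  A_t3 :: A_T4

noncomputable def A_t2 : ETr :=
  (.node 14 (.node 18 .nil (.node 20 .nil .nil)) (.node 15 (.node 17 .nil .nil) (.node 16 .nil .nil)))

noncomputable def A_T2 : List ETr :=
  A_t2 :: A_T3

noncomputable def A_t1 : ETr :=
  (.node 8 (.node 10 (.node 14 .nil (.node 15 .nil .nil)) (.node 12 .nil (.node 14 .nil (.node 15 (.node 10 .nil .nil) (.node 17 .nil (.node 18 .nil (.node 26 .nil (.node 22 (.node 13 .nil .nil) .nil)))))))) (.node 9 (.node 10 .nil (.node 11 .nil (.node 14 .nil (.node 18 .nil (.node 19 .nil .nil))))) (.node 10 (.node 12 .nil (.node 13 .nil (.node 14 .nil (.node 15 .nil (.node 20 .nil .nil))))) (.node 11 (.node 14 .nil .nil) (.node 12 (.node 16 .nil .nil) (.node 13 (.node 13 .nil (.node 14 .nil (.node 15 .nil (.node 17 .nil (.node 22 .nil .nil))))) .nil))))))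

noncomputable def A_T1 : List ETr :=
  A_t1 :: A_T2

theorem A_tr1 : chkTrees ns A_S1 A_T1 = true :=
  by decide +kernel

theorem A_tr2 : chkTrees ns A_S2 A_T2 = true :=
  by decide +kernel

theorem A_tr3 : chkTrees ns A_S3 A_T3 = true :=
  by decide +kernel

theorem A_tr4 : chkTrees ns A_S4 A_T4 = true :=
  by decide +kernel

theorem A_tr5 : chkTrees ns A_S5 A_T5 = true :=
  by decide +kernel

theorem A_tr6 : chkTrees ns A_S6 A_T6 = true :=
  by decide +kernel

theorem A_ex0 : Exact 128 ns A_S0 :=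
  A_ex.1

theorem A_ex1 : Exact 128 ns A_S1 :=
  A_ex0.tail

theorem A_ex2 : Exact 128 ns A_S2 :=
  A_ex1.tail

theorem A_ex3 : Exact 128 ns A_S3 :=
  A_ex2.tail

theorem A_ex4 : Exact 128 ns A_S4 :=
  A_ex3.tail

theorem A_ex5 : Exact 128 ns A_S5 :=
  A_ex4.tail

theorem A_ex6 : Exact 128 ns A_S6 :=
  A_ex5.tail

theorem A_ex7 : Exact 128 ns A_S7 :=
  A_ex6.tail

theorem A_le0 : gen ns (sTop A_S0) ≤ gen ns (sTop A_S0) :=
  le_rfl

theorem A_le1 : gen ns (sTop A_S1) ≤ gen ns (sTop A_S0) :=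
  A_ex0.stab.le.trans A_le0

theorem A_le2 : gen ns (sTop A_S2) ≤ gen ns (sTop A_S0) :=
  A_ex1.stab.le.trans A_le1

theorem A_le3 : gen ns (sTop A_S3) ≤ gen ns (sTop A_S0) :=
  A_ex2.stab.le.trans A_le2

theorem A_le4 : gen ns (sTop A_S4) ≤ gen ns (sTop A_S0) :=
  A_ex3.stab.le.trans A_le3

theorem A_le5 : gen ns (sTop A_S5) ≤ gen ns (sTop A_S0) :=
  A_ex4.stab.le.trans A_le4

theorem A_le6 : gen ns (sTop A_S6) ≤ gen ns (sTop A_S0) :=
  A_ex5.stab.le.trans A_le5

theorem A_le7 : gen ns (sTop A_S7) ≤ gen ns (sTop A_S0) :=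
  A_ex6.stab.le.trans A_le6

noncomputable def B2_S6 : List SD :=
  []

noncomputable def B2_d5 : SD :=
  ⟨1, 1, [30], lab 1 1 0, 1⟩

noncomputable def B2_S5 : List SD :=
  B2_d5 :: B2_S6

noncomputable def B2_d4 : SD :=
  ⟨3, 1, [32, 30], lab 2 3 0, 1⟩

noncomputable def B2_S4 : List SD :=
  B2_d4 :: B2_S5

noncomputable def B2_d3 : SD :=
  ⟨2, 1, [34, 36, 32, 30], lab 3 7 (nat_lit 0x10000000000000000000000000400000000), 2⟩

noncomputable def B2_S3 : List SD :=
  B2_d3 :: B2_S4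

noncomputable def B2_d2 : SD :=
  ⟨9, 2, [38, 34, 36, 32, 30], lab 4 15 (nat_lit 0x40000000100000000000200000000000000000000000000000000000000000000000000000000000000000000000000), 3⟩

noncomputable def B2_S2 : List SD :=
  B2_d2 :: B2_S3

noncomputable def B2_d1 : SD :=
  ⟨55, 2, [40, 38, 34, 36, 32, 30], lab 4 15 (nat_lit 0x601000102061101803455a140727000030706100018010000014506000115a00040a0010024100a00752303000800000000), 4⟩

noncomputable def B2_S1 : List SD :=
  B2_d1 :: B2_S2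

noncomputable def B2_d0 : SD :=
  ⟨0, 2, [42, 40, 38, 34, 36, 32, 30], lab 4 15 (nat_lit 0x33553053393325201a166131122964466020011a04870c555661782003001c6261170c2074180109c7101221410138562400), 5⟩

noncomputable def B2_S0 : List SD :=
  B2_d0 :: B2_S1

theorem kn_2 : Known ns (gen ns [[0], [2]]) 4194303 :=
  kn_1.steps ctx (es := [(15, [17, 13, 14, 20, 24, 26, 28]),
 (16, [14, 12, 14, 14, 18, 20, 24]),
 (17, [10, 8, 26, 14, 18, 20, 26]),
 (18, [13, 8, 15, 24, 26]),
 (19, [8, 14, 18, 20, 24, 28]),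
 (20, [17, 8, 17, 24, 28]),
 (21, [14, 0, 15, 12, 14, 14, 18, 20, 26])]) (by decide +kernel)

theorem B2_ex : Exact 128 ns B2_S0 ∧ gen ns (sTop B2_S0) = gen ns [[0], [2]] ∧ gen ns [[0], [2]] = gen ns [[0], [2]] :=
  exact_of_known ctx hn (le_rfl) kn_2 (by decide +kernel)

noncomputable def B2_T6 : List ETr :=
  []

noncomputable def B2_t5 : ETr :=
  (.node 30 .nil .nil)

noncomputable def B2_T5 : List ETr :=
  B2_t5 :: B2_T6

noncomputable def B2_t4 : ETr :=
  (.node 32 .nil .nil)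

noncomputable def B2_T4 : List ETr :=
  B2_t4 :: B2_T5

noncomputable def B2_t3 : ETr :=
  (.node 34 (.node 36 .nil .nil) (.node 36 .nil .nil))

noncomputable def B2_T3 : List ETr :=
  B2_t3 :: B2_T4

noncomputable def B2_t2 : ETr :=
  (.node 38 (.node 34 (.node 38 .nil .nil) (.node 36 .nil .nil)) (.node 39 .nil .nil))

noncomputable def B2_T2 : List ETr :=
  B2_t2 :: B2_T3

theorem B2_tr2 : chkTrees ns B2_S2 B2_T2 = true :=
  by decide +kernel

theorem B2_tr3 : chkTrees ns B2_S3 B2_T3 = true :=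
  by decide +kernel

theorem B2_tr4 : chkTrees ns B2_S4 B2_T4 = true :=
  by decide +kernel

theorem B2_tr5 : chkTrees ns B2_S5 B2_T5 = true :=
  by decide +kernel

theorem B2_ex0 : Exact 128 ns B2_S0 :=
  B2_ex.1

theorem B2_ex1 : Exact 128 ns B2_S1 :=
  B2_ex0.tail

theorem B2_ex2 : Exact 128 ns B2_S2 :=
  B2_ex1.tail

theorem B2_ex3 : Exact 128 ns B2_S3 :=
  B2_ex2.tail

theorem B2_ex4 : Exact 128 ns B2_S4 :=
  B2_ex3.tail

theorem B2_ex5 : Exact 128 ns B2_S5 :=
  B2_ex4.tail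

theorem B2_ex6 : Exact 128 ns B2_S6 :=
  B2_ex5.tail

theorem B2_le0 : gen ns (sTop B2_S0) ≤ gen ns (sTop B2_S0) :=
  le_rfl

theorem B2_le1 : gen ns (sTop B2_S1) ≤ gen ns (sTop B2_S0) :=
  B2_ex0.stab.le.trans B2_le0

theorem B2_le2 : gen ns (sTop B2_S2) ≤ gen ns (sTop B2_S0) :=
  B2_ex1.stab.le.trans B2_le1

theorem B2_le3 : gen ns (sTop B2_S3) ≤ gen ns (sTop B2_S0) :=
  B2_ex2.stab.le.trans B2_le2

theorem B2_le4 : gen ns (sTop B2_S4) ≤ gen ns (sTop B2_S0) :=
  B2_ex3.stab.le.trans B2_le3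

theorem B2_le5 : gen ns (sTop B2_S5) ≤ gen ns (sTop B2_S0) :=
  B2_ex4.stab.le.trans B2_le4

theorem B2_le6 : gen ns (sTop B2_S6) ≤ gen ns (sTop B2_S0) :=
  B2_ex5.stab.le.trans B2_le5

theorem A_e0 : gen ns (sTop A_S0) = gen ns (sTop A_S0) :=
  A_ex.2.1.trans A_ex.2.1.symm

theorem B2_e0 : gen ns (sTop A_S0) = gen ns (sTop B2_S0) :=
  A_ex.2.1.trans B2_ex.2.1.symm

theorem o_K : Known ns (gen ns (sTop A_S0)) 4194303 :=
  A_ex.2.1.symm ▸ kn_2

noncomputable def PA : Equiv.Perm ℕ → Prop :=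
  fun g => Nat.testBit 38398 (orderOf g) = true

theorem test : TabTest 128 7 (gen ns (sTop A_S0)) (ordP 8 127 trN7 15 [0, 1, 2, 15, 10, 3, 4] 38398) PA :=
  tabTest_ordP lctx A_ex0 (by decide +kernel) 15 (by decide +kernel)

theorem o_k0 : Known ns (gen ns (sTop A_S0)) 32767 :=
  known_gen (by decide +kernel)

theorem o_k1 : Known ns (gen ns (sTop A_S1)) 32752 :=
  known_gen (by decide +kernel)

theorem o_k2 : Known ns (gen ns (sTop A_S2)) 32640 :=
  known_gen (by decide +kernel)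

theorem o_a2 : ∀ g ∈ gen ns (sTop A_S2), PA g :=
  fun g hg => by
    simpa using cov_of_enumW ctx A_ex2 A_tr2 A_le2 test o_k0 (u := []) (by decide +kernel) g hg

theorem o_c1_1 : Cov PA (gen ns (sTop A_S2)) (wp ns [8]) :=
  cov_of_enumW ctx A_ex2 A_tr2 A_le2 test o_k0 (by decide +kernel)

theorem o_c1_2 : Cov PA (gen ns (sTop A_S2)) (wp ns [10]) :=
  cov_of_enumW ctx A_ex2 A_tr2 A_le2 test o_k0 (by decide +kernel)

theorem o_c1_3 : Cov PA (gen ns (sTop A_S2)) (wp ns [11]) :=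
  cov_of_enumW ctx A_ex2 A_tr2 A_le2 test o_k0 (by decide +kernel)

theorem o_a1 : ∀ g ∈ gen ns (sTop A_S1), PA g :=
  forall_of_cov ctx.ok A_ex1 (fun h _ => testBit_orderOf_conj 38398 h) o_k1 (us := [[], [8], [10], [11]]) (r := 2) (by decide +kernel)
    (by simp only [List.forall_mem_cons]; exact ⟨cov_nil o_a2, o_c1_1, o_c1_2, o_c1_3, fun _ h => absurd h List.not_mem_nil⟩)

theorem o_c0_1_0 : Cov PA (gen ns (sTop A_S2)) (wp ns [13, 8, 2]) :=
  cov_of_enumW ctx A_ex2 A_tr2 (A_le2.trans A_e0.ge) test o_K (by decide +kernel)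

theorem o_c0_1_1 : Cov PA (gen ns (sTop A_S2)) (wp ns [13, 8, 2, 9]) :=
  cov_of_enumW ctx A_ex2 A_tr2 (A_le2.trans A_e0.ge) test o_K (by decide +kernel)

theorem o_c0_1_2 : Cov PA (gen ns (sTop A_S2)) (wp ns [13, 8, 2, 10]) :=
  cov_of_enumW ctx A_ex2 A_tr2 (A_le2.trans A_e0.ge) test o_K (by decide +kernel)

theorem o_c0_1_3 : Cov PA (gen ns (sTop A_S2)) (wp ns [13, 8, 2, 8, 15, 8]) :=
  cov_of_enumW ctx A_ex2 A_tr2 (A_le2.trans A_e0.ge) test o_K (by decide +kernel)

theorem o_c0_1 : Cov PA (gen ns (sTop A_S1)) (wp ns [13, 8, 2]) :=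
  cov_of_cov₂ ctx.ok A_ex0 (fun h _ => testBit_orderOf_conj 38398 h) (A_e0 ▸ o_K) (us := [[13, 8, 2], [13, 8, 2, 9], [13, 8, 2, 10], [13, 8, 2, 8, 15, 8]]) (r := 2) (by decide +kernel)
    (by simp only [List.forall_mem_cons]; exact ⟨o_c0_1_0, o_c0_1_1, o_c0_1_2, o_c0_1_3, fun _ h => absurd h List.not_mem_nil⟩)

theorem o_c0_2_0 : Cov PA (gen ns (sTop B2_S2)) (wp ns [4]) :=
  cov_of_enumW ctx B2_ex2 B2_tr2 (B2_le2.trans B2_e0.ge) test o_K (by decide +kernel)

theorem o_c0_2_1 : Cov PA (gen ns (sTop B2_S2)) (wp ns [4, 40]) :=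
  cov_of_enumW ctx B2_ex2 B2_tr2 (B2_le2.trans B2_e0.ge) test o_K (by decide +kernel)

theorem o_c0_2_2 : Cov PA (gen ns (sTop B2_S2)) (wp ns [4, 38, 40]) :=
  cov_of_enumW ctx B2_ex2 B2_tr2 (B2_le2.trans B2_e0.ge) test o_K (by decide +kernel)

theorem o_c0_2_3 : Cov PA (gen ns (sTop B2_S2)) (wp ns [4, 36, 40]) :=
  cov_of_enumW ctx B2_ex2 B2_tr2 (B2_le2.trans B2_e0.ge) test o_K (by decide +kernel)

theorem o_c0_2 : Cov PA (gen ns (sTop A_S1)) (wp ns [4]) :=
  A_ex0.stab_eq B2_ex0 B2_e0 rfl ▸ cov_of_cov₂ ctx.ok B2_ex0 (fun h _ => testBit_orderOf_conj 38398 h) (B2_e0 ▸ o_K) (us := [[4], [4, 40], [4, 38, 40], [4, 36, 40]]) (r := 2) (by decide +kernel)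
    (by simp only [List.forall_mem_cons]; exact ⟨o_c0_2_0, o_c0_2_1, o_c0_2_2, o_c0_2_3, fun _ h => absurd h List.not_mem_nil⟩)

theorem o_a0 : ∀ g ∈ gen ns (sTop A_S0), PA g :=
  forall_of_cov ctx.ok A_ex0 (fun h _ => testBit_orderOf_conj 38398 h) o_k0 (us := [[], [13, 8, 2], [4]]) (r := 1) (by decide +kernel)
    (by simp only [List.forall_mem_cons]; exact ⟨cov_nil o_a1, o_c0_1, o_c0_2, fun _ h => absurd h List.not_mem_nil⟩)

theorem spec : Set.range (orderOf : gen ns [[0], [2]] → ℕ) = {n | n ∈ [1, 2, 3, 4, 5, 6, 7, 8, 10, 12, 15]} :=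
  range_orderOf_eq_of lctx A_ex0 A_ex.2.1 o_a0 kn_2 (us := [[6], [13], [5, 28], [2, 29], [25, 3]]) (L := 15) (k := 7) (by decide +kernel)

theorem range_orderOf_J2 : Set.range (orderOf : Cfsg.Spor.J2 → ℕ) = {n | n ∈ [1, 2, 3, 4, 5, 6, 7, 8, 10, 12, 15]} :=
  (Misc.Spec.range_orderOf_congr (ModelJ2.equiv.trans (MulEquiv.subgroupCongr geq))).trans spec

end Cfsg.Agent.Spor.SpecJ2
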