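import Cfsg.Agent.Comp.EnumN

set_option autoImplicit false
set_option Elab.async false
set_option maxRecDepth 4096

namespace Cfsg.Agent.Spor.SpecA8

open Cfsg.Agent.Comp

noncomputable def ns_0 : Net :=
 (Net.cons (nat_lit 32) (nat_lit 0x96696996)
 (Net.cons (nat_lit 16) (nat_lit 0x333300003333)
 (Net.cons (nat_lit 8) (nat_lit 0xff00ff00000000)
 (Net.cons (nat_lit 4) (nat_lit 0xf000f00000f000f)
 (Net.cons (nat_lit 2) (nat_lit 0x330300330030330)
 (Net.cons (nat_lit 1) (nat_lit 0x5500005555000055)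
 (Net.cons (nat_lit 8) (nat_lit 0xf000f000f000f0)
 (Net.cons (nat_lit 16) (nat_lit 0xcccc0000cccc)
 (Net.cons (nat_lit 32) (nat_lit 0xff00ff00)
 Net.nil)))))))))

noncomputable def ns_1 : Net :=
 (Net.cons (nat_lit 32) (nat_lit 0x96699669)
 (Net.cons (nat_lit 16) (nat_lit 0x699600009669)
 (Net.cons (nat_lit 8) (nat_lit 0x66009900990066)
 (Net.cons (nat_lit 4) (nat_lit 0x30c030c030c030c)
 (Net.cons (nat_lit 2) (nat_lit 0x2211112211222211)
 (Net.cons (nat_lit 1) (nat_lit 0x1441411441141441)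
 (Net.cons (nat_lit 2) (nat_lit 0x2222222222222222)
 Net.nil)))))))

noncomputable def ns_2 : Net :=
 (Net.cons (nat_lit 32) (nat_lit 0xffff0000)
 (Net.cons (nat_lit 16) (nat_lit 0xff0000ff00)
 (Net.cons (nat_lit 8) (nat_lit 0xf00f0000f00f0)
 (Net.cons (nat_lit 4) (nat_lit 0x30c030c030c030c)
 (Net.cons (nat_lit 2) (nat_lit 0x2222222222222222)
 (Net.cons (nat_lit 1) (nat_lit 0x5500005500555500)
 (Net.cons (nat_lit 8) (nat_lit 0xf000f000f000f0)
 (Net.cons (nat_lit 16) (nat_lit 0xf0f00000f0f0)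
 (Net.cons (nat_lit 32) (nat_lit 0xf0f0f0f0)
 Net.nil)))))))))

noncomputable def ns_3 : Net :=
 (Net.cons (nat_lit 32) (nat_lit 0x69966996)
 (Net.cons (nat_lit 16) (nat_lit 0xf0f0000f0f0)
 (Net.cons (nat_lit 8) (nat_lit 0xf00f0000f00f0)
 (Net.cons (nat_lit 4) (nat_lit 0xc03030c0c03030c)
 (Net.cons (nat_lit 2) (nat_lit 0x3300003300333300)
 (Net.cons (nat_lit 1) (nat_lit 0x1144441144111144)
 (Net.cons (nat_lit 2) (nat_lit 0x2222222222222222)
 (Net.cons (nat_lit 8) (nat_lit 0xf000f000f000f0)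
 (Net.cons (nat_lit 16) (nat_lit 0xff000000ff00)
 (Net.cons (nat_lit 32) (nat_lit 0xff00ff00)
 Net.nil))))))))))

noncomputable def ns_4 : Net :=
 (Net.cons (nat_lit 32) (nat_lit 0xf0f0f0f0)
 (Net.cons (nat_lit 8) (nat_lit 0xcc00cc00cc00cc)
 (Net.cons (nat_lit 4) (nat_lit 0xf0f00000f0f0000)
 (Net.cons (nat_lit 2) (nat_lit 0x3003033030030330)
 (Net.cons (nat_lit 1) (nat_lit 0x5005500505500550)
 (Net.cons (nat_lit 8) (nat_lit 0xcc00cc00cc00cc)
 (Net.cons (nat_lit 16) (nat_lit 0xf0f00000f0f0)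
 Net.nil)))))))

noncomputable def ns_5 : Net :=
 (Net.cons (nat_lit 32) (nat_lit 0xf0f0f0f0)
 (Net.cons (nat_lit 16) (nat_lit 0xcccc0000cccc)
 (Net.cons (nat_lit 4) (nat_lit 0x30303030c0c0c0c)
 (Net.cons (nat_lit 2) (nat_lit 0x3300330033003300)
 (Net.cons (nat_lit 1) (nat_lit 0x4444111111114444)
 (Net.cons (nat_lit 8) (nat_lit 0xcc00cc00cc00cc)
 (Net.cons (nat_lit 32) (nat_lit 0xf0f0f0f0)
 Net.nil)))))))

noncomputable def ns_6 : Net :=
 (Net.cons (nat_lit 32) (nat_lit 0xf0f0f0f0)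
 (Net.cons (nat_lit 16) (nat_lit 0xf0f0000f0f0)
 (Net.cons (nat_lit 8) (nat_lit 0xf0000f000f00f0)
 (Net.cons (nat_lit 4) (nat_lit 0xa0a050505050a0a)
 (Net.cons (nat_lit 2) (nat_lit 0x1212121212121212)
 (Net.cons (nat_lit 1) (nat_lit 0x5050505050505050)
 (Net.cons (nat_lit 32) (nat_lit 0xffff0000)
 Net.nil)))))))

noncomputable def ns_7 : Net :=
 (Net.cons (nat_lit 32) (nat_lit 0xff00ff00)
 (Net.cons (nat_lit 8) (nat_lit 0xff000000ff0000)
 (Net.cons (nat_lit 4) (nat_lit 0xf0f00000f0f00)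
 (Net.cons (nat_lit 2) (nat_lit 0x33330000333300)
 (Net.cons (nat_lit 1) (nat_lit 0x55550000555500)
 (Net.cons (nat_lit 16) (nat_lit 0xff000000ff00)
 Net.nil))))))

noncomputable def ns_8 : Net :=
 (Net.cons (nat_lit 32) (nat_lit 0xffff0000)
 (Net.cons (nat_lit 16) (nat_lit 0xf0f0000f0f0)
 (Net.cons (nat_lit 8) (nat_lit 0xf000f000f000f0)
 (Net.cons (nat_lit 2) (nat_lit 0x3030303030303030)
 (Net.cons (nat_lit 1) (nat_lit 0x5050505050505050)
 (Net.cons (nat_lit 32) (nat_lit 0xffff0000)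
 Net.nil))))))

noncomputable def ns_9 : Net :=
 (Net.cons (nat_lit 32) (nat_lit 0xffff0000)
 (Net.cons (nat_lit 16) (nat_lit 0xffff00000000)
 (Net.cons (nat_lit 8) (nat_lit 0xff000000ff0000)
 (Net.cons (nat_lit 4) (nat_lit 0xf0f00000f0f0000)
 (Net.cons (nat_lit 2) (nat_lit 0x3333000033330000)
 (Net.cons (nat_lit 1) (nat_lit 0x5555000055550000)
 Net.nil))))))

noncomputable def ns_10 : Net :=
 (Net.cons (nat_lit 32) (nat_lit 0xc33c3cc3)
 (Net.cons (nat_lit 16) (nat_lit 0xc3c300003c3c)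
 (Net.cons (nat_lit 8) (nat_lit 0xaa0055005500aa)
 (Net.cons (nat_lit 4) (nat_lit 0x50a050a0a050a05)
 (Net.cons (nat_lit 2) (nat_lit 0x1221122121122112)
 (Net.cons (nat_lit 1) (nat_lit 0x1441144141144114)
 (Net.cons (nat_lit 4) (nat_lit 0xc0c0c0c0c0c0c0c)
 (Net.cons (nat_lit 8) (nat_lit 0xf000f000f000f0)
 (Net.cons (nat_lit 16) (nat_lit 0xf0f00000f0f0)
 (Net.cons (nat_lit 32) (nat_lit 0xff00ff00)
 Net.nil))))))))))

noncomputable def ns_11 : Net :=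
 (Net.cons (nat_lit 32) 65535
 (Net.cons (nat_lit 16) (nat_lit 0xff0000ff00)
 (Net.cons (nat_lit 8) (nat_lit 0x5500aa005500aa)
 (Net.cons (nat_lit 4) (nat_lit 0x303030303030303)
 (Net.cons (nat_lit 2) (nat_lit 0x1122112211221122)
 (Net.cons (nat_lit 1) (nat_lit 0x1414414141411414)
 (Net.cons (nat_lit 8) (nat_lit 0xcc00cc00cc00cc)
 (Net.cons (nat_lit 16) (nat_lit 0xcccc0000cccc)
 (Net.cons (nat_lit 32) (nat_lit 0xcccccccc)
 Net.nil)))))))))

noncomputable def ns_12 : Net :=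
 (Net.cons (nat_lit 32) (nat_lit 0xffff0000)
 (Net.cons (nat_lit 16) (nat_lit 0x33330000cccc)
 (Net.cons (nat_lit 8) (nat_lit 0xaa00aa00aa00aa)
 (Net.cons (nat_lit 4) (nat_lit 0x50a050a050a050a)
 (Net.cons (nat_lit 2) (nat_lit 0x3333000033330000)
 (Net.cons (nat_lit 1) (nat_lit 0x4114411441144114)
 (Net.cons (nat_lit 2) (nat_lit 0x2222222222222222)
 (Net.cons (nat_lit 8) (nat_lit 0xf000f000f000f0)
 (Net.cons (nat_lit 16) (nat_lit 0xaaaa0000aaaa)
 (Net.cons (nat_lit 32) (nat_lit 0xaaaaaaaa)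
 Net.nil))))))))))

noncomputable def ns_13 : Net :=
 (Net.cons (nat_lit 32) (nat_lit 0x5aa5a55a)
 (Net.cons (nat_lit 16) (nat_lit 0xf0f00000f0f0)
 (Net.cons (nat_lit 8) (nat_lit 0xf00f0000f00f0)
 (Net.cons (nat_lit 4) (nat_lit 0xc0c030303030c0c)
 (Net.cons (nat_lit 2) (nat_lit 0x303030330303030)
 (Net.cons (nat_lit 1) (nat_lit 0x5500005500555500)
 (Net.cons (nat_lit 32) (nat_lit 0xf0f0f0f0)
 Net.nil)))))))

noncomputable def ns_14 : Net :=
 (Net.cons (nat_lit 32) (nat_lit 0xff00ff00)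
 (Net.cons (nat_lit 16) (nat_lit 0xaaaa0000aaaa)
 (Net.cons (nat_lit 8) (nat_lit 0xff00ff00000000)
 (Net.cons (nat_lit 4) (nat_lit 0xc0c0c0c0c0c0c0c)
 (Net.cons (nat_lit 2) (nat_lit 0x330033003300330)
 (Net.cons (nat_lit 1) (nat_lit 0x4411114444111144)
 (Net.cons (nat_lit 2) (nat_lit 0x2222222222222222)
 (Net.cons (nat_lit 4) (nat_lit 0xa0a0a0a0a0a0a0a)
 (Net.cons (nat_lit 8) (nat_lit 0xcc00cc00cc00cc)
 (Net.cons (nat_lit 32) (nat_lit 0xcccccccc)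
 Net.nil))))))))))

noncomputable def ns_15 : Net :=
 (Net.cons (nat_lit 32) (nat_lit 0xffff0000)
 (Net.cons (nat_lit 16) (nat_lit 0xffff00000000)
 (Net.cons (nat_lit 8) (nat_lit 0xff000000ff0000)
 (Net.cons (nat_lit 4) (nat_lit 0xc0c0c0c0c0c0c0c)
 (Net.cons (nat_lit 2) (nat_lit 0x3003033030030330)
 (Net.cons (nat_lit 1) (nat_lit 0x55550000555500)
 (Net.cons (nat_lit 4) (nat_lit 0xc0c0c0c0c0c0c0c)
 (Net.cons (nat_lit 16) (nat_lit 0xff000000ff00)
 (Net.cons (nat_lit 32) (nat_lit 0xff00ff00)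
 Net.nil)))))))))

noncomputable def ns_16 : Net :=
 (Net.cons (nat_lit 32) (nat_lit 0xcccccccc)
 (Net.cons (nat_lit 8) (nat_lit 0xcc00cc00cc00cc)
 (Net.cons (nat_lit 4) (nat_lit 0xf0f00000f0f0000)
 (Net.cons (nat_lit 2) (nat_lit 0x303303003033030)
 (Net.cons (nat_lit 1) (nat_lit 0x5005500505500550)
 (Net.cons (nat_lit 4) (nat_lit 0xc0c0c0c0c0c0c0c)
 (Net.cons (nat_lit 16) (nat_lit 0xf0f00000f0f0)
 Net.nil)))))))

noncomputable def ns_17 : Net :=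
 (Net.cons (nat_lit 16) (nat_lit 0xcccc0000cccc)
 (Net.cons (nat_lit 8) (nat_lit 0xcc00cc00cc00cc)
 (Net.cons (nat_lit 4) (nat_lit 0xc0c0c0c0c0c0c0c)
 (Net.cons (nat_lit 2) (nat_lit 0x3333333300000000)
 (Net.cons (nat_lit 1) (nat_lit 0x1111111144444444)
 (Net.cons (nat_lit 32) (nat_lit 0xcccccccc)
 Net.nil))))))

noncomputable def ns_18 : Net :=
 (Net.cons (nat_lit 32) (nat_lit 0xff00ff00)
 (Net.cons (nat_lit 16) (nat_lit 0xff000000ff00)
 (Net.cons (nat_lit 8) (nat_lit 0xf000f000f000f0)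
 (Net.cons (nat_lit 4) (nat_lit 0xf000f000f000f00)
 (Net.cons (nat_lit 2) (nat_lit 0x3030303030303030)
 (Net.cons (nat_lit 1) (nat_lit 0x5050505050505050)
 Net.nil))))))

noncomputable def ns_19 : Net :=
 (Net.cons (nat_lit 32) (nat_lit 0xffff0000)
 (Net.cons (nat_lit 16) (nat_lit 0xf0f0000f0f0)
 (Net.cons (nat_lit 4) (nat_lit 0xf0f00000f0f00)
 (Net.cons (nat_lit 2) (nat_lit 0x330033003300330)
 (Net.cons (nat_lit 1) (nat_lit 0x550055005500550)
 (Net.cons (nat_lit 8) (nat_lit 0xf000f000f000f0)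
 Net.nil))))))

noncomputable def ns_20 : Net :=
 (Net.cons (nat_lit 32) (nat_lit 0xff00ff00)
 (Net.cons (nat_lit 16) (nat_lit 0xff0000ff00)
 (Net.cons (nat_lit 8) (nat_lit 0xff00ff0000)
 (Net.cons (nat_lit 16) (nat_lit 0xff000000ff00)
 (Net.cons (nat_lit 32) (nat_lit 0xffff0000)
 Net.nil)))))

noncomputable def ns_21 : Net :=
 (Net.cons (nat_lit 32) (nat_lit 0xffff0000)
 (Net.cons (nat_lit 16) (nat_lit 0xff0000ff00)
 (Net.cons (nat_lit 4) (nat_lit 0xf000f000f000f00)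
 (Net.cons (nat_lit 2) (nat_lit 0x3300330033003300)
 (Net.cons (nat_lit 1) (nat_lit 0x5500550055005500)
 (Net.cons (nat_lit 32) (nat_lit 0xffff0000)
 Net.nil))))))

noncomputable def ns_22 : Net :=
 (Net.cons (nat_lit 1) (nat_lit 0x5555555555555555)
 Net.nil)

noncomputable def ns_23 : Net :=
 (Net.cons (nat_lit 2) (nat_lit 0x3333333333333333)
 (Net.cons (nat_lit 1) (nat_lit 0x5555555555555555)
 Net.nil))

noncomputable def ns_24 : Net :=
 (Net.cons (nat_lit 4) (nat_lit 0xf0f0f0f0f0f0f0f)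
 (Net.cons (nat_lit 2) (nat_lit 0x3333333333333333)
 Net.nil))

noncomputable def ns_25 : Net :=
 (Net.cons (nat_lit 8) (nat_lit 0xff00ff00ff00ff)
 (Net.cons (nat_lit 4) (nat_lit 0xf0f0f0f0f0f0f0f)
 Net.nil))

noncomputable def ns_26 : Net :=
 (Net.cons (nat_lit 16) (nat_lit 0xffff0000ffff)
 (Net.cons (nat_lit 8) (nat_lit 0xff00ff00ff00ff)
 Net.nil))

noncomputable def ns_27 : Net :=
 (Net.cons (nat_lit 32) (nat_lit 0xffffffff)
 (Net.cons (nat_lit 16) (nat_lit 0xffff0000ffff)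
 Net.nil))

noncomputable def ns_28 : Net :=
 (Net.cons (nat_lit 32) (nat_lit 0xf0f0f0f0)
 (Net.cons (nat_lit 16) (nat_lit 0xf0f0000f0f0)
 (Net.cons (nat_lit 4) (nat_lit 0xf0f0f0f0000)
 (Net.cons (nat_lit 16) (nat_lit 0xf0f00000f0f0)
 (Net.cons (nat_lit 32) (nat_lit 0xffff0000)
 Net.nil)))))

noncomputable def ns_29 : Net :=
 (Net.cons (nat_lit 32) (nat_lit 0xf0f0f0f0)
 (Net.cons (nat_lit 16) (nat_lit 0xaaaa0000aaaa)
 (Net.cons (nat_lit 4) (nat_lit 0xf0f0f0f00000000)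
 (Net.cons (nat_lit 1) (nat_lit 0x5555000055550000)
 (Net.cons (nat_lit 16) (nat_lit 0xaaaa0000aaaa)
 (Net.cons (nat_lit 32) (nat_lit 0xf0f0f0f0)
 Net.nil))))))

noncomputable def ns_30 : Net :=
 (Net.cons (nat_lit 32) (nat_lit 0x66999966)
 (Net.cons (nat_lit 16) (nat_lit 0xaaaa0000aaaa)
 (Net.cons (nat_lit 4) (nat_lit 0xa0a050505050a0a)
 (Net.cons (nat_lit 2) (nat_lit 0x1221122121122112)
 (Net.cons (nat_lit 1) (nat_lit 0x4141141441411414)
 (Net.cons (nat_lit 2) (nat_lit 0x2222222222222222)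
 (Net.cons (nat_lit 4) (nat_lit 0xc0c0c0c0c0c0c0c)
 (Net.cons (nat_lit 16) (nat_lit 0xf0f00000f0f0)
 (Net.cons (nat_lit 32) (nat_lit 0xcccccccc)
 Net.nil)))))))))

noncomputable def ns_31 : Net :=
 (Net.cons (nat_lit 32) (nat_lit 0xf0f0f0f0)
 (Net.cons (nat_lit 16) (nat_lit 0xf0f0000f0f0)
 (Net.cons (nat_lit 4) (nat_lit 0xf00000f000f0f00)
 (Net.cons (nat_lit 2) (nat_lit 0x1221122121122112)
 (Net.cons (nat_lit 1) (nat_lit 0x5500550055005500)
 (Net.cons (nat_lit 16) (nat_lit 0xf0f00000f0f0)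
 (Net.cons (nat_lit 32) (nat_lit 0xffff0000)
 Net.nil)))))))

noncomputable def ns_32 : Net :=
 (Net.cons (nat_lit 32) (nat_lit 0xff00ff00)
 (Net.cons (nat_lit 16) (nat_lit 0x699600006996)
 (Net.cons (nat_lit 8) (nat_lit 0x55005500aa00aa)
 (Net.cons (nat_lit 2) (nat_lit 0x3030303030303030)
 (Net.cons (nat_lit 1) (nat_lit 0x4114411441144114)
 (Net.cons (nat_lit 2) (nat_lit 0x2222222222222222)
 (Net.cons (nat_lit 4) (nat_lit 0xc0c0c0c0c0c0c0c)
 Net.nil)))))))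

noncomputable def ns_33 : Net :=
 (Net.cons (nat_lit 32) (nat_lit 0x66999966)
 (Net.cons (nat_lit 8) (nat_lit 0x69009600690096)
 (Net.cons (nat_lit 4) (nat_lit 0xc030c03030c030c)
 (Net.cons (nat_lit 2) (nat_lit 0x3030303030303030)
 (Net.cons (nat_lit 1) (nat_lit 0x5050050505055050)
 (Net.cons (nat_lit 4) (nat_lit 0xc0c0c0c0c0c0c0c)
 (Net.cons (nat_lit 8) (nat_lit 0xcc00cc00cc00cc)
 (Net.cons (nat_lit 32) (nat_lit 0xff00ff00)
 Net.nil))))))))

noncomputable def ns_34 : Net :=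
 (Net.cons (nat_lit 32) (nat_lit 0xaaaaaaaa)
 (Net.cons (nat_lit 16) (nat_lit 0x966900009669)
 (Net.cons (nat_lit 8) (nat_lit 0x33003300330033)
 (Net.cons (nat_lit 4) (nat_lit 0xa05050a0a05050a)
 (Net.cons (nat_lit 2) (nat_lit 0x1122112222112211)
 (Net.cons (nat_lit 1) (nat_lit 0x5050505005050505)
 (Net.cons (nat_lit 4) (nat_lit 0xa0a0a0a0a0a0a0a)
 (Net.cons (nat_lit 8) (nat_lit 0xcc00cc00cc00cc)
 Net.nil))))))))

noncomputable def ns : List Net := [ns_0, ns_1, ns_2, ns_3, ns_4, ns_5, ns_6, ns_7, ns_8, ns_9, ns_10, ns_11, ns_12, ns_13, ns_14, ns_15, ns_16, ns_17, ns_18, ns_19, ns_20, ns_21, ns_22, ns_23, ns_24, ns_25, ns_26, ns_27, ns_28, ns_29, ns_30, ns_31, ns_32, ns_33, ns_34]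

theorem ctx : Ctx 64 6 ns := ctx_of (by decide +kernel)

theorem lctx : LCtx 64 6 8 63 trN6 ns := lctx_of ctx trOK6 (by decide +kernel)

noncomputable def E : List ℕ → ℕ → ℕ := pfW0 64 6 8 63 trN6 ns

theorem hE : Evl 64 ns E := evl_pfW0 lctx

noncomputable def G_C6 : List Lvl :=
  []

noncomputable def G_ss5 : List (List ℕ) :=
  [[19]]

noncomputable def G_D5 : ℕ :=
  nat_lit 0x8000000100010000

noncomputable def G_l5 : Lvl :=
  ⟨16, [[19]],
  tabA [(32, 4096), (63, 4097)], 1⟩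

noncomputable def G_C5 : List Lvl :=
  G_l5 :: G_C6

noncomputable def G_ss4 : List (List ℕ) :=
  [[18], [15]]

noncomputable def G_D4 : ℕ :=
  nat_lit 0x8000000100010100

noncomputable def G_l4 : Lvl :=
  ⟨8, [[18], [15], [19]],
  tabA [(63, 2050), (16, 2051), (32, 16128)], 2⟩

noncomputable def G_C4 : List Lvl :=
  G_l4 :: G_C5

noncomputable def G_ss3 : List (List ℕ) :=
  [[14], [16]]

noncomputable def G_D3 : ℕ :=
  nat_lit 0x8000000100010110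

noncomputable def G_l3 : Lvl :=
  ⟨4, [[14], [16], [18], [15], [19]],
  tabA [(63, 1026), (8, 16128), (16, 16129), (32, 16132)], 2⟩

noncomputable def G_C3 : List Lvl :=
  G_l3 :: G_C4

noncomputable def G_ss2 : List (List ℕ) :=
  [[8], [10]]

noncomputable def G_D2 : ℕ :=
  nat_lit 0xc00000030003033c

noncomputable def G_l2 : Lvl :=
  ⟨2, [[8], [10], [14], [16], [18], [15], [19]],
  tabA [(9, 512), (62, 515), (63, 2306), (17, 2308), (4, 15872), (16, 15873), (8, 15875), (5, 15878), (33, 15880), (3, 16130), (32, 16136)], 3⟩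

noncomputable def G_C2 : List Lvl :=
  G_l2 :: G_C3

noncomputable def G_ss1 : List (List ℕ) :=
  [[4], [6]]

noncomputable def G_D1 : ℕ :=
  nat_lit 0xe88181178117177e

noncomputable def G_l1 : Lvl :=
  ⟨1, [[4], [6], [12], [8], [10], [14], [16], [18], [15], [19]],
  tabC 14 16383 [nat_lit 0x400102fc00000200000000000002410000000000000000000002f04f810000000000000000000001003000000000005050003d020c0bf0e1000000000000000000000000403000000000021050000901fc1ff04000000000009050003d08040ff030000305fc181050407e000000000], 3⟩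

noncomputable def G_C1 : List Lvl :=
  G_l1 :: G_C2

noncomputable def G_ss0 : List (List ℕ) :=
  [[0], [2]]

noncomputable def G_D0 : ℕ :=
  nat_lit 0xffffffffffffffff

noncomputable def G_l0 : Lvl :=
  ⟨0, [[0], [4], [6], [12], [8], [10], [14], [16], [18], [15], [19]],
  tabC 14 16383 [nat_lit 0x8044409282c0018c02e0774275021013c05000350ad415d0bb846f06800b503d437806e013510b814a01e01da00b83af0ef041a0180235007402e10d413c04d427506f024405e02ee01b826f09f036e001022007d42350ef020700d41e005e003401f01ed01800fc011404908d000000], 4⟩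

noncomputable def G_C0 : List Lvl :=
  G_l0 :: G_C1

theorem G_ver6 : Ver ns G_C6 1 :=
  ver_nil _

theorem G_le5 : gen ns G_l5.ws ≤ gen ns G_ss5 :=
  gen_le_step ctx (tgt := [])
  (es := []) (le_refl (gen _ [])) (by decide +kernel)

theorem G_lv5 : chkLvl 64 ns G_l5 G_C6 G_D5 2 = true :=
  by decide +kernel

theorem G_pt5_0 : AllIn (PtOK 64 ns G_l5 G_C6 G_ss5 G_D5) 0 64 :=
  ptOK_of_chkPts ctx G_ver6 (a := 0) (n := 1) (by decide +kernel)

theorem G_st5 : IsStab 64 (gen ns G_l5.ws) (cgrp ns G_C6) G_l5.b G_D5 :=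
  isStab_plain ctx G_le5 G_lv5 (by norm_num) G_pt5_0

theorem G_ver5 : Ver ns G_C5 3 :=
  G_ver6.cons ctx G_st5 (by decide +kernel)

theorem G_le4 : gen ns G_l4.ws ≤ gen ns G_ss4 :=
  gen_le_step ctx (tgt := [[19]])
  (es := [([19], [3, 1, 3, 1, 1, 2])]) G_le5 (by decide +kernel)

theorem G_lv4 : chkLvl 64 ns G_l4 G_C5 G_D4 2 = true :=
  by decide +kernel

theorem G_pt4_0 : AllIn (PtOK 64 ns G_l4 G_C5 G_ss4 G_D4) 0 64 :=
  ptOK_of_chkPts ctx G_ver5 (a := 0) (n := 1) (by decide +kernel)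

theorem G_st4 : IsStab 64 (gen ns G_l4.ws) (cgrp ns G_C5) G_l4.b G_D4 :=
  isStab_plain ctx G_le4 G_lv4 (by norm_num) G_pt4_0

theorem G_ver4 : Ver ns G_C4 12 :=
  G_ver5.cons ctx G_st4 (by decide +kernel)

theorem G_le3 : gen ns G_l3.ws ≤ gen ns G_ss3 :=
  gen_le_step ctx (tgt := [[18], [15]])
  (es := [([18], [3, 0, 3, 0, 3, 1, 2, 2, 2]), ([15], [5, 2, 5, 5, 2, 2, 4, 3])]) G_le4 (by decide +kernel)

theorem G_lv3 : chkLvl 64 ns G_l3 G_C4 G_D3 1 = true :=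
  by decide +kernel

theorem G_pt3_0 : AllIn (PtOK 64 ns G_l3 G_C4 G_ss3 G_D3) 0 64 :=
  ptOK_of_chkPts ctx G_ver4 (a := 0) (n := 1) (by decide +kernel)

theorem G_st3 : IsStab 64 (gen ns G_l3.ws) (cgrp ns G_C4) G_l3.b G_D3 :=
  isStab_plain ctx G_le3 G_lv3 (by norm_num) G_pt3_0

theorem G_ver3 : Ver ns G_C3 60 :=
  G_ver4.cons ctx G_st3 (by decide +kernel)

theorem G_le2 : gen ns G_l2.ws ≤ gen ns G_ss2 :=
  gen_le_step ctx (tgt := [[14], [16]])
  (es := [([14], [2, 2, 1, 3, 3, 3, 3, 0]), ([16], [3, 5, 5, 5, 3, 4, 4, 4])]) G_le3 (by decide +kernel)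

theorem G_lv2 : chkLvl 64 ns G_l2 G_C3 G_D2 3 = true :=
  by decide +kernel

theorem G_pt2_0 : AllIn (PtOK 64 ns G_l2 G_C3 G_ss2 G_D2) 0 64 :=
  ptOK_of_chkPts ctx G_ver3 (a := 0) (n := 1) (by decide +kernel)

theorem G_st2 : IsStab 64 (gen ns G_l2.ws) (cgrp ns G_C3) G_l2.b G_D2 :=
  isStab_plain ctx G_le2 G_lv2 (by norm_num) G_pt2_0

theorem G_ver2 : Ver ns G_C2 720 :=
  G_ver3.cons ctx G_st2 (by decide +kernel)

theorem G_le1 : gen ns G_l1.ws ≤ gen ns G_ss1 :=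
  gen_le_step ctx (tgt := [[8], [10], [12]])
  (es := [([8], [3, 3, 1]), ([10], [2, 5, 2, 2, 5, 3, 4]), ([12], [7, 5, 6, 6])]) G_le2 (by decide +kernel)

theorem G_lv1 : chkLvl 64 ns G_l1 G_C2 G_D1 1 = true :=
  by decide +kernel

theorem G_pt1_0 : AllIn (PtOK 64 ns G_l1 G_C2 G_ss1 G_D1) 0 64 :=
  ptOK_of_chkPts ctx G_ver2 (a := 0) (n := 1) (by decide +kernel)

theorem G_st1 : IsStab 64 (gen ns G_l1.ws) (cgrp ns G_C2) G_l1.b G_D1 :=
  isStab_plain ctx G_le1 G_lv1 (by norm_num) G_pt1_0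

theorem G_ver1 : Ver ns G_C1 20160 :=
  G_ver2.cons ctx G_st1 (by decide +kernel)

theorem G_le0 : gen ns G_l0.ws ≤ gen ns G_ss0 :=
  gen_le_step ctx (tgt := [[4], [6]])
  (es := [([4], [2, 0, 3, 3, 3, 3, 3]), ([6], [2, 2, 4, 2, 4, 4, 4, 3])]) G_le1 (by decide +kernel)

theorem G_lv0 : chkLvl 64 ns G_l0 G_C1 G_D0 3 = true :=
  by decide +kernel

noncomputable def G_K0_0_B : List (ℕ × ℕ × List (List ℕ)) :=
  [(1, 2, [[13, 7, 14, 8, 14, 16, 15, 19], [10, 10, 8, 16, 15, 19], [11, 18, 16, 14], [18, 16, 18], [18, 15]]),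
 (2, 1, [[10, 10, 8, 16, 15, 19], [11, 18, 16, 14], [18, 16, 18], [18, 15]]),
 (4, 2, [[18, 16, 18], [18, 15]]),
 (8, 2, [[18, 15]])]

noncomputable def G_K0_0_D : ℕ :=
  nat_lit 0x177e7ee87ee8e880

theorem G_K0_0 : IsStab 64 (cgrp ns G_C1) (gen ns (lbTop G_K0_0_B)) 60 G_K0_0_D :=
  isStab_lb ctx G_ver1.card (r := 2) (mem_of_wordsIn (by decide +kernel)) (by decide +kernel)

noncomputable def G_subs0 : List SubO :=
  [⟨[1], 60, nat_lit 0x177e7ee87ee8e880, lbTop G_K0_0_B⟩,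
 ⟨[0, 10, 0], 1, nat_lit 0xe88181178117177e, [[8], [10]]⟩]

noncomputable def G_ts0 : List DGen :=
  [⟨[0], [[12, 12, 6, 18, 10, 8, 15, 16, 18, 15, 18], [4, 6, 8, 14, 16, 15, 19]], 4, [⟨0, [], 1, [10, 4]⟩,
 ⟨1, [8], 2, [5]⟩,
 ⟨1, [], 0, []⟩,
 ⟨2, [5], 1, []⟩,
 ⟨1, [6], 1, [2]⟩,
 ⟨2, [], 2, [5, 2, 1]⟩]⟩]

theorem G_dw0 : ∀ u ∈ dcWords G_l0 G_C1 G_subs0 G_ts0, wp ns u ∈ cgrp ns G_C1 :=
  mem_of_siftAll ctx G_ver1.nested (by decide +kernel)

theorem G_st0 : IsStab 64 (gen ns G_l0.ws) (cgrp ns G_C1) G_l0.b G_D0 :=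
  isStab_dc ctx (subs := G_subs0) (ts := G_ts0) (n := 3) G_lv0 (by decide +kernel)
    (List.forall_mem_cons.2 ⟨G_K0_0.stab,
    List.forall_mem_cons.2 ⟨fun k hk h => G_le2 (G_st1.stab k hk h),
    fun _ h => absurd h List.not_mem_nil⟩⟩)
    G_dw0

theorem G_ver0 : Ver ns G_C0 1290240 :=
  G_ver1.cons ctx G_st0 (by decide +kernel)

theorem G_ss_mem : ∀ u ∈ G_ss0, wp ns u ∈ cgrp ns G_C0 :=
  mem_of_siftAll ctx G_ver0.nested (by decide +kernel)

theorem G_eq : gen ns G_ss0 = cgrp ns G_C0 :=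
  le_antisymm (gen_le_iff.2 G_ss_mem) G_le0

theorem G_card : Nat.card (gen ns G_ss0) = 1290240 :=
  by rw [G_eq]; exact G_ver0.card

theorem hn : Nat.card (gen ns G_ss0) = 1290240 :=
  G_card

theorem kn_0 : Known ns (gen ns G_ss0) 3 :=
  known_gen (by decide +kernel)

noncomputable def A_S6 : List SD :=
  []

noncomputable def A_d5 : SD :=
  ⟨16, 2, [18], lab 1 1 (nat_lit 0x100000000), 1⟩

noncomputable def A_S5 : List SD :=
  A_d5 :: A_S6

noncomputable def A_d4 : SD :=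
  ⟨8, 1, [40, 42, 18], lab 3 7 (nat_lit 0x400000000000000000000001000000000000000000000000), 1⟩

noncomputable def A_S4 : List SD :=
  A_d4 :: A_S5

noncomputable def A_d3 : SD :=
  ⟨4, 1, [36, 38, 40, 42, 18], lab 4 15 (nat_lit 0x200000000000000030000000100000000), 2⟩

noncomputable def A_S3 : List SD :=
  A_d3 :: A_S4

noncomputable def A_d2 : SD :=
  ⟨2, 1, [30, 32, 34, 36, 38, 40, 42, 18], lab 4 15 (nat_lit 0x5300000000000000000000000000005400000000000000290000007700203000), 2⟩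

noncomputable def A_S2 : List SD :=
  A_d2 :: A_S3

noncomputable def A_d1 : SD :=
  ⟨1, 1, [24, 26, 28, 30, 32, 34, 36, 38, 40, 42, 18], lab 5 31 (nat_lit 0x5288018000080000000030000000000000400840000000000100003014c500003024410106311400), 3⟩

noncomputable def A_S1 : List SD :=
  A_d1 :: A_S2

noncomputable def A_d0 : SD :=
  ⟨0, 1, [0, 2, 20, 22, 24, 26, 28, 30, 32, 34, 36, 38, 40, 42, 18], lab 5 31 (nat_lit 0x518c10a0461ac04430c7bac6d7c8e58a9a6910e014ecd475659a5f9eb964615d8a0d6381da119000), 3⟩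

noncomputable def A_S0 : List SD :=
  A_d0 :: A_S1

theorem kn_1 : Known ns (gen ns G_ss0) 268434947 :=
  kn_0.steps ctx (es := [(10, [0, 3, 1]),
 (11, [2, 0]),
 (12, [0, 22, 20, 3, 0]),
 (13, [3, 20, 0, 21, 2, 20, 23, 0, 21]),
 (14, [25, 25]),
 (15, [25, 28, 25, 27, 29, 27, 24]),
 (16, [25, 26, 28, 26, 24, 24, 24, 24, 24, 24, 27]),
 (17, [32, 31, 32, 30]),
 (18, [32, 34, 33, 30, 34, 32, 35, 30, 33]),
 (19, [34, 30, 32, 32]),
 (20, [36, 39, 36]),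
 (21, [37, 39, 36, 38, 36, 36, 39, 37, 37]),
 (9, [41, 43, 41]),
 (22, [0, 20, 25, 26, 24, 33, 37, 19]),
 (23, [3, 21, 28, 27, 25, 35, 33, 36, 40, 18]),
 (24, [23, 34, 24, 32, 30, 38, 36, 42, 19]),
 (25, [40, 22, 26, 25, 35, 38, 36, 41, 19]),
 (26, [21, 1, 28, 27, 24, 39, 30, 36, 42, 19]),
 (27, [23, 1, 27, 24, 34, 40, 19])]) (by decide +kernel)

theorem A_ex : Exact 64 ns A_S0 ∧ gen ns (sTop A_S0) = gen ns G_ss0 ∧ gen ns G_ss0 = gen ns G_ss0 :=
  exact_of_known ctx hn (le_rfl) kn_1 (by decide +kernel)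

noncomputable def A_T6 : List ETr :=
  []

noncomputable def A_t5 : ETr :=
  (.node 18 .nil (.node 19 .nil .nil))

noncomputable def A_T5 : List ETr :=
  A_t5 :: A_T6

noncomputable def A_t4 : ETr :=
  (.node 40 .nil (.node 41 .nil (.node 42 .nil .nil)))

noncomputable def A_T4 : List ETr :=
  A_t4 :: A_T5

noncomputable def A_t3 : ETr :=
  (.node 36 (.node 40 .nil .nil) (.node 37 .nil (.node 38 .nil .nil)))

noncomputable def A_T3 : List ETr :=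
  A_t3 :: A_T4

noncomputable def A_t2 : ETr :=
  (.node 30 (.node 32 .nil (.node 33 .nil (.node 36 .nil (.node 38 .nil .nil)))) (.node 32 (.node 31 .nil (.node 34 .nil .nil)) (.node 33 .nil (.node 34 .nil (.node 35 .nil .nil)))))

noncomputable def A_T2 : List ETr :=
  A_t2 :: A_T3

noncomputable def A_t1 : ETr :=
  (.node 24 (.node 26 (.node 26 .nil (.node 29 .nil (.node 32 .nil (.node 36 .nil (.node 40 .nil .nil))))) (.node 27 (.node 27 .nil .nil) (.node 29 (.node 26 .nil .nil) .nil))) (.node 25 (.node 26 .nil (.node 27 (.node 25 .nil .nil) (.node 28 .nil .nil))) (.node 26 (.node 26 (.node 26 .nil .nil) (.node 33 .nil .nil)) (.node 27 (.node 25 .nil (.node 27 .nil (.node 28 .nil (.node 35 .nil .nil)))) (.node 28 (.node 26 .nil .nil) .nil)))))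

noncomputable def A_T1 : List ETr :=
  A_t1 :: A_T2

theorem A_tr1 : chkTrees ns A_S1 A_T1 = true :=
  by decide +kernel

theorem A_tr2 : chkTrees ns A_S2 A_T2 = true :=
  by decide +kernel

theorem A_tr3 : chkTrees ns A_S3 A_T3 = true :=
  by decide +kernel

theorem A_tr4 : chkTrees ns A_S4 A_T4 = true :=
  by decide +kernel

theorem A_tr5 : chkTrees ns A_S5 A_T5 = true :=
  by decide +kernel

theorem A_ex0 : Exact 64 ns A_S0 :=
  A_ex.1

theorem A_ex1 : Exact 64 ns A_S1 :=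
  A_ex0.tail

theorem A_ex2 : Exact 64 ns A_S2 :=
  A_ex1.tail

theorem A_ex3 : Exact 64 ns A_S3 :=
  A_ex2.tail

theorem A_ex4 : Exact 64 ns A_S4 :=
  A_ex3.tail

theorem A_ex5 : Exact 64 ns A_S5 :=
  A_ex4.tail

theorem A_ex6 : Exact 64 ns A_S6 :=
  A_ex5.tail

theorem A_le0 : gen ns (sTop A_S0) ≤ gen ns (sTop A_S0) :=
  le_rfl

theorem A_le1 : gen ns (sTop A_S1) ≤ gen ns (sTop A_S0) :=
  A_ex0.stab.le.trans A_le0

theorem A_le2 : gen ns (sTop A_S2) ≤ gen ns (sTop A_S0) :=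
  A_ex1.stab.le.trans A_le1

theorem A_le3 : gen ns (sTop A_S3) ≤ gen ns (sTop A_S0) :=
  A_ex2.stab.le.trans A_le2

theorem A_le4 : gen ns (sTop A_S4) ≤ gen ns (sTop A_S0) :=
  A_ex3.stab.le.trans A_le3

theorem A_le5 : gen ns (sTop A_S5) ≤ gen ns (sTop A_S0) :=
  A_ex4.stab.le.trans A_le4

theorem A_le6 : gen ns (sTop A_S6) ≤ gen ns (sTop A_S0) :=
  A_ex5.stab.le.trans A_le5

noncomputable def B1_S6 : List SD :=
  []

noncomputable def B1_d5 : SD :=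
  ⟨4, 2, [56], lab 1 1 (nat_lit 0x100000000), 1⟩

noncomputable def B1_S5 : List SD :=
  B1_d5 :: B1_S6

noncomputable def B1_d4 : SD :=
  ⟨1, 2, [58, 56], lab 2 3 (nat_lit 0x20000000000000300), 2⟩

noncomputable def B1_S4 : List SD :=
  B1_d4 :: B1_S5

noncomputable def B1_d3 : SD :=
  ⟨8, 1, [60, 62, 58, 56], lab 3 7 (nat_lit 0x410000000000000000000000000000000000000000000000), 2⟩

noncomputable def B1_S3 : List SD :=
  B1_d3 :: B1_S4

noncomputable def B1_d2 : SD :=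
  ⟨2, 2, [64, 60, 62, 58, 56], lab 4 15 (nat_lit 0x20000000000004000000000003006000000000000000100000040100500000), 3⟩

noncomputable def B1_S2 : List SD :=
  B1_d2 :: B1_S3

noncomputable def B1_d1 : SD :=
  ⟨53, 2, [66, 64, 60, 62, 58, 56], lab 4 15 (nat_lit 0x10213060001400b0580a01610300000a27440171050006120300040000000), 4⟩

noncomputable def B1_S1 : List SD :=
  B1_d1 :: B1_S2

noncomputable def B1_d0 : SD :=
  ⟨0, 3, [68, 66, 64, 60, 62, 58, 56], lab 4 15 (nat_lit 0x31869373280455307401080545a03618641022950a51740a3285862310648400), 4⟩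

noncomputable def B1_S0 : List SD :=
  B1_d0 :: B1_S1

theorem kn_2 : Known ns (gen ns G_ss0) 34359737859 :=
  kn_1.steps ctx (es := [(28, [39, 42, 19]),
 (29, [29, 34, 37, 41, 18]),
 (30, [26, 26, 32, 30, 39, 41]),
 (31, [26, 24, 33, 42, 18]),
 (32, [29, 26, 34, 38, 36, 41, 19]),
 (33, [26, 25, 34, 39, 42, 18]),
 (34, [3, 26, 26, 33])]) (by decide +kernel)

theorem B1_ex : Exact 64 ns B1_S0 ∧ gen ns (sTop B1_S0) = gen ns G_ss0 ∧ gen ns G_ss0 = gen ns G_ss0 :=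
  exact_of_known ctx hn (le_rfl) kn_2 (by decide +kernel)

noncomputable def B1_T6 : List ETr :=
  []

noncomputable def B1_t5 : ETr :=
  (.node 56 .nil (.node 57 .nil .nil))

noncomputable def B1_T5 : List ETr :=
  B1_t5 :: B1_T6

noncomputable def B1_t4 : ETr :=
  (.node 58 (.node 56 .nil (.node 57 .nil .nil)) .nil)

noncomputable def B1_T4 : List ETr :=
  B1_t4 :: B1_T5

noncomputable def B1_t3 : ETr :=
  (.node 60 (.node 62 .nil .nil) (.node 62 .nil .nil))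

noncomputable def B1_T3 : List ETr :=
  B1_t3 :: B1_T4

noncomputable def B1_t2 : ETr :=
  (.node 64 (.node 64 (.node 60 .nil (.node 62 .nil .nil)) (.node 61 (.node 64 .nil .nil) (.node 62 .nil .nil))) (.node 65 (.node 65 .nil (.node 60 .nil (.node 63 .nil .nil))) .nil))

noncomputable def B1_T2 : List ETr :=
  B1_t2 :: B1_T3

theorem B1_tr2 : chkTrees ns B1_S2 B1_T2 = true :=
  by decide +kernel

theorem B1_tr3 : chkTrees ns B1_S3 B1_T3 = true :=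
  by decide +kernel

theorem B1_tr4 : chkTrees ns B1_S4 B1_T4 = true :=
  by decide +kernel

theorem B1_tr5 : chkTrees ns B1_S5 B1_T5 = true :=
  by decide +kernel

theorem B1_ex0 : Exact 64 ns B1_S0 :=
  B1_ex.1

theorem B1_ex1 : Exact 64 ns B1_S1 :=
  B1_ex0.tail

theorem B1_ex2 : Exact 64 ns B1_S2 :=
  B1_ex1.tail

theorem B1_ex3 : Exact 64 ns B1_S3 :=
  B1_ex2.tail

theorem B1_ex4 : Exact 64 ns B1_S4 :=
  B1_ex3.tail

theorem B1_ex5 : Exact 64 ns B1_S5 :=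
  B1_ex4.tail

theorem B1_ex6 : Exact 64 ns B1_S6 :=
  B1_ex5.tail

theorem B1_le0 : gen ns (sTop B1_S0) ≤ gen ns (sTop B1_S0) :=
  le_rfl

theorem B1_le1 : gen ns (sTop B1_S1) ≤ gen ns (sTop B1_S0) :=
  B1_ex0.stab.le.trans B1_le0

theorem B1_le2 : gen ns (sTop B1_S2) ≤ gen ns (sTop B1_S0) :=
  B1_ex1.stab.le.trans B1_le1

theorem B1_le3 : gen ns (sTop B1_S3) ≤ gen ns (sTop B1_S0) :=
  B1_ex2.stab.le.trans B1_le2

theorem B1_le4 : gen ns (sTop B1_S4) ≤ gen ns (sTop B1_S0) :=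
  B1_ex3.stab.le.trans B1_le3

theorem B1_le5 : gen ns (sTop B1_S5) ≤ gen ns (sTop B1_S0) :=
  B1_ex4.stab.le.trans B1_le4

theorem B1_le6 : gen ns (sTop B1_S6) ≤ gen ns (sTop B1_S0) :=
  B1_ex5.stab.le.trans B1_le5

theorem A_e0 : gen ns (sTop A_S0) = gen ns (sTop A_S0) :=
  A_ex.2.1.trans A_ex.2.1.symm

theorem B1_e0 : gen ns (sTop A_S0) = gen ns (sTop B1_S0) :=
  A_ex.2.1.trans B1_ex.2.1.symm

theorem o_K : Known ns (gen ns (sTop A_S0)) 34359737859 :=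
  A_ex.2.1.symm ▸ kn_2

noncomputable def PA : Equiv.Perm ℕ → Prop :=
  fun g => Nat.testBit 38398 (orderOf g) = true

theorem test : TabTest 64 6 (gen ns (sTop A_S0)) (ordP 8 63 trN6 15 [0, 1, 2, 4, 8, 16] 38398) PA :=
  tabTest_ordP lctx A_ex0 (by decide +kernel) 15 (by decide +kernel)

theorem o_k0 : Known ns (gen ns (sTop A_S0)) 4193795 :=
  known_gen (by decide +kernel)

theorem o_k1 : Known ns (gen ns (sTop A_S1)) 4190720 :=
  known_gen (by decide +kernel)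

theorem o_k2 : Known ns (gen ns (sTop A_S2)) 4162048 :=
  known_gen (by decide +kernel)

theorem o_a2 : ∀ g ∈ gen ns (sTop A_S2), PA g :=
  fun g hg => by
    simpa using cov_of_enumW ctx A_ex2 A_tr2 A_le2 test o_k0 (u := []) (by decide +kernel) g hg

theorem o_c1_1 : Cov PA (gen ns (sTop A_S2)) (wp ns [24]) :=
  cov_of_enumW ctx A_ex2 A_tr2 A_le2 test o_k0 (by decide +kernel)

theorem o_c1_2 : Cov PA (gen ns (sTop A_S2)) (wp ns [27, 25]) :=
  cov_of_enumW ctx A_ex2 A_tr2 A_le2 test o_k0 (by decide +kernel)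

theorem o_a1 : ∀ g ∈ gen ns (sTop A_S1), PA g :=
  forall_of_cov ctx.ok A_ex1 (fun h _ => testBit_orderOf_conj 38398 h) o_k1 (us := [[], [24], [27, 25]]) (r := 1) (by decide +kernel)
    (by simp only [List.forall_mem_cons]; exact ⟨cov_nil o_a2, o_c1_1, o_c1_2, fun _ h => absurd h List.not_mem_nil⟩)

theorem o_c0_1_0 : Cov PA (gen ns (sTop B1_S2)) (wp ns [0]) :=
  cov_of_enumW ctx B1_ex2 B1_tr2 (B1_le2.trans B1_e0.ge) test o_K (by decide +kernel)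

theorem o_c0_1_1 : Cov PA (gen ns (sTop B1_S2)) (wp ns [0, 67]) :=
  cov_of_enumW ctx B1_ex2 B1_tr2 (B1_le2.trans B1_e0.ge) test o_K (by decide +kernel)

theorem o_c0_1_2 : Cov PA (gen ns (sTop B1_S2)) (wp ns [0, 67, 63, 67]) :=
  cov_of_enumW ctx B1_ex2 B1_tr2 (B1_le2.trans B1_e0.ge) test o_K (by decide +kernel)

theorem o_c0_1 : Cov PA (gen ns (sTop A_S1)) (wp ns [0]) :=
  A_ex0.stab_eq B1_ex0 B1_e0 rfl ▸ cov_of_cov₂ ctx.ok B1_ex0 (fun h _ => testBit_orderOf_conj 38398 h) (B1_e0 ▸ o_K) (us := [[0], [0, 67], [0, 67, 63, 67]]) (r := 2) (by decide +kernel)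
    (by simp only [List.forall_mem_cons]; exact ⟨o_c0_1_0, o_c0_1_1, o_c0_1_2, fun _ h => absurd h List.not_mem_nil⟩)

theorem o_c0_2_0 : Cov PA (gen ns (sTop A_S2)) (wp ns [0, 20]) :=
  cov_of_enumW ctx A_ex2 A_tr2 (A_le2.trans A_e0.ge) test o_K (by decide +kernel)

theorem o_c0_2_1 : Cov PA (gen ns (sTop A_S2)) (wp ns [0, 20, 25]) :=
  cov_of_enumW ctx A_ex2 A_tr2 (A_le2.trans A_e0.ge) test o_K (by decide +kernel)

theorem o_c0_2_2 : Cov PA (gen ns (sTop A_S2)) (wp ns [0, 20, 25, 26, 24]) :=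
  cov_of_enumW ctx A_ex2 A_tr2 (A_le2.trans A_e0.ge) test o_K (by decide +kernel)

theorem o_c0_2 : Cov PA (gen ns (sTop A_S1)) (wp ns [0, 20]) :=
  cov_of_cov₂ ctx.ok A_ex0 (fun h _ => testBit_orderOf_conj 38398 h) (A_e0 ▸ o_K) (us := [[0, 20], [0, 20, 25], [0, 20, 25, 26, 24]]) (r := 1) (by decide +kernel)
    (by simp only [List.forall_mem_cons]; exact ⟨o_c0_2_0, o_c0_2_1, o_c0_2_2, fun _ h => absurd h List.not_mem_nil⟩)

theorem o_a0 : ∀ g ∈ gen ns (sTop A_S0), PA g :=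
  forall_of_cov ctx.ok A_ex0 (fun h _ => testBit_orderOf_conj 38398 h) o_k0 (us := [[], [0], [0, 20]]) (r := 1) (by decide +kernel)
    (by simp only [List.forall_mem_cons]; exact ⟨cov_nil o_a1, o_c0_1, o_c0_2, fun _ h => absurd h List.not_mem_nil⟩)

theorem spec : Set.range (orderOf : gen ns G_ss0 → ℕ) = {n | n ∈ [1, 2, 3, 4, 5, 6, 7, 8, 10, 12, 15]} :=
  range_orderOf_eq_of lctx A_ex0 A_ex.2.1 o_a0 kn_2 (us := [[3], [29], [32, 2], [3, 23], [32, 3]]) (L := 15) (k := 7) (by decide +kernel)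

theorem large : ∀ M : ℕ, ∃ (H : Type) (_ : Group H) (_ : Fintype H), M < Fintype.card H ∧
    Set.range (orderOf : H → ℕ) = {n | n ∈ [1, 2, 3, 4, 5, 6, 7, 8, 10, 12, 15]} :=
  spec ▸ exists_large_of_words ctx (vs := [[44], [46], [48], [50], [52], [54]]) (es := [[2, 4, 6, 8, 10], [10], [8], [0, 2, 4, 6], [0, 2], [0, 6, 10], [0, 2, 6, 10], [0, 4, 10], [4, 6], [4], [6, 8, 10], [0, 2, 4, 6, 8, 10]]) kn_2 Nat.prime_two (a := 0) (b := 1) (by decide +kernel)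

end Cfsg.Agent.Spor.SpecA8
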