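import Cfsg.Agent.Spor.LXDesc
import Cfsg.Agent.Spor.Co1Cent
import Cfsg.Agent.Spor.Suz.Model
import Cfsg.Agent.LES.Janko
import Cfsg.Agent.S1719
import Cfsg.Agent.S1720
import Cfsg.Agent.Transfer.ThompsonReduction

/-!
# The sections `Suz` and `J2` of groups of Conway type
-/

set_option autoImplicit false

namespace Cfsg.Agent.Spor.LXD

open Subgroup Cfsg.Agent.TT Cfsg.Agent.LES Cfsg.Agent.XSC Cfsg.Agent.Spor.O8Cent Cfsg.Agent.Comp

universe u

variable {G : Type u} [Group G]

theorem isoSuz_of_data [Finite G] (h : LXO.Data G (2 ^ 7) 3317760) : Cfsg.Spor.IsoSuz G :=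
  let ⟨z, hz, Q, _, h1, h2, h3, ⟨e⟩, h4⟩ := h.suz
  S1719.result z hz Q h1 h2 h3 e h4

theorem dvd_of_bound {K M : Type} [Group K] [Finite K] [Group M] [Finite M]
    [IsSimpleGroup M] {P : BN.Pres} {B : ℕ} (hB : BN.Bound P B) {x : ℕ → K} {y : ℕ → M}
    (hx : BN.Sat P x) (hy : BN.Sat P y) (gx : BN.gen x = ⊤) (gy : BN.gen y = ⊤)
    (hlt : B < Nat.card K * Nat.card M) : Nat.card M ∣ Nat.card K := by
  set Γ := BN.gen (fun k => (x k, y k)) with hΓ
  have h1 : Nat.card Γ ≤ B := (hB _ _ (hx.prod hy)).2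
  let p₁ : Γ →* K := (MonoidHom.fst K M).comp Γ.subtype
  let p₂ : Γ →* M := (MonoidHom.snd K M).comp Γ.subtype
  have s₁ : Function.Surjective p₁ := by
    rw [← MonoidHom.range_eq_top, MonoidHom.range_comp, range_subtype, hΓ, BN.map_gen]
    exact gx
  have s₂ : Function.Surjective p₂ := by
    rw [← MonoidHom.range_eq_top, MonoidHom.range_comp, range_subtype, hΓ, BN.map_gen]
    exact gy
  have i₂ : ∀ g, p₁ g = 1 → p₂ g = 1 → g = 1 := fun g h h' => Subtype.ext (Prod.ext h h')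
  rcases (Subgroup.Normal.map inferInstance p₂ s₂ : (p₁.ker.map p₂).Normal).eq_bot_or_eq_top
    with h | h
  · have i₁ : Function.Injective p₁ := (injective_iff_map_eq_one _).2 fun g hg =>
      i₂ g hg (by rw [← mem_bot, ← h]; exact mem_map_of_mem _ hg)
    rw [← Nat.card_congr (MulEquiv.ofBijective p₁ ⟨i₁, s₁⟩).toEquiv]
    exact card_dvd_of_surjective p₂ s₂
  · exfalso
    have e1 := card_map_dvd p₁.ker p₂
    rw [h, card_top] at e1
    have e2 := p₁.ker.card_mul_index
    rw [index_ker, MonoidHom.range_eq_top.2 s₁, card_top] at e2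
    have e3 := Nat.mul_le_mul_right (Nat.card K) (Nat.le_of_dvd Nat.card_pos e1)
    rw [mul_comm] at hlt
    omega

theorem isoJ2_of_data {S : Type} [Group S] [Finite S] (h : LXO.Data S (2 ^ 5) 1920)
    (h19 : ¬ 19 ∣ Nat.card S) : Cfsg.Spor.IsoJ2 S := by
  by_cases hc : ∀ x y : S, orderOf x = 2 → orderOf y = 2 → IsConj x y
  · obtain ⟨Q, z, lx, h1, h2, g, h3, h4⟩ := h
    obtain ⟨a, π, d⟩ := exists_HJ lx h1 h2 h3 (lx.map_conj g).z_sq fun e =>
      (eqv_one_iff.mp e).elim (lx.map_conj g).z_ne h4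
    obtain ⟨x, k1, k2, k3⟩ := (d.j3T hc).exists_sat
    have : Finite (gen ModelJ3.ns ModelJ3.G_ss0) := finite_gen ModelJ3.ctx.ok _
    have := J3I.simple
    have k4 := dvd_of_bound J3P.b4 k1 J3I.sat k2 J3I.gen_top (by
      have := _root_.orderOf_le_card (x := x 0 * x 1)
      rw [ModelJ3.G_card]; omega)
    rw [ModelJ3.G_card] at k4
    exact absurd (Dvd.dvd.trans (by norm_num) k4) h19
  · push Not at hc
    obtain ⟨z, hz, Q, _, h1, h2, h3, ⟨e⟩, h4⟩ := h.hj
    exact S1720.result z hz Q h1 h2 h3 e h4 hc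

theorem exists_three [Finite G] (h : LXO.IsType G 9 Om) : ∃ x : G, orderOf x = 3 ∧
    ∀ (S : Type*) [Group S] (ψ : centralizer ({x} : Set G) →* S), Function.Surjective ψ →
      (∀ c, ψ c = 1 ↔ (c : G) ∈ zpowers x) → LXO.Data S (2 ^ 7) 3317760 := by
  obtain ⟨z, hz, Q, _, h1, h2, h3, ⟨e⟩, h4⟩ := h
  obtain ⟨Q', k1, k2, k3, g, k4, k5⟩ := setting_of hz Q h1 h2 h3 e card_Op8 h4
  obtain ⟨M, hM, hc⟩ := cent3
  exact descent (n := 25920) k1 k2 k3 k4 k5 (by norm_num)
    (show Dat (mt M) 3 64 from (show mt M = _ from hM) ▸ dat3) hc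

theorem exists_five [Finite G] (h : LXO.IsType G 9 Om) : ∃ x : G, orderOf x = 5 ∧
    ∀ (S : Type*) [Group S] (ψ : centralizer ({x} : Set G) →* S), Function.Surjective ψ →
      (∀ c, ψ c = 1 ↔ (c : G) ∈ zpowers x) → LXO.Data S (2 ^ 5) 1920 := by
  obtain ⟨z, hz, Q, _, h1, h2, h3, ⟨e⟩, h4⟩ := h
  obtain ⟨Q', k1, k2, k3, g, k4, k5⟩ := setting_of hz Q h1 h2 h3 e card_Op8 h4
  obtain ⟨M, hM, hc⟩ := cent5
  have : Fact (Nat.Prime 5) := ⟨by norm_num⟩
  exact descent (n := 60) k1 k2 k3 k4 k5 (by norm_num)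
    (show Dat (mt M) 5 16 from (show mt M = _ from hM) ▸ dat5) hc

instance normal_zpowers (x : G) : ((zpowers x).subgroupOf (centralizer {x})).Normal :=
  (normal_subgroupOf_iff_le_normalizer (zpowers_le.2 (mem_centralizer_singleton_iff.2 rfl))).2
    ((centralizer_zpowers_eq x).ge.trans (centralizer_le_normalizer _))

/-- lifting along a central quotient of coprime order -/
theorem exists_lift [Finite G] {p : ℕ} [hp : Fact p.Prime] (hc : (Nat.card (center G)).Coprime p)
    {x : G ⧸ center G} (hx : orderOf x = p) : ∃ A : Subgroup G, Nat.card A = p ∧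
      ∃ _ : ((A ⊔ center G).subgroupOf (centralizer (A : Set G))).Normal,
        Nonempty ((centralizer ({x} : Set (G ⧸ center G)) ⧸ (zpowers x).subgroupOf _) ≃*
          centralizer (A : Set G) ⧸ (A ⊔ center G).subgroupOf (centralizer (A : Set G))) := by
  obtain ⟨y, hy, rfl⟩ : ∃ y : G, orderOf y = p ∧ QuotientGroup.mk' _ y = x := by
    obtain ⟨y, rfl⟩ := QuotientGroup.mk'_surjective _ x
    obtain ⟨k, hk⟩ := Nat.exists_mul_mod_eq_one_of_coprime hc hp.out.one_lt
    have h1 : QuotientGroup.mk' (center G) (y ^ (Nat.card (center G) * k)) =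
        QuotientGroup.mk' (center G) y := by
      rw [map_pow, ← pow_mod_orderOf, hx, hk.2, pow_one]
    refine ⟨_, orderOf_eq_prime ?_ fun e => ?_, h1⟩
    · have : y ^ p ∈ center G := (QuotientGroup.eq_one_iff _).1 (by
        change QuotientGroup.mk' _ _ = 1
        rw [map_pow, ← hx, pow_orderOf_eq_one])
      have h2 := congrArg Subtype.val (pow_card_eq_one' (x := (⟨_, this⟩ : center G)))
      rw [← pow_mul, mul_comm, pow_mul, pow_mul]
      rw [coe_pow] at h2
      rw [h2, coe_one, one_pow]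
    · rw [← h1, e, map_one, orderOf_one] at hx
      exact hp.out.one_lt.ne hx
  have hA : Nat.card (zpowers y) = p := by rw [Nat.card_zpowers, hy]
  have h1 := Transfer.centralizer_map_mk'_of_coprime (center G) hc
    (IsPGroup.of_card (n := 1) (hA.trans (pow_one p).symm))
  rw [MonoidHom.map_zpowers, centralizer_zpowers_eq] at h1
  let f : centralizer (zpowers y : Set G) →* centralizer {QuotientGroup.mk' (center G) y} :=
    ((QuotientGroup.mk' _).comp (Subgroup.subtype _)).codRestrict _ fun c =>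
      h1.ge (mem_map_of_mem _ c.2)
  have fs : Function.Surjective f := fun c =>
    let ⟨d, hd, e⟩ := h1.le c.2
    ⟨⟨d, hd⟩, Subtype.ext e⟩
  let π := (QuotientGroup.mk' ((zpowers (QuotientGroup.mk' (center G) y)).subgroupOf _)).comp f
  have hk : π.ker = (zpowers y ⊔ center G).subgroupOf _ := by
    ext c
    rw [mem_subgroupOf, sup_comm, ← QuotientGroup.comap_map_mk', MonoidHom.map_zpowers]
    exact QuotientGroup.eq_one_iff _
  have hn : ((zpowers y ⊔ center G).subgroupOf (centralizer (zpowers y : Set G))).Normal :=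
    hk ▸ inferInstance
  exact ⟨_, hA, hn, ⟨(QuotientGroup.quotientKerEquivOfSurjective π
    ((QuotientGroup.mk'_surjective _).comp fs)).symm.trans (QuotientGroup.quotientMulEquivOfEq hk)⟩⟩

theorem not_comm_of_type {S L : Type*} [Group S] [Group L] {n : ℕ} (h : LXO.IsType S n L) :
    ¬ IsMulCommutative S := fun hc => by
  obtain ⟨z, -, Q, _, -, -, -, -, g, -, h⟩ := h
  exact h (conj_eq_of_comm (hc.is_comm.comm g z))

theorem finite_Co1 : Finite Cfsg.Spor.Co1 :=
  have := Leech.finite_Co0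
  inferInstance

theorem exists_suz : ∃ x : Cfsg.Spor.Co1, orderOf x = 3 ∧
    LXO.Data (centralizer {x} ⧸ (zpowers x).subgroupOf (centralizer {x})) (2 ^ 7) 3317760 ∧
    Cfsg.Spor.IsoSuz (centralizer {x} ⧸ (zpowers x).subgroupOf (centralizer {x})) := by
  have := finite_Co1
  obtain ⟨x, hx, h⟩ := exists_three Co1Cent.isType
  have := h _ (QuotientGroup.mk' ((zpowers x).subgroupOf _)) (QuotientGroup.mk'_surjective _)
    fun c => QuotientGroup.eq_one_iff c
  exact ⟨x, hx, this, isoSuz_of_data this⟩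

theorem exists_j2 : ∃ x : Cfsg.Spor.Co1, orderOf x = 5 ∧
    LXO.Data (centralizer {x} ⧸ (zpowers x).subgroupOf (centralizer {x})) (2 ^ 5) 1920 ∧
    Cfsg.Spor.IsoJ2 (centralizer {x} ⧸ (zpowers x).subgroupOf (centralizer {x})) := by
  have := finite_Co1
  obtain ⟨x, hx, h⟩ := exists_five Co1Cent.isType
  have := h _ (QuotientGroup.mk' ((zpowers x).subgroupOf _)) (QuotientGroup.mk'_surjective _)
    fun c => QuotientGroup.eq_one_iff c
  refine ⟨x, hx, this, isoJ2_of_data this fun h19 => ?_⟩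
  have h1 := (h19.trans (card_quotient_dvd_card _)).trans (card_subgroup_dvd_card _)
  rw [Leech.card_Co1] at h1
  exact absurd h1 (by norm_num)

end Cfsg.Agent.Spor.LXD
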