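import Cfsg.Agent.KSG.MultCov
import Cfsg.Agent.Spor.ModelL32

set_option autoImplicit false
set_option maxRecDepth 4096
set_option Elab.async false

namespace Cfsg.Agent.Spor.CovL32

open Cfsg Cfsg.Agent.Comp Cfsg.Agent.KSG.Pc

noncomputable def ns_0 : Net :=
 (Net.cons (nat_lit 16) 32768
 (Net.cons (nat_lit 8) (nat_lit 0x800080)
 (Net.cons (nat_lit 4) 657924
 (Net.cons (nat_lit 2) (nat_lit 0x111122)
 (Net.cons (nat_lit 1) (nat_lit 0x444441)
 (Net.cons (nat_lit 2) (nat_lit 0x222222)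
 (Net.cons (nat_lit 4) 4
 (Net.cons (nat_lit 8) (nat_lit 0x800080)
 (Net.cons (nat_lit 16) 32768
 Net.nil)))))))))

noncomputable def ns_1 : Net :=
 (Net.cons (nat_lit 16) 57344
 (Net.cons (nat_lit 8) (nat_lit 0xe00080)
 (Net.cons (nat_lit 4) 68864
 (Net.cons (nat_lit 2) (nat_lit 0x301211)
 (Net.cons (nat_lit 1) 17
 (Net.cons (nat_lit 4) 525312
 (Net.cons (nat_lit 8) (nat_lit 0xe00080)
 (Net.cons (nat_lit 16) 57344
 Net.nil))))))))

noncomputable def ns_2 : Net :=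
 (Net.cons (nat_lit 16) 57728
 (Net.cons (nat_lit 8) (nat_lit 0x9e0000)
 (Net.cons (nat_lit 4) (nat_lit 0x70e0e02)
 (Net.cons (nat_lit 2) (nat_lit 0x22011000)
 (Net.cons (nat_lit 1) (nat_lit 0x41014014)
 (Net.cons (nat_lit 2) (nat_lit 0x22022000)
 (Net.cons (nat_lit 4) (nat_lit 0x80e0e02)
 (Net.cons (nat_lit 8) (nat_lit 0x9e0000)
 (Net.cons (nat_lit 16) 57728
 Net.nil)))))))))

noncomputable def ns_3 : Net :=
 (Net.cons (nat_lit 16) 38912
 (Net.cons (nat_lit 8) (nat_lit 0x980080)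
 (Net.cons (nat_lit 4) (nat_lit 0x80b0e02)
 (Net.cons (nat_lit 2) (nat_lit 0x20332312)
 (Net.cons (nat_lit 1) (nat_lit 0x10414000)
 (Net.cons (nat_lit 2) (nat_lit 0x20002000)
 (Net.cons (nat_lit 4) (nat_lit 0x8020804)
 (Net.cons (nat_lit 8) (nat_lit 0x980080)
 (Net.cons (nat_lit 16) 38912
 Net.nil)))))))))

noncomputable def ns_4 : Net :=
 (Net.cons (nat_lit 16) 58880
 (Net.cons (nat_lit 8) (nat_lit 0xe60080)
 (Net.cons (nat_lit 4) (nat_lit 0x6070108)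
 (Net.cons (nat_lit 2) (nat_lit 0x22020230)
 (Net.cons (nat_lit 1) (nat_lit 0x44010100)
 (Net.cons (nat_lit 2) (nat_lit 0x22020200)
 (Net.cons (nat_lit 4) 526344
 (Net.cons (nat_lit 8) (nat_lit 0x800080)
 (Net.cons (nat_lit 16) 58880
 Net.nil)))))))))

noncomputable def ns_5 : Net :=
 (Net.cons (nat_lit 16) 63488
 (Net.cons (nat_lit 8) (nat_lit 0xe00080)
 (Net.cons (nat_lit 4) (nat_lit 0x8070808)
 (Net.cons (nat_lit 2) (nat_lit 0x10030130)
 (Net.cons (nat_lit 1) (nat_lit 0x10500450)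
 (Net.cons (nat_lit 2) (nat_lit 0x20000200)
 (Net.cons (nat_lit 4) (nat_lit 0x8080808)
 (Net.cons (nat_lit 8) (nat_lit 0xe00080)
 (Net.cons (nat_lit 16) 63488
 Net.nil)))))))))

noncomputable def ns_6 : Net :=
 (Net.cons (nat_lit 16) 32768
 (Net.cons (nat_lit 8) (nat_lit 0x800080)
 (Net.cons (nat_lit 4) 592128
 (Net.cons (nat_lit 2) (nat_lit 0x333300)
 (Net.cons (nat_lit 1) (nat_lit 0x555500)
 (Net.cons (nat_lit 8) (nat_lit 0x800080)
 (Net.cons (nat_lit 16) 32768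
 Net.nil)))))))

noncomputable def ns : List Net := [ns_0, ns_1, ns_2, ns_3, ns_4, ns_5, ns_6]

theorem ctx : Ctx 32 5 ns := ctx_of (by decide +kernel)

noncomputable def X_C4 : List Lvl :=
  []

noncomputable def X_ss3 : List (List ℕ) :=
  [[12]]

noncomputable def X_D3 : ℕ :=
  384

noncomputable def X_l3 : Lvl :=
  ⟨7, [[12]],
  tabA [(8, 1792)], 1⟩

noncomputable def X_C3 : List Lvl :=
  X_l3 :: X_C4

noncomputable def X_ss2 : List (List ℕ) :=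
  [[8], [10]]

noncomputable def X_D2 : ℕ :=
  120

noncomputable def X_l2 : Lvl :=
  ⟨3, [[8], [10], [12]],
  tabA [(5, 768), (4, 770), (6, 1282)], 2⟩

noncomputable def X_C2 : List Lvl :=
  X_l2 :: X_C3

noncomputable def X_ss1 : List (List ℕ) :=
  [[4], [6]]

noncomputable def X_D1 : ℕ :=
  126

noncomputable def X_l1 : Lvl :=
  ⟨1, [[4], [6], [8], [10], [12]],
  tabA [(4, 256), (3, 258), (5, 259), (6, 1026), (2, 1027)], 2⟩

noncomputable def X_C1 : List Lvl :=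
  X_l1 :: X_C2

noncomputable def X_ss0 : List (List ℕ) :=
  [[0], [2]]

noncomputable def X_D0 : ℕ :=
  127

noncomputable def X_l0 : Lvl :=
  ⟨0, [[0], [2], [4], [6], [8], [10], [12]],
  tabA [(3, 0), (1, 2), (2, 3), (5, 774), (4, 778), (6, 519)], 2⟩

noncomputable def X_C0 : List Lvl :=
  X_l0 :: X_C1

theorem X_ver4 : Ver ns X_C4 1 :=
  ver_nil _

theorem X_le3 : gen ns X_l3.ws ≤ gen ns X_ss3 :=
  gen_le_step ctx (tgt := [])
  (es := []) (le_refl (gen _ [])) (by decide +kernel)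

theorem X_lv3 : chkLvl 32 ns X_l3 X_C4 X_D3 1 = true :=
  by decide +kernel

theorem X_pt3_0 : AllIn (PtOK 32 ns X_l3 X_C4 X_ss3 X_D3) 0 64 :=
  ptOK_of_chkPts ctx X_ver4 (a := 0) (n := 1) (by decide +kernel)

theorem X_st3 : IsStab 32 (gen ns X_l3.ws) (cgrp ns X_C4) X_l3.b X_D3 :=
  isStab_plain ctx X_le3 X_lv3 (by norm_num) X_pt3_0

theorem X_ver3 : Ver ns X_C3 2 :=
  X_ver4.cons ctx X_st3 (by decide +kernel)

theorem X_le2 : gen ns X_l2.ws ≤ gen ns X_ss2 :=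
  gen_le_step ctx (tgt := [[12]])
  (es := [([12], [1, 3, 3, 3, 0, 3])]) X_le3 (by decide +kernel)

theorem X_lv2 : chkLvl 32 ns X_l2 X_C3 X_D2 1 = true :=
  by decide +kernel

theorem X_pt2_0 : AllIn (PtOK 32 ns X_l2 X_C3 X_ss2 X_D2) 0 64 :=
  ptOK_of_chkPts ctx X_ver3 (a := 0) (n := 1) (by decide +kernel)

theorem X_st2 : IsStab 32 (gen ns X_l2.ws) (cgrp ns X_C3) X_l2.b X_D2 :=
  isStab_plain ctx X_le2 X_lv2 (by norm_num) X_pt2_0

theorem X_ver2 : Ver ns X_C2 8 :=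
  X_ver3.cons ctx X_st2 (by decide +kernel)

theorem X_le1 : gen ns X_l1.ws ≤ gen ns X_ss1 :=
  gen_le_step ctx (tgt := [[8], [10]])
  (es := [([8], [1, 3, 3, 1, 2, 2, 0, 3]), ([10], [3, 3, 4, 4, 2, 5, 2])]) X_le2 (by decide +kernel)

theorem X_lv1 : chkLvl 32 ns X_l1 X_C2 X_D1 1 = true :=
  by decide +kernel

theorem X_pt1_0 : AllIn (PtOK 32 ns X_l1 X_C2 X_ss1 X_D1) 0 64 :=
  ptOK_of_chkPts ctx X_ver2 (a := 0) (n := 1) (by decide +kernel)

theorem X_st1 : IsStab 32 (gen ns X_l1.ws) (cgrp ns X_C2) X_l1.b X_D1 :=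
  isStab_plain ctx X_le1 X_lv1 (by norm_num) X_pt1_0

theorem X_ver1 : Ver ns X_C1 48 :=
  X_ver2.cons ctx X_st1 (by decide +kernel)

theorem X_le0 : gen ns X_l0.ws ≤ gen ns X_ss0 :=
  gen_le_step ctx (tgt := [[4], [6]])
  (es := [([4], [1, 3, 3, 3, 1, 3, 0, 3, 3]), ([6], [2, 5, 2])]) X_le1 (by decide +kernel)

theorem X_lv0 : chkLvl 32 ns X_l0 X_C1 X_D0 1 = true :=
  by decide +kernel

theorem X_pt0_0 : AllIn (PtOK 32 ns X_l0 X_C1 X_ss0 X_D0) 0 64 :=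
  ptOK_of_chkPts ctx X_ver1 (a := 0) (n := 1) (by decide +kernel)

theorem X_st0 : IsStab 32 (gen ns X_l0.ws) (cgrp ns X_C1) X_l0.b X_D0 :=
  isStab_plain ctx X_le0 X_lv0 (by norm_num) X_pt0_0

theorem X_ver0 : Ver ns X_C0 336 :=
  X_ver1.cons ctx X_st0 (by decide +kernel)

theorem X_eq : gen ns X_ss0 = cgrp ns X_C0 :=
  le_antisymm (gen_le_of_subsetL _ (by decide +kernel)) X_le0

theorem X_card : Nat.card (gen ns X_ss0) = 336 :=
  by rw [X_eq]; exact X_ver0.card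

noncomputable def ps : List (List ℕ × List ℕ) :=
  [([0], [0]), ([2], [2])]

theorem chk : chkCover 32 5 ns 8 3 ModelL32.ns 7 ps [0, 1, 3] [0, 1, 3, 7] [([12], [0], [2], 4)] = true :=
  by decide +kernel

theorem hb : StabIn 32 (cgrp ns X_C0) (gen ns [[12]]) [0, 1, 3] :=
  (stabIn_cons X_st0 (stabIn_cons X_st1 (stabIn_cons X_st2 (stabIn_nil _ _))))

theorem hb' : IsBase 32 (cgrp ns X_C0) [0, 1, 3, 7] :=
  StabIn.isBase (stabIn_cons X_st0 (stabIn_cons X_st1 (stabIn_cons X_st2 (stabIn_cons X_st3 (stabIn_nil _ _)))))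

theorem onto : MultOnto (gen ModelL32.ns ModelL32.G_ss0) (Multiplicative (ZMod 2)) :=
  multOnto_cover ctx ModelL32.ctx (ps := ps) chk
    (((X_ver0.nested X_l3 (by simp [X_C0, X_C1, X_C2, X_C3])).trans X_eq.ge :))
    (X_eq ▸ hb :) (X_eq ▸ hb' :) X_ver3.card

end Cfsg.Agent.Spor.CovL32
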