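import Cfsg.Agent.Spor.Monomial

/-!
The hexacode over a field with four elements, through a model of the field on `Fin 4`.
-/

set_option autoImplicit false

namespace Cfsg.Agent.Spor.Hexa

open Cfsg

/-- Addition table of the field with four elements `0, 1, ω, ω + 1`. -/
def addT (a b : Fin 4) : Fin 4 := ![![0, 1, 2, 3], ![1, 0, 3, 2], ![2, 3, 0, 1], ![3, 2, 1, 0]] a b

/-- Multiplication table of the field with four elements `0, 1, ω, ω + 1`. -/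
def mulT (a b : Fin 4) : Fin 4 := ![![0, 0, 0, 0], ![0, 1, 2, 3], ![0, 2, 3, 1], ![0, 3, 1, 2]] a b

/-- The model hexacode word with given first three entries. -/
def mw (a b c : Fin 4) : Fin 6 → Fin 4 :=
  ![a, b, c, addT (addT a b) c, addT (addT (mulT 3 a) (mulT 2 b)) c,
    addT (addT (mulT 2 a) (mulT 3 b)) c]

variable {F : Type*} [Field F]

/-- The elements of the field. -/
def phi (ω : F) : Fin 4 → F := ![0, 1, ω, ω + 1]

theorem two_eq_zero [Fintype F] (hF : Fintype.card F = 4) : (2 : F) = 0 := by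
  have := FiniteField.cast_card_eq_zero F
  rw [hF] at this
  have h : (2 : F) * 2 = 0 := by rw [← this]; norm_num
  exact mul_self_eq_zero.1 h

variable {ω : F}

theorem phi_add (h2 : (2 : F) = 0) (a b : Fin 4) : phi ω (addT a b) = phi ω a + phi ω b := by
  fin_cases a <;> fin_cases b <;> simp [phi, addT] <;> grind

theorem phi_mul (h2 : (2 : F) = 0) (hω : ω ^ 2 + ω + 1 = 0) (a b : Fin 4) :
    phi ω (mulT a b) = phi ω a * phi ω b := by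
  fin_cases a <;> fin_cases b <;> simp [phi, mulT] <;> grind

theorem phi_injective (h2 : (2 : F) = 0) (hω : ω ^ 2 + ω + 1 = 0) :
    Function.Injective (phi ω) := by
  intro a b
  fin_cases a <;> fin_cases b <;> simp [phi] <;> grind

theorem phi_eq_zero (h2 : (2 : F) = 0) (hω : ω ^ 2 + ω + 1 = 0) {a : Fin 4} :
    phi ω a = 0 ↔ a = 0 := (phi_injective h2 hω).eq_iff' rfl

theorem phi_surjective [Fintype F] (hF : Fintype.card F = 4) (hω : ω ^ 2 + ω + 1 = 0) :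
    Function.Surjective (phi ω) :=
  ((Fintype.bijective_iff_injective_and_card _).2
    ⟨phi_injective (two_eq_zero hF) hω, by simp [hF]⟩).2

theorem mem_iff (h2 : (2 : F) = 0) (hω : ω ^ 2 + ω + 1 = 0) (x : Fin 6 → F) :
    x ∈ hexacode F ω ↔ x 3 = x 0 + x 1 + x 2 ∧ x 4 = (ω + 1) * x 0 + ω * x 1 + x 2 ∧
      x 5 = ω * x 0 + (ω + 1) * x 1 + x 2 := by
  rw [hexacode, Submodule.mem_span_triple]
  constructor
  · rintro ⟨a, b, c, rfl⟩
    simp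
    grind
  · rintro ⟨h3, h4, h5⟩
    refine ⟨ω * x 0 + (ω + 1) * x 1, (ω + 1) * x 0 + (ω + 1) * x 1 + x 2, x 1 + x 2, ?_⟩
    funext i
    fin_cases i <;> simp <;> grind

theorem phi_mw_mem (h2 : (2 : F) = 0) (hω : ω ^ 2 + ω + 1 = 0) (a b c : Fin 4) :
    (fun i => phi ω (mw a b c i)) ∈ hexacode F ω := by
  have e2 : phi ω 2 = ω := rfl
  have e3 : phi ω 3 = ω + 1 := rfl
  rw [mem_iff h2 hω]
  simp [mw, phi_add h2, phi_mul h2 hω, e2, e3]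

theorem exists_mw [Fintype F] (hF : Fintype.card F = 4) (hω : ω ^ 2 + ω + 1 = 0) {x : Fin 6 → F}
    (hx : x ∈ hexacode F ω) : ∃ a b c, (fun i => phi ω (mw a b c i)) = x := by
  have h2 := two_eq_zero hF
  obtain ⟨a, ha⟩ := phi_surjective hF hω (x 0)
  obtain ⟨b, hb⟩ := phi_surjective hF hω (x 1)
  obtain ⟨c, hc⟩ := phi_surjective hF hω (x 2)
  obtain ⟨h3, h4, h5⟩ := (mem_iff h2 hω x).1 hx
  refine ⟨a, b, c, funext fun i => ?_⟩
  have e2 : phi ω 2 = ω := rfl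
  have e3 : phi ω 3 = ω + 1 := rfl
  fin_cases i <;> simp [mw, phi_add h2, phi_mul h2 hω, *]

theorem ncard_words [Fintype F] (hF : Fintype.card F = 4) (hω : ω ^ 2 + ω + 1 = 0)
    (P : (Fin 6 → F) → Prop) (Q : (Fin 6 → Fin 4) → Prop) [DecidablePred Q]
    (h : ∀ y, P (fun i => phi ω (y i)) ↔ Q y) :
    {x | x ∈ hexacode F ω ∧ P x}.ncard =
      (Finset.univ.filter fun t : Fin 4 × Fin 4 × Fin 4 => Q (mw t.1 t.2.1 t.2.2)).card := by
  have h2 := two_eq_zero hF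
  rw [← Set.ncard_coe_finset]
  symm
  apply Set.ncard_congr (fun t _ => fun i => phi ω (mw t.1 t.2.1 t.2.2 i))
  · intro t ht
    exact ⟨phi_mw_mem h2 hω _ _ _, (h _).2 (by simpa using ht)⟩
  · rintro ⟨a, b, c⟩ ⟨a', b', c'⟩ _ _ e
    exact Prod.ext (phi_injective h2 hω (congrFun e 0))
      (Prod.ext (phi_injective h2 hω (congrFun e 1)) (phi_injective h2 hω (congrFun e 2)))
  · rintro x ⟨hx, hP⟩
    obtain ⟨a, b, c, rfl⟩ := exists_mw hF hω hx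
    exact ⟨(a, b, c), by simpa using (h _).1 hP, rfl⟩

/-- Transversals: permutation parts. -/
def permT : Fin 4 → Fin 6 → Fin 6 → Fin 6 := ![![![0, 1, 2, 3, 4, 5], ![1, 0, 2, 3, 5, 4], ![2, 0, 1, 3, 4, 5], ![3, 0, 1, 2, 5, 4], ![4, 0, 1, 2, 3, 5], ![5, 0, 1, 2, 4, 3]], ![![0, 1, 2, 3, 4, 5], ![0, 1, 2, 3, 4, 5], ![0, 2, 1, 3, 5, 4], ![0, 3, 1, 2, 4, 5], ![0, 4, 1, 2, 5, 3], ![0, 5, 1, 2, 3, 4]], ![![0, 1, 2, 3, 4, 5], ![0, 1, 2, 3, 4, 5], ![0, 1, 2, 3, 4, 5], ![0, 1, 3, 2, 5, 4], ![0, 1, 4, 2, 3, 5], ![0, 1, 5, 2, 4, 3]], ![![0, 1, 2, 3, 4, 5], ![0, 1, 2, 3, 4, 5], ![0, 1, 2, 3, 4, 5], ![0, 1, 2, 3, 4, 5], ![0, 1, 2, 4, 5, 3], ![0, 1, 2, 5, 3, 4]]]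

/-- Transversals: scalar parts. -/
def sclT : Fin 4 → Fin 6 → Fin 6 → Fin 4 := ![![![1, 1, 1, 1, 1, 1], ![1, 1, 1, 1, 1, 1], ![1, 1, 1, 1, 3, 2], ![1, 1, 1, 1, 3, 2], ![1, 3, 2, 1, 3, 2], ![1, 2, 3, 1, 3, 2]], ![![1, 1, 1, 1, 1, 1], ![1, 1, 1, 1, 1, 1], ![1, 1, 1, 1, 2, 3], ![1, 1, 1, 1, 2, 3], ![1, 2, 3, 2, 3, 1], ![1, 3, 2, 3, 1, 2]], ![![1, 1, 1, 1, 1, 1], ![1, 1, 1, 1, 1, 1], ![1, 1, 1, 1, 1, 1], ![1, 1, 1, 1, 1, 1], ![1, 3, 2, 2, 2, 2], ![1, 2, 3, 3, 3, 3]], ![![1, 1, 1, 1, 1, 1], ![1, 1, 1, 1, 1, 1], ![1, 1, 1, 1, 1, 1], ![1, 1, 1, 1, 1, 1], ![1, 3, 2, 2, 2, 2], ![1, 2, 3, 3, 3, 3]]]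

theorem multTrans_monoPerms [Fintype F] (hF : Fintype.card F = 4) (hω : ω ^ 2 + ω + 1 = 0) :
    MulAction.IsMultiplyPretransitive (monoPerms (hexacode F ω)) (Fin 6) 4 := by
  have h2 := two_eq_zero hF
  have h1 : ∀ i y p q, permT i y p = permT i y q → p = q := by decide +kernel
  have h3 : ∀ i y p, sclT i y p ≠ 0 := by decide +kernel
  have h4 : ∀ (i : Fin 4) y, (∀ j < (i : ℕ), y ≠ Fin.ofNat 6 j) →
      (∀ j < (i : ℕ), permT i y (Fin.ofNat 6 j) = Fin.ofNat 6 j) ∧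
        permT i y (Fin.ofNat 6 i) = y := by decide +kernel
  have h5 : ∀ i y a b c, ∀ p, mulT (sclT i y p) (mw a b c (permT i y p)) =
      mw (mulT (sclT i y 0) (mw a b c (permT i y 0))) (mulT (sclT i y 1) (mw a b c (permT i y 1)))
        (mulT (sclT i y 2) (mw a b c (permT i y 2))) p := by decide +kernel
  refine multTrans_of_base _ 4 (fun j => Fin.ofNat 6 j) fun i hi y hy => ?_
  obtain ⟨σ, hσ, e⟩ := exists_monoPerms (C := hexacode F ω) _ (h1 ⟨i, hi⟩ y)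
    (fun p => phi ω (sclT ⟨i, hi⟩ y p)) (fun p => mt (phi_eq_zero h2 hω).1 (h3 _ _ p))
    fun x hx => by
      obtain ⟨a, b, c, rfl⟩ := exists_mw hF hω hx
      have := phi_mw_mem h2 hω (mulT (sclT ⟨i, hi⟩ y 0) (mw a b c (permT ⟨i, hi⟩ y 0)))
        (mulT (sclT ⟨i, hi⟩ y 1) (mw a b c (permT ⟨i, hi⟩ y 1)))
        (mulT (sclT ⟨i, hi⟩ y 2) (mw a b c (permT ⟨i, hi⟩ y 2)))
      simpa only [← h5, phi_mul h2 hω] using this
  exact ⟨σ, hσ, fun j hj => (e _).trans ((h4 ⟨i, hi⟩ y hy).1 j hj),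
    (e _).trans (h4 ⟨i, hi⟩ y hy).2⟩

end Cfsg.Agent.Spor.Hexa
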