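import Cfsg.Agent.Spor.M24Enum

/-!
Orbits of the stabilisers of a dodecad, of a pair of complementary dodecads and of a triad.
-/

set_option autoImplicit false
set_option maxRecDepth 100000

namespace Cfsg.Agent.Spor.M24C

open Cfsg Cfsg.Agent.Comp Cfsg.Agent.Spor
open scoped Pointwise
open Cfsg.Agent.Comp.T3

local notation "E" => T3.N T3.L T3.L T3.L

/-- A generator. -/
def gU0 : ℕ := 394736994924742861248250611435710693
/-- A generator. -/
def gU1 : ℕ := 733886320540742825059750871369662605
/-- A generator. -/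
def gU2 : ℕ := 394736994924742861248250611435710693
theorem okgU0 : okM gU0 = true := by decide +kernel
theorem memgU0 : mc gU0 ∈ MulAction.stabilizer M24 (famOf 2 0xfacca005335f) :=
  mc_mem_stabilizer_fam okgU0 (by decide +kernel)
theorem okgU1 : okM gU1 = true := by decide +kernel
theorem memgU1 : mc gU1 ∈ MulAction.stabilizer M24 (famOf 2 0xfacca005335f) :=
  mc_mem_stabilizer_fam okgU1 (by decide +kernel)
theorem okgU2 : okM gU2 = true := by decide +kernel
theorem memgU2 : mc gU2 ∈ MulAction.stabilizer M24 (famOf 2 0xfacca005335f) :=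
  mc_mem_stabilizer_fam okgU2 (by decide +kernel)
attribute [irreducible] gU0 gU1 gU2

theorem orbU_sextets0_0 : 396 ≤ (MulAction.orbit (MulAction.stabilizer M24 (famOf 2 0xfacca005335f)) (famOf 6 0x800023540040202a0009140002400c008190)).ncard :=
  fam_orbit_ge _ okgU0 okgU1 okgU2 memgU0 memgU1 memgU2 6 (N (N (N (N (N (N (N (N E (N (N E E L) L L) L) (N L (N L E L) L) L) (N E L L) L) (N (N (N (N E L L) (N (N L E L) L L) L) E L) (N E L L) L) L) L L) (N (N (N (N (N (N L (N E L L) L) L L) (N L (N (N E E L) L L) L) L) (N (N (N E L L) (N E (N L E L) L) L) E L) L) (N (N (N (N E L L) L L) L L) (N (N (N E (N E L L) L) (N E (N L E L) L) L) (N (N L (N E L L) L) (N L E L) L) L) L) L) (N (N (N (N L (N L E L) L) (N E (N L (N L E L) L) L) L) (N (N E (N (N (N E L L) E L) L L) L) (N (N E E L) L L) L) L) (N (N L (N E E L) L) (N (N L (N L E L) L) L L) L) L) L) L) (N (N (N (N (N (N (N E L L) E L) E L) L L) (N (N (N (N E L L) L L) (N (N L E L) E L) L) L L) L) (N (N (N (N (N E (N L E L) L) E L) (N (N E (N E L L) L) (N E E L) L) L) (N L (N (N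 (N L E L) E L) E L) L) L) (N (N E (N (N (N E L L) E L) E L) L) (N L (N (N L E L) (N E L L) L) L) L) L) L) (N (N (N (N (N (N (N E L L) L L) L L) (N E (N (N E L L) L L) L) L) (N (N (N L E L) E L) E L) L) L L) (N (N (N (N L (N E L L) L) (N (N L E L) (N (N L E L) E L) L) L) (N (N (N (N L E L) L L) (N E L L) L) E L) L) E L) L) L) L) (N (N (N (N (N (N E E L) L L) (N (N (N (N E L L) L L) (N E L L) L) L L) L) (N (N (N (N L E L) L L) (N (N (N L (N E L L) L) (N L E L) L) (N L E L) L) L) (N L (N L (N (N L (N (N L E L) L L) L) (N E L L) L) L) L) L) L) (N (N (N (N (N E (N E L L) L) (N E L L) L) (N (N (N (N L E L) L L) L L) (N L (N (N L E L) L L) L) L) L) (N (N L E L) (N (N (N E E L) (N L E L) L) (N E L L) L) L) L) (N (N (N (N (N E L L) L L) (N (N E L L) (N E L L) L) L) (N L (N (N L E L) L L) L) L) (N (N (N (N (N E L L) (N L E L) L) E L) (N (N E L L) E L) L) (N (N L (N L E L) L) (N (N E L L) L L) L) L) L) L) L) (N (N (N (N (N E (N L (N E E L) L) L) (N (N E L L) (N (N L E L) E L) L) L) (N (N L E L) (N L (N L E L) L) L) L) (N (N E (N E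 (N E E L) L) L) (N L (N (N (N L E L) E L) (N E (N E L L) L) L) L) L) L) (N (N (N (N (N E L L) (N (N E L L) L L) L) (N (N E L L) L L) L) (N (N (N (N L E L) E L) E L) (N (N (N E L L) E L) (N (N E E L) L L) L) L) L) (N (N (N (N L E L) (N (N L (N E L L) L) L L) L) (N (N L (N L E L) L) L L) L) (N (N (N L (N L E L) L) (N L E L) L) L L) L) L) L) L) L) 0x800023540040202a0009140002400c008190 (hsh 0x1600010002002e00000020000000000003001a000000080000000400000000000100040001000e000500000000000300030000000800000000001d000c00000003000c000200000004000100050001002a000a000400020004001300000012000000050026000000130000000100020014000000000000005c002b00000005000300050000000c000000000004000200090005001200030009000f002400020001000100070008000200030006000000000024000a0001000000250001001300010047000a000000230009000200050002001f0000000b0000000400010001000100000010000300030001000800080012000000020000000b000e000b0002000200030003001100020000 137 1356811 512) 9 (by decide +kernel)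

theorem orbU_sextets0_1 : 495 ≤ (MulAction.orbit (MulAction.stabilizer M24 (famOf 2 0xfacca005335f)) (famOf 6 0x800026488800301010042480024009010340)).ncard :=
  fam_orbit_ge _ okgU0 okgU1 okgU2 memgU0 memgU1 memgU2 6 (N (N (N (N (N (N (N E (N L (N L (N L (N E L L) L) L) L) L) (N (N E (N L (N E E L) L) L) L L) L) (N (N (N L (N L E L) L) (N (N E L L) (N (N E L L) L L) L) L) (N (N (N E (N E E L) L) L L) (N E L L) L) L) L) (N (N (N L (N L (N E (N L E L) L) L) L) (N (N L (N L (N L E L) L) L) (N L (N (N E E L) (N L E L) L) L) L) L) (N (N (N L (N L (N (N L E L) L L) L) L) (N (N E L L) L L) L) (N (N (N L E L) (N E (N L E L) L) L) E L) L) L) L) (N (N (N (N (N L (N L (N L (N E L L) L) L) L) (N (N (N E E L) L L) (N E L L) L) L) (N (N (N E (N L E L) L) L L) (N (N L E L) L L) L) L) (N (N (N E L L) (N L (N (N (N E L L) L L) (N E L L) L) L) L) (N (N (N (N E E L) (N L E L) L) L L) (N (N E E L) (N (N L E L) E L) L) L) L) L) (N (N (N (N (N L E L) E L) (N L (N L (N E E L) L) L) L) (N (N (N L E L) (N (N E L L) (N L E L) L) L) (N (N (N E (N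 L E L) L) L L) (N L E L) L) L) L) (N (N (N E (N E L L) L) (N E (N L (N L E L) L) L) L) (N (N (N E (N L E L) L) E L) (N E L L) L) L) L) L) L) (N (N (N (N (N (N (N E L L) E L) (N (N E E L) (N (N E L L) E L) L) L) (N (N (N L E L) (N E (N L E L) L) L) L L) L) (N (N L (N E L L) L) (N (N L (N (N L E L) L L) L) (N (N E L L) L L) L) L) L) (N (N (N L E L) (N L (N L (N (N E L L) (N E L L) L) L) L) L) (N (N (N (N E L L) E L) (N L (N (N L E L) L L) L) L) (N (N E (N L E L) L) L L) L) L) L) (N (N (N (N L (N L (N L E L) L) L) L L) (N (N (N E (N (N E L L) E L) L) (N E (N E E L) L) L) (N (N E (N (N L E L) L L) L) (N (N E (N (N E L L) L L) L) L L) L) L) L) (N (N (N (N (N L E L) L L) (N E (N L E L) L) L) (N (N E E L) L L) L) (N (N (N (N E (N L E L) L) L L) (N (N E (N E E L) L) (N L E L) L) L) (N (N L (N L E L) L) L L) L) L) L) L) L) (N (N (N (N (N (N (N (N E L L) L L) (N (N L E L) L L) L) (N (N (N L E L) E L) (N E E L) L) L) (N E (N L (N L E L) L) L) L) (N (N (N (N E (N L E L) L) (N (N (N E L L) E L) L L) L) (N (N (N L (N L E L) L) L L) (N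 E L L) L) L) (N (N (N (N E (N E E L) L) (N E L L) L) (N E E L) L) (N E (N (N E (N L E L) L) L L) L) L) L) L) (N (N (N (N L (N E (N E L L) L) L) (N (N E L L) L L) L) (N (N (N E (N L E L) L) L L) (N (N (N L (N E E L) L) (N E L L) L) (N (N L E L) L L) L) L) L) (N (N (N E (N (N L E L) E L) L) (N (N (N L E L) L L) (N E (N L E L) L) L) L) (N (N (N E E L) (N L (N E E L) L) L) (N L (N (N L E L) L L) L) L) L) L) L) (N (N (N (N E (N (N (N E L L) L L) (N L E L) L) L) L L) (N (N (N (N L E L) (N E L L) L) (N E (N L E L) L) L) (N (N (N (N (N L E L) L L) L L) (N L E L) L) L L) L) L) (N (N (N (N (N E E L) L L) (N E L L) L) (N L (N E (N L (N E E L) L) L) L) L) (N (N E (N (N E (N L E L) L) (N E L L) L) L) (N (N (N L (N (N E L L) L L) L) (N L (N (N L E L) L L) L) L) L L) L) L) L) L) L) 0x800026488800301010042480024009010340 (hsh 0x3001e0000000200020002009f0073014101cc000200020016000a0000000900070032002b0001000b0009000a01610007000400f4003a000d0041000b001000000000009b0004004200a6000a002b002500010001000e0041000000ca0000003c002f005900320001003a00050057001300170008006f00030000000000120094000000000000000100030098000d002a000300010004000000000004000b001900000012015f00030028000c00680012002e00010000000600090000000000260000002e00040010000100f60009002300000001000000c200050016002200000000000000090034004b000e000700000005003e002a0042000100060154000b000c017d00010017006100b700020038000000020154001d0032000100000046000000850000000e0003002c0004000501040034004600010015003e00040002003c0000009e000b00000047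 167 1255721 512) 9 (by decide +kernel)

theorem orbU_sextets0_2 : 880 ≤ (MulAction.orbit (MulAction.stabilizer M24 (famOf 2 0xfacca005335f)) (famOf 6 0x8000074120102800c0108600041900024028)).ncard :=
  fam_orbit_ge _ okgU0 okgU1 okgU2 memgU0 memgU1 memgU2 6 (N (N (N (N (N (N (N (N (N (N (N L E L) E L) (N (N E (N L E L) L) L L) L) (N (N (N E E L) E L) (N E E L) L) L) (N (N (N (N (N L E L) E L) L L) (N (N (N L E L) L L) (N L E L) L) L) (N (N (N L (N L E L) L) L L) L L) L) L) (N (N L (N (N (N L (N L E L) L) L L) L L) L) (N (N (N L E L) E L) (N E L L) L) L) L) (N (N (N (N L (N E (N E L L) L) L) (N (N (N E E L) (N L E L) L) (N (N E E L) (N E L L) L) L) L) (N (N E E L) (N E (N (N E L L) L L) L) L) L) (N (N (N (N L (N E E L) L) (N L (N E E L) L) L) L L) (N (N (N L (N E L L) L) (N (N E L L) E L) L) (N (N E E L) L L) L) L) L) L) (N (N (N (N (N (N L (N E E L) L) (N E E L) L) L L) (N (N (N E E L) (N (N E L L) E L) L) (N L (N L (N E L L) L) L) L) L) (N L (N (N L (N (N L (N L E L) L) E L) L) L L) L) L) (N (N (N L (N E (N (N E L L) L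 L) L) L) (N (N (N (N (N (N L E L) L L) E L) (N L E L) L) (N (N (N E L L) E L) E L) L) E L) L) (N L (N (N (N L (N (N L E L) L L) L) (N (N E L L) (N E E L) L) L) E L) L) L) L) L) (N (N (N (N (N E (N E (N E (N E E L) L) L) L) (N (N L E L) (N (N E (N L (N L E L) L) L) E L) L) L) (N (N (N (N (N (N L E L) L L) E L) (N L E L) L) (N E (N E L L) L) L) (N (N (N (N E (N E L L) L) L L) L L) L L) L) L) (N (N (N (N (N E E L) L L) (N (N E E L) L L) L) (N L (N E E L) L) L) (N (N (N (N L (N (N E L L) E L) L) (N L (N E L L) L) L) (N (N E L L) (N E L L) L) L) (N (N (N E L L) (N (N E L L) (N L E L) L) L) (N (N E (N L E L) L) (N (N L E L) L L) L) L) L) L) L) (N (N L (N (N (N (N E L L) L L) (N E L L) L) (N L E L) L) L) (N (N E (N (N L (N L E L) L) (N (N L E L) (N E E L) L) L) L) (N (N (N (N L (N E L L) L) (N (N E L L) E L) L) E L) L L) L) L) L) L) (N (N (N (N L (N (N (N (N E E L) (N L (N L E L) L) L) (N (N (N L E L) L L) (N (N L E L) (N L E L) L) L) L) (N (N (N E L L) E L) L L) L) L) (N L (N (N (N L (N (N (N E L L) L L) (N (N L E L) L L) L) L)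 (N E (N E (N L E L) L) L) L) (N (N (N E E L) E L) L L) L) L) L) L L) (N (N (N (N L (N E (N (N E L L) L L) L) L) (N (N (N (N (N L E L) (N E E L) L) (N L (N L (N L E L) L) L) L) (N (N (N L E L) L L) (N (N E E L) L L) L) L) (N (N (N (N (N E L L) L L) E L) L L) L L) L) L) (N (N (N (N (N E (N L E L) L) (N E E L) L) (N (N L E L) (N E E L) L) L) L L) (N (N (N E (N L (N E L L) L) L) L L) (N E (N (N (N E L L) E L) L L) L) L) L) L) (N (N (N (N (N (N L E L) E L) (N (N L (N E L L) L) L L) L) E L) (N (N (N (N E (N L E L) L) (N (N E E L) (N (N L E L) L L) L) L) (N (N E E L) L L) L) (N (N (N (N L E L) E L) (N (N L E L) L L) L) (N L (N L E L) L) L) L) L) (N (N (N (N (N (N L E L) L L) (N (N L E L) L L) L) (N (N E E L) E L) L) (N (N E E L) E L) L) E L) L) L) L) L) (N (N (N (N (N (N (N (N L E L) (N (N E L L) (N E E L) L) L) (N (N (N E L L) (N E L L) L) (N L (N (N E L L) L L) L) L) L) (N (N L (N L (N E L L) L) L) (N (N L (N L E L) L) (N (N L E L) (N (N L E L) L L) L) L) L) L) (N (N (N (N (N L (N E E L) L) (N L (N L E L) L) L) (N (N (N L E L)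 L L) (N E (N L E L) L) L) L) (N (N L E L) (N (N E L L) E L) L) L) (N (N (N (N L E L) (N (N E L L) (N E L L) L) L) (N (N E L L) (N E E L) L) L) (N (N (N E E L) L L) (N (N E E L) E L) L) L) L) L) (N (N (N (N (N (N (N E L L) E L) (N L E L) L) (N (N L (N E L L) L) (N L (N L E L) L) L) L) (N (N E (N (N L E L) L L) L) E L) L) (N (N (N E E L) E L) (N (N (N (N E L L) E L) (N L E L) L) (N (N L (N E E L) L) L L) L) L) L) (N (N (N (N E (N L E L) L) (N (N L E L) E L) L) (N (N (N (N L E L) L L) L L) (N (N L E L) E L) L) L) (N (N (N E L L) (N (N E L L) (N L (N L E L) L) L) L) (N (N (N L E L) E L) E L) L) L) L) L) (N (N (N (N E (N L (N (N E E L) L L) L) L) (N (N L E L) (N (N L (N (N L E L) L L) L) E L) L) L) L L) (N (N (N (N (N (N E (N L E L) L) E L) (N L E L) L) L L) (N (N (N (N E E L) L L) (N E (N L E L) L) L) (N (N (N L E L) E L) (N (N (N E L L) L L) E L) L) L) L) (N (N (N L (N E (N L E L) L) L) L L) (N (N (N E (N E L L) L) (N E E L) L) (N (N E L L) L L) L) L) L) L) L) (N (N (N (N (N (N (N E L L) L L) (N (N E L L) E L) L) (N (N E (N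 L E L) L) (N L E L) L) L) (N (N (N (N (N (N E E L) (N L E L) L) L L) (N E E L) L) (N (N L E L) L L) L) (N (N L (N (N E L L) L L) L) (N (N (N (N L E L) L L) E L) (N E L L) L) L) L) L) (N (N (N (N (N (N E E L) E L) (N (N L (N (N L E L) L L) L) (N E L L) L) L) (N (N E (N (N L (N L E L) L) (N E E L) L) L) (N L E L) L) L) (N (N (N E L L) L L) L L) L) (N (N (N (N (N L (N E E L) L) E L) (N L (N E (N E L L) L) L) L) (N L (N (N (N E L L) E L) (N (N E L L) L L) L) L) L) (N E (N (N L E L) E L) L) L) L) L) (N (N (N L (N L (N (N (N E L L) E L) (N E (N L E L) L) L) L) L) (N (N (N E (N E (N L E L) L) L) E L) (N (N (N E L L) L L) (N (N (N E E L) L L) (N (N L E L) E L) L) L) L) L) L L) L) L) L) 0x8000074120102800c0108600041900024028 (hsh 0x100005000200200012003800000003000200110001001000020006000400200001000100000008000200000002000f0004000b00000001004400010004003500250013002800000043002c00020014002b003a000000020057000400280013000700010009000c00000007002f0004000f00040000000f00090000003e00000002001100000010003d0008000700060001000500000000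0026000000030000001a0004001f001d0000000a0002001100390007000a002700120001002f0001000e0005000b000300120000000100090000002800010001000400160001001e0004000200100001001b001a000200000000000100080004000000000031000200040000000e0003002a00080000000d000300080007006200000031000c00160010000700110000002c0005000b00040000004d0038001a00050005000000590007000a001c000000020010000600450000000a001b000100000007000b0017000300360000000b000c00000001002d002e00100021000200010000001000020004001b00080000000000070003003b001e000f004a000c0001000000020028000100090004000200260018000f00270002000400110008001700220000000100000001000f000c0000000c00060001000d000500010000001300040022000300000000000900170001000200000006000f0004001e001d0069001f0001002400330001000200030003000100000002001e0001000d000200170000000d004000010004003e001a000d0045000100040002000200300008002f0000000f000a0000000700080006003b 293 1959149 1024) 10 (by decide +kernel)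

theorem orbU_sextets0 : OrbDec (MulAction.stabilizer M24 (famOf 2 0xfacca005335f)) sextets ![396, 495, 880] := by
  refine orbDec_fam _ (fun g _ h => smul_mem_sextets g h) 2 0xfacca005335f (fun _ hg => hg) 6 ![0x800023540040202a0009140002400c008190, 0x800026488800301010042480024009010340, 0x8000074120102800c0108600041900024028]
    (fun i => famOf_mem_sextets (by revert i; decide +kernel)) (by decide +kernel) _ (fun i => ?_)
    (by rw [ncard_sextets]; decide)
  · fin_cases i
    · exact orbU_sextets0_0
    · exact orbU_sextets0_1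
    · exact orbU_sextets0_2

theorem famOf_duum : famOf 2 0xfacca005335f = {setOf' 340831, Finset.univ \ setOf' 340831} := by
  ext s
  rw [← Finset.compl_eq_univ_sdiff, ← setOf'_compl]
  have h0 : mem24 0xfacca005335f 0 = 340831 := by decide +kernel
  have h1 : mem24 0xfacca005335f 1 = 340831 ^^^ 16777215 := by decide +kernel
  simp only [mem_famOf, Finset.mem_insert, Finset.mem_singleton, Nat.exists_lt_succ_right,
    Nat.not_lt_zero, false_and, exists_false, false_or, eq_comm, h0, h1]

theorem smul_duum (g : M24) (d : Finset GolayPt) :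
    g • ({d, Finset.univ \ d} : Finset (Finset GolayPt)) = {g • d, Finset.univ \ g • d} := by
  rw [Finset.smul_finset_insert, Finset.smul_finset_singleton, ← Finset.compl_eq_univ_sdiff,
    ← Finset.compl_eq_univ_sdiff, smul_compl']

theorem orbU_sextets {d : Finset GolayPt} (hd : d ∈ dodecads) :
    OrbDec (MulAction.stabilizer M24 ({d, Finset.univ \ d} : Finset (Finset GolayPt))) sextets
      ![396, 495, 880] := by
  obtain ⟨g, rfl⟩ := exists_smul_dodecad d0_mem hd
  rw [← smul_duum, ← famOf_duum]
  exact orbU_sextets0.smul (fun g _ h => smul_mem_sextets g h) g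

/-- A generator. -/
def gD0 : ℕ := 941413322153277869040413881107788358
/-- A generator. -/
def gD1 : ℕ := 733886320540742825059750871369662605
/-- A generator. -/
def gD2 : ℕ := 941413322153277869040413881107788358
theorem okgD0 : okM gD0 = true := by decide +kernel
theorem memgD0 : mc gD0 ∈ MulAction.stabilizer M24 (setOf' 340831) :=
  mc_mem_stabilizer_set okgD0 (by decide +kernel)
theorem okgD1 : okM gD1 = true := by decide +kernel
theorem memgD1 : mc gD1 ∈ MulAction.stabilizer M24 (setOf' 340831) :=
  mc_mem_stabilizer_set okgD1 (by decide +kernel)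
theorem okgD2 : okM gD2 = true := by decide +kernel
theorem memgD2 : mc gD2 ∈ MulAction.stabilizer M24 (setOf' 340831) :=
  mc_mem_stabilizer_set okgD2 (by decide +kernel)
attribute [irreducible] gD0 gD1 gD2

theorem orbD_dodecads0_0 : 1 ≤ (MulAction.orbit (MulAction.stabilizer M24 (setOf' 340831)) (setOf' 340831)).ncard :=
  set_orbit_ge _ okgD0 okgD1 okgD2 memgD0 memgD1 memgD2 (E) (x := 340831) (by norm_num) (hsh 0x0 1 3 2) 1 (by decide +kernel)

theorem orbD_dodecads0_1 : 1 ≤ (MulAction.orbit (MulAction.stabilizer M24 (setOf' 340831)) (setOf' 16436384)).ncard :=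
  set_orbit_ge _ okgD0 okgD1 okgD2 memgD0 memgD1 memgD2 (E) (x := 16436384) (by norm_num) (hsh 0x0 1 3 2) 1 (by decide +kernel)

theorem orbD_dodecads0_2 : 495 ≤ (MulAction.orbit (MulAction.stabilizer M24 (setOf' 340831)) (setOf' 1035448)).ncard :=
  set_orbit_ge _ okgD0 okgD1 okgD2 memgD0 memgD1 memgD2 (N (N (N (N (N (N E (N (N (N (N E L L) E L) L L) (N L (N L (N E L L) L) L) L) L) (N (N (N (N (N L E L) L L) (N E E L) L) (N E L L) L) (N E (N (N (N (N E L L) L L) L L) (N (N E E L) L L) L) L) L) L) (N (N (N (N (N E E L) (N (N E (N L E L) L) E L) L) L L) (N (N E (N E L L) L) (N (N L E L) L L) L) L) (N (N (N (N (N L E L) L L) (N (N L E L) (N E L L) L) L) (N (N E E L) L L) L) E L) L) L) (N (N (N (N (N (N (N E L L) L L) L L) (N L E L) L) (N (N L (N L E L) L) (N (N L (N E L L) L) (N (N L E L) E L) L) L) L) (N (N (N (N L (N (N E L L) L L) L) (N (N L E L) L L) L) (N L (N L (N E E L) L) L) L) (N L (N E L L) L) L) L) (N (N L (N E L L) L) (N (N (N L (N (N E L L) L L) L) (N (N (N (N E L L) L L) (N E E L) L) L L) L) (N E (N (N (N E L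 L) L L) L L) L) L) L) L) L) (N (N (N (N (N (N (N (N E E L) E L) (N E (N L E L) L) L) L L) L L) (N (N (N (N E L L) E L) (N (N E E L) (N (N L E L) E L) L) L) (N (N E L L) (N (N E E L) E L) L) L) L) (N (N (N L (N (N (N L E L) (N (N E L L) L L) L) (N (N E E L) L L) L) L) (N L (N (N (N E L L) (N (N L E L) (N E L L) L) L) (N (N E L L) E L) L) L) L) (N (N (N E (N (N (N E L L) L L) (N L E L) L) L) (N (N E (N E L L) L) (N (N E L L) L L) L) L) (N L (N E (N (N E L L) L L) L) L) L) L) L) (N (N (N (N (N (N L E L) (N E L L) L) (N (N L E L) (N E L L) L) L) (N (N (N E E L) E L) (N E L L) L) L) (N (N (N L (N L (N E E L) L) L) (N (N L E L) E L) L) (N (N L E L) L L) L) L) (N L (N (N (N L E L) (N (N E (N L E L) L) (N E (N E L L) L) L) L) (N (N (N (N L E L) L L) E L) L L) L) L) L) L) L) (N (N (N (N (N (N (N (N E (N E L L) L) (N L E L) L) E L) (N (N L (N L (N E L L) L) L) (N L (N E L L) L) L) L) (N (N L (N L (N L (N E E L) L) L) L) L L) L) (N (N (N L (N L (N (N L E L) L L) L) L) (N (N (N (N E L L) L L) L L) (N (N (N E L L) L L) (N (N E L L) E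 L) L) L) L) (N (N E (N L (N (N L E L) L L) L) L) (N (N (N E (N L E L) L) L L) (N (N E L L) (N E L L) L) L) L) L) L) (N (N (N (N L (N (N L E L) L L) L) (N L (N (N (N E L L) L L) (N L E L) L) L) L) L L) (N (N (N (N (N L E L) L L) (N L (N L (N L E L) L) L) L) (N (N (N E L L) L L) (N E L L) L) L) (N (N L (N L E L) L) (N (N E L L) L L) L) L) L) L) (N (N (N (N (N L E L) (N (N (N L E L) (N L E L) L) (N (N E E L) E L) L) L) L L) (N (N L (N (N (N (N E L L) L L) (N E L L) L) (N L (N L (N L E L) L) L) L) L) (N (N L (N (N L E L) L L) L) (N L (N (N E L L) (N (N E E L) L L) L) L) L) L) L) (N (N (N (N E L L) (N L (N L E L) L) L) (N (N (N (N E E L) (N L E L) L) E L) (N (N (N L E L) (N E L L) L) (N L (N L E L) L) L) L) L) (N (N (N (N (N E E L) E L) (N (N E L L) (N E L L) L) L) (N (N (N E L L) (N (N (N L E L) L L) L L) L) (N (N L (N E L L) L) (N (N E E L) E L) L) L) L) (N (N (N (N E L L) L L) (N L E L) L) L L) L) L) L) L) L) (x := 1035448) (by norm_num) (hsh 0x33004f000500c9003400090000000300a400040002001c009d0001001b00070009000200220048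0054007a005200260002004a000000080002005e00000004000300040000000400020003000000070000000100140002000300b30036001100a0000100010004000600c6004200120000000000180002000000290003002b00000047000700010000000000040013001700010042001100320014001500010000000c0006000500000024000200310003000500170019004b0003000000000004006700150000000500000001000100090026000a00010002000e000b00010033000400b8000000000027000000020000000b000100010051000000180009000000280016003b000200000002003100220019001b0000000a0037007200070000000f000e00010017000f0004001b00020001000a011c002a00330000000100000000001d00a2001100090012 167 1341677 512) 9 (by decide +kernel)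

theorem orbD_dodecads0_3 : 1584 ≤ (MulAction.orbit (MulAction.stabilizer M24 (setOf' 340831)) (setOf' 57274)).ncard :=
  set_orbit_ge _ okgD0 okgD1 okgD2 memgD0 memgD1 memgD2 (N (N (N (N (N (N (N (N (N L (N L (N E (N E L L) L) L) L) (N (N (N E E L) E L) L L) L) (N (N L (N E (N L (N L E L) L) L) L) (N (N L (N E E L) L) E L) L) L) (N (N (N (N L (N L (N L (N L E L) L) L) L) (N (N L E L) (N E E L) L) L) (N (N (N L (N L E L) L) E L) (N (N E L L) (N (N E L L) E L) L) L) L) (N (N (N (N L (N L E L) L) (N L E L) L) (N (N (N E L L) L L) (N E (N E L L) L) L) L) (N (N (N (N L E L) (N E L L) L) (N E (N E L L) L) L) (N E (N E L L) L) L) L) L) L) (N (N (N (N (N E (N (N E L L) L L) L) (N L (N L (N (N L E L) L L) L) L) L) (N (N L E L) (N L (N (N E L L) L L) L) L) L) (N (N (N (N (N E L L) E L) (N L E L) L) L L) (N L (N E (N L E L) L) L) L) L) (N (N (N (N L (N (N L E L) E L) L) (N (N L E L) L L) L) E L) (N (N E (N (N L E L) (N E L L) L) L) (N (N (N L (N L E L) L) (N (N E L L) (N L E L) L) L) (N (N L (N E L L) L) L L) L) L) L) L) L) (N (N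 (N (N (N (N (N L (N E L L) L) (N (N L (N L E L) L) E L) L) (N (N E (N E E L) L) E L) L) (N L (N (N L E L) (N L E L) L) L) L) (N L (N (N E L L) (N E (N E E L) L) L) L) L) (N (N (N (N E (N E (N E E L) L) L) (N (N L E L) (N L (N L E L) L) L) L) L L) (N (N (N E L L) (N (N L (N (N E L L) L L) L) L L) L) (N (N (N (N E L L) L L) (N E (N L E L) L) L) E L) L) L) L) (N (N (N (N (N (N L E L) (N (N E L L) L L) L) L L) (N L (N L E L) L) L) E L) (N (N (N E (N (N L E L) (N E L L) L) L) (N E (N (N L (N L E L) L) (N L E L) L) L) L) (N (N (N (N E (N E L L) L) (N E E L) L) (N L (N (N E (N E L L) L) L L) L) L) (N (N E (N (N E L L) E L) L) L L) L) L) L) L) L) (N (N (N (N (N (N (N (N E E L) L L) (N (N L E L) E L) L) (N (N E L L) (N (N E E L) L L) L) L) (N (N (N E (N L E L) L) (N E L L) L) L L) L) (N (N L (N (N (N L E L) (N L (N E L L) L) L) (N (N E (N L E L) L) (N L E L) L) L) L) (N (N L (N E L L) L) (N (N E (N L E L) L) L L) L) L) L) (N (N (N (N (N (N L (N L E L) L) E L) (N (N (N L E L) (N E L L) L) L L) L) (N (N E (N L E L) L) (N E (N L E L)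 L) L) L) (N L (N (N (N (N L E L) L L) (N E L L) L) (N (N (N E L L) E L) (N L E L) L) L) L) L) (N (N (N E (N (N E (N E L L) L) L L) L) (N (N (N L E L) (N (N E E L) L L) L) (N L (N L E L) L) L) L) (N (N (N (N E L L) L L) (N (N L (N L (N L E L) L) L) (N E E L) L) L) (N (N L E L) (N (N L E L) L L) L) L) L) L) L) (N (N (N (N (N (N L E L) (N E (N E L L) L) L) (N (N E L L) (N (N E L L) (N L E L) L) L) L) (N (N L (N (N E E L) (N (N L E L) L L) L) L) (N (N (N L E L) L L) (N (N E L L) E L) L) L) L) (N (N (N (N L (N L E L) L) L L) E L) (N (N (N (N L E L) L L) (N L E L) L) (N (N (N (N L E L) L L) L L) (N L (N E L L) L) L) L) L) L) (N (N (N (N (N (N (N E L L) (N E L L) L) L L) L L) (N (N (N L (N L E L) L) E L) (N (N E E L) E L) L) L) (N (N (N L E L) (N E E L) L) (N L (N (N L E L) L L) L) L) L) (N (N (N L (N E E L) L) (N E L L) L) (N (N L (N (N L E L) L L) L) L L) L) L) L) L) L) (N (N (N (N (N (N (N (N E L L) L L) (N (N L (N E E L) L) (N (N E L L) (N E E L) L) L) L) (N (N (N E L L) (N (N E E L) L L) L) (N E L L) L) L) (N L (N (N L (N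 (N (N E E L) E L) (N L E L) L) L) (N E (N L E L) L) L) L) L) (N (N (N (N E (N E (N L E L) L) L) (N L (N E E L) L) L) (N (N (N E (N L (N L E L) L) L) (N E (N E L L) L) L) (N (N (N L E L) (N L E L) L) L L) L) L) (N (N (N (N (N E L L) L L) (N E (N (N E L L) E L) L) L) (N (N E L L) L L) L) (N (N L (N (N L (N L E L) L) E L) L) (N (N E (N E L L) L) L L) L) L) L) L) (N L (N (N (N L (N L (N L E L) L) L) (N (N L (N (N (N E L L) (N E L L) L) E L) L) (N (N L (N L (N L E L) L) L) L L) L) L) (N (N (N E (N E E L) L) (N (N E L L) E L) L) (N (N E L L) E L) L) L) L) L) (N (N (N (N (N (N (N E E L) (N (N E E L) (N E L L) L) L) (N (N (N (N E L L) E L) (N L (N L E L) L) L) L L) L) (N (N (N L (N (N L E L) L L) L) (N L (N L (N E L L) L) L) L) (N L (N L (N E E L) L) L) L) L) (N (N (N (N L (N E E L) L) (N L (N (N L E L) (N E E L) L) L) L) (N (N L (N L (N E E L) L) L) (N L E L) L) L) (N (N (N E L L) L L) (N (N E E L) L L) L) L) L) (N (N (N (N (N (N E L L) (N (N E L L) (N L E L) L) L) (N (N L E L) L L) L) L L) (N (N (N (N L (N E L L) L) E L) (N L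 (N E L L) L) L) (N L (N L (N (N E L L) L L) L) L) L) L) (N (N (N E (N E E L) L) (N (N (N L (N L E L) L) (N E (N L E L) L) L) (N (N L E L) E L) L) L) (N (N E (N (N (N E L L) E L) L L) L) (N E (N (N (N E L L) L L) L L) L) L) L) L) L) (N (N (N (N (N (N E (N (N E L L) (N L E L) L) L) (N (N L E L) (N L (N E L L) L) L) L) (N (N (N (N E L L) L L) (N L E L) L) L L) L) (N (N (N L E L) (N (N (N E E L) E L) (N L (N E L L) L) L) L) L L) L) (N (N (N L E L) (N (N E (N E (N L E L) L) L) (N L E L) L) L) L L) L) (N (N (N (N L (N L E L) L) (N (N (N L E L) (N L E L) L) (N L E L) L) L) (N (N (N E E L) (N (N L E L) E L) L) (N (N (N (N L E L) (N E E L) L) L L) (N (N E E L) (N E E L) L) L) L) L) (N (N (N (N (N L E L) L L) (N E L L) L) (N (N L (N E E L) L) (N (N E L L) E L) L) L) L L) L) L) L) L) L) (N (N (N (N (N (N (N L (N (N (N E E L) (N (N E E L) L L) L) L L) L) (N E (N (N (N E L L) E L) (N (N L E L) (N L E L) L) L) L) L) (N L (N (N (N E L L) (N (N L E L) (N E L L) L) L) (N (N (N L (N E L L) L) (N E L L) L) (N E (N E L L) L) L) L) L) L) (N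 (N (N E L L) (N (N L (N (N E L L) E L) L) (N (N E E L) L L) L) L) (N (N (N (N E L L) (N (N E E L) L L) L) L L) (N (N L (N (N E L L) (N L E L) L) L) (N (N (N (N E L L) (N E L L) L) (N L E L) L) L L) L) L) L) L) (N (N (N L (N L (N (N (N L E L) (N (N E E L) L L) L) (N L (N L E L) L) L) L) L) (N (N (N (N (N L (N E L L) L) L L) (N L E L) L) (N L E L) L) (N (N L (N L (N E E L) L) L) (N E E L) L) L) L) (N (N (N (N (N (N (N L E L) L L) L L) L L) L L) L L) (N (N L (N (N (N L E L) (N L E L) L) E L) L) (N E L L) L) L) L) L) (N (N (N (N (N (N (N E (N E E L) L) L L) (N (N (N E (N L E L) L) (N E L L) L) (N L E L) L) L) (N E (N (N L E L) L L) L) L) (N (N (N (N (N L E L) L L) L L) (N L E L) L) (N (N (N (N E L L) L L) (N (N (N E L L) L L) L L) L) (N (N (N E E L) L L) (N (N L E L) L L) L) L) L) L) (N (N (N (N E (N (N L E L) (N L (N E L L) L) L) L) (N (N (N L (N L E L) L) (N E E L) L) L L) L) (N (N (N L E L) (N (N (N E L L) L L) (N E E L) L) L) (N (N (N L E L) L L) (N (N E L L) (N E E L) L) L) L) L) (N (N L (N L (N L E L) L) L) (N (N L (N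 E E L) L) (N (N E E L) (N (N E L L) L L) L) L) L) L) L) (N (N (N E (N (N (N L (N L (N L E L) L) L) L L) (N (N (N L E L) L L) L L) L) L) (N (N (N E (N L E L) L) (N (N L E L) E L) L) (N (N (N (N L (N L E L) L) (N E L L) L) (N E (N L E L) L) L) (N L (N (N E (N L E L) L) E L) L) L) L) L) (N (N (N (N (N (N L E L) E L) (N (N L E L) (N L E L) L) L) (N (N L E L) E L) L) (N L (N E L L) L) L) (N (N (N E (N L (N E L L) L) L) (N E L L) L) (N (N (N (N L E L) (N E E L) L) L L) L L) L) L) L) L) L) (N (N (N (N (N (N (N (N E L L) (N E L L) L) L L) (N (N (N L (N E L L) L) (N L (N L E L) L) L) (N (N (N L E L) (N L E L) L) (N L (N (N L E L) L L) L) L) L) L) (N (N (N E L L) (N (N E L L) L L) L) (N (N (N (N E L L) E L) (N E (N L E L) L) L) (N (N E E L) (N E E L) L) L) L) L) (N (N (N (N (N L E L) (N (N E L L) (N L E L) L) L) L L) (N (N E L L) (N L (N (N E L L) (N L E L) L) L) L) L) (N (N L (N E (N L (N L E L) L) L) L) (N (N (N E E L) L L) (N (N (N (N E L L) L L) E L) (N (N L E L) L L) L) L) L) L) L) (N (N (N (N L (N (N (N E L L) L L) E L) L) (N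 (N (N L E L) (N (N E E L) L L) L) (N (N (N L (N E L L) L) (N E L L) L) (N L (N L E L) L) L) L) L) (N (N (N (N (N L E L) L L) L L) (N (N (N L E L) E L) (N E L L) L) L) (N (N (N E (N (N L E L) L L) L) (N (N (N E L L) L L) L L) L) (N L (N (N E L L) L L) L) L) L) L) (N (N (N L (N (N (N E L L) E L) (N E E L) L) L) (N L (N L (N (N L E L) (N L E L) L) L) L) L) (N (N E (N E (N (N L E L) E L) L) L) (N (N L E L) (N (N (N E L L) E L) L L) L) L) L) L) L) (N (N (N (N (N (N (N (N (N L E L) L L) L L) (N L E L) L) (N (N (N (N L E L) L L) E L) L L) L) (N (N (N E E L) L L) L L) L) (N (N (N (N E L L) (N L (N E L L) L) L) (N (N L E L) (N (N E E L) (N L E L) L) L) L) (N L (N L (N L E L) L) L) L) L) (N (N (N (N (N L E L) L L) (N E (N (N E L L) L L) L) L) (N L (N (N L (N E L L) L) (N (N E E L) L L) L) L) L) (N (N (N (N L (N L E L) L) (N L E L) L) (N (N L (N E E L) L) (N (N (N E E L) (N L E L) L) E L) L) L) (N (N (N (N L E L) L L) L L) (N L E L) L) L) L) L) (N (N (N (N (N (N E (N E L L) L) (N L E L) L) (N (N E (N L (N E L L) L) L) (N (N E L L)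 E L) L) L) (N (N (N L E L) (N E E L) L) L L) L) (N (N (N (N E E L) L L) (N (N E L L) L L) L) (N (N (N E (N L E L) L) L L) (N L (N L E L) L) L) L) L) (N (N (N (N (N L (N E L L) L) (N E (N E E L) L) L) (N L (N (N L (N E L L) L) (N L E L) L) L) L) (N (N (N (N L E L) (N L E L) L) E L) (N (N E (N L E L) L) (N E E L) L) L) L) L L) L) L) L) L) L) (x := 57274) (by norm_num) (hsh 0x200020001000000060001004e000f000300010007000200010000000000000000000900010018001b000000000005000300030000000a00000000000000030009000000000001000200030000000100030005000000070019000a000100080001000200000003001b000300070002000b0001000300030005000000050000000a003600010000000100030000000000030001001c000000010001001a00010001000a000000260004000f00010002000100040036000e001c00020010001b000f0002000100170000000400010001000b0000000800080001000300080000000200000000000300000012000100000000000c0001000200000000003a00080000000300000000001b0000001c000500020000000e0005000100000007000700000000000100000000001600000000000f00010007000200020011001800000002000b00030000000000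01001a0000000800010000000100010000000500000007000300010005001800030000000400030004000000060000000800030004001300000000000b000a0003000e000000110013000c0002000400050001000000040000000100040002000100000001000100000013000200010002000f00000001000000020000000e000000030000000000000003000500000000000300060012000800000004001800010000000000010000000000010003000200030010001c000000020002000600030000000000010001000b0001000200150001000400070000000f000300000002001000260000000200020008000600300000000100030000001700000002001b00030000000000090001000300010001000000010000000000020002000300030004000a000c000b001a000200020001001700000006000000030002000000000007002c000300160000000b000000030006000200010005006a00010003000700160002000d000000010009000200080003000e0003001900140003000000080021000400090003000300000000000000000000000800020007000b0000001500000000000b0014000300020000000300020014000300040001000b00000002000000000011000a000400090011000d0031000000000003000000290015002e0001000000000000000a0017000200110003002c000300000003001000020000000200000018000000010000000000030002000a00010007000700070002000500060012000800000000000300010009000f0001001b000500000000000000010002000f00100003003c00060008000700030006000300070004000100060003000b0004000400040004000000010018000c0001000100030003001600000001000100080013001500060005000000040001000800000000000c00020005000300020000000400040001000100000002000900010000000b0000000200000003000700040000000c00000006000000120003000000010002000400070000000200180002001500120000000c0000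 541 1356811 2048) 11 (by decide +kernel)

theorem orbD_dodecads0_4 : 495 ≤ (MulAction.orbit (MulAction.stabilizer M24 (setOf' 340831)) (setOf' 28637)).ncard :=
  set_orbit_ge _ okgD0 okgD1 okgD2 memgD0 memgD1 memgD2 (N (N (N (N (N (N (N (N E L L) (N (N (N L E L) L L) (N E E L) L) L) (N (N (N (N L E L) (N L E L) L) (N (N L (N E L L) L) E L) L) (N (N (N E L L) L L) (N L (N E E L) L) L) L) L) (N (N (N (N (N E L L) E L) E L) (N (N (N (N L E L) E L) L L) (N L E L) L) L) (N (N (N L E L) E L) (N (N (N E E L) (N L (N E L L) L) L) (N (N E L L) L L) L) L) L) L) (N (N (N (N E (N L E L) L) (N (N L (N (N L E L) L L) L) (N (N E L L) L L) L) L) L L) (N (N (N (N L E L) (N L (N (N L E L) L L) L) L) (N (N L E L) (N (N (N (N L E L) L L) L L) (N (N L E L) L L) L) L) L) (N (N L (N E E L) L) (N (N (N E L L) L L) (N E L L) L) L) L) L) L) (N (N (N (N (N E E L) (N E L L) L) (N L (N (N L E L) (N E E L) L) L) L) (N (N (N (N E E L) L L) (N (N E E L) L L) L) (N (N E L L) (N (N L E L) L L) L) L) L) (N (N (N (N L (N (N L E L) E L) L) (N (N (N E L L) (N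 E L L) L) E L) L) (N (N E L L) (N (N L (N E L L) L) (N (N L E L) E L) L) L) L) (N L (N (N (N L E L) L L) (N (N L E L) L L) L) L) L) L) L) (N (N (N (N (N (N L (N E L L) L) L L) (N L (N (N L (N E L L) L) E L) L) L) (N (N (N (N L E L) L L) (N E E L) L) (N (N (N L E L) (N L (N L E L) L) L) (N L (N (N (N E E L) L L) E L) L) L) L) L) (N L (N (N (N E (N E (N E L L) L) L) (N (N E L L) L L) L) (N (N (N L E L) E L) (N (N E L L) E L) L) L) L) L) (N (N (N (N (N (N (N L E L) L L) L L) (N (N L (N L (N L E L) L) L) E L) L) (N L (N E (N E E L) L) L) L) (N (N (N (N (N E L L) L L) (N L (N E L L) L) L) L L) (N (N (N E E L) E L) (N L (N L E L) L) L) L) L) (N (N (N (N (N L (N E L L) L) E L) (N (N (N E L L) L L) L L) L) (N (N (N E L L) E L) (N L (N E L L) L) L) L) (N (N (N (N L E L) E L) (N (N L E L) L L) L) (N (N (N (N L E L) L L) L L) L L) L) L) L) L) L) (N (N (N (N (N (N (N (N L (N E L L) L) L L) (N E (N L (N L E L) L) L) L) (N (N (N E L L) E L) (N (N (N L E L) L L) (N (N L E L) L L) L) L) L) (N (N L (N (N E L L) L L) L) (N (N (N E L L) (N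 (N L E L) L L) L) L L) L) L) L L) (N (N (N (N (N E (N L E L) L) L L) (N (N E L L) (N (N E E L) (N L E L) L) L) L) (N (N (N L (N L E L) L) (N (N E E L) E L) L) (N (N (N L (N E L L) L) E L) (N E (N L E L) L) L) L) L) (N (N (N (N L (N (N E L L) E L) L) (N L (N E L L) L) L) (N (N (N E L L) L L) (N L (N E L L) L) L) L) (N (N (N (N L E L) E L) L L) (N L (N (N L E L) L L) L) L) L) L) L) (N (N (N (N (N (N (N L E L) E L) (N (N (N E L L) E L) E L) L) (N E (N E (N L E L) L) L) L) (N (N E E L) (N (N L (N E L L) L) (N (N (N E E L) E L) L L) L) L) L) L L) (N (N (N L (N (N (N E L L) E L) (N (N E E L) (N L (N L E L) L) L) L) L) (N (N (N (N L E L) (N L (N L E L) L) L) E L) E L) L) (N (N (N (N E E L) (N L (N (N E L L) L L) L) L) (N (N L (N L E L) L) (N (N E L L) E L) L) L) (N (N L (N L E L) L) L L) L) L) L) L) L) (x := 28637) (by norm_num) (hsh 0xb0008000000000032000000060012000800000002000100250011002f007c000400010019000600000012001700060002000200b400030009000400380001003700650016000a000b000900000005000000040005005c0000000800160000000f002b008100a3000800040003000f00250024008a00b7000200000034000000040017008d001b0000000000000003001300000002001a0006001200080018000e001f00700012000500200004000a0000000400100044000a000c003e000400140026005200240025002b000400000011000700080010000d004f00000000002d000100040007003200020000005900150000000900010000001e003e001a0003003f006f001b001500030000007d003e0001000000000027007a00000000001100c8000000070021000300070000000c00090016000500000002000000040000000700020000000100230014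 167 1255721 512) 9 (by decide +kernel)

theorem orbD_dodecads0 : OrbDecAt (MulAction.stabilizer M24 (setOf' 340831)) dodecads ![1, 1, 495, 1584, 495]
    fun i => setOf' (![340831, 16436384, 1035448, 57274, 28637] i) := by
  refine orbDecAt_of_inv _ _ (Set.toFinite _) (fun g _ _ h => (smul_mem_dodecads_iff g).2 h)
    (fun s => (setOf' 340831 ∩ s).card) (fun g hg a _ => ?_) _
    (fun i => setOf'_mem_dodecads (by revert i; decide +kernel)) ?_ _ (fun i => ?_)
    (by rw [ncard_dodecads]; decide)
  · conv_lhs => rw [← MulAction.mem_stabilizer_iff.1 hg, card_smul_inter]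
  · simp only [← setOf'_land, card_setOf']
    decide +kernel
  · fin_cases i
    · exact orbD_dodecads0_0
    · exact orbD_dodecads0_1
    · exact orbD_dodecads0_2
    · exact orbD_dodecads0_3
    · exact orbD_dodecads0_4

/-- The orbits of a dodecad stabiliser on dodecads, with the intersection sizes. -/
theorem orbD_dodecads {d : Finset GolayPt} (hd : d ∈ dodecads) :
    ∃ y, OrbDecAt (MulAction.stabilizer M24 d) dodecads ![1, 1, 495, 1584, 495] y ∧
      ∀ i, (d ∩ y i).card = ![12, 0, 4, 6, 8] i := by
  obtain ⟨g, rfl⟩ := exists_smul_dodecad d0_mem hd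
  refine ⟨_, orbD_dodecads0.conj g (fun k => mem_stabilizer_smul_iff g k _)
    (fun a => smul_mem_dodecads_iff g), fun i => ?_⟩
  rw [card_smul_inter, ← setOf'_land, card_setOf']
  revert i
  decide +kernel

/-- A generator. -/
def gY0 : ℕ := 511084208385410977208831401613951041
/-- A generator. -/
def gY1 : ℕ := 936289525526097273764902335721209890
/-- A generator. -/
def gY2 : ℕ := 511084208385410977208831401613951041
theorem okgY0 : okM gY0 = true := by decide +kernel
theorem memgY0 : mc gY0 ∈ MulAction.stabilizer M24 (setOf' 7) :=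
  mc_mem_stabilizer_set okgY0 (by decide +kernel)
theorem okgY1 : okM gY1 = true := by decide +kernel
theorem memgY1 : mc gY1 ∈ MulAction.stabilizer M24 (setOf' 7) :=
  mc_mem_stabilizer_set okgY1 (by decide +kernel)
theorem okgY2 : okM gY2 = true := by decide +kernel
theorem memgY2 : mc gY2 ∈ MulAction.stabilizer M24 (setOf' 7) :=
  mc_mem_stabilizer_set okgY2 (by decide +kernel)
attribute [irreducible] gY0 gY1 gY2

theorem orbY_sextets0_0 : 21 ≤ (MulAction.orbit (MulAction.stabilizer M24 (setOf' 7)) (famOf 6 0x8000074120102800c0108600041900024028)).ncard :=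
  fam_orbit_ge _ okgY0 okgY1 okgY2 memgY0 memgY1 memgY2 6 (N (N (N (N (N E L L) E L) L L) (N (N (N E L L) L L) (N E E L) L) L) (N (N (N E L L) L L) (N L (N E L L) L) L) L) 0x8000074120102800c0108600041900024028 (hsh 0x0 1 2390 32) 5 (by decide +kernel)

theorem orbY_sextets0_1 : 630 ≤ (MulAction.orbit (MulAction.stabilizer M24 (setOf' 7)) (famOf 6 0x80000b609000180810050280024024002540)).ncard :=
  fam_orbit_ge _ okgY0 okgY1 okgY2 memgY0 memgY1 memgY2 6 (N (N (N (N (N (N (N (N (N (N L E L) E L) L L) (N L (N E L L) L) L) (N (N (N (N E E L) L L) (N (N E L L) L L) L) (N L (N (N L (N E L L) L) L L) L) L) L) (N (N L (N (N (N L E L) L L) (N (N L E L) (N E L L) L) L) L) (N L (N (N (N E L L) L L) (N E (N E (N E L L) L) L) L) L) L) L) (N (N (N (N (N (N L E L) (N L E L) L) L L) (N (N (N E L L) (N E E L) L) L L) L) (N (N (N (N L (N L E L) L) L L) (N (N E L L) L L) L) (N E L L) L) L) (N (N (N (N E L L) L L) (N (N E E L) (N L E L) L) L) (N (N E (N L (N E E L) L) L) (N E (N (N L E L) L L) L) L) L) L) L) (N (N (N (N (N (N (N L (N L E L)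 L) L L) (N L (N L E L) L) L) (N (N (N E L L) L L) (N E E L) L) L) (N (N (N (N L E L) E L) (N (N E E L) L L) L) (N (N L (N E L L) L) L L) L) L) (N (N (N (N (N L E L) L L) L L) (N (N E L L) (N (N E (N L E L) L) L L) L) L) (N (N (N (N E L L) L L) (N E (N (N E L L) (N E L L) L) L) L) (N L (N L (N E (N L E L) L) L) L) L) L) L) (N (N (N (N (N (N E L L) (N E L L) L) (N E E L) L) (N (N L (N E E L) L) (N (N L (N E L L) L) (N E E L) L) L) L) (N (N (N L E L) (N (N (N L E L) L L) (N E L L) L) L) (N (N E (N E L L) L) (N E (N L E L) L) L) L) L) (N (N (N (N L (N L E L) L) (N L (N E E L) L) L) (N (N L E L) L L) L) (N (N (N (N L (N E L L) L) L L) (N E E L) L) (N (N (N E (N E E L) L) (N E L L) L) (N E L L) L) L) L) L) L) L) (N (N (N (N (N L (N (N L (N L (N L (N E L L) L) L) L) L L) L) (N (N (N L E L) L L) (N E L L) L) L) (N (N (N L E L) (N (N E L L) (N L (N L E L) L) L) L) (N (N L (N L (N (N L E L) L L) L) L) L L) L) L) (N (N (N (N (N E (N E L L) L) (N (N E L L) L L) L) L L) (N E (N (N (N E L L) E L) (N L (N L E L) L) L) L) L) (N (N (N (N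 (N E L L) E L) E L) (N (N L (N E L L) L) (N (N E L L) L L) L) L) (N L (N (N L (N L (N E L L) L) L) E L) L) L) L) L) (N (N (N E (N (N L (N E E L) L) (N (N E L L) (N (N (N L E L) L L) L L) L) L) L) (N L (N L (N (N L (N E L L) L) (N (N E (N E L L) L) L L) L) L) L) L) (N (N (N (N (N L E L) L L) (N E L L) L) (N E (N (N E L L) (N E L L) L) L) L) L L) L) L) L) (N (N (N (N (N (N (N (N L E L) (N L E L) L) (N L (N E E L) L) L) (N (N (N L (N L E L) L) (N (N E L L) L L) L) (N E L L) L) L) (N (N E (N L (N L E L) L) L) (N (N L E L) (N E L L) L) L) L) (N (N L (N (N (N E E L) L L) (N (N L E L) E L) L) L) (N E (N (N (N E E L) E L) (N (N E L L) L L) L) L) L) L) (N (N (N (N (N (N (N E L L) L L) E L) (N (N E L L) (N E (N L E L) L) L) L) (N (N (N E L L) (N L (N (N L E L) L L) L) L) (N L (N L E L) L) L) L) (N (N E L L) (N L (N (N E E L) (N (N E E L) (N E L L) L) L) L) L) L) (N (N (N (N L (N (N E L L) L L) L) (N (N (N (N E L L) E L) (N E L L) L) (N (N E E L) L L) L) L) (N L (N (N E (N L E L) L) L L) L) L) (N (N (N (N L (N E L L) L) (N E L L) L)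 L L) (N (N E (N (N L E L) E L) L) (N (N E (N L E L) L) L L) L) L) L) L) L) (N (N (N (N (N (N (N L (N E L L) L) E L) (N (N E L L) (N (N E L L) E L) L) L) (N (N (N (N L (N L E L) L) L L) E L) (N L (N L E L) L) L) L) (N (N E (N L E L) L) (N E (N (N E L L) L L) L) L) L) (N (N (N (N (N L (N E L L) L) E L) (N L (N E L L) L) L) (N (N (N (N E L L) L L) (N L E L) L) E L) L) (N (N L (N (N L E L) (N E (N (N L E L) E L) L) L) L) (N L (N L (N (N E E L) L L) L) L) L) L) L) (N (N (N (N (N L (N E (N L E L) L) L) (N (N (N E L L) L L) L L) L) (N (N (N (N E L L) E L) L L) E L) L) (N (N L (N (N L E L) E L) L) (N E (N L E L) L) L) L) (N (N L (N L (N E (N (N L E L) L L) L) L) L) (N (N (N L (N E E L) L) E L) (N E (N (N E L L) (N E E L) L) L) L) L) L) L) L) L) 0x80000b609000180810050280024024002540 (hsh 0x80007000000020003000500000005000f0000000200020001000d000400020000000a00030008000100070004000300010001000100030003000e0000000000010001000f002d0002000700000009000000010000000a00070000000600060008000300000000000100040003000000010002000a000000030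00100030003000000050003000100030001000d00010000000700050005000e0003000000000005000100010000000000000005000a000300030000000300020003001f0001000000010000000000070002000a0000000000010001000000010000000000000000000200040000000000020001000300000001000100010000000c000200000000000600010002000000000000000200000003001c00050004000200070008000100000007000800000001000000000000000100030000000c00000009000600000000000500000000000000000000000300040001000000030001000700030004000700000001000a000e00000000000000000000000100000000000000000000000100000003000200000008000100040001000100010000000d00040007000000010004 211 2083693 1024) 10 (by decide +kernel)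

theorem orbY_sextets0_2 : 1120 ≤ (MulAction.orbit (MulAction.stabilizer M24 (setOf' 7)) (famOf 6 0x8000194040c0200304180802043020038400)).ncard :=
  fam_orbit_ge _ okgY0 okgY1 okgY2 memgY0 memgY1 memgY2 6 (N (N (N (N (N (N (N (N (N (N (N L E L) (N L (N E L L) L) L) (N (N L E L) E L) L) (N (N E E L) E L) L) (N (N E L L) (N (N (N L E L) L L) (N (N E L L) (N L (N L E L) L) L) L) L) L) (N (N (N (N L (N (N L E L) L L) L) L L) (N (N E L L) L L) L) (N (N (N L (N E L L) L) E L) (N (N E L L) E L) L) L) L) (N (N (N L (N (N L E L) (N E (N (N L (N L E L) L) E L) L) L) L) (N (N E L L) (N (N L E L) (N (N E E L) E L) L) L) L) (N (N (N (N E L L) L L) (N E (N L (N E L L) L) L) L) (N (N L (N (N (N L E L) L L) (N L E L) L) L) (N (N (N (N E L L) E L) E L) L L) L) L) L) L) (N (N (N (N (N (N (N L E L) (N E L L) L) E L) L L) (N (N (N E L L) (N (N E L L) L L) L) (N (N E E L) L L) L) L) (N (N E (N (N E L L) (N L (N E (N E L L) L) L) L) L) (N E (N (N (N L E L) L L) (N L (N L E L) L) L) L) L) L) (N (N (N (N (N (N E L L) L L) L L) (N L E L) L) (N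 (N (N (N L (N E L L) L) L L) (N E L L) L) (N (N (N L E L) E L) (N (N L E L) (N E L L) L) L) L) L) (N (N (N L (N (N E L L) E L) L) E L) (N (N (N (N E L L) (N L (N E L L) L) L) (N E (N L E L) L) L) (N (N L E L) L L) L) L) L) L) L) (N (N (N (N (N (N (N L (N E L L) L) E L) (N (N (N E E L) E L) L L) L) (N E (N (N (N (N E L L) E L) E L) E L) L) L) (N (N (N E E L) (N (N L (N E L L) L) (N L E L) L) L) (N (N (N (N E E L) L L) (N (N (N E L L) L L) L L) L) (N (N (N E E L) L L) E L) L) L) L) (N (N (N (N (N L (N L E L) L) (N L (N L E L) L) L) (N (N L E L) (N L (N E E L) L) L) L) (N (N (N E L L) L L) L L) L) (N (N (N (N E (N L E L) L) (N E L L) L) (N (N E L L) (N L (N L E L) L) L) L) (N (N (N L (N E L L) L) (N (N L E L) L L) L) L L) L) L) L) (N (N (N L (N (N (N (N L E L) E L) (N L E L) L) (N (N L (N L E L) L) (N (N E L L) L L) L) L) L) (N (N (N (N L E L) L L) (N (N E E L) (N L E L) L) L) (N L (N (N (N E L L) E L) E L) L) L) L) (N (N (N (N L (N E L L) L) (N (N E L L) L L) L) (N L (N L (N E (N E L L) L) L) L) L) (N (N (N L (N L E L) L)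 (N (N (N E L L) L L) (N E L L) L) L) (N E (N (N L E L) E L) L) L) L) L) L) L) (N (N (N (N (N (N L (N L (N L E L) L) L) (N (N (N L E L) L L) (N (N E (N L E L) L) L L) L) L) (N (N (N (N (N L E L) E L) (N E L L) L) (N (N L E L) (N L E L) L) L) (N (N (N L (N E (N E L L) L) L) L L) (N (N (N L E L) E L) (N L E L) L) L) L) L) (N (N (N L (N L E L) L) (N L (N (N E (N E L L) L) E L) L) L) (N (N (N (N (N L E L) E L) (N (N L E L) L L) L) (N (N L E L) (N (N E L L) L L) L) L) (N (N (N L E L) (N E (N E L L) L) L) (N (N E E L) (N E L L) L) L) L) L) L) (N (N (N (N (N (N (N E L L) L L) (N (N E L L) (N E L L) L) L) (N E (N L E L) L) L) L L) (N E (N (N (N (N E L L) E L) L L) E L) L) L) (N (N (N (N (N (N L E L) E L) (N L E L) L) (N (N L E L) E L) L) (N (N (N E E L) (N L (N L E L) L) L) E L) L) (N (N (N (N (N E (N E L L) L) L L) (N E L L) L) E L) (N (N L E L) (N (N (N E E L) L L) L L) L) L) L) L) L) (N (N (N (N (N (N E (N E L L) L) L L) (N (N (N L E L) (N L (N (N E L L) L L) L) L) (N (N E L L) L L) L) L) (N (N (N E E L) (N (N L E L) E L) L) (N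 E (N (N L (N L E L) L) E L) L) L) L) (N (N (N (N E L L) (N E L L) L) (N (N E (N L E L) L) (N (N E (N L E L) L) (N E L L) L) L) L) (N (N (N L E L) (N E (N E E L) L) L) (N (N (N (N E L L) (N L E L) L) (N E E L) L) (N (N E E L) (N E L L) L) L) L) L) L) (N (N (N (N (N L (N L (N L E L) L) L) (N E L L) L) (N (N (N (N E L L) (N (N E L L) L L) L) (N E E L) L) E L) L) (N (N (N (N L (N E L L) L) (N E E L) L) (N L (N E E L) L) L) (N (N (N L E L) L L) (N E (N (N E L L) (N E E L) L) L) L) L) L) (N (N (N (N (N E L L) (N L (N E L L) L) L) (N E (N E (N L E L) L) L) L) L L) (N (N L (N (N (N E L L) E L) (N E L L) L) L) L L) L) L) L) L) L) (N (N (N (N (N (N (N (N (N (N L E L) E L) (N E (N E L L) L) L) (N (N E L L) (N E L L) L) L) (N (N (N L (N (N L E L) L L) L) E L) (N L (N (N L (N L E L) L) L L) L) L) L) (N (N (N (N L E L) (N E E L) L) (N (N L (N E L L) L) L L) L) (N (N (N E E L) (N L E L) L) L L) L) L) (N (N (N (N E E L) L L) (N (N L (N E L L) L) E L) L) (N (N (N E (N E E L) L) (N (N E L L) (N E L L) L) L) (N (N (N E E L) L L) E L) L) L)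 L) (N (N (N (N (N L E L) (N L (N L (N E E L) L) L) L) (N L (N L E L) L) L) (N (N (N (N E (N L E L) L) (N L E L) L) (N E L L) L) (N L (N (N (N L E L) L L) (N L (N L E L) L) L) L) L) L) (N L (N (N (N L (N E L L) L) (N (N L E L) (N L E L) L) L) (N (N (N E L L) (N E E L) L) L L) L) L) L) L) (N (N (N (N (N (N (N L E L) (N E L L) L) (N L E L) L) (N (N (N L (N E L L) L) (N E L L) L) (N E L L) L) L) (N (N (N (N E L L) L L) (N (N L (N E L L) L) E L) L) (N (N L (N (N L E L) L L) L) L L) L) L) (N (N (N (N (N E L L) E L) (N (N L E L) E L) L) (N L (N E L L) L) L) (N (N (N (N E E L) L L) (N E (N (N L E L) L L) L) L) (N (N E (N E L L) L) (N (N L (N E L L) L) (N L E L) L) L) L) L) L) (N (N (N (N (N (N E E L) (N L (N L E L) L) L) (N (N E E L) L L) L) (N (N L (N L (N E L L) L) L) (N (N L E L) (N (N E L L) L L) L) L) L) (N (N (N L (N (N E L L) L L) L) (N (N E E L) L L) L) (N E L L) L) L) (N (N (N (N E L L) L L) (N (N (N E L L) (N (N L E L) L L) L) L L) L) (N (N (N L E L) (N (N (N L E L) L L) L L) L) (N (N (N E E L) (N E L L) L) (N L (N (N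 E L L) E L) L) L) L) L) L) L) L) (N (N L (N (N (N E (N (N (N L E L) L L) (N (N (N L E L) L L) L L) L) L) (N (N (N (N (N L E L) E L) (N L E L) L) E L) (N E (N (N L E L) L L) L) L) L) (N (N (N (N L E L) L L) (N (N E (N L E L) L) (N (N E (N E L L) L) (N E L L) L) L) L) (N (N L (N (N L E L) L L) L) (N (N E E L) L L) L) L) L) L) (N (N (N (N (N (N L (N E E L) L) (N L (N (N E L L) E L) L) L) (N (N (N L E L) (N L E L) L) (N (N E L L) L L) L) L) (N (N (N E E L) (N L (N E E L) L) L) (N (N (N L (N L E L) L) L L) (N (N L E L) (N E L L) L) L) L) L) (N (N (N (N L E L) L L) (N (N (N E L L) L L) L L) L) (N (N (N L E L) E L) (N (N L E L) E L) L) L) L) (N (N (N (N (N (N L (N L E L) L) L L) (N (N L (N L E L) L) L L) L) (N (N (N L E L) (N E L L) L) (N L (N L E L) L) L) L) (N (N E (N (N L E L) L L) L) (N (N (N L E L) (N L E L) L) (N (N E E L) (N E L L) L) L) L) L) (N (N (N (N L (N L E L) L) (N L E L) L) (N (N L E L) L L) L) (N (N (N E (N L E L) L) (N E (N E E L) L) L) L L) L) L) L) L) L) L) 0x8000194040c0200304180802043020038400 (hsh 0x3000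000010002000100000002000600080002000000000000000000020008000000030005000700020005000100000000000100040000000000010001000100000004000000020000000000010003000000040000000000030005000100000000000e00000003000100010000000100000001001100020000000000020002000400000000000300030000000100000003000000000000000000000009000000070002000100000000000400000000000000030001000400040003000000040002000000020003000500050000000000070004001b0001000300000000000000010001000200000002000900000003000200020000000000020001000200080000000d00000002000000020001000000000001000400070000000c0000000000000001000300000003000000000000000000000000000000020000000000000000000000000001000000000009000000010004000200000008000200000005000e000200020001000000020001000600040000000100000000000b0000000100020001000300030000000100020007000900030000000d00000004000000000000000000050001000200000000000000000001000400050006000100130000000500000004000c0008000000010003000600020001000800000000000100060000000000030001000000020003000b00000000000800120002000000000000000d0006000000020000000300040000000b00050000001b0003000300020008000000000006000500000000000000020000000000010000000200000000000000000000000000090002000300000000000100000000000100030003000000000002000800000000000900000000000000040001000200050000000500020002000200050002000000030004000300000000000000010000000500030001000000040000000200000002000100050000000b0000000a00010000000200000001000100000008000300030001000400010002000000000000000000000000000000010000000300050003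 373 1747217 2048) 11 (by decide +kernel)

theorem card_filter_famOf {k x : ℕ} (h : (famOf k x).card = k) (P : Finset GolayPt → Prop)
    [DecidablePred P] (p : ℕ → Bool) (hp : ∀ m < 2 ^ 24, p m = true ↔ P (setOf' m)) :
    ((famOf k x).filter P).card = cntLT k fun j => p (mem24 x j) := by
  have e : famOf k x = (Finset.range k).image fun j => setOf' (mem24 x j) := by
    ext s; simp [mem_famOf]
  rw [e] at h ⊢
  have hinj := Finset.card_image_iff.1 (h.trans (Finset.card_range k).symm)
  rw [Finset.filter_image, Finset.card_image_of_injOn (hinj.mono (by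
    intro a ha; exact (Finset.mem_filter.1 ha).1)), cntLT_eq]
  congr 1
  ext j
  simp only [Finset.mem_filter, hp _ (mem24_lt x j)]

theorem card_filter_meet_smul (g : M24) (S : Finset (Finset GolayPt)) (Y : Finset GolayPt) :
    ((g • S).filter fun t => (t ∩ g • Y).Nonempty).card =
      (S.filter fun t => (t ∩ Y).Nonempty).card := by
  rw [← Finset.card_smul_finset g (S.filter _)]
  congr 1
  ext t
  obtain ⟨t, rfl⟩ := MulAction.surjective g t
  simp only [Finset.mem_filter, Finset.smul_mem_smul_finset_iff, ← Finset.smul_finset_inter,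
    Finset.smul_finset_nonempty]

theorem nonempty_setOf' {m : ℕ} (hm : m < 2 ^ 24) : (setOf' m).Nonempty ↔ m ≠ 0 := by
  rw [Finset.nonempty_iff_ne_empty, ← setOf'_zero]
  exact not_congr ⟨setOf'_inj hm (by norm_num), fun h => by rw [h]⟩

theorem orbY_inv (i : Fin 3) : ((famOf 6 (![0x8000074120102800c0108600041900024028, 0x80000b609000180810050280024024002540, 0x8000194040c0200304180802043020038400] i)).filter
    fun t => (t ∩ setOf' 7).Nonempty).card = ![1, 2, 3] i := by
  rw [card_filter_famOf (famOf_mem_sextets (by revert i; decide +kernel)).1 _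
    (fun m => not' (Nat.beq (Nat.land m 7) 0)) (fun m hm => by
      rw [not'_eq_true, beq_iff, ← setOf'_land,
        nonempty_setOf' (lt_of_le_of_lt Nat.and_le_left hm)]; rfl)]
  revert i
  decide +kernel

theorem orbY_sextets0 : OrbDecAt (MulAction.stabilizer M24 (setOf' 7)) sextets ![21, 630, 1120]
    fun i => famOf 6 (![0x8000074120102800c0108600041900024028, 0x80000b609000180810050280024024002540, 0x8000194040c0200304180802043020038400] i) := by
  refine orbDecAt_of_inv _ _ (Set.toFinite _) (fun g _ _ h => smul_mem_sextets g h)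
    (fun S => (S.filter fun t => (t ∩ setOf' 7).Nonempty).card) (fun g hg a _ => ?_) _
    (fun i => famOf_mem_sextets (by revert i; decide +kernel)) ?_ _ (fun i => ?_)
    (by rw [ncard_sextets]; decide)
  · conv_lhs => rw [← MulAction.mem_stabilizer_iff.1 hg, card_filter_meet_smul]
  · simp only [orbY_inv]
    decide
  · fin_cases i
    · exact orbY_sextets0_0
    · exact orbY_sextets0_1
    · exact orbY_sextets0_2

theorem orbY_sextets {Y : Finset GolayPt} (hY : Y.card = 3) :
    ∃ y, OrbDecAt (MulAction.stabilizer M24 Y) sextets ![21, 630, 1120] y ∧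
      ∀ i, ((y i).filter fun t => (t ∩ Y).Nonempty).card = ![1, 2, 3] i := by
  obtain ⟨g, rfl⟩ := exists_smul_finset (s := setOf' 7) (t := Y) (by decide +kernel)
    (by rw [hY]; decide +kernel)
  exact ⟨_, orbY_sextets0.conj g (fun k => mem_stabilizer_smul_iff g k _)
    (fun a => smul_mem_sextets_iff g), fun i => by rw [card_filter_meet_smul, orbY_inv]⟩

theorem orbY_triads0_0 : 210 ≤ (MulAction.orbit (MulAction.stabilizer M24 (setOf' 7)) (setOf' 152)).ncard :=
  set_orbit_ge _ okgY0 okgY1 okgY2 memgY0 memgY1 memgY2 (N (N (N (N (N (N (N (N E (N (N E L L) L L) L) L L) (N (N E (N E (N E L L) L) L) (N E L L) L) L) (N (N (N (N E L L) (N E (N E L L) L) L) (N (N E L L) L L) L) E L) L) (N L (N (N (N L (N E L L) L) E L) (N (N E L L) (N E E L) L) L) L) L) (N (N (N (N E L L) (N E L L) L) L L) (N (N (N (N E E L) (N (N L (N E L L) L) L L) L) E L) (N L (N L (N E L L) L) L) L) L) L) (N (N (N (N E (N E E L) L) (N (N (N L E L) (N L (N E L L) L) L) (N (N (N E L L) L L) (N (N L E L) E L) L) L) L) (N (N (N E (N (N (N L E L) L L) L L) L)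 (N E L L) L) (N (N L (N E E L) L) (N (N (N L E L) L L) (N L (N L E L) L) L) L) L) L) (N (N E (N (N L (N (N L E L) L L) L) E L) L) (N (N (N (N L E L) E L) (N L (N E E L) L) L) (N (N (N L E L) (N E E L) L) (N E L L) L) L) L) L) L) (N (N (N (N (N (N (N E E L) L L) E L) (N (N E L L) L L) L) (N L (N L E L) L) L) (N (N (N E (N (N E E L) L L) L) E L) (N (N (N E L L) E L) (N (N (N E (N E (N E L L) L) L) (N E L L) L) (N (N E L L) (N L E L) L) L) L) L) L) (N (N (N (N L (N (N L (N E L L) L) E L) L) (N (N E L L) E L) L) (N (N E (N E L L) L) (N E (N L (N L E L) L) L) L) L) L L) L) L) (x := 152) (by norm_num) (hsh 0x0 1 4457 4096) 12 (by decide +kernel)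

theorem orbY_triads0_1 : 1120 ≤ (MulAction.orbit (MulAction.stabilizer M24 (setOf' 7)) (setOf' 56)).ncard :=
  set_orbit_ge _ okgY0 okgY1 okgY2 memgY0 memgY1 memgY2 (N (N (N (N (N (N (N (N (N (N (N (N L E L) (N E L L) L) L L) L L) (N (N E (N E (N L E L) L) L) (N (N (N E L L) L L) (N E (N E L L) L) L) L) L) (N (N (N (N (N E L L) L L) (N (N L E L) E L) L) (N (N L (N E L L) L) L L) L) (N E L L) L) L) (N (N E (N (N (N L (N L E L) L) (N E E L) L) L L) L) (N (N (N L E L) L L) (N (N (N (N E L L) L L) (N L E L) L) L L) L) L) L) (N (N (N (N (N (N L (N E L L) L) (N E L L) L) L L) (N (N E L L) L L) L) (N L (N (N (N E E L) (N L E L) L) (N (N (N E (N E L L) L) E L) (N E L L) L) L) L) L) (N (N (N L (N (N L E L) (N E L L) L) L) (N E (N (N (N L E L) L L) (N L E L) L) L) L) (N (N (N L (N L (N E L L) L) L) (N E L L) L) (N (N L (N L E L) L) E L) L) L) L) L) (N (N (N L (N (N (N (N E (N E L L) L) (N L E L) L) (N L E L) L) (N (N (N L E L) L L) (N L (N L (N E L L) L) L) L) L) L) (N (N (N E (N (N E (N E L L) L) L L) L) (N (N E L L) (N L (N E L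 L) L) L) L) (N (N (N L E L) L L) (N (N E (N (N E L L) L L) L) (N L E L) L) L) L) L) (N (N (N (N (N L (N L E L) L) L L) (N (N (N E E L) L L) L L) L) L L) (N (N (N (N L E L) (N E L L) L) (N (N (N L (N L E L) L) (N E L L) L) E L) L) (N (N (N (N E L L) L L) (N (N E E L) (N (N L E L) (N E E L) L) L) L) (N (N E L L) (N E E L) L) L) L) L) L) L) (N (N (N (N (N (N L (N (N L (N E L L) L) L L) L) (N (N (N L E L) L L) (N L (N E L L) L) L) L) (N (N L (N L (N (N L E L) L L) L) L) (N (N E L L) L L) L) L) (N (N (N (N L (N E E L) L) E L) L L) (N (N (N (N L E L) L L) E L) (N (N E E L) (N E (N L (N E L L) L) L) L) L) L) L) (N (N (N E (N L E L) L) (N (N (N E L L) L L) (N (N E L L) L L) L) L) (N (N (N (N L E L) (N (N L E L) L L) L) (N (N (N L E L) L L) L L) L) E L) L) L) (N (N (N L (N (N (N E E L) (N (N (N E L L) (N E L L) L) E L) L) (N E (N E (N E L L) L) L) L) L) (N (N (N (N E L L) (N E L L) L) L L) (N (N (N L (N (N E L L) E L) L) (N L E L) L) (N E (N (N E E L) L L) L) L) L) L) (N (N (N (N (N E L L) (N L (N (N L E L) L L) L) L) (N E L L) L)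 (N (N E (N E L L) L) (N (N L E L) (N (N L E L) (N L E L) L) L) L) L) (N (N (N (N (N E L L) L L) (N (N (N L E L) L L) L L) L) (N E (N E L L) L) L) (N L (N L (N (N E L L) (N L (N L E L) L) L) L) L) L) L) L) L) L) (N (N (N L (N (N (N (N (N L E L) L L) (N L E L) L) (N (N (N L (N E L L) L) E L) (N (N (N E L L) E L) E L) L) L) (N (N (N (N (N E L L) E L) L L) (N (N (N E L L) (N (N E L L) L L) L) (N E E L) L) L) (N E (N (N (N L E L) E L) E L) L) L) L) L) (N (N (N (N L (N (N E (N E E L) L) (N L (N E L L) L) L) L) (N (N (N (N L E L) E L) (N L (N E L L) L) L) (N (N E L L) (N E L L) L) L) L) (N (N (N (N E (N (N E L L) (N E L L) L) L) L L) L L) (N (N (N E (N E L L) L) E L) (N L (N (N E E L) E L) L) L) L) L) (N (N (N (N (N (N L E L) (N (N E L L) E L) L) L L) E L) (N (N (N (N E L L) L L) (N L E L) L) (N E L L) L) L) (N (N (N (N E (N L E L) L) E L) (N (N (N L E L) (N (N L E L) E L) L) (N E E L) L) L) L L) L) L) L) (N (N (N (N (N (N (N L (N L E L) L) (N L (N E L L) L) L) (N L (N (N L E L) L L) L) L) (N L (N E E L) L) L) (N (N (N (N (N E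 L L) L L) (N E L L) L) L L) (N E (N L (N L E L) L) L) L) L) (N (N (N (N E L L) L L) (N (N (N E (N E L L) L) L L) (N E E L) L) L) (N (N (N L E L) (N (N L (N L E L) L) (N (N E E L) E L) L) L) (N L (N (N (N E E L) L L) E L) L) L) L) L) (N (N (N (N (N E L L) (N E E L) L) (N L (N L (N E E L) L) L) L) (N (N (N (N (N L E L) (N E L L) L) (N (N L E L) L L) L) L L) (N (N L (N L E L) L) (N (N L (N L E L) L) (N L E L) L) L) L) L) (N (N (N (N E (N E L L) L) (N (N E E L) (N L E L) L) L) (N (N (N L E L) E L) (N (N (N E E L) E L) L L) L) L) (N (N (N L (N E (N (N L E L) L L) L) L) L L) (N (N (N E E L) (N E L L) L) (N E (N E (N L (N E L L) L) L) L) L) L) L) L) L) L) L) (N (N (N (N (N (N (N L (N L (N (N E L L) L L) L) L) (N (N (N (N (N E L L) L L) L L) L L) (N (N L E L) (N (N E L L) L L) L) L) L) (N (N (N (N (N E L L) L L) (N L (N L E L) L) L) (N (N L (N L E L) L) E L) L) (N (N (N E L L) (N L (N E E L) L) L) L L) L) L) (N (N (N (N E (N (N E L L) L L) L) E L) (N (N (N (N L E L) E L) L L) (N E (N (N E L L) L L) L) L) L) (N E (N L E L) L) L)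 L) (N (N (N (N (N (N (N E L L) L L) (N L (N L E L) L) L) (N (N (N E L L) L L) (N E L L) L) L) (N L (N E (N L E L) L) L) L) (N (N (N (N (N L E L) (N E L L) L) L L) L L) (N (N L E L) (N (N E L L) (N L E L) L) L) L) L) (N (N (N (N L E L) (N L (N (N E L L) (N L (N L E L) L) L) L) L) (N L E L) L) (N (N (N E L L) L L) (N (N L (N L E L) L) (N (N (N E E L) L L) L L) L) L) L) L) L) (N (N (N L (N (N (N (N L (N E L L) L) E L) (N E (N L E L) L) L) (N (N L (N E L L) L) (N (N (N L E L) L L) (N E L L) L) L) L) L) (N (N (N (N E (N E L L) L) E L) E L) (N (N (N (N L (N L E L) L) (N E L L) L) (N L (N (N L E L) L L) L) L) (N (N E E L) (N (N E L L) (N L E L) L) L) L) L) L) (N (N (N (N E (N (N E (N E L L) L) L L) L) (N (N (N L E L) L L) (N L E L) L) L) (N (N (N L (N E L L) L) (N E (N (N L E L) L L) L) L) (N (N (N E L L) L L) (N (N E L L) (N L E L) L) L) L) L) (N (N (N (N (N E (N E L L) L) E L) (N L (N E E L) L) L) L L) (N (N (N L (N E E L) L) (N (N L E L) L L) L) (N (N (N L E L) L L) (N E L L) L) L) L) L) L) L) (N (N (N (N L (N (N (N (N L (N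 (N L E L) L L) L) E L) (N (N L (N E L L) L) (N L E L) L) L) (N (N L E L) L L) L) L) (N (N (N (N E L L) (N L E L) L) (N (N (N E L L) E L) (N (N E L L) (N L E L) L) L) L) (N L (N (N E (N L E L) L) (N E (N E (N (N L E L) E L) L) L) L) L) L) L) (N (N (N (N (N (N E L L) L L) (N L E L) L) L L) (N (N (N (N L E L) (N (N L E L) E L) L) (N L (N E L L) L) L) (N L (N (N L E L) L L) L) L) L) (N (N (N (N L E L) (N (N (N E L L) L L) L L) L) (N (N E (N E L L) L) (N (N L E L) L L) L) L) (N L (N (N (N E L L) (N (N L E L) E L) L) (N E (N E (N E L L) L) L) L) L) L) L) L) (N (N (N (N (N E (N E (N L E L) L) L) (N (N L (N L (N E E L) L) L) E L) L) (N (N (N L (N E L L) L) L L) (N E (N (N L E L) L L) L) L) L) (N L (N (N (N E L L) (N E L L) L) L L) L) L) (N (N (N (N L (N (N L E L) (N E L L) L) L) (N (N (N E E L) L L) (N (N (N E L L) L L) L L) L) L) (N L (N (N E E L) (N (N E (N E E L) L) L L) L) L) L) (N (N (N (N (N E L L) (N E E L) L) E L) (N (N (N E L L) L L) (N E L L) L) L) (N (N E (N (N L E L) L L) L) L L) L) L) L) L) L) L) (x := 56) (by norm_num)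 (hsh 0x3000e00b60160006e0010001c018901c200e80186002101a0000d000e019e001b000b00ae008b0043002800010003009a005e00150000000d00b800d40017001800670145000400000002013a01610029000a00cf00270001001700d0000501b4008f001101ab00550036001e0002003a003f00400012000d013200040007000101a1001901790000000b01ad0000001c00dd00000023001301360009000100e5008f0003000200f800000005010400000001000300040002006c019c00a3000900430068015a0002001d000a016500270005000a000e0006011f0171007c000600a30025000f00c100690038001f001f01530035001a0012006f0004000500000010001401950048001b00aa0181004e000400100006014e015e0158001900cd00c6002a00c4019800050006000e00160007008900290081001d011f0001000100c1000e010f00140007017800150001002500a5000100080033006c017d000b00000000001d0000001f0002001801bc0034000200a700110024000600150000000f00df0165000f000700a500c000050049001700010000005001db015100020004000d000d003c003a006b011c01c6001e00050074001101c300ab000000040001013d003700be013a0000004d003c01aa0002007301000003003e000b00420076000900fa00a40006001d00bf00030126000b0172004a000200f700bd004b0004018e016e01680002016400010091005d005600150010001a000001cc0003001800020018003f005400110059013c00770167000000040058000200bb003a01af00bf007b000300ca00dc00c9000c01a20002016e002100f000090000016a00b10062001c003f00880000012600d50003002a001d013e0008005e0003001b000a0009010a00c2001300b601bd00750007002c001400050137003b0002018b001201a900290042014a000100520016013e004d0062001000c4009e01750123002401c70000000c000201bc000700290003000c004c000e00a5000000fd0012019500e800000022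 373 1365977 4096) 12 (by decide +kernel)

theorem exists_octad_smul (g : M24) (s : Finset GolayPt) :
    (∃ o ∈ octads, g • s ⊆ o) ↔ ∃ o ∈ octads, s ⊆ o := by
  constructor
  · rintro ⟨o, ho, h⟩
    exact ⟨g⁻¹ • o, (smul_mem_octads_iff _).2 ho, Finset.smul_finset_subset_iff.1 h⟩
  · rintro ⟨o, ho, h⟩
    exact ⟨g • o, (smul_mem_octads_iff _).2 ho, Finset.smul_finset_subset_smul_finset h⟩

theorem not_exists_octad {m : ℕ} (hm : m < 2 ^ 24) (h : allB 4096 (fun a => force (enc a) fun w =>
    or' (not' (Nat.beq (Nat.land m w) m)) (not' (Nat.beq (pop 24 w) 8))) = true) :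
    ¬ ∃ o ∈ octads, setOf' m ⊆ o := by
  simp only [allB_iff, force_eq, or'_eq_true, not'_eq_true, beq_iff] at h
  rintro ⟨o, ho, hs⟩
  obtain ⟨a, ha, rfl⟩ := (mem_codeSets_iff_enc o).1 ho.1
  rcases h a ha with h | h
  · exact h ((setOf'_subset_iff hm).1 hs)
  · exact h (by rw [← card_setOf']; exact ho.2)

theorem disjoint_smul_iff (g : M24) (s t : Finset GolayPt) :
    Disjoint (g • s) (g • t) ↔ Disjoint s t := by
  rw [Finset.disjoint_iff_inter_eq_empty, ← Finset.smul_finset_inter, Finset.smul_finset_eq_empty,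
    ← Finset.disjoint_iff_inter_eq_empty]

theorem orbY_triad_inv0 : ∃ o ∈ octads, setOf' 7 ∪ setOf' 152 ⊆ o :=
  ⟨setOf' 5279, setOf'_mem_octads (by decide +kernel), by decide +kernel⟩

theorem orbY_triad_inv1 : ¬ ∃ o ∈ octads, setOf' 7 ∪ setOf' 56 ⊆ o := by
  rw [← setOf'_lor]
  exact not_exists_octad (by decide) (by decide +kernel)

theorem orbY_triads0 : OrbDecAt (MulAction.stabilizer M24 (setOf' 7)) {U | U.card = 3 ∧ Disjoint (setOf' 7) U} ![210, 1120]
    fun i => setOf' (![152, 56] i) := by
  refine orbDecAt_of_inv _ _ (Set.toFinite _) (fun g hg U h => ?_)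
    (fun U => ∃ o ∈ octads, setOf' 7 ∪ U ⊆ o) (fun g hg a _ => ?_) _
    (fun i => ?_) ?_ _ (fun i => ?_) ?_
  · refine ⟨by rw [Finset.card_smul_finset, h.1], ?_⟩
    rw [← MulAction.mem_stabilizer_iff.1 hg, disjoint_smul_iff]; exact h.2
  · conv_lhs => rw [← MulAction.mem_stabilizer_iff.1 hg, ← Finset.smul_finset_union,
      exists_octad_smul]
  · fin_cases i <;> exact ⟨by decide +kernel, by decide +kernel⟩
  · intro i j h
    fin_cases i <;> fin_cases j
    · rfl
    · exact absurd (h.mp orbY_triad_inv0) orbY_triad_inv1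
    · exact absurd (h.mpr orbY_triad_inv0) orbY_triad_inv1
    · rfl
  · fin_cases i
    · exact orbY_triads0_0
    · exact orbY_triads0_1
  · have : {U : Finset GolayPt | U.card = 3 ∧ Disjoint (setOf' 7) U} =
        ((setOf' 7)ᶜ.powersetCard 3 : Finset (Finset GolayPt)) := by
      ext U
      simp only [Set.mem_ofPred_eq, Finset.mem_coe, Finset.mem_powersetCard,
        Finset.subset_compl_iff_disjoint_left, and_comm]
    rw [this, Set.ncard_coe_finset, Finset.card_powersetCard]
    decide +kernel

theorem orbY_triads {T : Finset GolayPt} (hT : T.card = 3) :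
    ∃ y, OrbDecAt (MulAction.stabilizer M24 T) {U | U.card = 3 ∧ Disjoint T U} ![210, 1120] y ∧
      (∃ o ∈ octads, T ∪ y 0 ⊆ o) ∧ ¬ ∃ o ∈ octads, T ∪ y 1 ⊆ o := by
  obtain ⟨g, rfl⟩ := exists_smul_finset (s := setOf' 7) (t := T) (by decide +kernel)
    (by rw [hT]; decide +kernel)
  refine ⟨_, orbY_triads0.conj g (fun k => mem_stabilizer_smul_iff g k _) (fun a => ?_), ?_, ?_⟩
  · simp only [Set.mem_ofPred_eq, Finset.card_smul_finset, disjoint_smul_iff]
  · rw [← Finset.smul_finset_union, exists_octad_smul]; exact orbY_triad_inv0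
  · rw [← Finset.smul_finset_union, exists_octad_smul]; exact orbY_triad_inv1

end Cfsg.Agent.Spor.M24C

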