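import Cfsg.Agent.Spor.M24Enum

/-!
Orbits of the stabiliser of a trio on octads, trios and sextets.
-/

set_option autoImplicit false
set_option maxRecDepth 100000

namespace Cfsg.Agent.Spor.M24C

open Cfsg Cfsg.Agent.Comp Cfsg.Agent.Spor
open scoped Pointwise
open Cfsg.Agent.Comp.T3

local notation "E" => T3.N T3.L T3.L T3.L

/-- A generator. -/
def gT0 : ℕ := 736477724676661134263152944470864199
/-- A generator. -/
def gT1 : ℕ := 793530357707053394401824185266184363
/-- A generator. -/
def gT2 : ℕ := 736477724676661134263152944470864199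
theorem okgT0 : okM gT0 = true := by decide +kernel
theorem memgT0 : mc gT0 ∈ MulAction.stabilizer M24 (famOf 3 tr0) :=
  mc_mem_stabilizer_fam okgT0 (by decide +kernel)
theorem okgT1 : okM gT1 = true := by decide +kernel
theorem memgT1 : mc gT1 ∈ MulAction.stabilizer M24 (famOf 3 tr0) :=
  mc_mem_stabilizer_fam okgT1 (by decide +kernel)
theorem okgT2 : okM gT2 = true := by decide +kernel
theorem memgT2 : mc gT2 ∈ MulAction.stabilizer M24 (famOf 3 tr0) :=
  mc_mem_stabilizer_fam okgT2 (by decide +kernel)
attribute [irreducible] gT0 gT1 gT2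

theorem orbT_octads0_0 : 3 ≤ (MulAction.orbit (MulAction.stabilizer M24 (famOf 3 tr0)) (setOf' 5279)).ncard :=
  set_orbit_ge _ okgT0 okgT1 okgT2 memgT0 memgT1 memgT2 (N L (N E L L) L) (x := 5279) (by norm_num) (hsh 0x0 1 7 4) 2 (by decide +kernel)

theorem orbT_octads0_1 : 84 ≤ (MulAction.orbit (MulAction.stabilizer M24 (famOf 3 tr0)) (setOf' 10558)).ncard :=
  set_orbit_ge _ okgT0 okgT1 okgT2 memgT0 memgT1 memgT2 (N (N (N (N (N L (N (N L E L) L L) L) (N (N (N E L L) (N L (N E L L) L) L) (N (N E L L) L L) L) L) (N (N E L L) (N L E L) L) L) (N (N (N E L L) (N (N (N E L L) L L) (N L E L) L) L) (N (N (N E (N L E L) L) L L) (N (N (N L E L) E L) (N (N L E L) E L) L) L) L) L) (N (N (N (N (N E L L) (N L E L) L) (N L (N E L L) L) L) (N (N (N E L L) E L) (N E (N L E L) L) L) L) (N (N (N (N (N L E L) E L) E L) L L) (N (N (N L (N L (N E L L) L) L) L L) (N L E L) L) L) L) L) (x := 10558) (by norm_num) (hsh 0x5000300000001000600020000000300040002000000000000001600060003000000000000000200010000000000060000000100030001 29 1347413 128) 7 (by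 decide +kernel)

theorem orbT_octads0_2 : 672 ≤ (MulAction.orbit (MulAction.stabilizer M24 (famOf 3 tr0)) (setOf' 18147)).ncard :=
  set_orbit_ge _ okgT0 okgT1 okgT2 memgT0 memgT1 memgT2 (N (N (N (N (N (N (N (N L (N E E L) L) (N (N L (N E L L) L) (N E L L) L) L) (N L (N (N (N L (N L E L) L) (N L E L) L) (N (N L (N E L L) L) (N (N E L L) L L) L) L) L) L) (N (N (N (N L (N (N L E L) (N E L L) L) L) (N L (N E L L) L) L) (N (N L (N E L L) L) (N (N L (N L E L) L) L L) L) L) (N L (N E (N (N E L L) E L) L) L) L) L) (N (N (N (N (N (N L (N E E L) L) L L) L L) (N (N (N (N L E L) (N (N E L L) L L) L) (N E E L) L) (N (N (N E L L) E L) L L) L) L) (N (N (N L E L) (N (N E L L) (N (N E L L) (N L E L) L) L) L) (N (N L E L) (N L (N E L L) L) L) L) L) (N (N (N L (N (N (N E L L) (N L E L) L) L L) L) (N E (N (N L (N L E L) L) (N E L L) L) L) L) (N (N (N L (N (N E L L) L L) L) L L) (N (N E L L) (N E L L) L) L) L) L) L) (N (N (N L (N (N (N (N L E L) L L) (N E L L) L) (N (N (N L (N L E L) L) (N L E L) L) (N (N (N E L L) L L) (N L E L) L) L) L) L) (N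 (N (N (N (N (N E E L) L L) L L) (N L (N L E L) L) L) (N (N L (N L E L) L) E L) L) (N L (N (N E (N (N E L L) L L) L) (N (N E L L) L L) L) L) L) L) (N (N (N (N (N (N L (N L E L) L) L L) (N (N L E L) L L) L) (N (N L E L) (N (N E L L) (N (N E L L) E L) L) L) L) (N (N E (N E L L) L) (N (N E (N L (N E L L) L) L) E L) L) L) (N (N (N (N (N (N E L L) L L) (N L E L) L) (N (N E (N E L L) L) (N E L L) L) L) (N (N L (N (N E L L) L L) L) E L) L) (N (N L (N L (N L E L) L) L) E L) L) L) L) L) (N (N L (N (N (N (N (N (N E L L) (N E L L) L) (N L (N L E L) L) L) (N (N (N E L L) L L) (N L (N E L L) L) L) L) (N (N (N L (N E L L) L) (N (N (N L E L) L L) (N E L L) L) L) (N (N L (N E E L) L) (N (N L E L) (N E L L) L) L) L) L) (N (N (N (N L (N L E L) L) (N (N L (N E L L) L) E L) L) (N L (N E (N (N E E L) E L) L) L) L) L L) L) L) (N (N (N (N (N L (N L (N E E L) L) L) (N (N L (N E L L) L) E L) L) (N (N (N (N L E L) (N E L L) L) L L) (N (N L E L) E L) L) L) (N L (N (N (N L E L) (N (N E L L) E L) L) L L) L) L) (N (N (N (N (N (N L (N E L L) L) L L) L L) (N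 (N (N E (N L E L) L) L L) (N L E L) L) L) (N (N L (N (N E E L) L L) L) (N (N (N L E L) (N E L L) L) (N L (N E L L) L) L) L) L) (N (N E (N (N E (N L E L) L) L L) L) (N (N E (N E L L) L) (N (N E L L) E L) L) L) L) L) L) L) (N (N (N (N (N (N (N E (N L (N L (N L E L) L) L) L) (N (N L (N (N L E L) L L) L) (N (N (N E E L) L L) L L) L) L) (N (N (N L E L) L L) (N E (N E L L) L) L) L) (N (N (N E L L) L L) (N (N (N E L L) (N E (N (N E L L) E L) L) L) (N (N E (N E L L) L) L L) L) L) L) (N (N (N L (N L (N (N E L L) L L) L) L) (N (N (N (N E L L) E L) (N L (N L E L) L) L) (N (N E L L) (N E L L) L) L) L) (N (N (N (N E L L) (N E L L) L) (N E (N (N E (N E L L) L) L L) L) L) (N (N E L L) (N E E L) L) L) L) L) (N (N (N (N L (N (N E L L) (N L (N E L L) L) L) L) (N (N E (N (N E L L) L L) L) (N (N L E L) (N L (N E L L) L) L) L) L) (N (N (N L (N (N E L L) L L) L) (N (N (N L E L) (N L E L) L) (N E L L) L) L) (N E (N E E L) L) L) L) (N (N (N (N (N L E L) (N (N (N L E L) (N E L L) L) L L) L) (N (N L (N (N E L L) L L) L) (N E (N L E L) L) L) L) L L) (N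 L (N L (N (N E L L) E L) L) L) L) L) L) (N (N (N (N L (N (N (N E L L) (N (N E L L) E L) L) (N L E L) L) L) (N (N (N (N (N E E L) (N E L L) L) L L) (N L (N E (N L E L) L) L) L) (N (N E (N L E L) L) L L) L) L) (N (N (N (N E (N E L L) L) L L) (N (N L (N (N L (N E L L) L) (N E L L) L) L) L L) L) (N (N L E L) (N L (N (N (N E L L) E L) (N L (N E L L) L) L) L) L) L) L) (N (N (N (N E (N (N E L L) L L) L) (N (N (N E E L) (N E (N L E L) L) L) (N L (N L E L) L) L) L) (N (N (N L (N L (N E L L) L) L) (N E L L) L) L L) L) (N (N (N (N (N L (N L E L) L) (N L E L) L) (N (N E L L) L L) L) (N (N (N (N (N E L L) L L) L L) (N L (N L E L) L) L) L L) L) (N (N (N (N E L L) L L) (N (N (N E L L) L L) (N E L L) L) L) (N (N (N (N E L L) L L) E L) (N (N E L L) (N L E L) L) L) L) L) L) L) L) L) (x := 18147) (by norm_num) (hsh 0x300000001000000280002000000010000000100010003000300080003000000010000000a000a0006001b0000000000030000000000150000000000110005000400000000000900280000002e0001000100060000000700020000000d000300000019000100020003000a00000005000100130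00000130000000300050000000800000000008a0000000000000000000100000001000000000001000100190001000600000003000000010006002a0001000100000017000200010000000300050000000c0004000400080000000600060004000200000002000200000001000600020004000400000001000000020001000300070008000000000000000600010001001000060008000100040001000300080020000300000008000000070003000700030001000000000012000000020006000a00000000000000000014000100000007000100010010000000030003000b000000000000000200000008000000060002000000000000000100000017000000010000000100000019000000000008000100180000000900030004000000010001000e000300090001000b000b0000000a000100000000000100020007000400040000000700000002000f000000010000 227 1988057 1024) 10 (by decide +kernel)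

theorem orbT_octads0 : OrbDec (MulAction.stabilizer M24 (famOf 3 tr0)) octads ![3, 84, 672] := by
  refine orbDec_set _ (fun g _ h => (smul_mem_octads_iff g).2 h) 3 tr0 (fun _ hg => hg) ![5279, 10558, 18147]
    (by decide) (fun i => setOf'_mem_octads (by revert i; decide +kernel)) (by decide +kernel) _ (fun i => ?_)
    (by rw [ncard_octads]; decide)
  · fin_cases i
    · exact orbT_octads0_0
    · exact orbT_octads0_1
    · exact orbT_octads0_2

theorem orbT_trios0_0 : 1 ≤ (MulAction.orbit (MulAction.stabilizer M24 (famOf 3 tr0)) (famOf 3 0x84a9607b420000149f)).ncard :=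
  fam_orbit_ge _ okgT0 okgT1 okgT2 memgT0 memgT1 memgT2 3 (E) 0x84a9607b420000149f (hsh 0x0 1 3 2) 1 (by decide +kernel)

theorem orbT_trios0_1 : 42 ≤ (MulAction.orbit (MulAction.stabilizer M24 (famOf 3 tr0)) (famOf 3 0x800c757b420004b18a)).ncard :=
  fam_orbit_ge _ okgT0 okgT1 okgT2 memgT0 memgT1 memgT2 3 (N (N (N (N L (N E L L) L) (N (N (N L E L) E L) (N E L L) L) L) (N (N (N (N L E L) (N E (N E L L) L) L) L L) (N (N E L L) (N L E L) L) L) L) (N (N (N E (N (N E L L) E L) L) L L) (N L (N (N E (N L E L) L) E L) L) L) L) 0x800c757b420004b18a (hsh 0x800010000000100010000000000000000000000000002001200000000000d0009 17 1239877 64) 6 (by decide +kernel)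

theorem orbT_trios0_2 : 56 ≤ (MulAction.orbit (MulAction.stabilizer M24 (famOf 3 tr0)) (famOf 3 0x800c7542528a3da100)).ncard :=
  fam_orbit_ge _ okgT0 okgT1 okgT2 memgT0 memgT1 memgT2 3 (N (N (N (N (N (N L E L) L L) (N (N E L L) (N E (N L E L) L) L) L) (N (N E L L) (N E L L) L) L) (N (N L (N (N L E L) L L) L) (N (N (N E E L) L L) E L) L) L) (N (N (N (N (N L E L) L L) L L) (N (N E (N L E L) L) (N L (N L E L) L) L) L) (N (N L (N E L L) L) (N E (N (N L (N E L L) L) (N L E L) L) L) L) L) L) 0x800c7542528a3da100 (hsh 0xa00050003000d001000070006003d00060002000d0001001300010000000b00000002003e 19 1277299 64) 6 (by decide +kernel)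

theorem orbT_trios0_3 : 1008 ≤ (MulAction.orbit (MulAction.stabilizer M24 (famOf 3 tr0)) (famOf 3 0x800c7549f002360388)).ncard :=
  fam_orbit_ge _ okgT0 okgT1 okgT2 memgT0 memgT1 memgT2 3 (N (N (N (N (N (N (N (N (N (N L E L) E L) (N (N E L L) (N (N E L L) (N E E L) L) L) L) (N (N E L L) (N (N (N L E L) E L) (N L (N (N E L L) L L) L) L) L) L) (N (N (N (N L E L) (N E L L) L) E L) (N (N (N E (N L E L) L) (N (N E E L) E L) L) E L) L) L) (N (N (N (N (N (N E E L) L L) (N L (N E L L) L) L) (N (N E E L) (N E L L) L) L) L L) (N (N (N (N (N E L L) L L) (N L (N L (N L E L) L) L) L) (N (N L (N E E L) L) (N L E L) L) L) (N (N E E L) (N (N L E L) (N E L L) L) L) L) L) L) (N (N (N (N (N (N (N E L L) L L) (N (N E E L) (N L E L) L) L) (N (N (N E L L) L L) L L) L) (N (N E L L) E L) L) (N (N (N E (N L (N L (N E L L) L) L) L) (N L (N E (N E E L) L) L) L) E L) L) (N (N L (N (N L (N (N E L L) L L) L) (N (N L (N E L L) L) L L) L) L) (N L (N (N E (N (N L E L) (N L E L) L) L) (N (N E (N L E L) L) (N E (N L E L) L) L) L) L) L) L) L) (N (N (N (N (N (N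 (N L (N L E L) L) (N L (N E L L) L) L) E L) (N (N (N (N E L L) L L) (N L (N E L L) L) L) (N E E L) L) L) (N (N L (N (N E L L) E L) L) (N (N E (N (N L E L) (N L E L) L) L) (N E (N L E L) L) L) L) L) (N (N L (N L (N (N L E L) L L) L) L) (N (N E (N (N L (N E L L) L) (N (N E L L) (N L E L) L) L) L) (N (N (N (N E L L) L L) E L) (N (N L E L) (N E L L) L) L) L) L) L) (N (N L (N (N (N (N (N E L L) (N E E L) L) (N (N L E L) L L) L) (N (N (N L E L) L L) (N E L L) L) L) (N E (N (N L (N E L L) L) (N (N E E L) E L) L) L) L) L) (N (N (N (N E (N L (N L E L) L) L) (N (N E L L) (N E L L) L) L) (N (N (N E L L) (N (N L E L) L L) L) (N L E L) L) L) (N (N (N (N L E L) L L) (N (N L (N E E L) L) E L) L) (N (N L (N E L L) L) (N (N E (N L (N E L L) L) L) (N E (N L E L) L) L) L) L) L) L) L) L) (N (N (N (N (N (N (N (N (N L E L) L L) (N (N L E L) L L) L) (N E L L) L) (N L (N (N L E L) L L) L) L) (N (N L (N (N E L L) (N L E L) L) L) (N (N (N (N E L L) E L) (N L (N L (N L E L) L) L) L) L L) L) L) (N (N (N (N L E L) L L) (N (N L (N L E L) L) L L) L) (N (N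 L (N (N L (N L E L) L) L L) L) (N (N (N (N L E L) L L) (N E (N E L L) L) L) (N E E L) L) L) L) L) (N (N (N (N (N (N E (N E L L) L) L L) E L) (N (N L (N L E L) L) (N (N E L L) E L) L) L) (N (N (N (N L (N E L L) L) (N L (N L E L) L) L) L L) (N E (N (N E L L) (N L E L) L) L) L) L) (N (N (N (N E (N E L L) L) (N (N (N E E L) (N E L L) L) (N E (N L E L) L) L) L) (N (N L E L) (N (N E E L) (N (N E L L) (N L E L) L) L) L) L) (N L (N L (N (N (N E L L) E L) L L) L) L) L) L) L) (N (N (N (N (N L (N (N L E L) L L) L) (N (N (N (N E L L) L L) (N (N E L L) E L) L) (N (N (N E L L) E L) L L) L) L) (N L E L) L) (N (N (N (N (N L E L) (N E L L) L) (N (N L (N L E L) L) (N L (N E L L) L) L) L) (N (N (N L E L) (N (N E L L) E L) L) (N (N E L L) L L) L) L) (N (N (N L E L) (N L (N E L L) L) L) (N (N (N L (N L E L) L) L L) (N (N L E L) (N (N L E L) (N E L L) L) L) L) L) L) L) (N (N (N (N (N E (N E L L) L) (N E L L) L) (N (N E (N L (N E L L) L) L) L L) L) (N (N E L L) (N (N L (N L (N L E L) L) L) (N (N (N L E L) L L) (N L (N L E L) L) L) L) L) L) (N (N (N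 E (N E (N L E L) L) L) L L) (N (N (N (N L E L) (N E L L) L) (N (N E L L) E L) L) (N E (N L (N (N L E L) L L) L) L) L) L) L) L) L) L) (N (N (N (N (N (N L (N (N L (N (N E L L) E L) L) (N E (N L E L) L) L) L) (N E (N E (N E L L) L) L) L) (N (N L (N (N E (N E E L) L) (N (N L E L) L L) L) L) (N L (N (N E (N L (N L E L) L) L) E L) L) L) L) (N (N (N (N (N (N L E L) L L) L L) (N L (N (N E E L) (N E L L) L) L) L) (N (N (N (N E (N E L L) L) E L) (N (N (N E E L) L L) (N (N L E L) E L) L) L) (N E E L) L) L) (N (N (N L (N L (N E L L) L) L) (N E (N L E L) L) L) (N (N (N (N (N L E L) E L) E L) (N (N L E L) (N E L L) L) L) (N (N (N L E L) (N E L L) L) (N (N (N (N (N L E L) L L) E L) L L) (N (N E E L) E L) L) L) L) L) L) L) (N (N (N (N (N (N (N E L L) L L) (N (N (N E L L) L L) (N (N E L L) L L) L) L) (N (N (N E (N L E L) L) (N (N L E L) (N E L L) L) L) (N (N (N E L L) E L) E L) L) L) (N (N (N L E L) (N (N (N L E L) E L) E L) L) (N (N (N E L L) (N (N E L L) (N E L L) L) L) (N E L L) L) L) L) (N (N (N (N (N L E L) (N L (N E L L) L) L) E L) (N (N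 E L L) (N (N E E L) (N E L L) L) L) L) (N (N E L L) (N (N (N L (N L E L) L) L L) E L) L) L) L) (N (N (N (N E (N (N E E L) L L) L) L L) (N (N (N L (N (N E L L) E L) L) (N (N E L L) L L) L) (N E (N (N (N E L L) L L) L L) L) L) L) (N (N (N (N L E L) (N E L L) L) L L) (N (N E (N E E L) L) (N (N (N E L L) E L) (N L (N (N E L L) L L) L) L) L) L) L) L) L) (N (N (N (N (N (N (N (N E E L) L L) (N E L L) L) (N (N (N (N E (N L E L) L) L L) L L) (N (N L E L) E L) L) L) (N (N (N L E L) L L) (N L E L) L) L) (N (N L (N (N E L L) (N E L L) L) L) (N (N E (N L E L) L) (N (N L (N L E L) L) L L) L) L) L) (N (N (N (N (N (N E E L) (N E L L) L) (N (N E E L) (N E L L) L) L) L L) (N (N (N E E L) (N L E L) L) (N (N (N L E L) (N E E L) L) L L) L) L) (N (N (N (N L E L) L L) (N (N E L L) (N E E L) L) L) (N (N (N E L L) (N E E L) L) (N E (N L (N E L L) L) L) L) L) L) L) (N (N (N L (N E (N L (N L (N (N L E L) L L) L) L) L) L) (N (N (N (N E L L) (N E E L) L) (N (N L (N E L L) L) L L) L) (N (N (N E L L) (N L (N E L L) L) L) (N (N (N E L L) E L) (N (N (N L (N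 L E L) L) L L) L L) L) L) L) L) (N (N (N (N L (N E (N (N E L L) L L) L) L) (N E (N (N L (N E L L) L) (N E E L) L) L) L) (N (N E E L) (N L (N E (N L (N L E L) L) L) L) L) L) (N (N (N (N (N E E L) L L) L L) (N (N (N E E L) (N E (N E L L) L) L) (N L E L) L) L) (N (N E E L) (N (N (N L E L) L L) (N E L L) L) L) L) L) L) L) L) L) 0x800c7549f002360388 (hsh 0xe00030014001c000000240000009400020004000201920000000a004a00020123001c0072000c0000007d000a005100030001011f000a00060005001f00120011000000200002000900000004002500010001010001790009000e00590006002e001b0020000000b7003c001d0001000001070000002e0001001e002c00150000001100fb0000000000b0003b00070000000000030000000d001000030009000a011600b2002c00000027000b0001001c00370017000a002500000004000f00050014000d00090007000e0022000000060034000400090006001d000501030034000e004b0000001c0022007a00000000000600030010001b000f00bd00000139000f00920001001500080031001c001200050001000200040028000d00250066005f00000001001400000006000000d5000e0033000b00040006002b00ef001b00040029000600040016004a0003000b000a006c001a0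00f000200a900120004006b00090005000100040020000101190002000000000003002a0000000a00010035000300220013000000010003000200080003001a00070157000400010078001a00090002005301440002000400000007000100010012000601b2000a0002000000a5000a0046005900100000002a005600020068006d000500140005006b00240161000b00310004001d0002000000030002000000000008012a0001001d000700320140002500c50003006e0035009200000001002d000200c100100000000000160000000e000d005700000004004c00010013001b01ac00090012001c00210000000a00000004000100040007000000380020000e00060006000800070000000100a9001f001c0038001100dd002e00010000003400000000000100000000000000310003000d0000003d001e000200090000002c0001001900000009 337 1659041 1024) 10 (by decide +kernel)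

theorem orbT_trios0_4 : 2688 ≤ (MulAction.orbit (MulAction.stabilizer M24 (famOf 3 tr0)) (famOf 3 0x804a9645a0493a1520)).ncard :=
  fam_orbit_ge _ okgT0 okgT1 okgT2 memgT0 memgT1 memgT2 3 (N (N (N (N (N (N (N (N (N (N (N (N E L L) E L) (N L (N L (N E L L) L) L) L) (N L (N L E L) L) L) (N (N (N (N E L L) L L) L L) (N E (N L (N E E L) L) L) L) L) (N (N (N (N L E L) (N (N E L L) L L) L) (N L (N L (N L E L) L) L) L) (N (N (N L (N E L L) L) (N (N L E L) E L) L) (N (N (N L E L) L L) (N (N (N E L L) L L) L L) L) L) L) L) (N (N (N (N (N L E L) (N (N L E L) (N (N E L L) L L) L) L) (N L (N (N E L L) (N L (N (N E L L) L L) L) L) L) L) (N E (N L (N L E L) L) L) L) (N (N (N L (N E (N E E L) L) L) (N (N (N L E L) E L) (N (N L E L) (N E L L) L) L) L) (N (N L (N E E L) L) L L) L) L) L) (N (N (N (N (N (N (N (N L E L) E L) L L) L L) (N L (N E E L) L) L) (N (N (N E (N E E L) L) (N E L L) L) (N L (N (N L E L) (N (N L E L) L L) L) L) L) L) (N (N (N E E L) (N L (N L (N (N L E L) L L) L) L) L) (N (N (N E L L) (N L (N E E L) L) L) (N L (N (N L E L)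 (N L (N L E L) L) L) L) L) L) L) (N (N (N L (N (N L (N L (N E L L) L) L) (N (N (N E L L) L L) (N L (N E L L) L) L) L) L) E L) (N (N (N E L L) (N (N L (N E L L) L) L L) L) (N (N L (N E L L) L) (N (N E (N L E L) L) (N E E L) L) L) L) L) L) L) (N (N (N (N (N (N (N (N L E L) E L) (N (N E L L) L L) L) (N L (N (N E E L) E L) L) L) L L) (N (N (N (N L (N E L L) L) E L) (N L (N (N E L L) (N L E L) L) L) L) (N (N (N (N (N E L L) L L) (N E E L) L) L L) (N (N (N L E L) L L) (N L (N E L L) L) L) L) L) L) (N (N (N (N E L L) (N (N L (N L E L) L) (N (N L E L) (N (N L E L) E L) L) L) L) (N (N E (N (N L E L) E L) L) (N (N (N E L L) (N L E L) L) (N (N L (N L E L) L) L L) L) L) L) (N (N (N (N (N L E L) (N L E L) L) (N E (N E L L) L) L) E L) (N (N (N (N (N L E L) E L) L L) (N (N L E L) (N E L L) L) L) (N (N L E L) (N L (N L E L) L) L) L) L) L) L) (N (N (N (N (N (N L (N E L L) L) (N E L L) L) L L) (N L (N (N (N (N L E L) L L) L L) (N L (N L (N E L L) L) L) L) L) L) (N (N (N L (N E (N E L L) L) L) (N (N (N E L L) E L) (N E (N E L L) L) L) L) (N (N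 L (N (N L E L) L L) L) (N L (N (N L E L) L L) L) L) L) L) (N (N (N (N (N E E L) E L) L L) (N L (N E L L) L) L) (N (N L (N (N L (N L (N E L L) L) L) (N L E L) L) L) (N (N (N L (N E E L) L) (N (N E L L) L L) L) (N (N L (N (N E L L) L L) L) (N (N L (N L (N E L L) L) L) (N E L L) L) L) L) L) L) L) L) L) (N (N (N (N (N (N (N E (N (N (N L (N L E L) L) E L) (N L E L) L) L) (N (N (N E E L) (N L E L) L) (N (N E L L) (N (N E L L) L L) L) L) L) (N (N (N (N L E L) (N E (N L E L) L) L) (N E (N E L L) L) L) (N (N (N E L L) (N (N E L L) L L) L) (N (N E E L) L L) L) L) L) (N (N (N (N (N E L L) (N E E L) L) E L) (N L (N (N L E L) (N E E L) L) L) L) E L) L) (N (N (N (N (N L E L) (N (N (N L E L) E L) L L) L) (N (N L (N L E L) L) (N (N E L L) (N L E L) L) L) L) (N E (N (N (N L (N E L L) L) (N E E L) L) (N (N E (N E L L) L) E L) L) L) L) (N (N (N E E L) (N (N (N L E L) (N L E L) L) (N (N E (N E L L) L) L L) L) L) (N (N (N (N (N E L L) L L) L L) (N (N E L L) (N E L L) L) L) (N (N (N E L L) (N L (N L E L) L) L) (N (N (N L E L) L L) L L) L) L) L) L)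 L) (N (N (N (N (N (N L (N E L L) L) L L) (N E (N L E L) L) L) (N (N (N (N E (N E L L) L) (N E L L) L) (N (N L E L) L L) L) (N (N (N (N E L L) L L) E L) (N (N (N E E L) L L) (N L E L) L) L) L) L) (N (N (N (N L (N (N E L L) E L) L) (N (N E L L) E L) L) (N (N (N E E L) L L) (N (N E L L) (N (N E L L) L L) L) L) L) (N (N (N (N L (N E L L) L) (N L E L) L) E L) (N L (N (N E L L) (N (N L E L) E L) L) L) L) L) L) (N (N (N (N E (N (N L (N E L L) L) (N L (N L E L) L) L) L) (N (N L E L) (N (N (N E E L) L L) (N E E L) L) L) L) (N (N L (N (N E L L) E L) L) (N (N (N E (N E E L) L) L L) (N E L L) L) L) L) (N (N (N L (N E L L) L) (N L (N E (N (N E L L) L L) L) L) L) (N L (N (N (N L E L) L L) L L) L) L) L) L) L) (N (N (N (N (N L (N L (N (N L (N E L L) L) L L) L) L) (N (N (N E L L) E L) (N (N E L L) (N (N L E L) (N L E L) L) L) L) L) (N (N (N (N (N (N E L L) L L) L L) (N L E L) L) (N L (N L (N (N L E L) E L) L) L) L) (N (N (N (N (N E L L) (N L E L) L) (N E L L) L) E L) (N (N (N L E L) L L) (N E (N L E L) L) L) L) L) L) (N (N (N (N (N L (N (N L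 E L) L L) L) L L) (N (N (N L E L) (N L E L) L) (N E (N (N L E L) L L) L) L) L) (N (N (N (N E L L) L L) (N L (N (N L E L) (N L (N E L L) L) L) L) L) L L) L) (N L (N (N (N (N L (N L E L) L) (N L (N (N L E L) L L) L) L) (N E (N E E L) L) L) (N (N (N L (N E E L) L) E L) (N (N L (N (N E L L) L L) L) E L) L) L) L) L) L) (N (N (N (N (N (N L (N L (N (N E E L) L L) L) L) L L) (N L (N L (N L (N L E L) L) L) L) L) (N (N E (N L (N L E L) L) L) (N E L L) L) L) L L) (N (N (N (N E (N E (N E (N E L L) L) L) L) (N (N (N L E L) L L) (N L (N E L L) L) L) L) (N (N (N E L L) L L) L L) L) (N (N (N (N E E L) (N L (N E L L) L) L) E L) (N (N (N (N (N L E L) E L) E L) E L) (N (N E L L) (N L (N L (N E E L) L) L) L) L) L) L) L) L) L) L) (N (N (N (N (N (N (N (N (N E (N L E L) L) (N E L L) L) (N (N (N L E L) (N E L L) L) (N E L L) L) L) (N (N (N (N E L L) L L) (N L (N L E L) L) L) (N (N E E L) (N E (N L (N L E L) L) L) L) L) L) (N (N (N (N L (N E L L) L) (N L (N L E L) L) L) (N (N (N (N L E L) (N L E L) L) E L) L L) L) (N (N (N E L L) (N E L L) L) (N E (N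 E E L) L) L) L) L) (N (N (N (N (N E L L) (N (N (N L E L) L L) E L) L) (N (N (N L E L) E L) E L) L) (N (N (N L (N (N (N L E L) L L) L L) L) (N (N E L L) E L) L) (N (N (N L (N L E L) L) E L) L L) L) L) (N (N (N (N L E L) (N (N L E L) E L) L) (N (N E L L) L L) L) E L) L) L) L L) (N (N (N (N (N (N (N E L L) (N (N E L L) E L) L) (N (N L (N L (N E L L) L) L) (N L E L) L) L) (N (N L (N (N E (N L E L) L) L L) L) L L) L) (N (N (N L E L) (N L (N (N L E L) L L) L) L) (N (N (N (N E L L) L L) (N (N E E L) L L) L) (N (N E L L) (N (N L E L) E L) L) L) L) L) (N (N (N (N (N L E L) (N L E L) L) (N (N E L L) (N E E L) L) L) (N (N E L L) (N L (N (N E L L) (N (N E E L) (N L E L) L) L) L) L) L) (N (N (N (N L (N E L L) L) (N (N E L L) E L) L) (N E (N (N (N E L L) (N E E L) L) E L) L) L) (N L (N L (N L E L) L) L) L) L) L) (N (N (N (N L E L) (N (N (N E (N E (N L E L) L) L) E L) L L) L) (N (N (N (N L E L) (N L E L) L) (N (N E (N E L L) L) (N E E L) L) L) (N (N (N (N (N L E L) E L) L L) E L) (N E (N (N (N L E L) L L) E L) L) L) L) L) (N (N (N (N E E L)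 (N (N (N (N L E L) E L) L L) (N L (N L E L) L) L) L) (N (N (N L (N L E L) L) (N E L L) L) (N E (N E E L) L) L) L) (N (N (N (N L (N E E L) L) E L) (N E (N E E L) L) L) L L) L) L) L) L) (N (N (N (N (N (N (N (N (N E E L) L L) (N E E L) L) (N (N (N L E L) (N E L L) L) (N L (N L E L) L) L) L) (N L (N (N L E L) L L) L) L) (N L (N (N E (N L (N E L L) L) L) E L) L) L) (N (N (N (N (N (N (N L E L) L L) E L) (N (N L E L) L L) L) (N L E L) L) (N (N (N E E L) (N (N L E L) L L) L) (N (N L (N L (N L E L) L) L) L L) L) L) (N (N (N (N L (N E E L) L) (N E (N E E L) L) L) (N (N (N E E L) L L) (N L (N L E L) L) L) L) (N (N (N L E L) (N E L L) L) (N (N L (N (N L E L) L L) L) E L) L) L) L) L) (N (N (N E (N (N (N E (N E L L) L) L L) (N (N L E L) L L) L) L) (N (N (N (N L (N (N L E L) L L) L) L L) (N (N L E L) L L) L) (N (N (N (N E L L) L L) L L) (N L (N L (N L E L) L) L) L) L) L) (N (N (N (N L (N L E L) L) (N (N L E L) L L) L) (N (N (N L (N E E L) L) (N E E L) L) (N L (N (N L (N E L L) L) E L) L) L) L) (N (N (N L (N E (N (N L E L) E L) L) L) (N (N (N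 L E L) (N E L L) L) (N E L L) L) L) (N (N L (N L (N L E L) L) L) (N L (N (N E L L) L L) L) L) L) L) L) L) (N (N (N (N (N (N (N E L L) E L) (N (N E L L) L L) L) (N (N L E L) (N (N (N E E L) L L) L L) L) L) (N (N E (N (N E (N L E L) L) L L) L) (N (N (N L E L) (N E L L) L) (N (N E L L) (N E L L) L) L) L) L) (N (N (N (N (N L (N (N L E L) E L) L) L L) (N (N L (N E (N E L L) L) L) L L) L) (N (N L (N E L L) L) L L) L) (N (N (N L (N L (N L E L) L) L) (N (N E E L) (N E (N L E L) L) L) L) (N (N L (N (N E L L) E L) L) (N L (N E L L) L) L) L) L) L) (N (N (N (N (N L (N E E L) L) (N E (N L (N E L L) L) L) L) (N (N E (N (N E L L) L L) L) (N E (N (N E L L) L L) L) L) L) (N (N (N (N L E L) (N E (N E L L) L) L) (N (N E (N E L L) L) (N (N E L L) L L) L) L) (N (N (N E L L) L L) (N (N E (N (N L E L) L L) L) E L) L) L) L) (N (N (N (N (N (N L (N L E L) L) (N E L L) L) (N (N L E L) E L) L) (N (N E E L) L L) L) (N (N L (N L E L) L) (N E (N L (N L E L) L) L) L) L) (N (N (N E (N (N E L L) L L) L) (N (N L (N E L L) L) (N L (N L (N L E L) L) L) L) L) (N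 (N L (N L E L) L) (N E (N E E L) L) L) L) L) L) L) L) L) L) (N (N (N (N (N (N (N (N (N E (N L E L) L) (N (N (N L (N E L L) L) L L) L L) L) (N (N (N (N E L L) L L) (N (N (N L E L) L L) (N L E L) L) L) (N E (N (N L E L) (N L E L) L) L) L) L) (N (N (N (N E L L) (N (N (N L E L) E L) L L) L) (N (N L (N L E L) L) L L) L) (N E (N E (N (N L E L) L L) L) L) L) L) (N (N (N (N (N (N L E L) L L) E L) (N L (N L E L) L) L) L L) (N L (N (N (N (N (N E L L) L L) (N E E L) L) L L) (N (N L (N L E L) L) (N (N E E L) E L) L) L) L) L) L) (N (N (N (N (N L (N L (N L E L) L) L) (N (N (N L E L) E L) (N L E L) L) L) (N (N (N (N E E L) E L) L L) L L) L) (N (N (N L (N (N L E L) L L) L) (N L (N E L L) L) L) (N (N (N L (N L E L) L) L L) E L) L) L) (N (N (N (N (N L (N L E L) L) L L) (N L (N L E L) L) L) (N L (N (N L E L) (N (N L E L) E L) L) L) L) (N (N (N L (N (N E L L) E L) L) (N L (N (N E L L) L L) L) L) (N (N (N E (N L E L) L) E L) L L) L) L) L) L) (N (N (N (N (N (N (N L E L) (N E L L) L) (N E (N (N E L L) E L) L) L) (N (N (N L E L) E L) (N (N E (N E E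 L) L) (N L (N E L L) L) L) L) L) (N (N (N (N L E L) (N L E L) L) (N (N (N (N E L L) L L) L L) (N L (N E L L) L) L) L) (N (N (N (N E E L) L L) (N L (N E L L) L) L) (N (N L (N (N E L L) E L) L) (N L E L) L) L) L) L) (N (N (N E (N (N (N E L L) (N E L L) L) (N E L L) L) L) (N (N E (N L (N L E L) L) L) (N (N E L L) L L) L) L) (N (N (N L (N (N E L L) E L) L) L L) (N L (N (N L (N L (N L E L) L) L) (N L (N E L L) L) L) L) L) L) L) (N (N (N L (N (N (N L (N E L L) L) (N (N E L L) E L) L) E L) L) (N (N (N (N E L L) (N L (N E L L) L) L) (N L (N L (N E L L) L) L) L) (N (N (N E L L) L L) (N (N E L L) L L) L) L) L) (N (N (N (N (N E L L) E L) (N (N E E L) (N E (N (N L E L) L L) L) L) L) (N (N (N (N L E L) L L) L L) (N (N (N L E L) E L) (N (N L E L) (N E (N E L L) L) L) L) L) L) (N (N (N (N (N (N E L L) L L) E L) (N E (N L E L) L) L) (N (N L (N (N L E L) L L) L) L L) L) (N (N E (N (N (N L E L) L L) E L) L) (N (N L (N E L L) L) (N (N E L L) (N L E L) L) L) L) L) L) L) L) L) (N (N (N (N (N (N (N (N L (N L E L) L) (N (N E L L) L L) L) (N E (N (N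 L E L) E L) L) L) (N (N (N E (N E L L) L) (N E (N E L L) L) L) L L) L) (N (N (N (N L (N E L L) L) (N L E L) L) (N L (N (N L E L) E L) L) L) (N (N L E L) (N (N L (N E L L) L) E L) L) L) L) (N (N (N L (N E (N E L L) L) L) (N (N (N L (N (N L E L) E L) L) (N E L L) L) (N (N L (N E L L) L) L L) L) L) (N (N (N (N L E L) L L) (N (N (N (N E L L) L L) E L) (N E E L) L) L) (N (N (N L (N (N L E L) L L) L) (N E L L) L) E L) L) L) L) (N (N (N (N (N (N (N E L L) L L) (N E (N E L L) L) L) L L) (N (N (N (N E E L) (N (N E L L) L L) L) (N (N L E L) L L) L) L L) L) (N (N (N E (N (N L E L) L L) L) (N L (N L (N E L L) L) L) L) (N (N L (N E E L) L) L L) L) L) (N (N (N (N L (N L E L) L) (N (N E (N L E L) L) E L) L) (N (N L (N E E L) L) (N (N (N E E L) (N E L L) L) (N (N E E L) L L) L) L) L) (N (N (N L (N E L L) L) (N (N L E L) L L) L) (N (N (N L E L) (N L E L) L) E L) L) L) L) L) (N (N (N (N (N L (N (N (N L E L) L L) (N E L L) L) L) (N (N L E L) L L) L) (N (N (N (N L E L) (N L E L) L) (N (N E L L) L L) L) (N (N L (N L E L) L) (N (N E (N E L L) L) (N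 E E L) L) L) L) L) (N (N L (N (N (N E L L) (N E L L) L) (N E L L) L) L) (N (N (N E (N L (N E E L) L) L) (N (N (N E L L) (N E L L) L) (N L E L) L) L) E L) L) L) (N (N (N (N (N (N (N E L L) L L) E L) (N L (N E L L) L) L) (N (N (N (N L E L) E L) (N (N L (N E L L) L) (N E L L) L) L) (N (N E L L) L L) L) L) (N (N (N (N (N (N L E L) L L) L L) (N L E L) L) (N (N E L L) (N (N E L L) (N L E L) L) L) L) (N (N (N (N E E L) L L) L L) (N (N L E L) L L) L) L) L) (N (N L (N (N L (N (N L E L) E L) L) (N E L L) L) L) (N (N L (N E L L) L) (N (N L (N (N L (N E L L) L) L L) L) (N (N L E L) (N E E L) L) L) L) L) L) L) L) L) (N (N (N (N (N (N (N E (N E L L) L) (N (N (N L (N E L L) L) L L) (N (N L (N E L L) L) (N E (N E L L) L) L) L) L) (N L (N E (N L (N E L L) L) L) L) L) (N (N (N (N L (N L (N L E L) L) L) L L) (N (N (N L E L) L L) (N E (N (N L E L) E L) L) L) L) (N (N (N (N (N E L L) L L) L L) (N (N L E L) E L) L) (N (N (N (N E L L) L L) (N (N L E L) E L) L) (N (N L (N E L L) L) (N L (N E L L) L) L) L) L) L) L) (N (N (N (N (N (N (N E L L) E L) (N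 L E L) L) (N (N L E L) L L) L) (N L (N L E L) L) L) (N (N (N (N E L L) (N L E L) L) E L) (N (N L E L) L L) L) L) (N (N (N (N L (N L (N L E L) L) L) (N (N L E L) (N (N E E L) (N L E L) L) L) L) (N (N (N E L L) (N (N E E L) E L) L) (N L (N (N L E L) (N E L L) L) L) L) L) (N (N L (N (N L (N E L L) L) L L) L) (N (N E (N (N E L L) (N L (N E L L) L) L) L) (N E L L) L) L) L) L) L) (N (N (N (N (N (N (N E E L) (N E E L) L) (N L (N (N E L L) E L) L) L) (N (N L (N E L L) L) E L) L) (N (N (N (N E L L) E L) (N E E L) L) (N (N (N E L L) L L) (N (N L E L) L L) L) L) L) (N (N (N (N E (N E (N L E L) L) L) (N E (N (N L E L) L L) L) L) (N (N L (N L E L) L) L L) L) (N (N (N (N E L L) (N (N L E L) E L) L) (N (N L E L) E L) L) (N L (N (N E L L) L L) L) L) L) L) (N (N (N (N E (N L (N (N L E L) (N L E L) L) L) L) (N (N E (N E L L) L) (N E (N E L L) L) L) L) (N (N (N L (N L (N E L L) L) L) E L) (N E (N L E L) L) L) L) (N (N E (N (N (N L E L) (N E (N E L L) L) L) (N (N E L L) L L) L) L) (N (N (N L (N E L L) L) (N (N L E L) (N L E L) L) L) (N (N L E L)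 L L) L) L) L) L) L) (N (N (N (N (N (N (N (N L (N E E L) L) E L) (N L (N L E L) L) L) (N (N (N E L L) (N E L L) L) L L) L) (N (N (N (N E (N L E L) L) E L) (N (N (N L E L) L L) (N E E L) L) L) (N (N (N (N L (N L E L) L) E L) L L) (N E (N E L L) L) L) L) L) (N (N (N (N L E L) (N (N L (N E E L) L) L L) L) (N E (N (N L E L) (N (N E L L) (N L E L) L) L) L) L) (N (N (N (N E L L) L L) (N E E L) L) (N (N L (N (N E L L) E L) L) (N (N (N L E L) L L) L L) L) L) L) L) (N (N (N (N (N (N E L L) (N E E L) L) (N E E L) L) (N (N L (N E L L) L) (N (N E L L) E L) L) L) (N L (N E (N L E L) L) L) L) (N L (N (N (N E (N E L L) L) (N L (N L E L) L) L) (N (N (N E (N L E L) L) E L) L L) L) L) L) L) (N (N (N (N L (N (N E (N E L L) L) (N (N L E L) L L) L) L) (N (N (N (N L E L) L L) L L) (N (N L (N (N L (N L E L) L) L L) L) L L) L) L) (N (N (N (N (N E L L) L L) (N L (N L E L) L) L) (N (N L (N L E L) L) L L) L) L L) L) (N (N (N (N L (N E (N L E L) L) L) (N L E L) L) (N (N (N L (N L E L) L) (N L E L) L) (N (N (N L (N L E L) L) L L) L L) L) L) (N (N (N (N L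 (N E L L) L) L L) (N (N (N E E L) L L) (N (N E L L) (N (N E E L) E L) L) L) L) (N E (N (N L E L) E L) L) L) L) L) L) L) L) L) 0x804a9645a0493a1520 (hsh 0x8000200050002000100140002000500050001000700000000000100000000000000000000000700000000000000000003000f0004000300000004000600010000000b0000000300080002000100000000000400000001000200010000000100000000000d00000003000800090006000000050000000500010005000100020002000f0000000400070005000000110000000200030000000000060001001300020000000300000004000000020005000000080001000b000300010001000000130007000b00000000000e00000006000300000000000b00050000000100010004000600000003000600040008000000020002000300030000000a00010004000a00020007000200050000001600010001000000000007000400000000000a000000060001000200040000000000000012001100060000000200020001000000000001000000040000000500000001000000040000000000070012000000060000000000060002000e000000000000000200000007000500010000000000020014000000000004000200030000000600090008000600010012000100000004000300100003002e00000005000400050003000000010007000500030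00000080001000300070000000a00000000000a0008000f0006000000000000000200030002000500010003000000000000000600080000000900020000000e00040001000000000000000c000200080001000100090013000000050003000100000000001d001c0004000000220002000600120004000900000000000000000008000500030003000600030008000000000000000600060000000000140000000000010003000300010005000000030000000100000002000100030002000a000200010001000000020000000400040002000000020001000d000000000001000000020004000600000000000300000000000000010000000c00000003000200030002000b0003000500000002000200020002000000010000000e000f000e000b00000001000500220001000000010000000000320002000000000001000000020000000100010000000100010010000400040007000100000004000d000000000003000300020000000500010000000400040001000100010001000100000002000100010007000000040000000900060000000a00000000000000020002000000030002000300080003000100020001000e000300000002000000000000000b00000003000300040002000000000001000d000000020001000500020000000100030002001000000002000000000000000700060004000000000001000e000400180001000400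070000000000040000000000000001000f0000000000000000000500150005000100070004000b0002000a000800020002000d0003000b000b000200050000000b0000000000000003000b000300020002000000060003000100000000001000020006000100010001000200030004000100050000000400000004000000010002000000020003000300010005000c00000000000000000002000000000000000000010023000200040001000000000001000a0000000c0000000000020001000b00150000000000050002000000020000000700000000000f000300010014000100010004000100030002000000020001000000070002000000010008000000000001001900000001001d00040000000a0000000000000001000800010000000800010000000300020000000200030004000400020002000700010001000100060000000a000000000009000500020003000400000000000000010000000a00000007000200040000000500000001000000010005001900020000000500000001000000070000000400050003000200010000000200000000000500000001000600060002000600060000000700000000000100020000002700000015000000020000000100050000000100030001000e000000010005000c000000060007000c0000000500030009000700020008000000060005000100000001000d0004000100010005000f000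1000f0002000300110000000000060003000000050007000000110001000200070022000a0000000500000004000000020001000000010001000300010000000200010000000100100002000400030008000100000007000700020000000d002000030000000200020001000100000001000000030000000100060000000200020002000000000000000100000000000200120001001a0000001800050000000c000000030009000d00010003000000120000000400080000000000000000000400040002000100020003000a0000000000000000000600000000000000020002000600000019000400000004000000020001000000010000000400000007000f00000007000000000004000b0004000000080003000100000000000100160006000b00000001000a000000040000000300090000000000010003000a00040007000d00060000 907 1240751 4096) 12 (by decide +kernel)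

theorem orbT_trios0 : OrbDec (MulAction.stabilizer M24 (famOf 3 tr0)) trios ![1, 42, 56, 1008, 2688] := by
  refine orbDec_fam _ (fun g _ h => smul_mem_trios g h) 3 tr0 (fun _ hg => hg) 3 ![0x84a9607b420000149f, 0x800c757b420004b18a, 0x800c7542528a3da100, 0x800c7549f002360388, 0x804a9645a0493a1520]
    (fun i => famOf_mem_trios (by revert i; decide +kernel)) (by decide +kernel) _ (fun i => ?_)
    (by rw [ncard_trios]; decide)
  · fin_cases i
    · exact orbT_trios0_0
    · exact orbT_trios0_1
    · exact orbT_trios0_2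
    · exact orbT_trios0_3
    · exact orbT_trios0_4

theorem orbT_sextets0_0 : 7 ≤ (MulAction.orbit (MulAction.stabilizer M24 (famOf 3 tr0)) (famOf 6 0x80086042420039000004a10000108a000415)).ncard :=
  fam_orbit_ge _ okgT0 okgT1 okgT2 memgT0 memgT1 memgT2 6 (N E (N (N (N E L L) L L) E L) L) 0x80086042420039000004a10000108a000415 (hsh 0x0 1 58 8) 3 (by decide +kernel)

theorem orbT_sextets0_1 : 84 ≤ (MulAction.orbit (MulAction.stabilizer M24 (famOf 3 tr0)) (famOf 6 0x8000316a0000114200043008008182000c44)).ncard :=
  fam_orbit_ge _ okgT0 okgT1 okgT2 memgT0 memgT1 memgT2 6 (N (N (N (N (N (N E E L) E L) (N (N (N L E L) L L) (N L (N E E L) L) L) L) (N (N (N (N E E L) E L) (N (N E L L) L L) L) L L) L) (N (N L (N (N (N E E L) L L) L L) L) (N E (N (N E E L) (N L (N E E L) L) L) L) L) L) (N (N (N (N (N (N E L L) L L) (N L E L) L) (N (N E L L) L L) L) (N (N (N E (N E L L) L) (N L E L) L) L L) L) (N (N L (N E L L) L) (N (N (N E E L) (N (N E E L) E L) L) (N (N L E L) (N E E L) L) L) L) L) L) 0x8000316a0000114200043008008182000c44 (hsh 0xa0004000200000001000000000000000300040000000e000700010002000600000000000100000009000200080000000c0003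 29 1855807 128) 7 (by decide +kernel)

theorem orbT_sextets0_2 : 336 ≤ (MulAction.orbit (MulAction.stabilizer M24 (famOf 3 tr0)) (famOf 6 0x800023540040202a0009140002400c008190)).ncard :=
  fam_orbit_ge _ okgT0 okgT1 okgT2 memgT0 memgT1 memgT2 6 (N (N (N (N (N (N E (N E (N (N (N L E L) L L) L L) L) L) (N (N E (N (N E E L) (N (N L (N E L L) L) L L) L) L) (N (N L (N (N E L L) E L) L) (N (N L E L) E L) L) L) L) (N (N L (N (N E (N (N L E L) L L) L) (N E L L) L) L) (N (N E (N L (N E E L) L) L) (N (N (N (N E L L) E L) (N (N L E L) L L) L) (N (N L E L) (N E L L) L) L) L) L) L) (N (N (N (N (N E (N (N L E L) L L) L) E L) (N (N E L L) (N (N L E L) L L) L) L) (N (N (N L (N L (N L E L) L) L) (N (N E L L) (N L E L) L) L) (N (N L E L) (N (N E L L) E L) L) L) L) (N (N (N (N L (N E E L) L) (N E L L) L) (N L E L) L) (N (N (N L (N (N L E L) (N E E L) L) L) (N E E L) L) E L) L) L) L) (N (N (N (N (N (N E E L) L L) (N E (N L E L) L) L) (N (N L (N L E L) L) (N (N E L L) (N E L L) L) L) L) (N (N (N (N L (N L E L) L) (N (N L (N L E L) L) (N (N L E L)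 L L) L) L) (N (N E L L) L L) L) L L) L) (N (N (N L (N (N (N E E L) E L) (N (N E E L) (N E L L) L) L) L) (N (N (N L (N L E L) L) (N (N E L L) L L) L) L L) L) (N (N (N E E L) (N (N E E L) L L) L) (N (N (N (N (N E E L) L L) L L) (N E L L) L) (N L (N L E L) L) L) L) L) L) L) (N (N (N (N (N (N (N (N L E L) L L) E L) (N (N (N E L L) L L) (N L E L) L) L) (N (N (N (N L E L) L L) L L) E L) L) (N (N (N L (N E (N L E L) L) L) L L) (N E (N E (N (N L E L) (N E E L) L) L) L) L) L) (N (N (N (N (N (N (N E L L) L L) L L) (N (N L (N E L L) L) L L) L) L L) (N (N (N E L L) (N L E L) L) (N L E L) L) L) (N (N (N L (N E L L) L) (N L (N (N L E L) L L) L) L) L L) L) L) (N (N (N (N (N (N L (N E L L) L) (N L E L) L) L L) (N (N L (N E E L) L) L L) L) (N (N (N (N E (N E E L) L) L L) (N E L L) L) (N (N (N (N L E L) E L) (N L E L) L) (N E L L) L) L) L) (N L (N (N (N (N (N E E L) (N (N L E L) L L) L) (N L E L) L) (N (N L (N (N E L L) E L) L) L L) L) (N (N (N E L L) (N E (N L E L) L) L) (N E L L) L) L) L) L) L) L) 0x800023540040202a0009140002400c008190 (hsh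 0x8000200040000000700000000000500020002000100020000000400000000000600060002000100050009001600050001000b00010000000900000009000600020001000000000004000000000000000000000003000b00000007000000000004002c000200080001000100040004000000010006000500000001000100000004001000050001000600050008000f000a0000000000050002000200030000000000110000000600090002000000000000000000020002000600020002000300010000000f00020000001000020002000000010000000500090000000d00000000 113 1713493 512) 9 (by decide +kernel)

theorem orbT_sextets0_3 : 1344 ≤ (MulAction.orbit (MulAction.stabilizer M24 (famOf 3 tr0)) (famOf 6 0x8000074120102800c0108600041900024028)).ncard :=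
  fam_orbit_ge _ okgT0 okgT1 okgT2 memgT0 memgT1 memgT2 6 (N (N (N (N (N (N (N L (N (N L (N L E L) L) L L) L) (N (N (N L (N E (N E L L) L) L) (N (N E E L) L L) L) (N (N L (N (N L E L) L L) L) (N (N E (N L E L) L) (N E L L) L) L) L) L) (N (N (N (N (N E (N (N L E L) L L) L) (N (N L E L) E L) L) (N L (N (N L E L) (N (N E L L) L L) L) L) L) (N (N (N E E L) (N (N E L L) L L) L) (N L (N E (N E L L) L) L) L) L) (N (N (N (N (N L E L) (N E E L) L) (N (N (N E (N E L L) L) L L) (N L E L) L) L) (N (N (N E (N E L L) L) E L) (N (N L (N E L L) L) (N L E L) L) L) L) (N (N (N E (N E E L) L) (N E L L) L) (N (N E L L) (N (N E (N L E L) L) L L) L) L) L) L) L) (N (N (N (N (N E L L) (N L (N (N L (N L E L) L) L L) L) L) (N E (N L (N E E L) L) L) L) (N (N (N (N E (N (N L (N E E L) L) L L) L) (N (N (N E E L) L L) L L) L) (N (N (N E E L) (N E (N L E L) L) L) (N (N (N L E L) L L) L L) L) L) L L) L) (N (N (N (N (N E L L) L L) (N (N L (N L E L) L) L L) L) (N (N (N (N E E L) (N E L L) L) (N (N (N L E L) E L) L L) L) (N (N E (N (N L E L) E L) L) (N (N L E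 L) E L) L) L) L) (N (N (N L (N (N (N L E L) (N (N E L L) L L) L) (N E E L) L) L) (N (N (N E L L) (N E L L) L) (N (N (N L E L) L L) L L) L) L) (N (N (N E (N (N E E L) (N E L L) L) L) (N (N E L L) L L) L) (N L (N L E L) L) L) L) L) L) L) (N (N (N (N L (N (N E (N L (N (N L (N L E L) L) L L) L) L) (N (N (N (N (N L E L) L L) L L) (N E L L) L) (N (N (N L E L) (N L E L) L) L L) L) L) L) (N (N (N (N L (N L (N E L L) L) L) (N (N E E L) L L) L) (N (N (N E E L) (N L (N E L L) L) L) (N E (N E L L) L) L) L) (N (N L (N (N E L L) (N L E L) L) L) (N (N (N L (N (N E E L) L L) L) L L) L L) L) L) L) (N (N (N (N (N (N E E L) (N E (N L E L) L) L) (N (N (N L E L) E L) E L) L) (N (N (N E L L) (N L E L) L) (N (N L (N L E L) L) (N L E L) L) L) L) (N (N (N L E L) (N (N L E L) E L) L) (N (N L E L) L L) L) L) (N (N (N (N E L L) E L) (N (N L (N L (N E L L) L) L) (N L E L) L) L) (N (N (N (N L (N L E L) L) (N E (N L E L) L) L) (N (N L E L) L L) L) (N E L L) L) L) L) L) (N (N (N (N (N (N E E L) L L) (N (N (N E L L) L L) (N E L L) L) L) (N (N E L L) (N E (N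 (N (N L E L) L L) (N (N E L L) L L) L) L) L) L) (N (N (N L (N (N L E L) L L) L) (N (N (N (N L E L) (N L E L) L) (N E L L) L) L L) L) (N E (N (N L (N L E L) L) (N (N L (N L E L) L) L L) L) L) L) L) (N (N (N L (N (N (N L E L) (N L E L) L) (N (N E E L) (N E L L) L) L) L) (N (N (N L E L) (N L E L) L) (N (N L E L) (N L E L) L) L) L) (N (N (N (N L (N L E L) L) (N (N E L L) L L) L) (N (N (N (N E L L) L L) E L) (N (N E L L) L L) L) L) (N L (N (N L (N E E L) L) L L) L) L) L) L) L) L) (N (N (N (N (N (N (N (N L (N L (N L E L) L) L) E L) (N (N (N E L L) L L) (N (N E L L) L L) L) L) (N (N (N L E L) (N E (N L E L) L) L) (N (N (N E L L) L L) L L) L) L) (N (N (N (N (N L E L) L L) (N L E L) L) (N L (N L E L) L) L) (N L (N (N (N E L L) (N E L L) L) L L) L) L) L) (N (N (N (N L (N E L L) L) L L) (N L (N (N E L L) L L) L) L) (N (N (N E L L) (N L (N (N L E L) (N E L L) L) L) L) (N (N E (N L (N E E L) L) L) (N (N L (N E (N E L L) L) L) L L) L) L) L) L) (N (N (N L (N (N (N L (N E L L) L) (N L E L) L) (N L E L) L) L) (N (N E (N (N (N E L L) (N L E L)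 L) (N E (N L E L) L) L) L) (N (N (N (N L E L) (N E L L) L) (N E L L) L) (N E (N (N L E L) (N E L L) L) L) L) L) L) (N (N (N (N E (N E L L) L) (N L (N (N L E L) E L) L) L) L L) (N L (N (N L (N (N L E L) L L) L) (N (N (N E L L) L L) E L) L) L) L) L) L) (N (N (N (N (N (N E (N L (N L E L) L) L) (N E (N L (N L (N L E L) L) L) L) L) (N (N (N L E L) E L) (N (N (N (N E L L) E L) (N L E L) L) (N E (N L E L) L) L) L) L) (N (N (N (N (N L E L) L L) (N (N E L L) E L) L) (N (N L E L) (N (N L (N E L L) L) (N E L L) L) L) L) (N (N (N L E L) E L) (N E (N (N L E L) (N L E L) L) L) L) L) L) (N (N (N L (N (N E (N E (N L E L) L) L) L L) L) (N (N L (N L (N L E L) L) L) (N (N E E L) L L) L) L) (N (N L (N (N L E L) (N E L L) L) L) (N (N (N L E L) L L) (N (N L (N E L L) L) (N L E L) L) L) L) L) L) (N (N (N (N (N L (N E E L) L) (N (N E E L) L L) L) (N (N (N E L L) L L) (N (N L E L) L L) L) L) (N (N (N (N (N L E L) (N E E L) L) E L) (N (N (N L E L) L L) E L) L) (N (N (N L E L) (N E E L) L) (N (N (N E (N E L L) L) L L) L L) L) L) L) (N (N (N (N (N (N L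 E L) (N L E L) L) (N (N E L L) (N E (N L E L) L) L) L) (N (N (N E E L) L L) (N E L L) L) L) (N (N (N L (N L E L) L) (N (N E L L) E L) L) (N L (N E (N E E L) L) L) L) L) (N (N E (N (N L (N L E L) L) (N (N E L L) E L) L) L) (N (N (N E (N L E L) L) (N E (N (N E L L) L L) L) L) L L) L) L) L) L) L) L) (N (N (N (N (N (N (N L (N (N (N E L L) L L) L L) L) (N (N L (N E E L) L) (N L (N L (N (N L E L) L L) L) L) L) L) L L) (N (N (N L (N (N E (N E L L) L) L L) L) (N (N E (N E E L) L) L L) L) (N (N (N L (N E E L) L) (N (N (N E L L) E L) (N L E L) L) L) (N (N (N E (N L (N E L L) L) L) (N (N E E L) L L) L) (N (N (N E E L) L L) (N L (N E L L) L) L) L) L) L) L) (N (N (N (N (N E (N L E L) L) (N (N (N E E L) (N E L L) L) (N L (N E E L) L) L) L) (N (N (N L E L) (N E L L) L) (N L (N E L L) L) L) L) (N (N (N (N L (N L E L) L) E L) (N (N E L L) E L) L) (N (N (N L (N (N E L L) L L) L) (N (N E E L) L L) L) (N (N (N L (N E L L) L) E L) L L) L) L) L) (N (N (N (N L E L) (N (N E E L) E L) L) (N (N L (N E E L) L) (N L E L) L) L) (N (N (N L E L) L L) (N E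 (N (N (N (N L E L) L L) (N E E L) L) E L) L) L) L) L) L) (N (N (N (N (N (N L E L) (N (N (N L (N L E L) L) L L) (N L E L) L) L) L L) (N (N (N (N (N L (N E L L) L) E L) (N (N E L L) E L) L) (N E L L) L) (N E (N (N L (N E E L) L) E L) L) L) L) (N (N L (N (N E (N (N L E L) L L) L) (N (N (N L (N L E L) L) L L) L L) L) L) (N (N (N (N L (N (N E L L) L L) L) (N E E L) L) (N L (N L (N L E L) L) L) L) (N (N (N E E L) (N (N L E L) (N L E L) L) L) (N E L L) L) L) L) L) (N (N (N (N E (N E L L) L) (N L (N (N (N L E L) L L) (N (N L E L) L L) L) L) L) (N (N (N L (N L (N L E L) L) L) (N (N E L L) L L) L) (N (N E L L) (N (N L (N E L L) L) L L) L) L) L) (N (N (N (N (N (N E L L) (N E L L) L) L L) (N (N E E L) E L) L) (N (N (N L (N L E L) L) (N E E L) L) (N E (N L E L) L) L) L) (N E E L) L) L) L) L) (N (N (N (N (N (N (N (N L E L) (N (N E L L) L L) L) (N E (N E (N E (N E L L) L) L) L) L) (N (N E (N (N L E L) L L) L) (N (N L (N E L L) L) (N (N E L L) L L) L) L) L) (N (N (N (N E L L) L L) (N (N L E L) E L) L) (N (N L (N (N E L L) E L) L) (N E E L) L)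 L) L) (N (N (N (N E (N (N E L L) L L) L) (N L E L) L) (N E (N L (N L E L) L) L) L) (N (N (N E (N E L L) L) (N L E L) L) (N L (N (N (N E L L) L L) (N E (N E L L) L) L) L) L) L) L) (N (N (N L (N (N L (N E (N (N E L L) L L) L) L) L L) L) (N (N (N L (N L E L) L) E L) (N (N E L L) E L) L) L) (N (N (N (N (N L E L) (N L (N (N L E L) L L) L) L) (N (N L (N E L L) L) (N E (N E (N E L L) L) L) L) L) (N L (N L (N L E L) L) L) L) (N (N (N (N L E L) E L) (N (N E L L) (N L E L) L) L) (N (N L (N L E L) L) (N (N L (N E L L) L) E L) L) L) L) L) L) (N (N (N (N (N L (N E L L) L) (N (N E L L) (N L (N L (N E L L) L) L) L) L) (N (N (N L (N L E L) L) (N (N L E L) E L) L) (N (N L (N L E L) L) (N (N E L L) (N (N (N E L L) L L) L L) L) L) L) L) (N (N (N (N L (N L (N E L L) L) L) (N E (N (N E E L) E L) L) L) L L) (N (N L (N E L L) L) (N (N E L L) L L) L) L) L) (N (N (N (N L (N E (N E E L) L) L) (N (N L E L) (N (N L (N E E L) L) (N E (N L E L) L) L) L) L) (N (N (N (N E L L) L L) (N L (N L E L) L) L) (N (N L (N E E L) L) E L) L) L) L L) L) L) L) L) 0x8000074120102800c0108600041900024028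 (hsh 0x600020002000300000000000000000006000000000000001100000000000100030004000000010003000900030000000900170009000000010004000d000200000002000500030000000000060002000000010000000000010004000300120018000300070001000d000400040004000a0000001400000000000a00020002000100080001000700000006000000010008000000000005000e0007000a0003000100000002000c00010003000000090000000000020001000000000009000200000009001400000003000a0003000200000004000c0001000000000002000000000002000200000001000a000d00010000000100070000000200000007000100090003000100000001000700010000000300080000000600020001000000000004000000000000000000020008000000000001000100000001000200020005000600020003000400000000000300000001000e00040009000c000300040001000000000004000400010007000300090001000c000900000003000000030001000000010000000600070005000500000001000400000002001e00000000000100020001000100070005000a000500030001000400040001000800010003000f000d0002000100090001000000060000000000020003000100040000000600030000000000040001000400020002000000000001000300060000001200040003001100020000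0001000000010000000b0005000a00040000000000010000000000010007000100070008000a000b0001000500000000000100000000000a0002000300010011000200040000000000010005000100000004000100010006000700020008000d00010009000000020000000300030000000600000015000100010002000100050000000400000000000000010006000500010001000000050003000000000000000200000002000400040001000200070000000100010014000000020002001300080007000100020003000100000001000a0000000300040004000200050000000900030004000500050004000100080000000e000300060000000000000004000500000000000300010000000000000001001200100018000400060009000100010002000b0004000200000005000600010001000100020012000500010006000d0019000000000011000000000002000200000001000c00000001000100170004000100010004000000000005000100000000000000040002 449 1657441 2048) 11 (by decide +kernel)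

theorem orbT_sextets0 : OrbDec (MulAction.stabilizer M24 (famOf 3 tr0)) sextets ![7, 84, 336, 1344] := by
  refine orbDec_fam _ (fun g _ h => smul_mem_sextets g h) 3 tr0 (fun _ hg => hg) 6 ![0x80086042420039000004a10000108a000415, 0x8000316a0000114200043008008182000c44, 0x800023540040202a0009140002400c008190, 0x8000074120102800c0108600041900024028]
    (fun i => famOf_mem_sextets (by revert i; decide +kernel)) (by decide +kernel) _ (fun i => ?_)
    (by rw [ncard_sextets]; decide)
  · fin_cases i
    · exact orbT_sextets0_0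
    · exact orbT_sextets0_1
    · exact orbT_sextets0_2
    · exact orbT_sextets0_3

theorem orbT_octads {T : Finset (Finset GolayPt)} (hT : T ∈ trios) :
    OrbDec (MulAction.stabilizer M24 T) octads ![3, 84, 672] := by
  obtain ⟨g, rfl⟩ := exists_smul_trio tr0_mem hT
  exact orbT_octads0.smul (fun g _ h => (smul_mem_octads_iff g).2 h) g

theorem orbT_trios {T : Finset (Finset GolayPt)} (hT : T ∈ trios) :
    OrbDec (MulAction.stabilizer M24 T) trios ![1, 42, 56, 1008, 2688] := by
  obtain ⟨g, rfl⟩ := exists_smul_trio tr0_mem hT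
  exact orbT_trios0.smul (fun g _ h => smul_mem_trios g h) g

theorem orbT_sextets {T : Finset (Finset GolayPt)} (hT : T ∈ trios) :
    OrbDec (MulAction.stabilizer M24 T) sextets ![7, 84, 336, 1344] := by
  obtain ⟨g, rfl⟩ := exists_smul_trio tr0_mem hT
  exact orbT_sextets0.smul (fun g _ h => smul_mem_sextets g h) g

end Cfsg.Agent.Spor.M24C

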