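import Cfsg.Agent.Spor.Parker
import Cfsg.Agent.Spor.M24Gen
import Cfsg.Agent.Spor.MathieuDefs
import Cfsg.Agent.Solv.Gaschutz

/-!
Splitting of extensions of `M₂₃` by sections of the permutation module `𝔽₂²⁴`: lifts of a power
commutator presentation of a Sylow 2-subgroup and of fusing elements have tails in the module;
rewriting words in two ways gives linear relations between the tails, and a certificate shows that
the lifts can be corrected so that the Sylow subgroup splits. Gaschütz' theorem finishes.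
-/

set_option autoImplicit false

namespace Cfsg.Agent.Spor.MX

open Cfsg Cfsg.Agent.Comp Cfsg.Agent.Spor Cfsg.Agent.Spor.M24C Cfsg.Agent.Spor.GD
open Cfsg.Agent.Spor.Parker (aL aC aC_ok)

/-! ### Linear functionals in the tails -/

/-- The functional with bit pattern `F` (24 bits per slot). -/
noncomputable def lf (w : ℕ → W) (R F : ℕ) : ZMod 2 :=
  ∑ s ∈ Finset.range R, dot (wordOf (F >>> (24 * s))) (w s)

theorem lf_xor (w : ℕ → W) (R F G : ℕ) : lf w R (F ^^^ G) = lf w R F + lf w R G := by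
  simp only [lf, Nat.shiftRight_xor_distrib, wordOf_xor, dot_add_left, Finset.sum_add_distrib]

theorem lf_zero (w : ℕ → W) (R : ℕ) : lf w R 0 = 0 := by simp [lf, wordOf_zero]

theorem lf_shift (w : ℕ → W) {R s m : ℕ} (hs : s < R) (hm : m < 2 ^ 24) :
    lf w R (m <<< (24 * s)) = dot (wordOf m) (w s) := by
  rw [lf, Finset.sum_eq_single s _ (fun h => absurd (Finset.mem_range.2 hs) h)]
  · rw [Nat.shiftLeft_shiftRight]
  · intro t _ hts
    have : wordOf ((m <<< (24 * s)) >>> (24 * t)) = 0 := by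
      funext p
      have hp := ix_lt p
      simp only [wordOf, Nat.testBit_shiftRight, Nat.testBit_shiftLeft, Pi.zero_apply]
      rw [if_neg]
      rcases lt_or_gt_of_ne hts with h | h
      · simp; omega
      · rw [Nat.testBit_lt_two_pow (lt_of_lt_of_le hm (Nat.pow_le_pow_right (by norm_num)
          (by omega)))]
        simp
    rw [this, dot_zero_left]

theorem lf_low (w w' : ℕ → W) {R k F : ℕ} (hF : F < 2 ^ (24 * R)) (h : ∀ s < R, w' s = w s) :
    lf w' (R + k) F = lf w R F := by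
  rw [lf, Finset.sum_range_add, lf, Finset.sum_eq_zero (s := Finset.range k), add_zero]
  · exact Finset.sum_congr rfl fun s hs => by rw [h s (Finset.mem_range.1 hs)]
  · intro i _
    rw [Nat.shiftRight_eq_div_pow, Nat.div_eq_of_lt (lt_of_lt_of_le hF
      (Nat.pow_le_pow_right (by norm_num) (by omega))), wordOf_zero, dot_zero_left]

theorem lf_add (w w' : ℕ → W) (R F : ℕ) : lf (w + w') R F = lf w R F + lf w' R F := by
  simp only [lf, Pi.add_apply, dot_add_right, Finset.sum_add_distrib]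

theorem wordOf_mask (m : ℕ) : wordOf (m &&& 16777215) = wordOf m := by
  rw [wordOf_land, ← one_eq_wordOf, mul_one]

theorem mask_lt (m : ℕ) : m &&& 16777215 < 2 ^ 24 :=
  lt_of_le_of_lt Nat.and_le_right (by norm_num)

theorem wordOf_preMask (σ : Equiv.Perm GolayPt) (m : ℕ) :
    wordOf (preMask (dg (code σ)) m) = wordOf m ∘ σ := by
  funext p
  simp only [wordOf, Function.comp_apply, testBit_preMask _ _ (ix_lt p), dg_code_ix]

/-- The functional `c · (∑ tails)` of a list of pairs (prefix code, slot), added to `acc`. -/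
noncomputable def Fn (c : ℕ) (ps : List (ℕ × ℕ)) : ℕ → ℕ :=
  List.rec (fun acc => acc) (fun p _ ih acc => force (Nat.xor acc
    (Nat.shiftLeft (Nat.land (preMask (dg p.1) c) 16777215) (Nat.mul 24 p.2))) ih) ps

theorem Fn_cons (c : ℕ) (p : ℕ × ℕ) (ps : List (ℕ × ℕ)) (acc : ℕ) : Fn c (p :: ps) acc =
    Fn c ps (acc ^^^ ((preMask (dg p.1) c &&& 16777215) <<< (24 * p.2))) := force_eq _ _

theorem lf_Fn (w : ℕ → W) (R c : ℕ) (ps : List (ℕ × ℕ)) (acc : ℕ) :
    lf w R (Fn c ps acc) = lf w R acc + lf w R (Fn c ps 0) := by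
  induction ps generalizing acc with
  | nil => simp [Fn, lf_zero]
  | cons p ps ih => rw [Fn_cons, Fn_cons, ih, ih (0 ^^^ _), lf_xor, lf_xor, lf_zero]; ring

/-- XOR of the members of a list selected by the bits `i, i + 1, …` of a mask, added to `acc`. -/
noncomputable def comb (m : ℕ) (FL : List ℕ) : ℕ → ℕ → ℕ :=
  List.rec (fun _ acc => acc) (fun F _ ih i acc => force (Nat.succ i) fun i' =>
    ite' (tb m i) (force (Nat.xor acc F) (ih i')) (ih i' acc)) FL

theorem lf_comb (w : ℕ → W) (R m : ℕ) (FL : List ℕ) (h : ∀ F ∈ FL, lf w R (F >>> 64) = 0)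
    (i acc : ℕ) : lf w R (comb m FL i acc >>> 64) = lf w R (acc >>> 64) := by
  induction FL generalizing i acc with
  | nil => rfl
  | cons F FL ih =>
    have : comb m (F :: FL) i acc = force (Nat.succ i) fun i' =>
      ite' (tb m i) (force (acc ^^^ F) (comb m FL i')) (comb m FL i' acc) := rfl
    have ih' := ih fun F hF => h F (List.mem_cons_of_mem _ hF)
    rw [this, force_eq, ite'_eq, force_eq]
    split_ifs
    · rw [ih', Nat.shiftRight_xor_distrib, lf_xor, h F List.mem_cons_self, add_zero]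
    · exact ih' _ _

/-- A number shifted by 64 bits with a residue in the low bits (large numerals are hashed by their
low bits). -/
noncomputable def sal (F : ℕ) : ℕ :=
  force F fun F => Nat.xor (Nat.shiftLeft F 64) (Nat.mod F 2305843009213693951)

theorem sal_shift (F : ℕ) : sal F >>> 64 = F := by
  have : sal F = (F <<< 64) ^^^ (F % 2305843009213693951) := force_eq _ _
  rw [this, Nat.shiftRight_xor_distrib, Nat.shiftLeft_shiftRight, Nat.shiftRight_eq_div_pow,
    Nat.div_eq_of_lt (lt_trans (Nat.mod_lt _ (by norm_num)) (by norm_num)), Nat.xor_zero]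

/-- XOR of `f 0, …, f (n-1)`. -/
noncomputable def xorLT (n : ℕ) (f : ℕ → ℕ) : ℕ :=
  Nat.rec (motive := fun _ => ℕ) 0 (fun i ih => Nat.xor ih (f i)) n

theorem lf_xorLT (w : ℕ → W) (R n : ℕ) (f : ℕ → ℕ) :
    lf w R (xorLT n f) = ∑ i ∈ Finset.range n, lf w R (f i) := by
  induction n with
  | zero => exact lf_zero w R
  | succ n ih =>
    have : xorLT (n + 1) f = xorLT n f ^^^ f n := rfl
    rw [this, lf_xor, ih, Finset.sum_range_succ]

/-! ### Rewriting -/

/-- Removes the prefix `l` of a word. -/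
noncomputable def strip (l : List ℕ) : List ℕ → (List ℕ → List ℕ) → List ℕ :=
  List.rec (fun u k => k u) (fun a _ ih u k =>
    List.casesOn u [] fun b u0 => ite' (Nat.beq a b) (ih u0 k) []) l

theorem strip_spec {l u : List ℕ} {k : List ℕ → List ℕ} {F : ℕ} (h : F ∈ strip l u k) :
    ∃ rest, u = l ++ rest ∧ F ∈ k rest := by
  induction l generalizing u with
  | nil => exact ⟨u, rfl, h⟩
  | cons a l ih =>
    cases u with
    | nil => exact absurd h List.not_mem_nil
    | cons b u =>
      have : strip (a :: l) (b :: u) k = ite' (Nat.beq a b) (strip l u k) [] := rfl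
      rw [this, ite'_eq] at h
      split_ifs at h with hab
      · obtain ⟨rest, e, hr⟩ := ih h
        exact ⟨rest, by rw [e, (beq_iff _ _).1 hab]; rfl, hr⟩
      · exact absurd h List.not_mem_nil

/-- The code of the product of a word, multiplied to `c` from the right. -/
noncomputable def prodC (cL : List ℕ) (u : List ℕ) : ℕ → ℕ :=
  List.rec (fun c => c) (fun a _ ih c => force (mulC c (getL oneC cL a)) ih) u

theorem prodC_cons (cL : List ℕ) (a : ℕ) (u : List ℕ) (c : ℕ) :
    prodC cL (a :: u) c = prodC cL u (mulC c (getL oneC cL a)) := force_eq _ _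

/-- Replaces `lhs` at position `pos` by `rhs`; passes on the new word and the prefix code. -/
noncomputable def stepW (cL lhs rhs : List ℕ) (pos : ℕ) :
    List ℕ → ℕ → (List ℕ → ℕ → List ℕ) → List ℕ :=
  Nat.rec (motive := fun _ => List ℕ → ℕ → (List ℕ → ℕ → List ℕ) → List ℕ)
    (fun u c k => strip lhs u fun rest => forceL (rhs ++ rest) fun u' => k u' c)
    (fun _ ih u c k => List.casesOn u [] fun a u0 =>
      force (mulC c (getL oneC cL a)) fun c' => ih u0 c' fun u' c'' => k (a :: u') c'') pos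

theorem stepW_spec {cL lhs rhs : List ℕ} {pos : ℕ} {u : List ℕ} {c : ℕ}
    {k : List ℕ → ℕ → List ℕ} {F : ℕ} (h : F ∈ stepW cL lhs rhs pos u c k) :
    ∃ pre rest, u = pre ++ lhs ++ rest ∧ F ∈ k (pre ++ rhs ++ rest) (prodC cL pre c) := by
  induction pos generalizing u c k with
  | zero =>
    have : stepW cL lhs rhs 0 u c k =
      strip lhs u fun rest => forceL (rhs ++ rest) fun u' => k u' c := rfl
    rw [this] at h
    obtain ⟨rest, e, hr⟩ := strip_spec h
    rw [forceL_eq] at hr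
    exact ⟨[], rest, e, hr⟩
  | succ pos ih =>
    cases u with
    | nil => exact absurd h List.not_mem_nil
    | cons a u =>
      have : stepW cL lhs rhs (pos + 1) (a :: u) c k = force (mulC c (getL oneC cL a)) fun c' =>
        stepW cL lhs rhs pos u c' fun u' c'' => k (a :: u') c'' := rfl
      rw [this, force_eq] at h
      obtain ⟨pre, rest, e, hr⟩ := ih h
      exact ⟨a :: pre, rest, by rw [e]; rfl, by rw [prodC_cons]; exact hr⟩

/-- The `r`-th rule. -/
noncomputable def rule (RL : List (List ℕ × List ℕ)) (r : ℕ) : List ℕ × List ℕ :=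
  getL ([], []) RL r

/-- Applies the rewriting steps `64 * pos + r` of a path. -/
noncomputable def run (cL : List ℕ) (RL : List (List ℕ × List ℕ)) (R : ℕ) (path : List ℕ) :
    List ℕ → List (ℕ × ℕ) → (List ℕ → List (ℕ × ℕ) → List ℕ) → List ℕ :=
  List.rec (fun u ps k => k u ps) (fun s _ ih u ps k => force (Nat.land s 63) fun r =>
    ite' (Nat.blt r R) (stepW cL (rule RL r).1 (rule RL r).2 (Nat.shiftRight s 6) u oneC
      fun u' c => ih u' ((c, r) :: ps) k) []) path

/-- The functionals of an identity `(word, path, path, dual words)`. -/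
noncomputable def idF (cL : List ℕ) (RL : List (List ℕ × List ℕ)) (R : ℕ) (okc : ℕ → Bool)
    (d : List ℕ × List ℕ × List ℕ × List ℕ) : List ℕ :=
  run cL RL R d.2.1 d.1 [] fun z1 ps1 => run cL RL R d.2.2.1 d.1 [] fun z2 ps2 =>
    strip z1 z2 fun rest => List.casesOn rest
      (d.2.2.2.map fun c => ite' (okc c) (force (Fn c ps1 0) (Fn c ps2)) 0) fun _ _ => []

/-- The pairs of the corrections in a word. -/
noncomputable def pp (R : ℕ) (l : List ℕ) :
    ℕ → List (ℕ × ℕ) → (List (ℕ × ℕ) → Bool) → Bool :=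
  List.rec (fun _ ps k => k ps) (fun a _ ih c ps k => force (mulC c (aC a)) fun c' =>
    force (Nat.add R a) fun s => ih c' ((c, s) :: ps) k) l

/-- The functional expressing the definition of the corrections. -/
noncomputable def gF (R : ℕ) (bs : ℕ → ℕ) (lam : List ℕ) (t : ℕ) : ℕ :=
  force (Nat.div t 24) fun i => force (Nat.mod t 24) fun p =>
    Nat.xor (Nat.shiftLeft (Nat.shiftLeft 1 p) (Nat.mul 24 (Nat.add R i)))
      (xorLT 11 fun j => ite' (tb (bs j) p) (getL 0 lam (Nat.add (Nat.mul 11 i) j)) 0)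

/-- The power commutator rules of the Sylow subgroup. -/
def TR : List (List ℕ × List ℕ) := [([0, 0], []), ([1, 0], [0, 1, 2]), ([1, 1], []),
  ([2, 0], [0, 2]), ([2, 1], [1, 2]), ([2, 2], []), ([3, 0], [0, 3, 5]), ([3, 1], [1, 3, 4, 5, 6]),
  ([3, 2], [2, 3, 5, 6]), ([3, 3], []), ([4, 0], [0, 4, 5, 6]), ([4, 1], [1, 4, 6]),
  ([4, 2], [2, 4, 6]), ([4, 3], [3, 4]), ([4, 4], []), ([5, 0], [0, 5]), ([5, 1], [1, 5, 6]),
  ([5, 2], [2, 5]), ([5, 3], [3, 5]), ([5, 4], [4, 5]), ([5, 5], []), ([6, 0], [0, 6]),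
  ([6, 1], [1, 6]), ([6, 2], [2, 6]), ([6, 3], [3, 6]), ([6, 4], [4, 6]), ([6, 5], [5, 6]),
  ([6, 6], [])]

/-- The certificate check. -/
noncomputable def check (gL : List ℕ) (HR : List (List ℕ × List ℕ)) (R : ℕ) (okc dom : ℕ → Bool)
    (cs bs : ℕ → ℕ) (ids : List (List ℕ × List ℕ × List ℕ × List ℕ)) (lam chi masks : List ℕ) :
    Bool :=
  and' (allL (chi ++ lam) fun F => Nat.blt F (Nat.shiftLeft 1 (Nat.mul 24 R)))
    (forceL ((chi ++ ((List.range 168).map (gF R bs lam) ++
        ids.flatMap (idF (aL ++ gL) (TR ++ HR) R okc))).map sal) fun FL =>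
      allLT 28 fun r => pp R (rule TR r).1 oneC [(oneC, r)] fun ps1 =>
        pp R (rule TR r).2 oneC [] fun ps2 => allLT 11 fun j => force (cs j) fun c =>
          force (Fn c ps1 0) fun F1 => force (sal (Fn c ps2 F1)) fun F =>
            force (sal (getL 0 masks (Nat.add (Nat.mul 11 r) j))) fun m =>
              force (comb m FL 64 F) fun G => allLT (Nat.add R 7) fun s =>
                force (Nat.land (Nat.shiftRight G (Nat.add 64 (Nat.mul 24 s))) 16777215) dom)

/-! ### Semantics -/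

variable {E : Type*} [Group E]

/-- The kernel of `π` is described by words: `Rel w n` means that `w` represents `n`. -/
structure Ctx (π : E →* Equiv.Perm GolayPt) (Rel : W → E → Prop) (okc dom : ℕ → Bool)
    (cs bs : ℕ → ℕ) : Prop where
  zero : Rel 0 1
  add : ∀ {w n w' n'}, Rel w n → Rel w' n' → Rel (w + w') (n * n')
  act : ∀ {w n} (g : E), Rel w n → Rel (w ∘ ⇑(π g)⁻¹) (g * n * g⁻¹)
  sur : ∀ n, π n = 1 → ∃ w, Rel w n
  ker : ∀ {w n}, Rel w n → π n = 1
  two : ∀ {w w' n} (c : ℕ), okc c = true → Rel w n → Rel w' n → dot (wordOf c) (w + w') = 0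
  eq : ∀ {w n w' n'}, Rel w n → Rel w' n' →
    (∀ j < 11, dot (wordOf (cs j)) (w + w') = 0) → n = n'
  dom : ∀ {w n} (m : ℕ), dom m = true → Rel w n → dot (wordOf m) w = 0
  exi : ∀ j < 11, ∃ n, Rel (wordOf (bs j)) n

/-- The value of a word. -/
def ev (x : ℕ → E) (u : List ℕ) : E := (u.map x).prod

theorem ev_cons (x : ℕ → E) (a : ℕ) (u : List ℕ) : ev x (a :: u) = x a * ev x u := by
  simp [ev]

theorem ev_append (x : ℕ → E) (u v : List ℕ) : ev x (u ++ v) = ev x u * ev x v := by
  simp [ev]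

theorem code_ev (π : E →* Equiv.Perm GolayPt) {cL : List ℕ} {x : ℕ → E}
    (hx : ∀ i, code (π (x i)) = getL oneC cL i) (u : List ℕ) (g : E) :
    code (π (g * ev x u)) = prodC cL u (code (π g)) := by
  induction u generalizing g with
  | nil => simp [ev, prodC]
  | cons a u ih => rw [ev_cons, ← mul_assoc, ih, prodC_cons, map_mul, code_mul, hx]

/-- Lifts `x` of the letters and tails `w` of the rules. -/
def Rules (π : E →* Equiv.Perm GolayPt) (Rel : W → E → Prop) (cL : List ℕ)
    (RL : List (List ℕ × List ℕ)) (R : ℕ) (x : ℕ → E) (w : ℕ → W) : Prop :=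
  (∀ i, code (π (x i)) = getL oneC cL i) ∧
    ∀ r < R, ∃ n, Rel (w r) n ∧ ev x (rule RL r).1 = n * ev x (rule RL r).2

/-- The element `n` is represented by the sum of the tails of a list of pairs. -/
def RelP (Rel : W → E → Prop) (w : ℕ → W) (R : ℕ) (ps : List (ℕ × ℕ)) (n : E) : Prop :=
  ∃ t, Rel t n ∧ ∀ c, dot (wordOf c) t = lf w R (Fn c ps 0)

variable {π : E →* Equiv.Perm GolayPt} {Rel : W → E → Prop} {okc dom : ℕ → Bool}
  {cs bs : ℕ → ℕ}

theorem Ctx.comm (h : Ctx π Rel okc dom cs bs) {w w' : W} {n n' : E} (hn : Rel w n)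
    (hn' : Rel w' n') : n * n' = n' * n :=
  h.eq (h.add hn hn') (h.add hn' hn) fun j _ => by rw [add_comm w' w, add_self', dot_zero_right]

theorem Ctx.sq (h : Ctx π Rel okc dom cs bs) {w : W} {n : E} (hn : Rel w n) : n * n = 1 :=
  h.eq (h.add hn hn) h.zero fun j _ => by rw [add_self', add_zero, dot_zero_right]

theorem Ctx.relP_nil (h : Ctx π Rel okc dom cs bs) (w : ℕ → W) (R : ℕ) : RelP Rel w R [] 1 :=
  ⟨0, h.zero, fun c => by rw [dot_zero_right]; exact (lf_zero w R).symm⟩

theorem Ctx.relP_cons (h : Ctx π Rel okc dom cs bs) {w : ℕ → W} {R : ℕ} {ps : List (ℕ × ℕ)}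
    {n n' : E} (hp : RelP Rel w R ps n) {r : ℕ} (hr : r < R) (hn : Rel (w r) n') (g : E) :
    RelP Rel w R ((code (π g), r) :: ps) (n * (g * n' * g⁻¹)) := by
  obtain ⟨t, ht, hc⟩ := hp
  refine ⟨_, h.add ht (h.act g hn), fun c => ?_⟩
  rw [Fn_cons, lf_Fn, Nat.zero_xor, lf_shift w hr (mask_lt _), wordOf_mask, wordOf_preMask,
    dot_add_right, hc, dot_comp_inv, add_comm]

theorem Ctx.run_spec (h : Ctx π Rel okc dom cs bs) {cL : List ℕ} {RL : List (List ℕ × List ℕ)}
    {R R' : ℕ} (hR : R ≤ R') {x : ℕ → E} {w : ℕ → W} (hx : Rules π Rel cL RL R x w)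
    (path : List ℕ) {u : List ℕ} {ps : List (ℕ × ℕ)} {k : List ℕ → List (ℕ × ℕ) → List ℕ} {F : ℕ}
    (hF : F ∈ run cL RL R path u ps k) {n : E} (hp : RelP Rel w R' ps n) :
    ∃ u' ps' n', RelP Rel w R' ps' n' ∧ n * ev x u = n' * ev x u' ∧ F ∈ k u' ps' := by
  induction path generalizing u ps n with
  | nil => exact ⟨u, ps, n, hp, rfl, hF⟩
  | cons s path ih =>
    have : run cL RL R (s :: path) u ps k = force (Nat.land s 63) fun r =>
      ite' (Nat.blt r R) (stepW cL (rule RL r).1 (rule RL r).2 (Nat.shiftRight s 6) u oneC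
        fun u' c => run cL RL R path u' ((c, r) :: ps) k) [] := rfl
    rw [this, force_eq, ite'_eq] at hF
    split_ifs at hF with hr
    · rw [blt_iff] at hr
      obtain ⟨pre, rest, rfl, hF'⟩ := stepW_spec hF
      obtain ⟨n', hn', e⟩ := hx.2 _ hr
      have hc := code_ev π hx.1 pre 1
      rw [map_one, code_one, one_mul] at hc
      rw [← hc] at hF'
      obtain ⟨u', ps', n'', i1, i2, i3⟩ := ih hF' (h.relP_cons hp (by omega) hn' (ev x pre))
      refine ⟨u', ps', n'', i1, ?_, i3⟩
      rw [← i2]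
      simp only [ev_append, e]
      group
    · exact absurd hF List.not_mem_nil

theorem Ctx.idF_spec (h : Ctx π Rel okc dom cs bs) {cL : List ℕ} {RL : List (List ℕ × List ℕ)}
    {R R' : ℕ} (hR : R ≤ R') {x : ℕ → E} {w : ℕ → W} (hx : Rules π Rel cL RL R x w)
    (d : List ℕ × List ℕ × List ℕ × List ℕ) {F : ℕ} (hF : F ∈ idF cL RL R okc d) :
    lf w R' F = 0 := by
  obtain ⟨z1, ps1, n1, ⟨t1, r1, c1⟩, e1, hF⟩ := h.run_spec hR hx _ hF (h.relP_nil w R')
  obtain ⟨z2, ps2, n2, ⟨t2, r2, c2⟩, e2, hF⟩ := h.run_spec hR hx _ hF (h.relP_nil w R')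
  obtain ⟨rest, rfl, hF'⟩ := strip_spec hF
  cases rest with
  | cons _ _ => exact absurd hF' List.not_mem_nil
  | nil =>
    obtain ⟨c, -, rfl⟩ := List.mem_map.1 hF'
    rw [List.append_nil, e1] at e2
    obtain rfl := mul_right_cancel e2
    rw [ite'_eq]
    split_ifs with hc
    · rw [force_eq, lf_Fn, ← c1, ← c2, ← dot_add_right]
      exact h.two c hc r1 r2
    · exact lf_zero _ _

theorem Ctx.pp_spec (h : Ctx π Rel okc dom cs bs) {R : ℕ} {x m : ℕ → E} {w : ℕ → W}
    (hx : ∀ i < 7, code (π (x i)) = aC i) (hm : ∀ i < 7, Rel (w (R + i)) (m i)) (l : List ℕ)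
    (hl : ∀ a ∈ l, a < 7) (g : E) {ps : List (ℕ × ℕ)} {k : List (ℕ × ℕ) → Bool}
    (hk : pp R l (code (π g)) ps k = true) {n : E} (hp : RelP Rel w (R + 7) ps n) :
    ∃ ps' n', RelP Rel w (R + 7) ps' n' ∧
      n * g * ev (fun i => m i * x i) l = n' * g * ev x l ∧ k ps' = true := by
  induction l generalizing g ps n with
  | nil => exact ⟨ps, n, hp, rfl, hk⟩
  | cons a l ih =>
    have : pp R (a :: l) (code (π g)) ps k = force (mulC (code (π g)) (aC a)) fun c' =>
      force (R + a) fun s => pp R l c' ((code (π g), s) :: ps) k := rfl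
    have ha := hl a List.mem_cons_self
    rw [this, force_eq, force_eq, ← hx a ha, ← code_mul, ← map_mul] at hk
    obtain ⟨ps', n', i1, i2, i3⟩ := ih (fun b hb => hl b (List.mem_cons_of_mem _ hb)) _ hk
      (h.relP_cons hp (by omega) (hm a ha) g)
    refine ⟨ps', n', i1, ?_, i3⟩
    rw [ev_cons, ev_cons, ← mul_assoc (n' * g), mul_assoc n' g, ← i2]
    group

theorem Ctx.exists_comb (h : Ctx π Rel okc dom cs bs) (f : ℕ → ZMod 2) (n : ℕ) (hn : n ≤ 11) :
    ∃ m, Rel (∑ j ∈ Finset.range n, f j • wordOf (bs j)) m := by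
  induction n with
  | zero => exact ⟨1, h.zero⟩
  | succ n ih =>
    obtain ⟨m, hm⟩ := ih (by omega)
    obtain ⟨m', hm'⟩ := h.exi n (by omega)
    rw [Finset.sum_range_succ]
    rcases zmod2_cases (f n) with e | e
    · exact ⟨m, by rwa [e, zero_smul, add_zero]⟩
    · exact ⟨_, by rw [e, one_smul]; exact h.add hm hm'⟩

theorem TR_lt : ∀ r < 28, (∀ a ∈ (rule TR r).1, a < 7) ∧ ∀ a ∈ (rule TR r).2, a < 7 := by
  decide +kernel

theorem rule_append (HR : List (List ℕ × List ℕ)) {r : ℕ} (hr : r < 28) :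
    rule (TR ++ HR) r = rule TR r := by
  rw [rule, rule, getL_eq, getL_eq, List.getD_append _ _ _ _ hr]

theorem getL_append (gL : List ℕ) {i : ℕ} (hi : i < 7) : getL oneC (aL ++ gL) i = aC i := by
  rw [aC, getL_eq, getL_eq, List.getD_append _ _ _ _ hi]

theorem dot_two_pow {p : ℕ} (hp : p < 24) (v : W) : dot (wordOf (2 ^ p)) v = v (pt p) := by
  rw [dot_single _ _ (pt p), wordOf_pt _ hp, Nat.testBit_two_pow_self, if_pos rfl, one_mul]
  rw [forall_pt]
  intro i hi hne
  rw [wordOf_pt _ hi, Nat.testBit_two_pow_of_ne (fun e => hne (by rw [e])), if_neg (by simp),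
    zero_mul]

/-- The corrected lifts satisfy the power commutator relations. -/
theorem Ctx.exists_lifts (h : Ctx π Rel okc dom cs bs) {gL : List ℕ}
    {HR : List (List ℕ × List ℕ)} {R : ℕ} (hR : 28 ≤ R)
    {ids : List (List ℕ × List ℕ × List ℕ × List ℕ)} {lam chi masks : List ℕ}
    (hc : check gL HR R okc dom cs bs ids lam chi masks = true) {x : ℕ → E} {w : ℕ → W}
    (hx : Rules π Rel (aL ++ gL) (TR ++ HR) R x w) (hchi : ∀ F ∈ chi, lf w R F = 0) :
    ∃ y : ℕ → E, (∀ i < 7, code (π (y i)) = aC i) ∧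
      ∀ r < 28, ev y (rule TR r).1 = ev y (rule TR r).2 := by
  let μ : ℕ → W := fun i =>
    ∑ j ∈ Finset.range 11, lf w R (getL 0 lam (11 * i + j)) • wordOf (bs j)
  choose m hm using fun i => h.exists_comb (fun j => lf w R (getL 0 lam (11 * i + j))) 11 le_rfl
  let w' : ℕ → W := fun s => if s < R then w s else μ (s - R)
  have hw1 : ∀ s < R, w' s = w s := fun s hs => if_pos hs
  have hw2 : ∀ i, w' (R + i) = μ i := fun i => by simp [w']
  have hx' : Rules π Rel (aL ++ gL) (TR ++ HR) R x w' :=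
    ⟨hx.1, fun r hr => by rw [hw1 r hr]; exact hx.2 r hr⟩
  have hxa : ∀ i < 7, code (π (x i)) = aC i := fun i hi => by rw [hx.1, getL_append gL hi]
  rw [check, and'_eq_true, allL_iff, forceL_eq, allLT_iff] at hc
  obtain ⟨hb, hc⟩ := hc
  have hb' : ∀ F ∈ chi ++ lam, F < 2 ^ (24 * R) := fun F hF => by
    have := (blt_iff _ _).1 (hb F hF)
    rwa [shiftLeft_one] at this
  have hlam : ∀ t, lf w' (R + 7) (getL 0 lam t) = lf w R (getL 0 lam t) := fun t => by
    refine lf_low w w' ?_ hw1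
    rw [getL_eq, List.getD_eq_getElem?_getD]
    cases e : lam[t]? with
    | none => exact Nat.two_pow_pos _
    | some F => exact hb' F (List.mem_append_right _ (List.mem_of_getElem? e))
  have hFL : ∀ F ∈ chi ++ ((List.range 168).map (gF R bs lam) ++
      ids.flatMap (idF (aL ++ gL) (TR ++ HR) R okc)), lf w' (R + 7) F = 0 := by
    intro F hF
    rcases List.mem_append.1 hF with hF | hF
    · rw [lf_low w w' (hb' F (List.mem_append_left _ hF)) hw1]; exact hchi F hF
    rcases List.mem_append.1 hF with hF | hF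
    · obtain ⟨t, ht, rfl⟩ := List.mem_map.1 hF
      have ht' := List.mem_range.1 ht
      have e : gF R bs lam t = ((Nat.shiftLeft 1 (t % 24)) <<< (24 * (R + t / 24))) ^^^
          xorLT 11 fun j => ite' (tb (bs j) (t % 24)) (getL 0 lam (11 * (t / 24) + j)) 0 := by
        rw [gF, force_eq, force_eq]; rfl
      have hp : t % 24 < 24 := Nat.mod_lt _ (by norm_num)
      rw [e, lf_xor, shiftLeft_one, lf_shift w' (by omega) (Nat.pow_lt_pow_right (by norm_num) hp),
        dot_two_pow hp, hw2, lf_xorLT]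
      simp only [μ, Finset.sum_apply, Pi.smul_apply, smul_eq_mul, wordOf_pt _ hp]
      rw [← Finset.sum_add_distrib]
      refine Finset.sum_eq_zero fun j _ => ?_
      rw [ite'_eq, tb_eq]
      split_ifs
      · rw [hlam, mul_one]; exact add_self _
      · rw [lf_zero, mul_zero, add_zero]
    · obtain ⟨d, -, hF⟩ := List.mem_flatMap.1 hF
      exact h.idF_spec (Nat.le_add_right R 7) hx' d hF
  have hrel : ∀ s < R + 7, ∃ n, Rel (w' s) n := fun s hs => by
    by_cases hsR : s < R
    · obtain ⟨n, hn, -⟩ := hx'.2 s hsR; exact ⟨n, hn⟩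
    · obtain ⟨i, rfl⟩ := Nat.exists_eq_add_of_le (not_lt.1 hsR)
      exact ⟨m i, by rw [hw2]; exact hm i⟩
  have hm' : ∀ i < 7, Rel (w' (R + i)) (m i) := fun i _ => by rw [hw2]; exact hm i
  refine ⟨fun i => m i * x i, fun i hi => by rw [map_mul, h.ker (hm i), one_mul, hxa i hi],
    fun r hr => ?_⟩
  obtain ⟨n, hn, e⟩ := hx'.2 r (by omega)
  rw [rule_append HR hr] at e
  have hk := hc r hr
  have h1 : oneC = code (π 1) := by rw [map_one, code_one]
  rw [h1] at hk
  obtain ⟨ps1, n1, ⟨t1, r1, c1⟩, e1, hk⟩ := h.pp_spec hxa hm' _ (TR_lt r hr).1 1 hk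
    (h.relP_cons (h.relP_nil w' (R + 7)) (by omega) hn 1)
  obtain ⟨ps2, n2, ⟨t2, r2, c2⟩, e2, hk⟩ := h.pp_spec hxa hm' _ (TR_lt r hr).2 1 hk
    (h.relP_nil w' (R + 7))
  have h12 : n1 = n2 := by
    refine h.eq r1 r2 fun j hj => ?_
    have hk := (allLT_iff _ _).1 hk j hj
    rw [force_eq, force_eq, force_eq, force_eq, force_eq, allLT_iff] at hk
    rw [dot_add_right, c1, c2, ← lf_Fn, ← sal_shift (Fn _ _ _), ← lf_comb w' (R + 7)
      (sal (getL 0 masks (Nat.add (Nat.mul 11 r) j))) _ (fun F hF => by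
        obtain ⟨F', hF', rfl⟩ := List.mem_map.1 hF
        rw [sal_shift]; exact hFL F' hF') 64]
    refine Finset.sum_eq_zero fun s hs => ?_
    obtain ⟨n, hn⟩ := hrel s (Finset.mem_range.1 hs)
    have := hk s (Finset.mem_range.1 hs)
    rw [force_eq] at this
    rw [← wordOf_mask, ← Nat.shiftRight_add]
    exact h.dom _ this hn
  simp only [one_mul, mul_one, inv_one] at e1 e2
  rw [e, ← mul_assoc, h.comm r1 hn, mul_assoc, h12, ← e2] at e1
  exact mul_left_cancel e1

/-! ### The Sylow subgroup splits -/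

theorem card_closure_insert_le {G : Type*} [Group G] [Finite G] (S : Set G) (a : G)
    (h1 : a * a ∈ Subgroup.closure S) (h2 : ∀ s ∈ S, a⁻¹ * s * a ∈ Subgroup.closure S) :
    Nat.card (Subgroup.closure (insert a S)) ≤ 2 * Nat.card (Subgroup.closure S) := by
  set K := Subgroup.closure S
  have key : ∀ x ∈ Subgroup.closure (insert a S), x ∈ K ∨ a⁻¹ * x ∈ K := by
    intro x hx
    rw [← Subgroup.mem_toSubmonoid, Subgroup.closure_toSubmonoid_of_finite] at hx
    induction hx using Submonoid.closure_induction_left with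
    | one => exact Or.inl K.one_mem
    | mul_left s hs y _ ih =>
      rcases hs with rfl | hs
      · rcases ih with ih | ih
        · right; simpa using ih
        · left; simpa [mul_assoc] using K.mul_mem h1 ih
      · rcases ih with ih | ih
        · exact Or.inl (K.mul_mem (Subgroup.subset_closure hs) ih)
        · right; simpa [mul_assoc] using K.mul_mem (h2 s hs) ih
  let f : Subgroup.closure (insert a S) → K ⊕ K := fun x =>
    open Classical in
    if h : (x : G) ∈ K then Sum.inl ⟨x, h⟩ else Sum.inr ⟨a⁻¹ * x, (key x x.2).resolve_left h⟩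
  have hf : Function.Injective f := by
    intro x y e
    simp only [f] at e
    split_ifs at e
    · exact Subtype.ext (by simpa using e)
    · exact Subtype.ext (by simpa using e)
  have := Nat.card_le_card_of_injective f hf
  rwa [Nat.card_sum, ← two_mul] at this

set_option synthInstance.maxSize 1024 in
theorem TR_shape : ∀ k < 7, ∀ j < 7, k ≤ j → j * (j + 1) / 2 + k < 28 ∧
    (rule TR (j * (j + 1) / 2 + k)).1 = [j, k] ∧
    (j = k → (rule TR (j * (j + 1) / 2 + k)).2 = []) ∧
    (j ≠ k → (rule TR (j * (j + 1) / 2 + k)).2 = k :: (rule TR (j * (j + 1) / 2 + k)).2.tail ∧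
      ∀ a ∈ (rule TR (j * (j + 1) / 2 + k)).2.tail, k < a ∧ a < 7) := by
  decide +kernel

theorem card_le_of_TR [Finite E] {y : ℕ → E}
    (hy : ∀ r < 28, ev y (rule TR r).1 = ev y (rule TR r).2) (i : ℕ) (hi : i ≤ 7) :
    Nat.card (Subgroup.closure (y '' {a | 7 - i ≤ a ∧ a < 7})) ≤ 2 ^ i := by
  induction i with
  | zero =>
    have : {a | 7 - 0 ≤ a ∧ a < 7} = ∅ := by ext a; simp
    rw [this]; simp
  | succ i ih =>
    have e : {a | 7 - (i + 1) ≤ a ∧ a < 7} = insert (6 - i) {a | 7 - i ≤ a ∧ a < 7} := by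
      ext a; simp only [Set.mem_ofPred_eq, Set.mem_insert_iff]; omega
    rw [e, Set.image_insert_eq, pow_succ']
    refine (card_closure_insert_le _ _ ?_ ?_).trans (Nat.mul_le_mul_left 2 (ih (by omega)))
    · obtain ⟨h1, h2, h3, -⟩ := TR_shape (6 - i) (by omega) (6 - i) (by omega) le_rfl
      have := hy _ h1
      rw [h2, h3 rfl] at this
      simp only [ev, List.map_cons, List.map_nil, List.prod_cons, List.prod_nil, mul_one] at this
      rw [this]; exact one_mem _
    · rintro _ ⟨j, hj, rfl⟩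
      obtain ⟨h1, h2, -, h3⟩ := TR_shape (6 - i) (by omega) j hj.2 (by have := hj.1; omega)
      obtain ⟨h3, h4⟩ := h3 (by have := hj.1; omega)
      have := hy _ h1
      rw [h2, h3, ev_cons, ev_cons, ev_cons] at this
      have e2 : (y (6 - i))⁻¹ * y j * y (6 - i) =
          ev y (rule TR (j * (j + 1) / 2 + (6 - i))).2.tail := by
        rw [mul_assoc, inv_mul_eq_iff_eq_mul, ← this]; simp [ev]
      rw [e2]
      refine Subgroup.list_prod_mem _ fun g hg => ?_
      obtain ⟨a, ha, rfl⟩ := List.mem_map.1 hg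
      exact Subgroup.subset_closure ⟨a, ⟨by have := (h4 a ha).1; omega, (h4 a ha).2⟩, rfl⟩

theorem card_M23 : Nat.card Cfsg.Spor.M23 = 10200960 := isM23_M23.2

/-- The splitting theorem. -/
theorem Ctx.split [Finite E] (h : Ctx π Rel okc dom cs bs) (hπ : π.range = Cfsg.Spor.M23)
    {y : ℕ → E} (hy1 : ∀ i < 7, code (π (y i)) = aC i)
    (hy2 : ∀ r < 28, ev y (rule TR r).1 = ev y (rule TR r).2) :
    ∃ H : Subgroup E, Subgroup.IsComplement' π.ker H := by
  set A := Subgroup.closure (y '' {a | 7 - 7 ≤ a ∧ a < 7})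
  have hA : Nat.card A ≤ 2 ^ 7 := card_le_of_TR hy2 7 le_rfl
  have hle : A.map π ≤ Cfsg.Spor.M23 := hπ ▸ Subgroup.map_le_range π A
  have hB : 128 ≤ Nat.card (A.map π) := by
    have h1 : 128 ≤ Nat.card ((A.map π).subgroupOf M24) := by
      refine card_ge_of_slp (l := aL) ?_ [1, 1027] 12289 2 [[2, 3, 4, 5, 6, 7, 8], [1, 0], [3]]
        (by decide +kernel)
      have : ∀ c ∈ aL, ∃ i < 7, aC i = c := by decide +kernel
      intro c hc
      obtain ⟨i, hi, rfl⟩ := this c hc
      have hm : π (y i) ∈ A.map π :=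
        Subgroup.mem_map_of_mem π (Subgroup.subset_closure ⟨i, ⟨by omega, hi⟩, rfl⟩)
      exact ⟨⟨π (y i), (hle hm).1⟩, hm, hy1 i hi⟩
    rwa [Nat.card_congr (Subgroup.subgroupOfEquivOfLe (fun g hg => (hle hg).1)).toEquiv] at h1
  have hc : Nat.card (A.map π) * Nat.card (π.domRestrict A).ker = Nat.card A := by
    rw [← MonoidHom.domRestrict_range, ← Subgroup.index_ker, Subgroup.index_mul_card]
  have hk : Nat.card (π.domRestrict A).ker = 1 := by
    have : 0 < Nat.card (π.domRestrict A).ker := Nat.card_pos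
    by_contra h1
    have : 128 * 2 ≤ Nat.card A := hc ▸ Nat.mul_le_mul hB (by omega)
    omega
  have hAK : A ⊓ π.ker = ⊥ := by
    rw [eq_bot_iff]
    rintro g ⟨hg, hg'⟩
    have : (⟨g, hg⟩ : A) ∈ (π.domRestrict A).ker := hg'
    rw [Subgroup.card_eq_one.1 hk, Subgroup.mem_bot] at this
    exact congrArg Subtype.val this
  have hB' : Nat.card (A.map π) = 128 := by rw [hk, mul_one] at hc; omega
  have : IsMulCommutative π.ker := ⟨⟨fun a b => by
    obtain ⟨w, hw⟩ := h.sur a a.2
    obtain ⟨w', hw'⟩ := h.sur b b.2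
    exact Subtype.ext (h.comm hw hw')⟩⟩
  have hp : IsPGroup 2 π.ker := fun a => by
    obtain ⟨w, hw⟩ := h.sur a a.2
    exact ⟨1, Subtype.ext (by simpa [pow_two] using h.sq hw)⟩
  obtain ⟨k, hk2⟩ := hp.exists_card_eq
  refine Solv.gaschutz_exists π.ker (π.ker ⊔ A) le_sup_left ?_ A hAK rfl
  have hi : (π.ker ⊔ A).index = 79695 := by
    rw [sup_comm, ← Subgroup.comap_map_eq, Subgroup.index_comap, hπ]
    have := ((A.map π).subgroupOf Cfsg.Spor.M23).index_mul_card
    rw [Nat.card_congr (Subgroup.subgroupOfEquivOfLe hle).toEquiv, hB', card_M23] at this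
    rw [Subgroup.relIndex]
    omega
  rw [hk2, hi]
  exact Nat.Coprime.pow_left _ (by norm_num)

/-- Existence of lifts and tails. -/
theorem Ctx.exists_rules (h : Ctx π Rel okc dom cs bs) (hπ : π.range = Cfsg.Spor.M23)
    {cL : List ℕ} {RL : List (List ℕ × List ℕ)} {R : ℕ}
    (h1 : allL cL (fun c => and' (okM c) (Nat.beq (dg c 23) 23)) = true)
    (h2 : allLT R (fun r => Nat.beq (prodC cL (rule RL r).1 oneC) (prodC cL (rule RL r).2 oneC))
      = true) : ∃ x w, Rules π Rel cL RL R x w := by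
  have hx : ∀ i, ∃ x, code (π x) = getL oneC cL i := fun i => by
    rw [getL_eq, List.getD_eq_getElem?_getD]
    cases e : cL[i]? with
    | none => exact ⟨1, by rw [map_one, code_one]; rfl⟩
    | some c =>
      have := (allL_iff _ _).1 h1 c (List.mem_of_getElem? e)
      rw [and'_eq_true, beq_iff] at this
      have hm := pc_mem_M23 this.1 this.2
      rw [← hπ] at hm
      obtain ⟨x, hx⟩ := hm
      exact ⟨x, by rw [hx, code_pc' this.1]; rfl⟩
  choose x hx using hx
  have hw : ∀ r, ∃ w, r < R → ∃ n, Rel w n ∧ ev x (rule RL r).1 = n * ev x (rule RL r).2 := by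
    intro r
    by_cases hr : r < R
    · have e := (beq_iff _ _).1 ((allLT_iff _ _).1 h2 r hr)
      rw [← code_one, ← map_one π, ← code_ev π hx, ← code_ev π hx, code_inj, one_mul,
        one_mul] at e
      obtain ⟨w, hw⟩ := h.sur (ev x (rule RL r).1 * (ev x (rule RL r).2)⁻¹) (by simp [e])
      exact ⟨w, fun _ => ⟨_, hw, by simp⟩⟩
    · exact ⟨0, fun h => absurd h hr⟩
  choose w hw using hw
  exact ⟨x, w, hx, hw⟩

/-- The mask of the point `12 + j`. -/
noncomputable def ptM (j : ℕ) : ℕ := Nat.shiftLeft 1 (Nat.add 12 j)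

/-- Masks orthogonal to `C11`. -/
noncomputable def domC (m : ℕ) : Bool := or' (isCW m) (isCW (Nat.xor m 8388608))

/-- Masks in `C11`. -/
noncomputable def okV (m : ℕ) : Bool := and' (isCW m) (not' (tb m 23))

theorem dot_ptM {j : ℕ} (hj : j < 11) (v : W) : dot (wordOf (ptM j)) v = v (pt (12 + j)) := by
  rw [ptM, shiftLeft_one]; exact dot_two_pow (by omega : 12 + j < 24) v

theorem wordOf_inf : wordOf 8388608 = Pi.single none 1 := by decide +kernel

theorem dot_domC {m : ℕ} (h : domC m = true) {a : W} (ha : a ∈ golayCode) (h0 : a none = 0) :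
    dot (wordOf m) a = 0 := by
  rw [dot_comm]
  refine dot_eq_zero_of_mem ha h0 ?_
  rcases (or'_eq_true _ _).1 h with h | h
  · exact Or.inl (wordOf_mem_of_isCW h)
  · right; rw [← wordOf_inf, ← wordOf_xor]; exact wordOf_mem_of_isCW h

theorem okV_spec {m : ℕ} (h : okV m = true) : wordOf m ∈ golayCode ∧ wordOf m none = 0 := by
  rw [okV, and'_eq_true, not'_eq_true, tb_eq] at h
  exact ⟨wordOf_mem_of_isCW h.1, by rw [← pt_23, wordOf_pt _ (by norm_num), if_neg h.2]⟩

/-- The projection of an extension of `M23` to the permutations. -/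
noncomputable def projP (N : Subgroup E) [N.Normal] (φ : E ⧸ N ≃* Cfsg.Spor.M23) :
    E →* Equiv.Perm GolayPt :=
  Cfsg.Spor.M23.subtype.comp (φ.toMonoidHom.comp (QuotientGroup.mk' N))

theorem projP_ker (N : Subgroup E) [N.Normal] (φ : E ⧸ N ≃* Cfsg.Spor.M23) :
    (projP N φ).ker = N := by
  ext g
  simp [projP, MonoidHom.mem_ker]

theorem projP_eq_one (N : Subgroup E) [N.Normal] (φ : E ⧸ N ≃* Cfsg.Spor.M23) (g : E) :
    projP N φ g = 1 ↔ g ∈ N := by rw [← MonoidHom.mem_ker, projP_ker]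

theorem projP_range (N : Subgroup E) [N.Normal] (φ : E ⧸ N ≃* Cfsg.Spor.M23) :
    (projP N φ).range = Cfsg.Spor.M23 := by
  ext σ
  constructor
  · rintro ⟨g, rfl⟩; exact (φ (QuotientGroup.mk g)).2
  · intro h
    obtain ⟨g, hg⟩ := QuotientGroup.mk_surjective (φ.symm ⟨σ, h⟩)
    exact ⟨g, by simp [projP, hg]⟩

end Cfsg.Agent.Spor.MX
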