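import Cfsg.Agent.Comp.MatClass
import Cfsg.Agent.Comp.SepSub
import Cfsg.Agent.Class.LinearBasic

set_option autoImplicit false
set_option maxRecDepth 4096

namespace Cfsg.Agent.Spor.ModelL37

open Cfsg.Agent.Comp

noncomputable def ns_0 : Net :=
 (Net.cons (nat_lit 64) (nat_lit 0x3e00000000000000)
 (Net.cons (nat_lit 32) (nat_lit 0x34c3a78000000000f1cd8aa0)
 (Net.cons (nat_lit 16) (nat_lit 0x400800009da2000021280000320d)
 (Net.cons (nat_lit 8) (nat_lit 0x4800c400b000280084008400e20050)
 (Net.cons (nat_lit 4) (nat_lit 0xa0c0600020a0c030402000408020d08)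
 (Net.cons (nat_lit 2) (nat_lit 0x10221320020000130330203021302)
 (Net.cons (nat_lit 1) (nat_lit 0x40001010011005155001501010544104)
 (Net.cons (nat_lit 2) (nat_lit 0x20020000000000000000020202)
 (Net.cons (nat_lit 4) (nat_lit 0x804020002020c000402000008020000)
 (Net.cons (nat_lit 8) (nat_lit 0x4800c4009000280084008400e20050)
 (Net.cons (nat_lit 16) (nat_lit 0x4008000099a2000021280000320c)
 (Net.cons (nat_lit 32) (nat_lit 0x24c3a78000000000f1cd8aa0)
 (Net.cons (nat_lit 64) (nat_lit 0x3e00000000000000)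
 Net.nil)))))))))))))

noncomputable def ns_1 : Net :=
 (Net.cons (nat_lit 64) (nat_lit 0xfe00000000000000)
 (Net.cons (nat_lit 32) (nat_lit 0x4ed6c0ec00000000b8b2286a)
 (Net.cons (nat_lit 16) (nat_lit 0xa9af00006e5c00007ff000002c9b)
 (Net.cons (nat_lit 8) (nat_lit 0x9e00e200400005002d003100c9007d)
 (Net.cons (nat_lit 4) (nat_lit 0xe0c00030b0c0308060b0a0508060900)
 (Net.cons (nat_lit 2) (nat_lit 0x220012122120211100223321020302)
 (Net.cons (nat_lit 1) (nat_lit 0x15150414511000040441105404141504)
 (Net.cons (nat_lit 2) (nat_lit 0x20000022020000000202200200020002)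
 (Net.cons (nat_lit 4) (nat_lit 0x8000804060e0000040c0a0a0a020404)
 (Net.cons (nat_lit 8) (nat_lit 0xb800a00004002400d8008800800038)
 (Net.cons (nat_lit 16) (nat_lit 0x35ba0000745400007f2400006ff8)
 (Net.cons (nat_lit 32) (nat_lit 0x82d7920200000000b860a624)
 (Net.cons (nat_lit 64) (nat_lit 0xfe00000000000000)
 Net.nil)))))))))))))

noncomputable def ns_2 : Net :=
 (Net.cons (nat_lit 64) (nat_lit 0x10eb1ca5968bab98)
 (Net.cons (nat_lit 32) (nat_lit 0x6115255400000000cd8177e2)
 (Net.cons (nat_lit 16) (nat_lit 0xd2d40000b43000003c2200009778)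
 (Net.cons (nat_lit 8) (nat_lit 0x3a0000006a00a80033006e00380062)
 (Net.cons (nat_lit 4) (nat_lit 0x50c020e030c060a080e030b03050f)
 (Net.cons (nat_lit 2) (nat_lit 0x32310133202000223200220202110332)
 (Net.cons (nat_lit 1) (nat_lit 0x51005005101155015014014414144145)
 (Net.cons (nat_lit 2) (nat_lit 0x2000000200200020000022022022200)
 (Net.cons (nat_lit 4) (nat_lit 0xc02080800020e080a0c0c040800)
 (Net.cons (nat_lit 8) (nat_lit 0x380000006a00a8003000640042005c)
 (Net.cons (nat_lit 16) (nat_lit 0xd2d40000b43000003c220000de6a)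
 (Net.cons (nat_lit 32) (nat_lit 0x61152554000000008f8173e0)
 (Net.cons (nat_lit 64) (nat_lit 0x10eb1ca5928b2b18)
 Net.nil)))))))))))))

noncomputable def ns_3 : Net :=
 (Net.cons (nat_lit 64) (nat_lit 0x7e00000000000000)
 (Net.cons (nat_lit 32) (nat_lit 0xa00e8ed8000000006ea82510)
 (Net.cons (nat_lit 16) (nat_lit 0x91170000163d0000c4790000feaa)
 (Net.cons (nat_lit 8) (nat_lit 0xa30054004c0023003000c000bf0010)
 (Net.cons (nat_lit 4) (nat_lit 0x6090a03050b0301030e0a050c02000a)
 (Net.cons (nat_lit 2) (nat_lit 0x32232031312103300102322203012032)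
 (Net.cons (nat_lit 1) (nat_lit 0x41144011454104114141414414411010)
 (Net.cons (nat_lit 2) (nat_lit 0x22002002202000002200202000022000)
 (Net.cons (nat_lit 4) (nat_lit 0x20a000a040002000c02000000000002)
 (Net.cons (nat_lit 8) (nat_lit 0xa000b8007000320052008800920090)
 (Net.cons (nat_lit 16) (nat_lit 0x4d1c000037cc0000e1b400006e62)
 (Net.cons (nat_lit 32) (nat_lit 0xc20ff274000000006ef13fa2)
 (Net.cons (nat_lit 64) (nat_lit 0x7e00000000000000)
 Net.nil)))))))))))))

noncomputable def ns_4 : Net :=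
 (Net.cons (nat_lit 64) (nat_lit 0xfe00000000000000)
 (Net.cons (nat_lit 32) (nat_lit 0xe2610407000000002bf3e47e)
 (Net.cons (nat_lit 16) (nat_lit 0x4106000062110000f0f00000c21a)
 (Net.cons (nat_lit 8) (nat_lit 0x7300ea00f500cd0081002400090028)
 (Net.cons (nat_lit 4) (nat_lit 0x402020d020e02080f080205040b0306)
 (Net.cons (nat_lit 2) (nat_lit 0x23311203011220032110012302121022)
 (Net.cons (nat_lit 1) (nat_lit 0x41414400141415101411045444154114)
 (Net.cons (nat_lit 2) (nat_lit 0x20200200002000002220000000000000)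
 (Net.cons (nat_lit 4) (nat_lit 0x400060c020400060c0c000000080600)
 (Net.cons (nat_lit 8) (nat_lit 0x7000d0006a003a002800000058001c)
 (Net.cons (nat_lit 16) (nat_lit 0x7744000016000000fa26000012a0)
 (Net.cons (nat_lit 32) (nat_lit 0x9263dc46000000002a834606)
 (Net.cons (nat_lit 64) (nat_lit 0xfe00000000000000)
 Net.nil)))))))))))))

noncomputable def ns_5 : Net :=
 (Net.cons (nat_lit 64) (nat_lit 0xfe00000000000000)
 (Net.cons (nat_lit 32) (nat_lit 0xfa1322bd00000000b36b8145)
 (Net.cons (nat_lit 16) (nat_lit 0x86200003afa00002ba000005d3d)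
 (Net.cons (nat_lit 8) (nat_lit 0x700087001b007e0006006400500014)
 (Net.cons (nat_lit 4) (nat_lit 0xa04030c020d0809010b0e0f0c020008)
 (Net.cons (nat_lit 2) (nat_lit 0x2012202221321022112123220210200)
 (Net.cons (nat_lit 1) (nat_lit 0x14114141540444501411015410401540)
 (Net.cons (nat_lit 2) (nat_lit 0x2202000002000002020220002020)
 (Net.cons (nat_lit 4) (nat_lit 0x40c0402080e0400080c0008040c04)
 (Net.cons (nat_lit 8) (nat_lit 0x600b800d4009e00660004007c)
 (Net.cons (nat_lit 16) (nat_lit 0xb4600000e6380000a8b400001880)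
 (Net.cons (nat_lit 32) (nat_lit 0x2a12ee7400000000b33539e8)
 (Net.cons (nat_lit 64) (nat_lit 0xfe00000000000000)
 Net.nil)))))))))))))

noncomputable def ns_6 : Net :=
 (Net.cons (nat_lit 64) (nat_lit 0xfc00000000000000)
 (Net.cons (nat_lit 32) (nat_lit 0x864089b100000000264d2f6a)
 (Net.cons (nat_lit 16) (nat_lit 0x746500007c6c0000ad6a00001902)
 (Net.cons (nat_lit 8) (nat_lit 0xce002000950047009c00a9000000a6)
 (Net.cons (nat_lit 4) (nat_lit 0x40c010805080a0907060f02010c0106)
 (Net.cons (nat_lit 2) (nat_lit 0x12201030003103103203311030322310)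
 (Net.cons (nat_lit 1) (nat_lit 0x14444111404410054144140110041014)
 (Net.cons (nat_lit 2) (nat_lit 0x2200002000020000002000020022000)
 (Net.cons (nat_lit 4) (nat_lit 0x404080800000e0c020800000e0c0c)
 (Net.cons (nat_lit 8) (nat_lit 0x8c0030003400d20010008a009800ca)
 (Net.cons (nat_lit 16) (nat_lit 0xd8260000a1580000abbe00000080)
 (Net.cons (nat_lit 32) (nat_lit 0x9a416740000000002675abde)
 (Net.cons (nat_lit 64) (nat_lit 0xfc00000000000000)
 Net.nil)))))))))))))

noncomputable def ns_7 : Net :=
 (Net.cons (nat_lit 64) (nat_lit 0xf400000000000000)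
 (Net.cons (nat_lit 32) (nat_lit 0x3af84b5f00000000f7add004)
 (Net.cons (nat_lit 16) (nat_lit 0x2450000077060000389700002a40)
 (Net.cons (nat_lit 8) (nat_lit 0xae0056000000d9007c009200eb00dc)
 (Net.cons (nat_lit 4) (nat_lit 0xc030b0801000209040f0a07020c0902)
 (Net.cons (nat_lit 2) (nat_lit 0x20321103230221200323310120103012)
 (Net.cons (nat_lit 1) (nat_lit 0x14055405140411444004455041501404)
 (Net.cons (nat_lit 2) (nat_lit 0x200220222202000200022002000)
 (Net.cons (nat_lit 4) (nat_lit 0x40008040600020802000e0c0a0c0402)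
 (Net.cons (nat_lit 8) (nat_lit 0xd60016000200200010005600c80094)
 (Net.cons (nat_lit 16) (nat_lit 0x669a000086040000ca1000002208)
 (Net.cons (nat_lit 32) (nat_lit 0xefad67400000000f70a008c)
 (Net.cons (nat_lit 64) (nat_lit 0xf400000000000000)
 Net.nil)))))))))))))

noncomputable def ns_8 : Net :=
 (Net.cons (nat_lit 64) (nat_lit 0xfe00000000000000)
 (Net.cons (nat_lit 32) (nat_lit 0x5cd29040000000003abdcfa8)
 (Net.cons (nat_lit 16) (nat_lit 0xd7100000a8430000af1c000058c0)
 (Net.cons (nat_lit 8) (nat_lit 0xfb00a4007e001800b300140096004c)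
 (Net.cons (nat_lit 4) (nat_lit 0x5070607000d050c030a090e0c040a06)
 (Net.cons (nat_lit 2) (nat_lit 0x11023001212303200133310113330330)
 (Net.cons (nat_lit 1) (nat_lit 0x41441011411410441411501414410)
 (Net.cons (nat_lit 2) (nat_lit 0x2202000220000000022200)
 (Net.cons (nat_lit 4) (nat_lit 0x40408060c0c0e00040c0400080804)
 (Net.cons (nat_lit 8) (nat_lit 0x280040007e009800a400160042002a)
 (Net.cons (nat_lit 16) (nat_lit 0x55000000fb4e0000b4c00000dc5a)
 (Net.cons (nat_lit 32) (nat_lit 0x48d0611c000000003a0b8d48)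
 (Net.cons (nat_lit 64) (nat_lit 0xfe00000000000000)
 Net.nil)))))))))))))

noncomputable def ns_9 : Net :=
 (Net.cons (nat_lit 64) (nat_lit 0xec00000000000000)
 (Net.cons (nat_lit 32) (nat_lit 0xfd0225bf00000000495a7d2a)
 (Net.cons (nat_lit 16) (nat_lit 0x938000039770000e2dc00004eaa)
 (Net.cons (nat_lit 8) (nat_lit 0xa7004e00dd00ea00ac0079003d0082)
 (Net.cons (nat_lit 4) (nat_lit 0x105010e0d000409000b0b010c0c0400)
 (Net.cons (nat_lit 2) (nat_lit 0x22303123320020312102120002131010)
 (Net.cons (nat_lit 1) (nat_lit 0x41104041141104514441440440145150)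
 (Net.cons (nat_lit 2) (nat_lit 0x20002022222000022022020000200000)
 (Net.cons (nat_lit 4) (nat_lit 0xc04060408080a08020e080800040a)
 (Net.cons (nat_lit 8) (nat_lit 0x86000a0038000000c6006000600080)
 (Net.cons (nat_lit 16) (nat_lit 0x743a000033fa0000ab000000ce92)
 (Net.cons (nat_lit 32) (nat_lit 0x11034cc000000000495dc192)
 (Net.cons (nat_lit 64) (nat_lit 0xec00000000000000)
 Net.nil)))))))))))))

noncomputable def ns_10 : Net :=
 (Net.cons (nat_lit 64) (nat_lit 0xec00000000000000)
 (Net.cons (nat_lit 32) (nat_lit 0x6e38727b00000000f73cc426)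
 (Net.cons (nat_lit 16) (nat_lit 0xf76000001fe10000be4b00007e24)
 (Net.cons (nat_lit 8) (nat_lit 0x3004400fe005c001300d600ec007e)
 (Net.cons (nat_lit 4) (nat_lit 0xa050205080f000a0f0f0c0201030300)
 (Net.cons (nat_lit 2) (nat_lit 0x12012023010323001003011221102100)
 (Net.cons (nat_lit 1) (nat_lit 0x44040404011141104454054540054500)
 (Net.cons (nat_lit 2) (nat_lit 0x22020202020002200200002000000000)
 (Net.cons (nat_lit 4) (nat_lit 0xa0400080e000402020a0c0c0a020000)
 (Net.cons (nat_lit 8) (nat_lit 0xc2009e0080008e0084008800fe)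
 (Net.cons (nat_lit 16) (nat_lit 0x91600000af6400004de200007726)
 (Net.cons (nat_lit 32) (nat_lit 0x4a3b73d400000000f7385c26)
 (Net.cons (nat_lit 64) (nat_lit 0xec00000000000000)
 Net.nil)))))))))))))

noncomputable def ns_11 : Net :=
 (Net.cons (nat_lit 64) (nat_lit 0xe400000000000000)
 (Net.cons (nat_lit 32) (nat_lit 0x3312f88d00000000814a630c)
 (Net.cons (nat_lit 16) (nat_lit 0x75c50000189500008d0800003624)
 (Net.cons (nat_lit 8) (nat_lit 0x5400d700ea00e200050035003e004e)
 (Net.cons (nat_lit 4) (nat_lit 0xb0600020c050c0c0005060408010408)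
 (Net.cons (nat_lit 2) (nat_lit 0x3210213323001200100030123302212)
 (Net.cons (nat_lit 1) (nat_lit 0x5401050145041410005141504414154)
 (Net.cons (nat_lit 2) (nat_lit 0x20000020002200200)
 (Net.cons (nat_lit 4) (nat_lit 0xc060208080008040002000c0c00080c)
 (Net.cons (nat_lit 8) (nat_lit 0x1200f4009a00200008008400740052)
 (Net.cons (nat_lit 16) (nat_lit 0x92c60000d45a00000c38000037f0)
 (Net.cons (nat_lit 32) (nat_lit 0x171045ee00000000809eb2d4)
 (Net.cons (nat_lit 64) (nat_lit 0xe400000000000000)
 Net.nil)))))))))))))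

noncomputable def ns_12 : Net :=
 (Net.cons (nat_lit 64) (nat_lit 0x6800000000000000)
 (Net.cons (nat_lit 32) (nat_lit 0xb020d400000000004b348020)
 (Net.cons (nat_lit 16) (nat_lit 0x959000004e0a000053c00000b5c0)
 (Net.cons (nat_lit 8) (nat_lit 0xa2003a007200a000d20096001000e0)
 (Net.cons (nat_lit 4) (nat_lit 0x60108070a0007000a08080a040f0500)
 (Net.cons (nat_lit 2) (nat_lit 0x2002231012002130030022330201320)
 (Net.cons (nat_lit 1) (nat_lit 0x11004041504144051051500000111440)
 (Net.cons (nat_lit 2) (nat_lit 0x2002020002020000000000000020220)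
 (Net.cons (nat_lit 4) (nat_lit 0x20008000a0008000208080004000200)
 (Net.cons (nat_lit 8) (nat_lit 0x20032007200a000d2001400100060)
 (Net.cons (nat_lit 16) (nat_lit 0x959000004e0a000052800000b5c0)
 (Net.cons (nat_lit 32) (nat_lit 0xb020d400000000004b348020)
 (Net.cons (nat_lit 64) (nat_lit 0x6800000000000000)
 Net.nil)))))))))))))

noncomputable def ns_13 : Net :=
 (Net.cons (nat_lit 64) (nat_lit 0xfe00000000000000)
 (Net.cons (nat_lit 32) (nat_lit 0x81b72e1f00000000c1cad836)
 (Net.cons (nat_lit 16) (nat_lit 0x15650000be830000d9a100001942)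
 (Net.cons (nat_lit 8) (nat_lit 0xce007b001c005200f700fc001b007c)
 (Net.cons (nat_lit 4) (nat_lit 0x80705050a0502090e09000607090b0a)
 (Net.cons (nat_lit 2) (nat_lit 0x1131231021233103202310012111120)
 (Net.cons (nat_lit 1) (nat_lit 0x4501154404441100441144011111014)
 (Net.cons (nat_lit 2) (nat_lit 0x2002000202200002022002222000)
 (Net.cons (nat_lit 4) (nat_lit 0x808060a0004040e0800020404000804)
 (Net.cons (nat_lit 8) (nat_lit 0xa005200d4005a006600bc000000a4)
 (Net.cons (nat_lit 16) (nat_lit 0xc9640000c6c00000d8e000000d60)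
 (Net.cons (nat_lit 32) (nat_lit 0x75b76e3600000000c0775244)
 (Net.cons (nat_lit 64) (nat_lit 0xfe00000000000000)
 Net.nil)))))))))))))

noncomputable def ns_14 : Net :=
 (Net.cons (nat_lit 64) (nat_lit 0xfe00000000000000)
 (Net.cons (nat_lit 32) (nat_lit 0x9413c2cc00000000516663ba)
 (Net.cons (nat_lit 16) (nat_lit 0xed5a000042de000072dc0000bb46)
 (Net.cons (nat_lit 8) (nat_lit 0xac006e006b00d9005300dd003800a8)
 (Net.cons (nat_lit 4) (nat_lit 0x803000f03020607060a0109000a0204)
 (Net.cons (nat_lit 2) (nat_lit 0x20302230032123030311101221210330)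
 (Net.cons (nat_lit 1) (nat_lit 0x11041415415400050411044115514040)
 (Net.cons (nat_lit 2) (nat_lit 0x20022200220200000220000000002000)
 (Net.cons (nat_lit 4) (nat_lit 0x806000c000c000c04000c04080e040a)
 (Net.cons (nat_lit 8) (nat_lit 0xe600ce0010007a0070008000bc00e0)
 (Net.cons (nat_lit 16) (nat_lit 0x435800008fbe000063640000b7f8)
 (Net.cons (nat_lit 32) (nat_lit 0xd813fc360000000050811130)
 (Net.cons (nat_lit 64) (nat_lit 0xfe00000000000000)
 Net.nil)))))))))))))

noncomputable def ns_15 : Net :=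
 (Net.cons (nat_lit 64) (nat_lit 0xc8c79ecaeeebdbfc)
 (Net.cons (nat_lit 32) (nat_lit 0xcad6de930000000057aaf46c)
 (Net.cons (nat_lit 16) (nat_lit 0x5e8500003cfd000068d40000e346)
 (Net.cons (nat_lit 8) (nat_lit 0x5200010001002a00df00ea000f005a)
 (Net.cons (nat_lit 4) (nat_lit 0x80402020d010a040b080b010d030503)
 (Net.cons (nat_lit 2) (nat_lit 0x32230211001232001302010002130003)
 (Net.cons (nat_lit 1) (nat_lit 0x14144151140414411554014054041415)
 (Net.cons (nat_lit 2) (nat_lit 0x20222202200020222002002002022020)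
 (Net.cons (nat_lit 4) (nat_lit 0x4020404040408000e00000e040c02)
 (Net.cons (nat_lit 8) (nat_lit 0x4200c000e800e600f200e8004e0078)
 (Net.cons (nat_lit 16) (nat_lit 0x9e0200000cb20000196e00006724)
 (Net.cons (nat_lit 32) (nat_lit 0x429605d2000000007191f4f8)
 (Net.cons (nat_lit 64) (nat_lit 0xc8c46a89104d0214)
 Net.nil)))))))))))))

noncomputable def ns_16 : Net :=
 (Net.cons (nat_lit 64) (nat_lit 0xfc00000000000000)
 (Net.cons (nat_lit 32) (nat_lit 0x4c969cf40000000003a8a468)
 (Net.cons (nat_lit 16) (nat_lit 0xca0f000015ff00005d910000ac7c)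
 (Net.cons (nat_lit 8) (nat_lit 0x54004400be005200a1006d00280068)
 (Net.cons (nat_lit 4) (nat_lit 0xe0d09080d0208010b0408020d050106)
 (Net.cons (nat_lit 2) (nat_lit 0x32301301301023123013030031010232)
 (Net.cons (nat_lit 1) (nat_lit 0x40144104100541011104440050444014)
 (Net.cons (nat_lit 2) (nat_lit 0x20220202000000000200020000000022)
 (Net.cons (nat_lit 4) (nat_lit 0x60c080a0c08020206000c000400000e)
 (Net.cons (nat_lit 8) (nat_lit 0xd600a0007a001000ee006e0070001c)
 (Net.cons (nat_lit 16) (nat_lit 0x5a8c00004abe00005ca40000a08c)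
 (Net.cons (nat_lit 32) (nat_lit 0x649769380000000003e755a4)
 (Net.cons (nat_lit 64) (nat_lit 0xfc00000000000000)
 Net.nil)))))))))))))

noncomputable def ns_17 : Net :=
 (Net.cons (nat_lit 64) (nat_lit 0xfc00000000000000)
 (Net.cons (nat_lit 32) (nat_lit 0x8fef2188000000008ec12eb6)
 (Net.cons (nat_lit 16) (nat_lit 0xd25400000b0d000098dd0000691e)
 (Net.cons (nat_lit 8) (nat_lit 0x61001c000f004c0029002200780026)
 (Net.cons (nat_lit 4) (nat_lit 0x10f00020b04000d0b090008000f0506)
 (Net.cons (nat_lit 2) (nat_lit 0x20210331011000202201031202221230)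
 (Net.cons (nat_lit 1) (nat_lit 0x41114051500110541101414011044414)
 (Net.cons (nat_lit 2) (nat_lit 0x20000000000020000202220002022222)
 (Net.cons (nat_lit 4) (nat_lit 0x2080c080e0400040808000800040000)
 (Net.cons (nat_lit 8) (nat_lit 0x480034000800cc00a0000a002000f4)
 (Net.cons (nat_lit 16) (nat_lit 0x81dc0000e31e0000973c000059a8)
 (Net.cons (nat_lit 32) (nat_lit 0xe3ec7198000000008fcbf42a)
 (Net.cons (nat_lit 64) (nat_lit 0xfc00000000000000)
 Net.nil)))))))))))))

noncomputable def ns_18 : Net :=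
 (Net.cons (nat_lit 64) (nat_lit 0xfc00000000000000)
 (Net.cons (nat_lit 32) (nat_lit 0xa185d16500000000002c4584)
 (Net.cons (nat_lit 16) (nat_lit 0xf41f00009f5000001f390000056e)
 (Net.cons (nat_lit 8) (nat_lit 0xd400f700c3001600790043001d0052)
 (Net.cons (nat_lit 4) (nat_lit 0x10d0a0a020808050c000008030f0b08)
 (Net.cons (nat_lit 2) (nat_lit 0x23030301030030120322001223313100)
 (Net.cons (nat_lit 1) (nat_lit 0x11014414110114444411011104541404)
 (Net.cons (nat_lit 2) (nat_lit 0x22020000000200020222000202002202)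
 (Net.cons (nat_lit 4) (nat_lit 0x40c0e040804080a00020406040800)
 (Net.cons (nat_lit 8) (nat_lit 0x40005000b0008e006800620008001a)
 (Net.cons (nat_lit 16) (nat_lit 0xa19e0000df2800001fcc00002f28)
 (Net.cons (nat_lit 32) (nat_lit 0x4185e6c800000000005bacc0)
 (Net.cons (nat_lit 64) (nat_lit 0xfc00000000000000)
 Net.nil)))))))))))))

noncomputable def ns_19 : Net :=
 (Net.cons (nat_lit 64) (nat_lit 0xec00000000000000)
 (Net.cons (nat_lit 32) (nat_lit 0xff256c820000000028ae54a2)
 (Net.cons (nat_lit 16) (nat_lit 0xd7850000316f0000e62d000030d0)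
 (Net.cons (nat_lit 8) (nat_lit 0xca00af009600c6001c00e900550030)
 (Net.cons (nat_lit 4) (nat_lit 0x7080005050c080b0d02000907030000)
 (Net.cons (nat_lit 2) (nat_lit 0x30210131101000103020100021113200)
 (Net.cons (nat_lit 1) (nat_lit 0x1400151011440104541401041444140)
 (Net.cons (nat_lit 2) (nat_lit 0x202022020200022002000222200)
 (Net.cons (nat_lit 4) (nat_lit 0x40c060e000000060606000800000600)
 (Net.cons (nat_lit 8) (nat_lit 0xec00d80076008600f800f0004600a8)
 (Net.cons (nat_lit 16) (nat_lit 0xe6a6000031640000ce100000f232)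
 (Net.cons (nat_lit 32) (nat_lit 0x9f2448ec0000000029f81052)
 (Net.cons (nat_lit 64) (nat_lit 0xec00000000000000)
 Net.nil)))))))))))))

noncomputable def ns_20 : Net :=
 (Net.cons (nat_lit 64) (nat_lit 0xfc00000000000000)
 (Net.cons (nat_lit 32) (nat_lit 0x4143a92e000000001f7744ec)
 (Net.cons (nat_lit 16) (nat_lit 0x51330000246c000015490000ded4)
 (Net.cons (nat_lit 8) (nat_lit 0x9d000b00ba00be00d500d60074003c)
 (Net.cons (nat_lit 4) (nat_lit 0x40509080c0c0e040e0a0207030f0c00)
 (Net.cons (nat_lit 2) (nat_lit 0x1200103202122101220323000002320)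
 (Net.cons (nat_lit 1) (nat_lit 0x10404105041001511111010014541100)
 (Net.cons (nat_lit 2) (nat_lit 0x2200022002022220000020020200)
 (Net.cons (nat_lit 4) (nat_lit 0x4080400040c02040a08060c02000000)
 (Net.cons (nat_lit 8) (nat_lit 0x8c004c00f800b000ca00ac0024007c)
 (Net.cons (nat_lit 16) (nat_lit 0x94300000dcc8000015da0000bf58)
 (Net.cons (nat_lit 32) (nat_lit 0x694224c2000000001e23e05c)
 (Net.cons (nat_lit 64) (nat_lit 0xfc00000000000000)
 Net.nil)))))))))))))

noncomputable def ns : List Net := [ns_0, ns_1, ns_2, ns_3, ns_4, ns_5, ns_6, ns_7, ns_8, ns_9, ns_10, ns_11, ns_12, ns_13, ns_14, ns_15, ns_16, ns_17, ns_18, ns_19, ns_20]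

theorem ctx : Ctx 128 7 ns := ctx_of (by decide +kernel)

open Cfsg Cfsg.Agent.Comp.Kron Cfsg.Agent.Class
open scoped MatrixGroups
set_option synthInstance.maxSize 2000

local instance fact7 : Fact (Nat.Prime 7) := ⟨by norm_num⟩

noncomputable def G_C5 : List Lvl :=
  []

noncomputable def G_ss4 : List (List ℕ) :=
  [[24]]

noncomputable def G_D4 : ℕ :=
  nat_lit 0x800000020

noncomputable def G_l4 : Lvl :=
  ⟨5, [[24]],
  tabA [(35, 1280)], 1⟩

noncomputable def G_C4 : List Lvl :=
  G_l4 :: G_C5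

noncomputable def G_ss3 : List (List ℕ) :=
  [[18], [20]]

noncomputable def G_D3 : ℕ :=
  nat_lit 0x400040918

noncomputable def G_l3 : Lvl :=
  ⟨3, [[18], [20], [24]],
  tabA [(4, 768), (18, 769), (8, 1024), (11, 4609), (34, 2048)], 3⟩

noncomputable def G_C3 : List Lvl :=
  G_l3 :: G_C4

noncomputable def G_ss2 : List (List ℕ) :=
  [[12], [14]]

noncomputable def G_D2 : ℕ :=
  nat_lit 0x1fffffbfffbf6e4

noncomputable def G_l2 : Lvl :=
  ⟨2, [[12], [14], [22], [18], [20], [24]],
  tabC 15 32767 [nat_lit 0x29040a10142588025040a0878141013108500a081548029033612140010182015400141c10229010a140000d80ae005006a005401250a0a046404283280a6612cc21880a808540c0001980a9055404a011981b1040000140d8810000140224081000000000000000000000], 3⟩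

noncomputable def G_C2 : List Lvl :=
  G_l2 :: G_C3

noncomputable def G_ss1 : List (List ℕ) :=
  [[6], [8]]

noncomputable def G_D1 : ℕ :=
  nat_lit 0x1fffffffffffffe

noncomputable def G_l1 : Lvl :=
  ⟨1, [[6], [8], [16], [12], [14], [22], [18], [20], [24]],
  tabC 15 32767 [nat_lit 0x320b260aa82c1802e0f5a04040cc072a0a560a04109821307260c040568398102614740d707130c300e7415900130f5c10c828984b207541e6024c0781026e16ac29904980c02006005907ad0a5410600150293086408b8356018307020a4c2d50383092606b8280000000], 3⟩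

noncomputable def G_C1 : List Lvl :=
  G_l1 :: G_C2

noncomputable def G_ss0 : List (List ℕ) :=
  [[0], [2]]

noncomputable def G_D0 : ℕ :=
  nat_lit 0x1ffffffffffffff

noncomputable def G_l0 : Lvl :=
  ⟨0, [[0], [2], [10], [6], [8], [16], [12], [14], [22], [18], [20], [24]],
  tabC 15 32767 [nat_lit 0x904000ac049b83890c60141c1980a80001000341980307004408c04580b37143014c0504030d100e1cc01038389100e20c03910507090e0adc404053009601e5031103b0076e14c02d8080d1510081c3d801070d101a200980180020006202db8a880e101834003850000], 3⟩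

noncomputable def G_C0 : List Lvl :=
  G_l0 :: G_C1

theorem G_lb5 : 1 ≤ Nat.card (cgrp ns G_C5) :=
  lb_nil _

theorem G_le4 : gen ns G_l4.ws ≤ gen ns G_ss4 :=
  gen_le_step ctx (tgt := [])
  (es := []) (le_refl (gen _ [])) (by decide +kernel)

theorem G_lv4 : chkLvl 128 ns G_l4 G_C5 G_D4 1 = true :=
  by decide +kernel

theorem G_lb4 : 2 ≤ Nat.card (cgrp ns G_C4) :=
  lb_step ctx G_lv4 G_lb5 (by decide +kernel)

theorem G_le3 : gen ns G_l3.ws ≤ gen ns G_ss3 :=
  gen_le_step ctx (tgt := [[24]])
  (es := [([24], [1, 1, 1, 3, 3, 1, 3, 1, 2, 2])]) G_le4 (by decide +kernel)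

theorem G_lv3 : chkLvl 128 ns G_l3 G_C4 G_D3 3 = true :=
  by decide +kernel

theorem G_lb3 : 12 ≤ Nat.card (cgrp ns G_C3) :=
  lb_step ctx G_lv3 G_lb4 (by decide +kernel)

theorem G_le2 : gen ns G_l2.ws ≤ gen ns G_ss2 :=
  gen_le_step ctx (tgt := [[18], [20], [22]])
  (es := [([18], [1, 3, 0, 2, 2, 0, 2, 1, 3, 1]), ([20], [4, 2, 5, 3, 5]), ([22], [6, 5, 5, 7, 7, 5])]) G_le3 (by decide +kernel)

theorem G_lv2 : chkLvl 128 ns G_l2 G_C3 G_D2 2 = true :=
  by decide +kernel

theorem G_lb2 : 588 ≤ Nat.card (cgrp ns G_C2) :=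
  lb_step ctx G_lv2 G_lb3 (by decide +kernel)

theorem G_le1 : gen ns G_l1.ws ≤ gen ns G_ss1 :=
  gen_le_step ctx (tgt := [[12], [14], [16]])
  (es := [([12], [2, 0, 3, 0, 0, 2]), ([14], [3, 5, 5, 3]), ([16], [7, 4, 4, 4, 6, 6, 4])]) G_le2 (by decide +kernel)

theorem G_lv1 : chkLvl 128 ns G_l1 G_C2 G_D1 2 = true :=
  by decide +kernel

theorem G_lb1 : 32928 ≤ Nat.card (cgrp ns G_C1) :=
  lb_step ctx G_lv1 G_lb2 (by decide +kernel)

theorem G_le0 : gen ns G_l0.ws ≤ gen ns G_ss0 :=
  gen_le_step ctx (tgt := [[6], [8], [10]])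
  (es := [([6], [3, 3, 1, 1, 3, 1, 3]), ([8], [3, 5, 3, 5, 2, 5, 3]), ([10], [6, 4, 6, 5, 6, 5])]) G_le1 (by decide +kernel)

theorem G_lv0 : chkLvl 128 ns G_l0 G_C1 G_D0 2 = true :=
  by decide +kernel

theorem G_lb0 : 1876896 ≤ Nat.card (cgrp ns G_C0) :=
  lb_step ctx G_lv0 G_lb1 (by decide +kernel)

theorem G_lb : 1876896 ≤ Nat.card (gen ns G_ss0) :=
  lb_of_le ctx G_le0 G_lb0

noncomputable def X_C5 : List Lvl :=
  []

noncomputable def X_ss4 : List (List ℕ) :=
  [[24]]

noncomputable def X_D4 : ℕ :=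
  nat_lit 0x800000020

noncomputable def X_l4 : Lvl :=
  ⟨5, [[24]],
  tabA [(35, 1280)], 1⟩

noncomputable def X_C4 : List Lvl :=
  X_l4 :: X_C5

noncomputable def X_ss3 : List (List ℕ) :=
  [[38], [19]]

noncomputable def X_D3 : ℕ :=
  nat_lit 0x400040918

noncomputable def X_l3 : Lvl :=
  ⟨3, [[38], [19], [24]],
  tabA [(8, 768), (11, 769), (18, 770), (4, 771), (34, 2051)], 2⟩

noncomputable def X_C3 : List Lvl :=
  X_l3 :: X_C4

noncomputable def X_ss2 : List (List ℕ) :=
  [[32], [34]]

noncomputable def X_D2 : ℕ :=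
  nat_lit 0x1fffffbfffbf6e4

noncomputable def X_l2 : Lvl :=
  ⟨2, [[32], [34], [40], [38], [19], [24]],
  tabC 15 32767 [nat_lit 0xf003010381480524001e08441c88085071e0244012051007400e8028c03180a0402142120182040a14000088302001c049019204a00440104014284a000540a7010882980948100000101200204060815701a00900009c153810000220444250018000000000000000000], 3⟩

noncomputable def X_C2 : List Lvl :=
  X_l2 :: X_C3

noncomputable def X_ss1 : List (List ℕ) :=
  [[26], [28]]

noncomputable def X_D1 : ℕ :=
  nat_lit 0x1fffffffffffffe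

noncomputable def X_l1 : Lvl :=
  ⟨1, [[26], [28], [36], [32], [34], [40], [38], [19], [24]],
  tabC 15 32767 [nat_lit 0xd0d46108c3868484033e1e1c3c7049c091a0a34206832e02380a7c04683a30c2406340cf85020a02061024e001c0b020210051850d003e04343cf821f0b3e207c19701a307240204141041c0404123410080230908088c10f8284061a168c14f840104080e34080000000], 3⟩

noncomputable def X_C1 : List Lvl :=
  X_l1 :: X_C2

noncomputable def X_ss0 : List (List ℕ) :=
  [[0], [2], [4]]

noncomputable def X_D0 : ℕ :=
  nat_lit 0x3ffffffffffffffffffffffffffff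

noncomputable def X_l0 : Lvl :=
  ⟨0, [[0], [2], [4], [30], [26], [28], [36], [32], [34], [40], [38], [19], [24]],
  tabC 15 32767 [nat_lit 0xda119c4738a0806600ec019d848d153216c05c688860810101c5d48b0000100034418050700402a1c0d805b0151222c039806a01432142031807b0091a28240cc843010121a345d804200e3220983528a3011121e1808388a0100e2834318013012101a200980180020006c03180a080f10212c186848000,
 nat_lit 0x3685060676152c5d8026709ce2ae801d0908070009783f3893a0cda161810183e713ce1e201338b4b1296221c133804b14742b2c6258a87070a0d2c25d883a0ace312c433866710000c441f3844b0d9626f03b687a0070e0d2c0dd844b08], 3⟩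

noncomputable def X_C0 : List Lvl :=
  X_l0 :: X_C1

theorem X_lb5 : 1 ≤ Nat.card (cgrp ns X_C5) :=
  lb_nil _

theorem X_le4 : gen ns X_l4.ws ≤ gen ns X_ss4 :=
  gen_le_step ctx (tgt := [])
  (es := []) (le_refl (gen _ [])) (by decide +kernel)

theorem X_lv4 : chkLvl 128 ns X_l4 X_C5 X_D4 1 = true :=
  by decide +kernel

theorem X_lb4 : 2 ≤ Nat.card (cgrp ns X_C4) :=
  lb_step ctx X_lv4 X_lb5 (by decide +kernel)

theorem X_le3 : gen ns X_l3.ws ≤ gen ns X_ss3 :=
  gen_le_step ctx (tgt := [[24]])
  (es := [([24], [0, 0, 0])]) X_le4 (by decide +kernel)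

theorem X_lv3 : chkLvl 128 ns X_l3 X_C4 X_D3 2 = true :=
  by decide +kernel

theorem X_lb3 : 12 ≤ Nat.card (cgrp ns X_C3) :=
  lb_step ctx X_lv3 X_lb4 (by decide +kernel)

theorem X_le2 : gen ns X_l2.ws ≤ gen ns X_ss2 :=
  gen_le_step ctx (tgt := [[38], [19], [40]])
  (es := [([38], [3, 3, 3, 1, 1, 2, 0, 2, 2, 1, 2]), ([19], [2, 5, 3, 4, 4, 2, 2, 2, 4]), ([40], [6, 4, 6, 5, 6, 6, 4])]) X_le3 (by decide +kernel)

theorem X_lv2 : chkLvl 128 ns X_l2 X_C3 X_D2 2 = true :=
  by decide +kernel

theorem X_lb2 : 588 ≤ Nat.card (cgrp ns X_C2) :=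
  lb_step ctx X_lv2 X_lb3 (by decide +kernel)

theorem X_le1 : gen ns X_l1.ws ≤ gen ns X_ss1 :=
  gen_le_step ctx (tgt := [[32], [34], [36]])
  (es := [([32], [0, 0, 3, 1, 2, 0, 3]), ([34], [3, 4, 3, 4, 3, 4, 2, 5, 5, 5, 2, 5]), ([36], [7, 4, 4, 7, 4, 7, 4])]) X_le2 (by decide +kernel)

theorem X_lv1 : chkLvl 128 ns X_l1 X_C2 X_D1 2 = true :=
  by decide +kernel

theorem X_lb1 : 32928 ≤ Nat.card (cgrp ns X_C1) :=
  lb_step ctx X_lv1 X_lb2 (by decide +kernel)

theorem X_le0 : gen ns X_l0.ws ≤ gen ns X_ss0 :=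
  gen_le_step ctx (tgt := [[26], [28], [30]])
  (es := [([26], [1, 2, 2, 4, 0, 2, 5, 3]), ([28], [7, 3, 4, 2, 5, 5, 5, 6, 2]), ([30], [9, 6, 4, 7])]) X_le1 (by decide +kernel)

theorem X_lv0 : chkLvl 128 ns X_l0 X_C1 X_D0 2 = true :=
  by decide +kernel

theorem X_lb0 : 3753792 ≤ Nat.card (cgrp ns X_C0) :=
  lb_step ctx X_lv0 X_lb1 (by decide +kernel)

theorem X_lb : 3753792 ≤ Nat.card (gen ns X_ss0) :=
  lb_of_le ctx X_le0 X_lb0

theorem hq : ∀ a : Fin 3, a.val < 3 ∧ (fun i => Fin.ofNat 3 i) a.val = a :=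
  isEnum_fin' 3

noncomputable def MASK : ℕ :=
  nat_lit 0xfffc0000003fff0000000fffc0000000000fffc0000003fff0000000fffc0000000000fffc0000003fff0000000fffc0000000000000000000000000000000

noncomputable def MOD : ℕ :=
  nat_lit 0x3fffffffffffffffffffffffffffffff

noncomputable def DW : ℕ :=
  nat_lit 0x40000000000000000000000000000001000000000000000000000000000000040000000000000000000000000000000

noncomputable def Cw : ℕ :=
  nat_lit 0x10000000000000100000000000001

noncomputable def QM : ℕ :=
  nat_lit 0xf003c00f003c00f003c00f003c00f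

noncomputable def op : ℕ → ℕ → ℕ :=
  opP 7 147 10 QM MASK MOD

theorem X : Kron.Ctx (fun i => Fin.ofNat 3 i) (1 : ZMod 7) 14 3 1 3 7 op DW :=
  ctx_odd (isEnum_fin 3) (isBase_zmod 7) Cw (by decide +kernel)

noncomputable def o : ℕ :=
  nat_lit 0x10000000000000100000000000001

theorem ho : matB 14 3 1 3 7 oneCode o = true :=
  by decide +kernel

noncomputable def S : ℕ → ℕ :=
  tabC 126 (ones 126) [nat_lit 0x10004000000400000040000000000000000100000020000001000000000000000004000001000000040000000000001800100000010000001000000000000010004000000000000040000000000000000100000010000001000000000000000004000000000000040000000000001400100000000000000000000000000020004000000000000000000000000001000100000000000000000000000000030004000000000000000000000000001800100000000000000000000000000010004000000000000000010000000000000000000000000000000000000000000000000001800100040000000000000000000000060010001000000000000000000000000c0040004000000000000000000000002001800100000000000000000000000140020004000000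000000000000000004000c001000000000000000000000000c0060004000000000000000000000006000c001000000000000000000000001400600040000000000000000000000060014001000000000000000000000000800500040000000000000000000000040018001000000000000000000000001800200040000000000000000000000060018001000000000000000000000000400600040000000000000000100000000000000000000000000000000000001800000040000000000000000000000050004001000000000000000000000000c0010004000000000000000000000002000c001000000000000000000000000c0020004000000000000000000000005000c001000000000000000000000000c0030004000000000000000000000001000c001000000000000000000000001000500040000000000000000000000050010001000000000000000000000000800400040000000000000000000000040008001000000000000000000000000c00500040000000000000000000000050014001000000000000000000000000400500040000000000000000000000000018001000000000000000000000000c00000040000000000000000000000040004001000000000000000000000001400000040000000000000000000000020004001000000000000000000000000800200040000000000000000000000010008001000000000000000000000000000300040000000000000000000000040010001000000000000000000000000400400040000000000000000000000000014001000000000000000000000000800000040000000000000000000000040000001000000000000000000000000400100040000000000000000000000000008001000000000000000000000000000400040000000000000000000000010000001000000000000000000000000000100040000000000000000000000000000001,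
 nat_lit 0x40000000000000000000000060004000000000000180010000006000000100040000000000000000000000000004001000000000000010000000000000000040000000000000000000000050004001000000000000000000000000c001000000000000030004000000c00000040000000000001400100000060000001000000000000060004000001400000040000000000001800100000000000001000000000000040004000001800000040000000000000c00100000060000001000000000000040004000001400000040000000000001400100000050000001000000000000020004000000800000040000000000001400100000040000001000000000000030004000000800000040000000000000800100000040000001000000000000010004000000c00000040000000000000000100000060000001000400000000000000000000000400040010000000000000000000000008001000000000000060004000000c00000040000000000000800100000030000001000000000000040004000000800000040000000000000c00100000050000001000000000000030004000000400000040000000000001400100000030000001000000000000060004000001000000040000000000000c001000000000000010000000000000200040000014000000400000000000010001000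00010000001000000000000050004000000000000040000000000001000100000030000001000000000000010004000001400000040000000000000800100000060000001000000000000020004000000400000040000000000001000100000040000001000000000000010004000000800000040000000000000000100000030000001000000000000050004000000800000040000000000000400100000040000001000000000000000004000001400000040010000000000000000000000004001000000000000060004000000800000040000000000000c00100000040000001000000000000050004000000400000040000000000000800100000000000001000000000000040004000000000000040000000000000400100000060000001]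

theorem hS : validT 14 3 3 7 114 S = true :=
  by decide +kernel

/-- the points -/
noncomputable def pt : ℕ → Sub (Fin 3) (ZMod 7) := subPt (fun i => Fin.ofNat 3 i) (1 : ZMod 7) 14 3 3 S

noncomputable def C0 : ℕ :=
  nat_lit 0xc003000c00100080020018005

theorem act0 : ∀ g : GL (Fin 3) (ZMod 7), RepE (fun i => Fin.ofNat 3 i) (1 : ZMod 7) 14 3 3 7 C0 g → RepBy 114 pt g (wp ns [0]) :=
  fun _ hg => X.repBy_of_chkProj ctx hS hg (by decide +kernel)

theorem rep0 : ∃ g ∈ (Matrix.SpecialLinearGroup.toGL : SL(3, ZMod 7) →* GL (Fin 3) (ZMod 7)).range, RepBy 114 pt g (wp ns [0]) :=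
  by
  obtain ⟨g, hg⟩ := X.exists_repE' ho (C := C0) (nat_lit 0xc003000c00100080020018005) (by decide +kernel)
  have hm := X.coe_eq_matS hq hg
  exact ⟨g, ⟨⟨g, by rw [hm, Matrix.det_fin_three]; decide +kernel⟩, Units.ext rfl⟩, act0 g hg⟩

noncomputable def C1 : ℕ :=
  nat_lit 0x800200100020008000000c002

theorem act1 : ∀ g : GL (Fin 3) (ZMod 7), RepE (fun i => Fin.ofNat 3 i) (1 : ZMod 7) 14 3 3 7 C1 g → RepBy 114 pt g (wp ns [2]) :=
  fun _ hg => X.repBy_of_chkProj ctx hS hg (by decide +kernel)

theorem rep1 : ∃ g ∈ (Matrix.SpecialLinearGroup.toGL : SL(3, ZMod 7) →* GL (Fin 3) (ZMod 7)).range, RepBy 114 pt g (wp ns [2]) :=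
  by
  obtain ⟨g, hg⟩ := X.exists_repE' ho (C := C1) (nat_lit 0x50008000001800000040050000006) (by decide +kernel)
  have hm := X.coe_eq_matS hq hg
  exact ⟨g, ⟨⟨g, by rw [hm, Matrix.det_fin_three]; decide +kernel⟩, Units.ext rfl⟩, act1 g hg⟩

noncomputable def ls : List (List ℕ) :=
  [[0], [2]]

theorem repsL : Reps 114 pt (Matrix.SpecialLinearGroup.toGL : SL(3, ZMod 7) →* GL (Fin 3) (ZMod 7)).range ns ls :=
  Reps.cons rep0 (Reps.cons rep1 (Reps.nil))

theorem sep0 : Sep 114 pt 0 :=
  X.sep_of_chkSepSub2 hS (by decide +kernel)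

theorem sep57 : Sep 114 pt 57 :=
  X.sep_of_chkSepSub2 hS (by decide +kernel)

theorem inj : ∀ i < 114, ∀ j < 114, pt i = pt j → i = j :=
  repsL.inj ctx (ps := [0, 57]) 8 (List.forall_mem_cons.2 ⟨sep0, List.forall_mem_cons.2 ⟨sep57, fun _ h => absurd h List.not_mem_nil⟩⟩) (by decide +kernel)

theorem card : Nat.card (Matrix.ProjectiveSpecialLinearGroup (Fin 3) (ZMod 7)) = 1876896 :=
  by
  have h1 := gcd_mul_card_PSL (ι := Fin 3) (F := ZMod 7)
  have h2 := card_units_mul_card_SL (ι := Fin 3) (R := ZMod 7)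
  rw [← h1, Matrix.card_GL_field, Nat.card_units, Nat.card_zmod, ZMod.card, Fintype.card_fin,
    show ∏ i : Fin 3, (7 ^ 3 - 7 ^ (i : ℕ)) = 33784128 by decide +kernel,
    show Nat.gcd 3 (7 - 1) = 3 by norm_num] at h2
  omega

theorem model : ∃ e : Matrix.ProjectiveSpecialLinearGroup (Fin 3) (ZMod 7) ≃* gen ns G_ss0,
    ∀ g : SL(3, ZMod 7), RepBy 114 pt (Matrix.SpecialLinearGroup.toGL g) (e g : Equiv.Perm ℕ) :=
  by
  refine repsL.exists_quot Matrix.SpecialLinearGroup.toGL inj le_rfl _ (fun z hz i _ => ?_)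
    (card.trans_le G_lb)
  obtain ⟨r, -, hr⟩ := Matrix.SpecialLinearGroup.mem_center_iff.1 hz
  refine smul_eq_of_scalar (e := r) (fun x => ?_) _
  change Matrix.mulVec (z : Matrix (Fin 3) (Fin 3) (ZMod 7)) x = r • x
  rw [← hr]
  ext i
  simp [Matrix.mulVec_diagonal]

noncomputable def equiv : Matrix.ProjectiveSpecialLinearGroup (Fin 3) (ZMod 7) ≃* gen ns G_ss0 :=
  Classical.choose model

theorem G_card : Nat.card (gen ns G_ss0) = 1876896 :=
  (Nat.card_congr equiv.toEquiv).symm.trans card

theorem G_eq : gen ns G_ss0 = cgrp ns G_C0 :=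
  eq_of_le_of_lb ctx G_le0 G_card G_lb0

theorem G_card0 : Nat.card (cgrp ns G_C0) = 1876896 :=
  G_eq ▸ G_card

theorem G_st0 : IsStab 128 (gen ns G_l0.ws) (cgrp ns G_C1) G_l0.b G_D0 :=
  isStab_known ctx G_card0 G_lb1 G_lv0 (by decide +kernel)

theorem G_card1 : Nat.card (cgrp ns G_C1) = 32928 :=
  card_step ctx G_st0 G_card0 (by decide +kernel)

theorem G_st1 : IsStab 128 (gen ns G_l1.ws) (cgrp ns G_C2) G_l1.b G_D1 :=
  isStab_known ctx G_card1 G_lb2 G_lv1 (by decide +kernel)

theorem G_card2 : Nat.card (cgrp ns G_C2) = 588 :=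
  card_step ctx G_st1 G_card1 (by decide +kernel)

theorem G_st2 : IsStab 128 (gen ns G_l2.ws) (cgrp ns G_C3) G_l2.b G_D2 :=
  isStab_known ctx G_card2 G_lb3 G_lv2 (by decide +kernel)

theorem G_card3 : Nat.card (cgrp ns G_C3) = 12 :=
  card_step ctx G_st2 G_card2 (by decide +kernel)

theorem G_st3 : IsStab 128 (gen ns G_l3.ws) (cgrp ns G_C4) G_l3.b G_D3 :=
  isStab_known ctx G_card3 G_lb4 G_lv3 (by decide +kernel)

theorem G_card4 : Nat.card (cgrp ns G_C4) = 2 :=
  card_step ctx G_st3 G_card3 (by decide +kernel)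

theorem G_st4 : IsStab 128 (gen ns G_l4.ws) (cgrp ns G_C5) G_l4.b G_D4 :=
  isStab_known ctx G_card4 G_lb5 G_lv4 (by decide +kernel)

theorem G_ver5 : Ver ns G_C5 1 :=
  ver_nil _

theorem G_ver4 : Ver ns G_C4 2 :=
  G_ver5.cons ctx G_st4 (by decide +kernel)

theorem G_ver3 : Ver ns G_C3 12 :=
  G_ver4.cons ctx G_st3 (by decide +kernel)

theorem G_ver2 : Ver ns G_C2 588 :=
  G_ver3.cons ctx G_st2 (by decide +kernel)

theorem G_ver1 : Ver ns G_C1 32928 :=
  G_ver2.cons ctx G_st1 (by decide +kernel)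

theorem G_ver0 : Ver ns G_C0 1876896 :=
  G_ver1.cons ctx G_st0 (by decide +kernel)

theorem G_supp : gen ns G_ss0 ≤ suppSub 114 :=
  gen_le_supp_of_suppW ctx (by decide +kernel)

end Cfsg.Agent.Spor.ModelL37
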