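import Cfsg.Agent.Comp.MatClass

set_option autoImplicit false
set_option maxRecDepth 4096

namespace Cfsg.Agent.Spor.ModelS44

open Cfsg.Agent.Comp

noncomputable def ns_0 : Net :=
 (Net.cons (nat_lit 64) (nat_lit 0x8306400086b0100)
 (Net.cons (nat_lit 32) (nat_lit 0x58250000000000c3811128)
 (Net.cons (nat_lit 16) (nat_lit 0x6c0000008c900000d3c800009c02)
 (Net.cons (nat_lit 8) (nat_lit 0x2800000006003c008100d800280000)
 (Net.cons (nat_lit 4) (nat_lit 0x400000008080c000004040d000c0a08)
 (Net.cons (nat_lit 2) (nat_lit 0x20200200020230020002221320200200)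
 (Net.cons (nat_lit 1) (nat_lit 0x44400100001150101000144114400140)
 (Net.cons (nat_lit 2) (nat_lit 0x20200200000200000000220220200200)
 (Net.cons (nat_lit 4) (nat_lit 0x400000008080c000000040000040808)
 (Net.cons (nat_lit 8) (nat_lit 0x2800000002003c000000d800280000)
 (Net.cons (nat_lit 16) (nat_lit 0x6c0000008c900000d3c800009c00)
 (Net.cons (nat_lit 32) (nat_lit 0x58250000000000c2811108)
 (Net.cons (nat_lit 64) (nat_lit 0x8306400086b0100)
 Net.nil)))))))))))))

noncomputable def ns_1 : Net :=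
 (Net.cons (nat_lit 64) (nat_lit 0x81d6d7fe5c58f010)
 (Net.cons (nat_lit 32) (nat_lit 0xdc97aaee000000001eb9b760)
 (Net.cons (nat_lit 16) (nat_lit 0x19ae000090780000ac800000af39)
 (Net.cons (nat_lit 8) (nat_lit 0xd400de00f800ce00ac00b000000047)
 (Net.cons (nat_lit 4) (nat_lit 0x10d03060c0a08050000000108020e0c)
 (Net.cons (nat_lit 2) (nat_lit 0x12211030000002132003203000030223)
 (Net.cons (nat_lit 1) (nat_lit 0x41000154141440444011014010114140)
 (Net.cons (nat_lit 2) (nat_lit 0x2000000200000022022002020020200)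
 (Net.cons (nat_lit 4) (nat_lit 0x8060e040a00000000000008020c04)
 (Net.cons (nat_lit 8) (nat_lit 0x9c008800f80048008400b0001800c4)
 (Net.cons (nat_lit 16) (nat_lit 0x51ec000010b80000aea00000a738)
 (Net.cons (nat_lit 32) (nat_lit 0xdcd5e998000000001e90bf60)
 (Net.cons (nat_lit 64) (nat_lit 0x81d6d7fe5c5191c4)
 Net.nil)))))))))))))

noncomputable def ns_2 : Net :=
 (Net.cons (nat_lit 64) (nat_lit 0x9800924006080200)
 (Net.cons (nat_lit 32) (nat_lit 0x98086010000000000beee928)
 (Net.cons (nat_lit 16) (nat_lit 0x40000007120000808c0000c7d0)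
 (Net.cons (nat_lit 8) (nat_lit 0x800011002c0044000c00a400c2)
 (Net.cons (nat_lit 4) (nat_lit 0x8040004020a04020e0200060e0102)
 (Net.cons (nat_lit 2) (nat_lit 0x220020002120002002220322000)
 (Net.cons (nat_lit 1) (nat_lit 0x401410401014014510051101544010)
 (Net.cons (nat_lit 2) (nat_lit 0x220000002020000002200022000)
 (Net.cons (nat_lit 4) (nat_lit 0x8040004020204020a020002080002)
 (Net.cons (nat_lit 8) (nat_lit 0x800010002c0044000c00a40042)
 (Net.cons (nat_lit 16) (nat_lit 0x40000007120000808c0000c7d0)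
 (Net.cons (nat_lit 32) (nat_lit 0x98086010000000000beee900)
 (Net.cons (nat_lit 64) (nat_lit 0x9800924006080200)
 Net.nil)))))))))))))

noncomputable def ns_3 : Net :=
 (Net.cons (nat_lit 64) (nat_lit 0x5713b5ac959a21bc)
 (Net.cons (nat_lit 32) (nat_lit 0x930b0a8800000000c8ea8f20)
 (Net.cons (nat_lit 16) (nat_lit 0x1dac0000b11600006a28000098a8)
 (Net.cons (nat_lit 8) (nat_lit 0xb80008009500750062009200fa0032)
 (Net.cons (nat_lit 4) (nat_lit 0x905000706070502040702040d0e06)
 (Net.cons (nat_lit 2) (nat_lit 0x10031000103003012202300020002200)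
 (Net.cons (nat_lit 1) (nat_lit 0x10004100401004404004404114411444)
 (Net.cons (nat_lit 2) (nat_lit 0x20000000000002002002200220202220)
 (Net.cons (nat_lit 4) (nat_lit 0x80e000406020c000406020c0c0408)
 (Net.cons (nat_lit 8) (nat_lit 0x24000800800020002000b200f200b8)
 (Net.cons (nat_lit 16) (nat_lit 0x9cac0000b4100000222800009aa8)
 (Net.cons (nat_lit 32) (nat_lit 0x961bae0400000000c08a8532)
 (Net.cons (nat_lit 64) (nat_lit 0x5713b5ac958ade8a)
 Net.nil)))))))))))))

noncomputable def ns_4 : Net :=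
 (Net.cons (nat_lit 64) (nat_lit 0x652126a58dd9ed37)
 (Net.cons (nat_lit 32) (nat_lit 0x4831667e000000002017046e)
 (Net.cons (nat_lit 16) (nat_lit 0x6e8700003a800000fe360000d3aa)
 (Net.cons (nat_lit 8) (nat_lit 0xb60024000e000100fc00aa00c0007a)
 (Net.cons (nat_lit 4) (nat_lit 0x702080e070e08040405000603060605)
 (Net.cons (nat_lit 2) (nat_lit 0x31032021110301003020023000300003)
 (Net.cons (nat_lit 1) (nat_lit 0x50040011540104404414004410541411)
 (Net.cons (nat_lit 2) (nat_lit 0x20020020000202020000020000202)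
 (Net.cons (nat_lit 4) (nat_lit 0x200080a020a08040c000004020a0406)
 (Net.cons (nat_lit 8) (nat_lit 0xb4002c0020008000b000b000420008)
 (Net.cons (nat_lit 16) (nat_lit 0x6a9600003b0000007e3c000083a8)
 (Net.cons (nat_lit 32) (nat_lit 0x4931625a00000000320b8d3e)
 (Net.cons (nat_lit 64) (nat_lit 0x652126a58dc93df0)
 Net.nil)))))))))))))

noncomputable def ns_5 : Net :=
 (Net.cons (nat_lit 64) (nat_lit 0xd02bc229b4461ddc)
 (Net.cons (nat_lit 32) (nat_lit 0xc4658f1a000000006020cdf4)
 (Net.cons (nat_lit 16) (nat_lit 0xd7220000003d00000d440000369c)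
 (Net.cons (nat_lit 8) (nat_lit 0x9000800e0003000340014001d0004)
 (Net.cons (nat_lit 4) (nat_lit 0xe0404010004020903000e0800090600)
 (Net.cons (nat_lit 2) (nat_lit 0x23221000000020001100030000022020)
 (Net.cons (nat_lit 1) (nat_lit 0x1444000104410500140451414044110)
 (Net.cons (nat_lit 2) (nat_lit 0x2220000000220000200000200002020)
 (Net.cons (nat_lit 4) (nat_lit 0xa000c000000000002000e0c02080600)
 (Net.cons (nat_lit 8) (nat_lit 0x8001000e000d00070004400140004)
 (Net.cons (nat_lit 16) (nat_lit 0xd3280000301c000001e400003788)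
 (Net.cons (nat_lit 32) (nat_lit 0xc4644f1a000000006224d870)
 (Net.cons (nat_lit 64) (nat_lit 0xd02bc229b4468084)
 Net.nil)))))))))))))

noncomputable def ns_6 : Net :=
 (Net.cons (nat_lit 64) (nat_lit 0x3288d3b534e008e0)
 (Net.cons (nat_lit 32) (nat_lit 0x25195100000000080333c68)
 (Net.cons (nat_lit 16) (nat_lit 0xf38800006c2600002d20000069d6)
 (Net.cons (nat_lit 8) (nat_lit 0xc3000400b200ec0004004000830042)
 (Net.cons (nat_lit 4) (nat_lit 0xc080009080e0e0c0000010000040804)
 (Net.cons (nat_lit 2) (nat_lit 0x1100020023003100000100220300210)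
 (Net.cons (nat_lit 1) (nat_lit 0x4010014404054114410000040450100)
 (Net.cons (nat_lit 2) (nat_lit 0x20000000000020000000000200000)
 (Net.cons (nat_lit 4) (nat_lit 0xc080008080c020c0000000000040800)
 (Net.cons (nat_lit 8) (nat_lit 0x52002000b800c800200040008a0042)
 (Net.cons (nat_lit 16) (nat_lit 0xe39800005c8200002d20000069c2)
 (Net.cons (nat_lit 32) (nat_lit 0x3259c5000000000000333c60)
 (Net.cons (nat_lit 64) (nat_lit 0x3288d3b534e008e0)
 Net.nil)))))))))))))

noncomputable def ns_7 : Net :=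
 (Net.cons (nat_lit 64) (nat_lit 0xd989830d48aea7b4)
 (Net.cons (nat_lit 32) (nat_lit 0x583adfc700000000916e3f84)
 (Net.cons (nat_lit 16) (nat_lit 0x4d0b0000d31500006ba400001e44)
 (Net.cons (nat_lit 8) (nat_lit 0x11000900080070009c0014002c008e)
 (Net.cons (nat_lit 4) (nat_lit 0xd080204000d00050108050000050e04)
 (Net.cons (nat_lit 2) (nat_lit 0x30001200020200001030201200122002)
 (Net.cons (nat_lit 1) (nat_lit 0x10015141014100041004400410040054)
 (Net.cons (nat_lit 2) (nat_lit 0x20020202000200002002200200000002)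
 (Net.cons (nat_lit 4) (nat_lit 0xa0208080400000a06040400000806)
 (Net.cons (nat_lit 8) (nat_lit 0x1800820080005000440010002c0068)
 (Net.cons (nat_lit 16) (nat_lit 0xcd080000d314000048e000001a36)
 (Net.cons (nat_lit 32) (nat_lit 0x10b3ddc200000000936c07d4)
 (Net.cons (nat_lit 64) (nat_lit 0xd989830d48a48042)
 Net.nil)))))))))))))

noncomputable def ns_8 : Net :=
 (Net.cons (nat_lit 64) (nat_lit 0x321850a0523704c0)
 (Net.cons (nat_lit 32) (nat_lit 0x2218424c00000000e0b23e40)
 (Net.cons (nat_lit 16) (nat_lit 0x298000011240000945a0000c056)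
 (Net.cons (nat_lit 8) (nat_lit 0x14001800ba0044005c002900ce)
 (Net.cons (nat_lit 4) (nat_lit 0x20806000f020a05050b07000409040a)
 (Net.cons (nat_lit 2) (nat_lit 0x1020010012020122010000002100)
 (Net.cons (nat_lit 1) (nat_lit 0x10001040111000414001010140404040)
 (Net.cons (nat_lit 2) (nat_lit 0x20200000222002000220002000)
 (Net.cons (nat_lit 4) (nat_lit 0x20006000c000c04040a060004080000)
 (Net.cons (nat_lit 8) (nat_lit 0x54000a001a004400580060008c)
 (Net.cons (nat_lit 16) (nat_lit 0x1290000011240000905a00008816)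
 (Net.cons (nat_lit 32) (nat_lit 0x2218424c00000000e0f21f48)
 (Net.cons (nat_lit 64) (nat_lit 0x321850a0523704c0)
 Net.nil)))))))))))))

noncomputable def ns_9 : Net :=
 (Net.cons (nat_lit 64) (nat_lit 0x12840891914b280)
 (Net.cons (nat_lit 32) (nat_lit 0x80304d0000000003427bd10)
 (Net.cons (nat_lit 16) (nat_lit 0x8610000b0180000665600008f34)
 (Net.cons (nat_lit 8) (nat_lit 0xa000800a000dc00c000dc004d0058)
 (Net.cons (nat_lit 4) (nat_lit 0x4000001040e0d040c030e0b070c04)
 (Net.cons (nat_lit 2) (nat_lit 0x2010000002010220232012202000010)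
 (Net.cons (nat_lit 1) (nat_lit 0x1000410004010140440101040104000)
 (Net.cons (nat_lit 2) (nat_lit 0x20000000220020002000000000)
 (Net.cons (nat_lit 4) (nat_lit 0x400000004060c040c040a00020804)
 (Net.cons (nat_lit 8) (nat_lit 0xa000000a000dc00e0008800740008)
 (Net.cons (nat_lit 16) (nat_lit 0x8600000b110000048200000cb74)
 (Net.cons (nat_lit 32) (nat_lit 0x80344d0000000001466b350)
 (Net.cons (nat_lit 64) (nat_lit 0x128408919101280)
 Net.nil)))))))))))))

noncomputable def ns_10 : Net :=
 (Net.cons (nat_lit 64) (nat_lit 0x40078424038300)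
 (Net.cons (nat_lit 32) (nat_lit 0x414484000000004e488000)
 (Net.cons (nat_lit 16) (nat_lit 0x800000b498000092ec0000f692)
 (Net.cons (nat_lit 8) (nat_lit 0x4400180080006200840010)
 (Net.cons (nat_lit 4) (nat_lit 0x8020000000c000a000a0e0b0a0e08)
 (Net.cons (nat_lit 2) (nat_lit 0x22100302230033022120222220000)
 (Net.cons (nat_lit 1) (nat_lit 0x14000001001051110404100101040)
 (Net.cons (nat_lit 2) (nat_lit 0x22000002000002020000200200000)
 (Net.cons (nat_lit 4) (nat_lit 0x8020000000c000a000a0c000a0208)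
 (Net.cons (nat_lit 8) (nat_lit 0x40001800c0002200800010)
 (Net.cons (nat_lit 16) (nat_lit 0x800000b4980000caac0000f690)
 (Net.cons (nat_lit 32) (nat_lit 0x414484000000004e488000)
 (Net.cons (nat_lit 64) (nat_lit 0x40078424038300)
 Net.nil)))))))))))))

noncomputable def ns_11 : Net :=
 (Net.cons (nat_lit 64) (nat_lit 0x357f49c7434270a0)
 (Net.cons (nat_lit 32) (nat_lit 0x34c141d000000009620c450)
 (Net.cons (nat_lit 16) (nat_lit 0x720100002850000012900000b6be)
 (Net.cons (nat_lit 8) (nat_lit 0x55009000690065009000880034008a)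
 (Net.cons (nat_lit 4) (nat_lit 0x5000a07000e0a09060004000c00080e)
 (Net.cons (nat_lit 2) (nat_lit 0x2021002121003020102030212210)
 (Net.cons (nat_lit 1) (nat_lit 0x51144004144014000444040100110)
 (Net.cons (nat_lit 2) (nat_lit 0x220000022022000002000000020)
 (Net.cons (nat_lit 4) (nat_lit 0x20206000808080200080004000006)
 (Net.cons (nat_lit 8) (nat_lit 0x9a00280024009000c800ac0088)
 (Net.cons (nat_lit 16) (nat_lit 0x664c00002856000082900000be28)
 (Net.cons (nat_lit 32) (nat_lit 0x2415d98000000001620e450)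
 (Net.cons (nat_lit 64) (nat_lit 0x357f49c74344c806)
 Net.nil)))))))))))))

noncomputable def ns_12 : Net :=
 (Net.cons (nat_lit 64) (nat_lit 0x70bb0dc6421d8e23)
 (Net.cons (nat_lit 32) (nat_lit 0x299233e0000000096d2585f)
 (Net.cons (nat_lit 16) (nat_lit 0x3020000d546000081320000673d)
 (Net.cons (nat_lit 8) (nat_lit 0x8003a004300480044000100fb002c)
 (Net.cons (nat_lit 4) (nat_lit 0x20008060904000000060e0607080002)
 (Net.cons (nat_lit 2) (nat_lit 0x32000220130100033020231010220300)
 (Net.cons (nat_lit 1) (nat_lit 0x41101404054000011040101005411401)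
 (Net.cons (nat_lit 2) (nat_lit 0x20002200000000002000200000202200)
 (Net.cons (nat_lit 4) (nat_lit 0x208080804000c00040602060a0802)
 (Net.cons (nat_lit 8) (nat_lit 0x3a003c0086004800d0000a00b200ac)
 (Net.cons (nat_lit 16) (nat_lit 0x13800009542000099740000c13c)
 (Net.cons (nat_lit 32) (nat_lit 0x2802a7a000000009ed2d876)
 (Net.cons (nat_lit 64) (nat_lit 0x70bb0dc642111ccc)
 Net.nil)))))))))))))

noncomputable def ns_13 : Net :=
 (Net.cons (nat_lit 64) (nat_lit 0x232252003645a4e0)
 (Net.cons (nat_lit 32) (nat_lit 0x3131d2d00000000059b749a4)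
 (Net.cons (nat_lit 16) (nat_lit 0x2c00000290600008d6a0000d1b8)
 (Net.cons (nat_lit 8) (nat_lit 0xd000c00002006600c1008300290078)
 (Net.cons (nat_lit 4) (nat_lit 0x20300000006010a0c0b00040a040c00)
 (Net.cons (nat_lit 2) (nat_lit 0x10000010010203000303000202121000)
 (Net.cons (nat_lit 1) (nat_lit 0x40100040010404410104444101414450)
 (Net.cons (nat_lit 2) (nat_lit 0x20000000020002200200220200020200)
 (Net.cons (nat_lit 4) (nat_lit 0x200000204000a040a00040a040000)
 (Net.cons (nat_lit 8) (nat_lit 0xc200c0002800420040008200280070)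
 (Net.cons (nat_lit 16) (nat_lit 0x2c000002c0400008d4a0000c9b8)
 (Net.cons (nat_lit 32) (nat_lit 0x3331d2d00000000019b6c1c0)
 (Net.cons (nat_lit 64) (nat_lit 0x232252003644a6a0)
 Net.nil)))))))))))))

noncomputable def ns_14 : Net :=
 (Net.cons (nat_lit 64) (nat_lit 0x100e41a81b04d084)
 (Net.cons (nat_lit 32) (nat_lit 0xa0f05b6000000006431b702)
 (Net.cons (nat_lit 16) (nat_lit 0x52860000e2c200000364000064ac)
 (Net.cons (nat_lit 8) (nat_lit 0x400020004c0010009d009c004a0076)
 (Net.cons (nat_lit 4) (nat_lit 0x8030e070000020e04010f0c000e00)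
 (Net.cons (nat_lit 2) (nat_lit 0x10010203002000003000002013002)
 (Net.cons (nat_lit 1) (nat_lit 0x410040411001111501114100404414)
 (Net.cons (nat_lit 2) (nat_lit 0x20020022002000002000200002202)
 (Net.cons (nat_lit 4) (nat_lit 0xe0c0000000800000200000804)
 (Net.cons (nat_lit 8) (nat_lit 0x480024000c0010009800bc000a0000)
 (Net.cons (nat_lit 16) (nat_lit 0x52880000e3ca0000282400006088)
 (Net.cons (nat_lit 32) (nat_lit 0x1a0f443600000000a0502306)
 (Net.cons (nat_lit 64) (nat_lit 0x100e41a81b049004)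
 Net.nil)))))))))))))

noncomputable def ns_15 : Net :=
 (Net.cons (nat_lit 64) (nat_lit 0xb164585ba421010c)
 (Net.cons (nat_lit 32) (nat_lit 0xa0625a980000000046828334)
 (Net.cons (nat_lit 16) (nat_lit 0x39b80000d42e0000a3a40000e0a4)
 (Net.cons (nat_lit 8) (nat_lit 0x800730092005400dc009000770092)
 (Net.cons (nat_lit 4) (nat_lit 0x806020100020902050206000109040e)
 (Net.cons (nat_lit 2) (nat_lit 0x20300020002130020022300020120230)
 (Net.cons (nat_lit 1) (nat_lit 0x10100141101100054041400041500510)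
 (Net.cons (nat_lit 2) (nat_lit 0x20000020002000002000000000000000)
 (Net.cons (nat_lit 4) (nat_lit 0xe0002020e04020c0a0600080c0c0e)
 (Net.cons (nat_lit 8) (nat_lit 0x88005200d2005400d40090003800d0)
 (Net.cons (nat_lit 16) (nat_lit 0x29ba0000704a0000a1b40000b064)
 (Net.cons (nat_lit 32) (nat_lit 0x206212ca00000000441823b4)
 (Net.cons (nat_lit 64) (nat_lit 0xb164585ba4215d6a)
 Net.nil)))))))))))))

noncomputable def ns_16 : Net :=
 (Net.cons (nat_lit 64) (nat_lit 0x68fa010099d540)
 (Net.cons (nat_lit 32) (nat_lit 0x68688200000000a3e693c4)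
 (Net.cons (nat_lit 16) (nat_lit 0x8000058a6000032440000dba4)
 (Net.cons (nat_lit 8) (nat_lit 0xd00028002d009f007000c70044)
 (Net.cons (nat_lit 4) (nat_lit 0x20e0804080d06030e04040c0e04)
 (Net.cons (nat_lit 2) (nat_lit 0x2003101023303012013200211000)
 (Net.cons (nat_lit 1) (nat_lit 0x11100001454044145041104040)
 (Net.cons (nat_lit 2) (nat_lit 0x2200002202020000002000000)
 (Net.cons (nat_lit 4) (nat_lit 0x80e08040a08020c0e040e080c00)
 (Net.cons (nat_lit 8) (nat_lit 0x5800600088009a007000c200c0)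
 (Net.cons (nat_lit 16) (nat_lit 0x8000058c2000033240000d3b0)
 (Net.cons (nat_lit 32) (nat_lit 0x6002820000000041e293c0)
 (Net.cons (nat_lit 64) (nat_lit 0x68fa010099c400)
 Net.nil)))))))))))))

noncomputable def ns_17 : Net :=
 (Net.cons (nat_lit 64) (nat_lit 0x60021800302a8160)
 (Net.cons (nat_lit 32) (nat_lit 0x400b10040000000016dcc220)
 (Net.cons (nat_lit 16) (nat_lit 0x8000000b76200000c6e00001c40)
 (Net.cons (nat_lit 8) (nat_lit 0x28001000e600500004000a00dc0030)
 (Net.cons (nat_lit 4) (nat_lit 0x200040306000d0809080200000300)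
 (Net.cons (nat_lit 2) (nat_lit 0x10132000220002210212120020)
 (Net.cons (nat_lit 1) (nat_lit 0x10000141010040411404401004410)
 (Net.cons (nat_lit 2) (nat_lit 0x22000020020202002000020)
 (Net.cons (nat_lit 4) (nat_lit 0x200040400000c0802000c00000000)
 (Net.cons (nat_lit 8) (nat_lit 0x20001000e600500004000a00080030)
 (Net.cons (nat_lit 16) (nat_lit 0x8000000b76200000c6e00001c40)
 (Net.cons (nat_lit 32) (nat_lit 0x400b10040000000014dcc220)
 (Net.cons (nat_lit 64) (nat_lit 0x60021800302a8160)
 Net.nil)))))))))))))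

noncomputable def ns : List Net := [ns_0, ns_1, ns_2, ns_3, ns_4, ns_5, ns_6, ns_7, ns_8, ns_9, ns_10, ns_11, ns_12, ns_13, ns_14, ns_15, ns_16, ns_17]

theorem ctx : Ctx 128 7 ns := ctx_of (by decide +kernel)

open Cfsg Cfsg.Agent.Comp.Kron Cfsg.Agent.Class
open scoped MatrixGroups
set_option synthInstance.maxSize 2000

noncomputable def G_C4 : List Lvl :=
  []

noncomputable def G_ss3 : List (List ℕ) :=
  [[16], [18]]

noncomputable def G_D3 : ℕ :=
  nat_lit 0x400c410000e48020008

noncomputable def G_l3 : Lvl :=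
  ⟨3, [[16], [18]],
  tabA [(33, 768), (35, 769), (58, 770), (30, 771), (17, 8450), (63, 8451), (27, 8962), (74, 8963), (34, 14849), (52, 7680), (62, 16128)], 3⟩

noncomputable def G_C3 : List Lvl :=
  G_l3 :: G_C4

noncomputable def G_ss2 : List (List ℕ) :=
  [[10], [12]]

noncomputable def G_D2 : ℕ :=
  nat_lit 0x400c490000ec802000c

noncomputable def G_l2 : Lvl :=
  ⟨2, [[10], [12], [16], [18]],
  tabC 15 32767 [nat_lit 0x402fc0400000000000781c00000003c00000000002030000000000000000000000000000000000000000000000000000000000000400d01918100007e0608080000000460c00000000000000000000000000000000011800000000000000000000000000000000000000000000000000460600000000000,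
 nat_lit 0x8c1c0000000000000000000000000000000000000], 2⟩

noncomputable def G_C2 : List Lvl :=
  G_l2 :: G_C3

noncomputable def G_ss1 : List (List ℕ) :=
  [[0], [6]]

noncomputable def G_D1 : ℕ :=
  nat_lit 0x1bef5bf5bedbeffd6e9cfe

noncomputable def G_l1 : Lvl :=
  ⟨1, [[0], [6], [14], [10], [12], [16], [18]],
  tabC 15 32767 [nat_lit 0x700a3c08502310d00007834000510c2a0800001829e07a21a28240810000a211440800015063c000001885b10ca20c4c24b03000006109c0c184d10b060e04117852e09060cc40800031080000c4180818000a20a5428f058000621200000004006a215441c0000000821228318850a03020a78240000000,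
 nat_lit 0x2f075c0c000008040072a16b834b00000014100c09983a70800009c1800015004e140001883d109], 3⟩

noncomputable def G_C1 : List Lvl :=
  G_l1 :: G_C2

noncomputable def G_ss0 : List (List ℕ) :=
  [[0], [2]]

noncomputable def G_D0 : ℕ :=
  nat_lit 0x1fffffffffffffffffffff

noncomputable def G_l0 : Lvl :=
  ⟨0, [[2], [8], [0], [6], [14], [10], [12], [16], [18]],
  tabC 15 32767 [nat_lit 0x660d0c21a834b0a2402d405d88c60c96051c1a7034a019c1b2c30381c700801b38423868a06240d1c29a8587008c16ec0e707250124052802001c6109414482490212039422d43a38484076a01503c907c7070c000006081c7046a1f1c2c407350966153829e014b010007383e585920d0212cc1e7010000,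
 nat_lit 0x4e0c0e16ec2c082400b241c0000386c70800053825985c6079c01382e50107102410ec06708ce07], 3⟩

noncomputable def G_C0 : List Lvl :=
  G_l0 :: G_C1

theorem G_lb4 : 1 ≤ Nat.card (cgrp ns G_C4) :=
  lb_nil _

theorem G_le3 : gen ns G_l3.ws ≤ gen ns G_ss3 :=
  gen_le_step ctx (tgt := [])
  (es := []) (le_refl (gen _ [])) (by decide +kernel)

theorem G_lv3 : chkLvl 128 ns G_l3 G_C4 G_D3 3 = true :=
  by decide +kernel

theorem G_lb3 : 12 ≤ Nat.card (cgrp ns G_C3) :=
  lb_step ctx G_lv3 G_lb4 (by decide +kernel)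

theorem G_le2 : gen ns G_l2.ws ≤ gen ns G_ss2 :=
  gen_le_step ctx (tgt := [[16], [18]])
  (es := [([16], [0, 3, 3, 3, 3, 1, 1]), ([18], [4, 3, 5, 3, 5, 5])]) G_le3 (by decide +kernel)

theorem G_lv2 : chkLvl 128 ns G_l2 G_C3 G_D2 2 = true :=
  by decide +kernel

theorem G_lb2 : 180 ≤ Nat.card (cgrp ns G_C2) :=
  lb_step ctx G_lv2 G_lb3 (by decide +kernel)

theorem G_le1 : gen ns G_l1.ws ≤ gen ns G_ss1 :=
  gen_le_step ctx (tgt := [[10], [12], [14]])
  (es := [([10], [1, 2, 2, 2, 1]), ([12], [4, 3, 5, 3, 5, 5, 3, 5, 5, 2]), ([14], [6, 5, 5, 7, 7, 4])]) G_le2 (by decide +kernel)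

theorem G_lv1 : chkLvl 128 ns G_l1 G_C2 G_D1 2 = true :=
  by decide +kernel

theorem G_lb1 : 11520 ≤ Nat.card (cgrp ns G_C1) :=
  lb_step ctx G_lv1 G_lb2 (by decide +kernel)

theorem G_le0 : gen ns G_l0.ws ≤ gen ns G_ss0 :=
  gen_le_step ctx (tgt := [[0], [6], [8]])
  (es := [([0], [0]), ([6], [4, 4, 3, 4, 4, 3, 3, 4, 4, 2, 4, 3, 5, 5, 3, 5]), ([8], [6, 4, 7, 7])]) G_le1 (by decide +kernel)

theorem G_lv0 : chkLvl 128 ns G_l0 G_C1 G_D0 2 = true :=
  by decide +kernel

theorem G_lb0 : 979200 ≤ Nat.card (cgrp ns G_C0) :=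
  lb_step ctx G_lv0 G_lb1 (by decide +kernel)

theorem G_lb : 979200 ≤ Nat.card (gen ns G_ss0) :=
  lb_of_le ctx G_le0 G_lb0

noncomputable def X_C5 : List Lvl :=
  []

noncomputable def X_ss4 : List (List ℕ) :=
  [[34]]

noncomputable def X_D4 : ℕ :=
  nat_lit 0x1000000000000000010

noncomputable def X_l4 : Lvl :=
  ⟨4, [[34]],
  tabA [(72, 1024)], 1⟩

noncomputable def X_C4 : List Lvl :=
  X_l4 :: X_C5

noncomputable def X_ss3 : List (List ℕ) :=
  [[26], [32]]

noncomputable def X_D3 : ℕ :=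
  nat_lit 0x400c4900004c8020004

noncomputable def X_l3 : Lvl :=
  ⟨2, [[26], [32], [34]],
  tabA [(34, 512), (63, 513), (30, 514), (52, 515), (31, 8706), (27, 8707), (58, 16130), (55, 16131), (62, 7681), (17, 7682), (74, 13312)], 2⟩

noncomputable def X_C3 : List Lvl :=
  X_l3 :: X_C4

noncomputable def X_ss2 : List (List ℕ) :=
  [[26], [28]]

noncomputable def X_D2 : ℕ :=
  nat_lit 0x400c490000ec802000c

noncomputable def X_l2 : Lvl :=
  ⟨3, [[28], [26], [32], [34]],
  tabC 15 32767 [nat_lit 0x602e81000000000000440800000007e0a000000011040000000000000000000000000000000000000000000000000000000000003602fc0dd0080002200441400000002206000000000000000000000000000000000018000000000000000000000000000000000000000000000000000000fc080000000,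
 nat_lit 0x7c0c0000000000000000000000000000000000000], 3⟩

noncomputable def X_C2 : List Lvl :=
  X_l2 :: X_C3

noncomputable def X_ss1 : List (List ℕ) :=
  [[20], [22]]

noncomputable def X_D1 : ℕ :=
  nat_lit 0x1bef5bf5bedbeffd6e9cfe

noncomputable def X_l1 : Lvl :=
  ⟨1, [[20], [22], [30], [28], [26], [32], [34]],
  tabC 15 32767 [nat_lit 0x16087825582870a0000442000002023c0e0000b041e0c2c0a041200380004014802c0001600a20a0001f011a0c64104c26003000042144c14f035104220c0409905320b22134424000160b00000414b050000a2071018081800088120000000460aa218c8300000000a204dc0e9853209220e782c0000000,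
 nat_lit 0x1a00a20e00000803404a6181c1a48500002c12580d903340500007808000510a22000002203d10b], 3⟩

noncomputable def X_C1 : List Lvl :=
  X_l1 :: X_C2

noncomputable def X_ss0 : List (List ℕ) :=
  [[0], [2], [4]]

noncomputable def X_D0 : ℕ :=
  nat_lit 0x1fffffffffffffffffffff

noncomputable def X_l0 : Lvl :=
  ⟨0, [[0], [2], [4], [24], [20], [22], [30], [28], [26], [32], [34]],
  tabC 15 32767 [nat_lit 0x6e24a42c90987122406dc3c9031d0f9c171c3d885500d5226744e70a47024a1874363880f008e0e402a702121224281832705470d0c014c2ce8637082416400800306111e19384a3852512721a3c11288470b3a14000d283ce079c211c3a803920c3a2448208089d069c1f3831280290a0c10a40ce810000,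
 nat_lit 0x1d109c1d240c903ce132414000a489470c6e1a683270692119c0524408064e11521a4038906a50f], 3⟩

noncomputable def X_C0 : List Lvl :=
  X_l0 :: X_C1

theorem X_lb5 : 1 ≤ Nat.card (cgrp ns X_C5) :=
  lb_nil _

theorem X_le4 : gen ns X_l4.ws ≤ gen ns X_ss4 :=
  gen_le_step ctx (tgt := [])
  (es := []) (le_refl (gen _ [])) (by decide +kernel)

theorem X_lv4 : chkLvl 128 ns X_l4 X_C5 X_D4 1 = true :=
  by decide +kernel

theorem X_lb4 : 2 ≤ Nat.card (cgrp ns X_C4) :=
  lb_step ctx X_lv4 X_lb5 (by decide +kernel)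

theorem X_le3 : gen ns X_l3.ws ≤ gen ns X_ss3 :=
  gen_le_step ctx (tgt := [[34]])
  (es := [([34], [0, 2, 1, 3, 3, 0, 0])]) X_le4 (by decide +kernel)

theorem X_lv3 : chkLvl 128 ns X_l3 X_C4 X_D3 2 = true :=
  by decide +kernel

theorem X_lb3 : 24 ≤ Nat.card (cgrp ns X_C3) :=
  lb_step ctx X_lv3 X_lb4 (by decide +kernel)

theorem X_le2 : gen ns X_l2.ws ≤ gen ns X_ss2 :=
  gen_le_step ctx (tgt := [[26], [32]])
  (es := [([26], [0]), ([32], [5, 5, 3, 3, 5, 3, 5, 2, 2, 4])]) X_le3 (by decide +kernel)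

theorem X_lv2 : chkLvl 128 ns X_l2 X_C3 X_D2 2 = true :=
  by decide +kernel

theorem X_lb2 : 360 ≤ Nat.card (cgrp ns X_C2) :=
  lb_step ctx X_lv2 X_lb3 (by decide +kernel)

theorem X_le1 : gen ns X_l1.ws ≤ gen ns X_ss1 :=
  gen_le_step ctx (tgt := [[26], [28], [30]])
  (es := [([26], [1, 3, 3, 1, 3, 1, 3, 3, 0, 2, 1, 3]), ([28], [3, 4, 2, 5, 3, 5, 5, 2, 2, 2, 4]), ([30], [6, 4, 6])]) X_le2 (by decide +kernel)

theorem X_lv1 : chkLvl 128 ns X_l1 X_C2 X_D1 2 = true :=
  by decide +kernel

theorem X_lb1 : 23040 ≤ Nat.card (cgrp ns X_C1) :=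
  lb_step ctx X_lv1 X_lb2 (by decide +kernel)

theorem X_le0 : gen ns X_l0.ws ≤ gen ns X_ss0 :=
  gen_le_step ctx (tgt := [[20], [22], [24]])
  (es := [([20], [5, 0, 4, 4]), ([22], [4, 7, 5, 5, 2, 7, 3, 3, 5, 5, 5, 5, 5, 5, 6, 5]), ([24], [5, 7, 5, 9, 9])]) X_le1 (by decide +kernel)

theorem X_lv0 : chkLvl 128 ns X_l0 X_C1 X_D0 1 = true :=
  by decide +kernel

theorem X_lb0 : 1958400 ≤ Nat.card (cgrp ns X_C0) :=
  lb_step ctx X_lv0 X_lb1 (by decide +kernel)

theorem X_lb : 1958400 ≤ Nat.card (gen ns X_ss0) :=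
  lb_of_le ctx X_le0 X_lb0

/-- enumeration of the coordinates -/
def ix (i : ℕ) : Fin 2 ⊕ Fin 2 := ([.inl 0, .inl 1, .inr 0, .inr 1] : List (Fin 2 ⊕ Fin 2)).getD i (.inl 0)

/-- its inverse -/
def qx : Fin 2 ⊕ Fin 2 → ℕ := Sum.elim Fin.val fun i => i.val + 2

theorem hq : ∀ a, qx a < 4 ∧ ix (qx a) = a :=
  by decide

noncomputable def MASK : ℕ :=
  nat_lit 0x80000000008000000000800000000080000000000400000000040000000004000000000400000000002000000000200000000020000000002000000000010000000001000000000100000000010000000000080000000008000000000800000000080000000000400000000040000000004000000000400000000002000000000200000000020000000002000000000010000000001000000000100000000010000000000000000000000000000000000000000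

noncomputable def MOD : ℕ :=
  nat_lit 0xffffffffffffffffffffffffffffffffffffffff

noncomputable def DW : ℕ :=
  nat_lit 0x10000100000000000000000000000000000000001000010000000000000000000000000000000000100001000000000000000000000000000000000010000100000000000000000000000000000000000000000000100000000000000000000000000000000000000010000000000000000000000000000000000000001000000000000000000000000000000000000000100000000000000000000000000000000000

noncomputable def Cw : ℕ :=
  nat_lit 0x8000080000040000400000200002000001000010800000000004000000000020000000000100000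

noncomputable def op : ℕ → ℕ → ℕ :=
  raw MASK MOD

theorem X : Kron.Ctx ix (QuadraticAlgebra.omega : GF4) 5 4 2 8 2 op DW :=
  ctx_two (isEnum_of qx hq (by decide)) (isBase_GF4) Cw (by decide +kernel)

noncomputable def o : ℕ :=
  nat_lit 0x8000000000040000000000200000000001

theorem ho : matB 5 4 2 8 2 oneCode o = true :=
  by decide +kernel

noncomputable def S : ℕ → ℕ :=
  tabC 40 (ones 40) [nat_lit 0x800000401080000840008020084210842000001080000000100020004210000008021004200042108400080210800000021004000840108020084010040000020004200002108400000010802000001004200802100400004200002000001004200000108000084200000008001004000800108400000210840008020080000842100020084210002008021000000842108420004010042008421004000842100400000010040000421084200802108400084200840008401080000840100000000200000008401000000002100400080210000000400000000802008420004210040000401004000842008000080010000008400080200802100020080010000008420084000042008400004210000008000080200002108000004200040008020084000800108400004010000000420084200002100420080010000000001,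
 nat_lit 0x4000002108020004210800008021000200040108000004000000000401004200040108420084210802008001000200840108400000200842008001084200840108000080200800000421000200002108020004010042008401080000002000000004210840008421]

noncomputable def Z : ℕ :=
  nat_lit 0x800000000004000000000020000000000100000

theorem hZ : matB 5 4 2 8 2 (scalCode (fun t => getL 0 [0, 1] t)) Z = true :=
  by decide +kernel

theorem hS : validT 5 4 8 2 85 S = true :=
  by decide +kernel

/-- the points -/
noncomputable def pt : ℕ → Sub (Fin 2 ⊕ Fin 2) (GF4) := subPt ix (QuadraticAlgebra.omega : GF4) 5 4 8 S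

noncomputable def C0 : ℕ :=
  nat_lit 0x802100020080200040108021080000000000001

theorem act0 : ∀ g : GL (Fin 2 ⊕ Fin 2) (GF4), RepE ix (QuadraticAlgebra.omega : GF4) 5 4 8 2 C0 g → RepBy 85 pt g (wp ns [0]) :=
  fun _ hg => X.repBy_of_chkLine ctx hS hZ hg (t := 3) (by decide +kernel)

theorem rep0 : ∃ g ∈ (Kron.spGL (Fin 2) GF4).range, RepBy 85 pt g (wp ns [0]) :=
  by
  obtain ⟨g, hg⟩ := X.exists_repE' ho (C := C0) (nat_lit 0x802100020080200040108021080000000000001) (by decide +kernel)
  have hm := X.coe_eq_matS hq hg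
  exact ⟨g, mem_spGL_range hm (by simp only [Sum.forall, Fin.forall_fin_two]; decide +kernel), act0 g hg⟩

noncomputable def C1 : ℕ :=
  nat_lit 0x20000200042000021080010042000401

theorem act1 : ∀ g : GL (Fin 2 ⊕ Fin 2) (GF4), RepE ix (QuadraticAlgebra.omega : GF4) 5 4 8 2 C1 g → RepBy 85 pt g (wp ns [2]) :=
  fun _ hg => X.repBy_of_chkLine ctx hS hZ hg (t := 3) (by decide +kernel)

theorem rep1 : ∃ g ∈ (Kron.spGL (Fin 2) GF4).range, RepBy 85 pt g (wp ns [2]) :=
  by
  obtain ⟨g, hg⟩ := X.exists_repE' ho (C := C1) (nat_lit 0x840100021080000840000000080000040000401) (by decide +kernel)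
  have hm := X.coe_eq_matS hq hg
  exact ⟨g, mem_spGL_range hm (by simp only [Sum.forall, Fin.forall_fin_two]; decide +kernel), act1 g hg⟩

noncomputable def ls : List (List ℕ) :=
  [[0], [2]]

theorem repsL : Reps 85 pt (Kron.spGL (Fin 2) GF4).range ns ls :=
  Reps.cons rep0 (Reps.cons rep1 (Reps.nil))

theorem sep0 : Sep 85 pt 0 :=
  X.sep_of_chkSepSub hS (P := 1) (by decide +kernel)

theorem inj : ∀ i < 85, ∀ j < 85, pt i = pt j → i = j :=
  repsL.inj ctx (ps := [0]) 9 (List.forall_mem_cons.2 ⟨sep0, fun _ h => absurd h List.not_mem_nil⟩) (by decide +kernel)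

theorem card : Nat.card (Matrix.symplecticGroup (Fin 2) GF4) = 979200 :=
  by
  rw [Sp.card_Sp, Nat.card_eq_fintype_card, card_GF4]; decide +kernel

theorem model : ∃ e : Matrix.symplecticGroup (Fin 2) GF4 ≃* gen ns G_ss0,
    ∀ g : Matrix.symplecticGroup (Fin 2) GF4, RepBy 85 pt (Kron.spGL (Fin 2) GF4 g) (e g : Equiv.Perm ℕ) :=
  repsL.exists_equiv _ inj le_rfl (card.trans_le G_lb)

noncomputable def equiv : Matrix.symplecticGroup (Fin 2) GF4 ≃* gen ns G_ss0 :=
  Classical.choose model

theorem equiv_rep : ∀ g : Matrix.symplecticGroup (Fin 2) GF4, RepBy 85 pt (Kron.spGL (Fin 2) GF4 g) (equiv g : Equiv.Perm ℕ) :=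
  Classical.choose_spec model

theorem G_card : Nat.card (gen ns G_ss0) = 979200 :=
  (Nat.card_congr equiv.toEquiv).symm.trans card

theorem G_eq : gen ns G_ss0 = cgrp ns G_C0 :=
  eq_of_le_of_lb ctx G_le0 G_card G_lb0

theorem G_card0 : Nat.card (cgrp ns G_C0) = 979200 :=
  G_eq ▸ G_card

theorem G_st0 : IsStab 128 (gen ns G_l0.ws) (cgrp ns G_C1) G_l0.b G_D0 :=
  isStab_known ctx G_card0 G_lb1 G_lv0 (by decide +kernel)

theorem G_card1 : Nat.card (cgrp ns G_C1) = 11520 :=
  card_step ctx G_st0 G_card0 (by decide +kernel)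

theorem G_st1 : IsStab 128 (gen ns G_l1.ws) (cgrp ns G_C2) G_l1.b G_D1 :=
  isStab_known ctx G_card1 G_lb2 G_lv1 (by decide +kernel)

theorem G_card2 : Nat.card (cgrp ns G_C2) = 180 :=
  card_step ctx G_st1 G_card1 (by decide +kernel)

theorem G_st2 : IsStab 128 (gen ns G_l2.ws) (cgrp ns G_C3) G_l2.b G_D2 :=
  isStab_known ctx G_card2 G_lb3 G_lv2 (by decide +kernel)

theorem G_card3 : Nat.card (cgrp ns G_C3) = 12 :=
  card_step ctx G_st2 G_card2 (by decide +kernel)

theorem G_st3 : IsStab 128 (gen ns G_l3.ws) (cgrp ns G_C4) G_l3.b G_D3 :=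
  isStab_known ctx G_card3 G_lb4 G_lv3 (by decide +kernel)

theorem G_ver4 : Ver ns G_C4 1 :=
  ver_nil _

theorem G_ver3 : Ver ns G_C3 12 :=
  G_ver4.cons ctx G_st3 (by decide +kernel)

theorem G_ver2 : Ver ns G_C2 180 :=
  G_ver3.cons ctx G_st2 (by decide +kernel)

theorem G_ver1 : Ver ns G_C1 11520 :=
  G_ver2.cons ctx G_st1 (by decide +kernel)

theorem G_ver0 : Ver ns G_C0 979200 :=
  G_ver1.cons ctx G_st0 (by decide +kernel)

theorem G_supp : gen ns G_ss0 ≤ suppSub 85 :=
  gen_le_supp_of_suppW ctx (by decide +kernel)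

end Cfsg.Agent.Spor.ModelS44
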