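import Cfsg.Agent.Comp.MatClass
import Cfsg.Agent.Comp.Xfer2
import Cfsg.Agent.Comp.Cent

set_option autoImplicit false
set_option maxRecDepth 4096

namespace Cfsg.Agent.Spor.ModelZ2A5

open Cfsg.Agent.Comp

noncomputable def ns_0 : Net :=
 (Net.cons (nat_lit 2) 32
 (Net.cons (nat_lit 1) 64
 (Net.cons (nat_lit 2) 32
 Net.nil)))

noncomputable def ns_1 : Net :=
 (Net.cons (nat_lit 4) 1
 (Net.cons (nat_lit 2) 1
 (Net.cons (nat_lit 1) 5
 Net.nil)))

noncomputable def ns_2 : Net :=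
 (Net.cons (nat_lit 2) 1
 (Net.cons (nat_lit 1) 1
 Net.nil))

noncomputable def ns_3 : Net :=
 (Net.cons (nat_lit 4) 4
 (Net.cons (nat_lit 2) 18
 (Net.cons (nat_lit 1) 1
 (Net.cons (nat_lit 2) 2
 (Net.cons (nat_lit 4) 4
 Net.nil)))))

noncomputable def ns_4 : Net :=
 (Net.cons (nat_lit 4) 10
 (Net.cons (nat_lit 2) 32
 (Net.cons (nat_lit 1) 16
 (Net.cons (nat_lit 4) 10
 Net.nil))))

noncomputable def ns_5 : Net :=
 (Net.cons (nat_lit 4) 12
 (Net.cons (nat_lit 2) 16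
 (Net.cons (nat_lit 1) 64
 (Net.cons (nat_lit 4) 12
 Net.nil))))

noncomputable def ns_6 : Net :=
 (Net.cons (nat_lit 2) 2
 (Net.cons (nat_lit 1) 4
 Net.nil))

noncomputable def ns_7 : Net :=
 (Net.cons (nat_lit 4) 4
 (Net.cons (nat_lit 2) 18
 (Net.cons (nat_lit 4) 4
 Net.nil)))

noncomputable def ns : List Net := [ns_0, ns_1, ns_2, ns_3, ns_4, ns_5, ns_6, ns_7]

theorem ctx : Ctx 8 3 ns := ctx_of (by decide +kernel)

noncomputable def G_C4 : List Lvl :=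
  []

noncomputable def G_ss3 : List (List ℕ) :=
  [[9]]

noncomputable def G_D3 : ℕ :=
  26

noncomputable def G_l3 : Lvl :=
  ⟨1, [[9]],
  tabA [(3, 256), (4, 257)], 1⟩

noncomputable def G_C3 : List Lvl :=
  G_l3 :: G_C4

noncomputable def G_ss2 : List (List ℕ) :=
  [[8], [10]]

noncomputable def G_D2 : ℕ :=
  30

noncomputable def G_l2 : Lvl :=
  ⟨2, [[8], [10], [9]],
  tabA [(3, 514), (4, 515), (1, 768)], 2⟩

noncomputable def G_C2 : List Lvl :=
  G_l2 :: G_C3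

noncomputable def G_ss1 : List (List ℕ) :=
  [[4], [6]]

noncomputable def G_D1 : ℕ :=
  31

noncomputable def G_l1 : Lvl :=
  ⟨0, [[4], [6], [8], [10], [9]],
  tabA [(1, 0), (2, 1), (3, 2), (4, 260)], 2⟩

noncomputable def G_C1 : List Lvl :=
  G_l1 :: G_C2

noncomputable def G_ss0 : List (List ℕ) :=
  [[0], [2], [4]]

noncomputable def G_D0 : ℕ :=
  96

noncomputable def G_l0 : Lvl :=
  ⟨5, [[0], [2], [4], [6], [8], [10], [9]],
  tabA [(6, 1280)], 1⟩

noncomputable def G_C0 : List Lvl :=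
  G_l0 :: G_C1

theorem G_lb4 : 1 ≤ Nat.card (cgrp ns G_C4) :=
  lb_nil _

theorem G_le3 : gen ns G_l3.ws ≤ gen ns G_ss3 :=
  gen_le_step ctx (tgt := [])
  (es := []) (le_refl (gen _ [])) (by decide +kernel)

theorem G_lv3 : chkLvl 8 ns G_l3 G_C4 G_D3 2 = true :=
  by decide +kernel

theorem G_lb3 : 3 ≤ Nat.card (cgrp ns G_C3) :=
  lb_step ctx G_lv3 G_lb4 (by decide +kernel)

theorem G_le2 : gen ns G_l2.ws ≤ gen ns G_ss2 :=
  gen_le_step ctx (tgt := [[9]])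
  (es := [([9], [1])]) G_le3 (by decide +kernel)

theorem G_lv2 : chkLvl 8 ns G_l2 G_C3 G_D2 2 = true :=
  by decide +kernel

theorem G_lb2 : 12 ≤ Nat.card (cgrp ns G_C2) :=
  lb_step ctx G_lv2 G_lb3 (by decide +kernel)

theorem G_le1 : gen ns G_l1.ws ≤ gen ns G_ss1 :=
  gen_le_step ctx (tgt := [[8], [10]])
  (es := [([8], [2, 0, 2]), ([10], [2, 5, 3, 4, 4, 4, 3, 5, 5])]) G_le2 (by decide +kernel)

theorem G_lv1 : chkLvl 8 ns G_l1 G_C2 G_D1 1 = true :=
  by decide +kernel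

theorem G_lb1 : 60 ≤ Nat.card (cgrp ns G_C1) :=
  lb_step ctx G_lv1 G_lb2 (by decide +kernel)

theorem G_le0 : gen ns G_l0.ws ≤ gen ns G_ss0 :=
  gen_le_step ctx (tgt := [[4], [6]])
  (es := [([4], [1, 4, 0]), ([6], [3, 5, 7, 3, 3, 7, 3, 6, 5])]) G_le1 (by decide +kernel)

theorem G_lv0 : chkLvl 8 ns G_l0 G_C1 G_D0 1 = true :=
  by decide +kernel

theorem G_lb0 : 120 ≤ Nat.card (cgrp ns G_C0) :=
  lb_step ctx G_lv0 G_lb1 (by decide +kernel)

theorem G_lb : 120 ≤ Nat.card (gen ns G_ss0) :=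
  lb_of_le ctx G_le0 G_lb0

noncomputable def A_C3 : List Lvl :=
  []

noncomputable def A_ss2 : List (List ℕ) :=
  [[9]]

noncomputable def A_D2 : ℕ :=
  26

noncomputable def A_l2 : Lvl :=
  ⟨1, [[9]],
  tabA [(3, 256), (4, 257)], 1⟩

noncomputable def A_C2 : List Lvl :=
  A_l2 :: A_C3

noncomputable def A_ss1 : List (List ℕ) :=
  [[12], [14]]

noncomputable def A_D1 : ℕ :=
  30

noncomputable def A_l1 : Lvl :=
  ⟨2, [[12], [14], [9]],
  tabA [(1, 512), (3, 513), (4, 514)], 1⟩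

noncomputable def A_C1 : List Lvl :=
  A_l1 :: A_C2

noncomputable def A_ss0 : List (List ℕ) :=
  [[2], [4]]

noncomputable def A_D0 : ℕ :=
  31

noncomputable def A_l0 : Lvl :=
  ⟨0, [[2], [4], [12], [14], [9]],
  tabA [(1, 0), (4, 1), (2, 3), (3, 260)], 2⟩

noncomputable def A_C0 : List Lvl :=
  A_l0 :: A_C1

theorem A_ver3 : Ver ns A_C3 1 :=
  ver_nil _

theorem A_le2 : gen ns A_l2.ws ≤ gen ns A_ss2 :=
  gen_le_step ctx (tgt := [])
  (es := []) (le_refl (gen _ [])) (by decide +kernel)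

theorem A_lv2 : chkLvl 8 ns A_l2 A_C3 A_D2 2 = true :=
  by decide +kernel

theorem A_pt2_0 : AllIn (PtOK 8 ns A_l2 A_C3 A_ss2 A_D2) 0 64 :=
  ptOK_of_chkPts ctx A_ver3 (a := 0) (n := 1) (by decide +kernel)

theorem A_st2 : IsStab 8 (gen ns A_l2.ws) (cgrp ns A_C3) A_l2.b A_D2 :=
  isStab_plain ctx A_le2 A_lv2 (by norm_num) A_pt2_0

theorem A_ver2 : Ver ns A_C2 3 :=
  A_ver3.cons ctx A_st2 (by decide +kernel)

theorem A_le1 : gen ns A_l1.ws ≤ gen ns A_ss1 :=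
  gen_le_step ctx (tgt := [[9]])
  (es := [([9], [2, 2, 2, 0, 0, 2])]) A_le2 (by decide +kernel)

theorem A_lv1 : chkLvl 8 ns A_l1 A_C2 A_D1 1 = true :=
  by decide +kernel

theorem A_pt1_0 : AllIn (PtOK 8 ns A_l1 A_C2 A_ss1 A_D1) 0 64 :=
  ptOK_of_chkPts ctx A_ver2 (a := 0) (n := 1) (by decide +kernel)

theorem A_st1 : IsStab 8 (gen ns A_l1.ws) (cgrp ns A_C2) A_l1.b A_D1 :=
  isStab_plain ctx A_le1 A_lv1 (by norm_num) A_pt1_0

theorem A_ver1 : Ver ns A_C1 12 :=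
  A_ver2.cons ctx A_st1 (by decide +kernel)

theorem A_le0 : gen ns A_l0.ws ≤ gen ns A_ss0 :=
  gen_le_step ctx (tgt := [[12], [14]])
  (es := [([12], [0, 2, 0, 3, 0, 3]), ([14], [2, 2, 2, 4, 4])]) A_le1 (by decide +kernel)

theorem A_lv0 : chkLvl 8 ns A_l0 A_C1 A_D0 1 = true :=
  by decide +kernel

theorem A_pt0_0 : AllIn (PtOK 8 ns A_l0 A_C1 A_ss0 A_D0) 0 64 :=
  ptOK_of_chkPts ctx A_ver1 (a := 0) (n := 1) (by decide +kernel)

theorem A_st0 : IsStab 8 (gen ns A_l0.ws) (cgrp ns A_C1) A_l0.b A_D0 :=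
  isStab_plain ctx A_le0 A_lv0 (by norm_num) A_pt0_0

theorem A_ver0 : Ver ns A_C0 60 :=
  A_ver1.cons ctx A_st0 (by decide +kernel)

theorem A_eq : gen ns A_ss0 = cgrp ns A_C0 :=
  le_antisymm (gen_le_of_subsetL _ (by decide +kernel)) A_le0

theorem A_card : Nat.card (gen ns A_ss0) = 60 :=
  by rw [A_eq]; exact A_ver0.card

theorem A_supp : gen ns A_ss0 ≤ suppSub 5 :=
  gen_le_supp_of_suppW ctx (by decide +kernel)

theorem two_prod {Γ X : Type*} [Group Γ] [Group X] {z : Γ} {A : Subgroup Γ} (h2 : z ^ 2 = 1)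
    (hc : ∀ a ∈ A, a * z = z * a) (hz : z ∉ A) (e : A ≃* X) :
    Nonempty (↥(A ⊔ Subgroup.zpowers z) ≃* Multiplicative (ZMod 2) × X) := by
  classical
  have : Fact (Nat.Prime 2) := ⟨Nat.prime_two⟩
  have ho : orderOf z = 2 := orderOf_eq_prime h2 fun h => hz (h ▸ A.one_mem)
  let f := (Subgroup.zpowers z).subtype.noncommCoprod A.subtype fun a b => by
    obtain ⟨_, m, rfl⟩ := a
    exact (Commute.symm (hc b b.2 : Commute (b : Γ) z)).zpow_left m
  have hf : Function.Injective f := by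
    refine (MonoidHom.noncommCoprod_injective _ _ _).2
      ⟨Subgroup.subtype_injective _, Subgroup.subtype_injective _, ?_⟩
    rw [Subgroup.range_subtype, Subgroup.range_subtype, Subgroup.disjoint_def]
    intro x hx hxA
    rw [(isOfFinOrder_iff_pow_eq_one.2 ⟨2, two_pos, h2⟩).mem_zpowers_iff_mem_range_orderOf, ho,
      Finset.mem_image] at hx
    obtain ⟨k, hk, rfl⟩ := hx
    rw [Finset.mem_range] at hk
    interval_cases k
    · exact pow_zero z
    · exact absurd (by simpa using hxA) hz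
  have hr : f.range = A ⊔ Subgroup.zpowers z :=
    (MonoidHom.noncommCoprod_range _ _ _).trans (by simp [sup_comm])
  exact ⟨((MulEquiv.subgroupCongr hr.symm).trans (MonoidHom.ofInjective hf).symm).trans
    (MulEquiv.prodCongr (mulEquivOfPrimeCardEq (p := 2) (by rw [Nat.card_zpowers, ho]) (by simp))
      e)⟩

theorem iso : Nonempty (gen ns G_ss0 ≃* Multiplicative (ZMod 2) × alternatingGroup (Fin 5)) := by
  obtain ⟨e⟩ := exists_equiv_alt A_supp (by rw [A_card]; decide +kernel)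
  rw [show gen ns G_ss0 = gen ns A_ss0 ⊔ Subgroup.zpowers (wp ns [0]) from gen_cons ns [0] A_ss0]
  exact two_prod (pow_eq_one_of_eqW ctx (by decide +kernel))
    (fun a ha => comm_of_commB ctx (as0 := [([0], [0])]) (kws := A_ss0) (by decide +kernel) a ha _
      List.mem_cons_self)
    (fun h => ne_of_movesW ctx (u := [0]) (p := 5) (by decide +kernel) (by norm_num)
      (A_supp h 5 le_rfl)) e

end Cfsg.Agent.Spor.ModelZ2A5
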