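import Cfsg.Agent.KSG.MultH
import Cfsg.Agent.Spor.ModelL32

set_option autoImplicit false
set_option Elab.async false
set_option maxRecDepth 4096
set_option Elab.async false

namespace Cfsg.Agent.Spor.MultL32

open Cfsg Cfsg.Agent.Comp Cfsg.Agent.KSG.Pc

noncomputable def ns_6 : Net :=
 (Net.cons (nat_lit 4) 14
 (Net.cons (nat_lit 2) 48
 (Net.cons (nat_lit 4) 8
 Net.nil)))

noncomputable def ns_7 : Net :=
 (Net.cons (nat_lit 4) 8
 (Net.cons (nat_lit 2) 48
 (Net.cons (nat_lit 1) 80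
 (Net.cons (nat_lit 4) 8
 Net.nil))))

noncomputable def ns : List Net := [ModelL32.ns_0, ModelL32.ns_1, ModelL32.ns_2, ModelL32.ns_3, ModelL32.ns_4, ModelL32.ns_5, ns_6, ns_7]

theorem ctx : Ctx 8 3 ns := ctx_of (by decide +kernel)

theorem lctx : LCtx 8 3 4 7 trN3 ns := lctx_of ctx trOK3 (by decide +kernel)

noncomputable def E : List ℕ → ℕ → ℕ := pfW0 8 3 4 7 trN3 ns

theorem hE : Evl 8 ns E := evl_pfW0 lctx

theorem geq : gen ModelL32.ns ModelL32.G_ss0 = gen ns ModelL32.G_ss0 :=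
  gen_eq_of_take (ns := ModelL32.ns) (ns' := ns) (k := 6) rfl (ws := ModelL32.G_ss0) (by decide +kernel)

theorem geq0 : gen ModelL32.ns ModelL32.G_l0.ws = gen ns ModelL32.G_l0.ws :=
  gen_eq_of_take (ns := ModelL32.ns) (ns' := ns) (k := 6) rfl (ws := ModelL32.G_l0.ws) (by decide +kernel)

theorem hn : Nat.card (gen ns ModelL32.G_ss0) = 168 :=
  geq ▸ ModelL32.G_card

theorem kn_0 : Known ns (gen ns ModelL32.G_ss0) 63 :=
  known_of_mem (ws := ModelL32.G_l0.ws) (gen_le_iff.1 (geq ▸ geq0 ▸ ModelL32.G_le0)) (by decide +kernel)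

noncomputable def A_S3 : List SD :=
  []

noncomputable def A_d2 : SD :=
  ⟨3, 1, [14, 10], lab 2 3 10240, 2⟩

noncomputable def A_S2 : List SD :=
  A_d2 :: A_S3

noncomputable def A_d1 : SD :=
  ⟨1, 1, [12, 4, 14, 10], lab 3 7 (nat_lit 0x102280), 2⟩

noncomputable def A_S1 : List SD :=
  A_d1 :: A_S2

noncomputable def A_d0 : SD :=
  ⟨0, 1, [0, 2, 12, 4, 14, 10], lab 4 15 (nat_lit 0xa580320), 2⟩

noncomputable def A_S0 : List SD :=
  A_d0 :: A_S1

theorem kn_1 : Known ns (gen ns ModelL32.G_ss0) 255 :=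
  kn_0.steps ctx (es := [(6, [1, 2, 0]),
 (7, [5, 5, 12, 5, 13, 5, 5, 13, 4])]) (by decide +kernel)

theorem A_ex : Exact 8 ns A_S0 ∧ gen ns (sTop A_S0) = gen ns ModelL32.G_ss0 ∧ gen ns ModelL32.G_ss0 = gen ns ModelL32.G_ss0 :=
  exact_of_known ctx hn (le_rfl) kn_1 (by decide +kernel)

theorem hbase : IsBase 8 (gen ns ModelL32.G_ss0) [0, 1, 3] :=
  isBase_of_exact A_ex (by decide +kernel)

noncomputable def m2_P : Pd :=
  ⟨2, 2, 1, 131380,
  nat_lit 0xffffffffffff, 15, 4, 12,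
  nat_lit 0x200010000⟩

noncomputable def m2_aws : List (List ℕ) :=
  [[4, 14], [14], [4, 13, 10, 14], [12, 10, 14], [13, 0, 14, 12]]

theorem m2_mem : ∀ u ∈ m2_aws, wp ns u ∈ gen ns ModelL32.G_ss0 :=
  kn_1.words (by decide +kernel)

noncomputable def m2_prs : Prs :=
  [(3, 2, 4), (3, 4, 2), (4, 4, 3)]

noncomputable def m2_rels : List Rel :=
  [.con 4 1 1 [1282],
  .fus 3 [0, 0] [] [1027, 2049, 2306],
  .fus 3 [1, 1] [] [1025, 2051, 2562],
  .con 1 0 0 [513],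
  .con 2 0 1 [258, 1283, 2051],
  .fus 4 [2, 2] [] [1, 257, 1025, 1281, 2818]]

noncomputable def m2_ys : List (List ℕ) :=
  [[2563, 2819],
  [257, 1281, 2049, 2563],
  [257]]

noncomputable def m2_ss : List (List ℕ × ℕ × ℕ) :=
  [([1281], 2, 3)]

noncomputable def m2_cs : List (List ℕ) :=
  [[(nat_lit 0x3030003020000)],
  [0, (nat_lit 0x30003000001)],
  [(nat_lit 0x300000000), 769, (nat_lit 0x10000000001)]]

noncomputable def m2_B : List (ℕ × ℕ × List (List ℕ)) :=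
  [(1, 1, [[2], [0], [1]]),
  (3, 1, [[1]])]

theorem m2_row0 : AllIn (fun j => m2_P.chkRow (eqB (Comp.evL E) [0, 1, 3] m2_aws) j = true) 0 3 :=
  allIn_of_allFrom (a := 0) (n := 3) (by decide +kernel)

theorem m2_pr0 : AllIn (fun j => m2_P.chkPr (eqB (Comp.evL E) [0, 1, 3] m2_aws) (m2_prs.get j) = true) 0 3 :=
  allIn_of_allFrom (a := 0) (n := 3) (by decide +kernel)

theorem m2_rel0 : AllIn (fun k => m2_P.chkRel m2_prs (getL (Rel.con 0 0 0 []) m2_rels k) = true) 0 6 :=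
  allIn_of_allFrom (a := 0) (n := 6) (by decide +kernel)

theorem m2_lin : m2_P.chkLin 1 m2_rels m2_ys m2_ss m2_cs = true :=
  by decide +kernel

theorem m2_bound : MultBound 2 1 (gen ns ModelL32.G_ss0) :=
  multBound_net ctx m2_mem hn (P := m2_P) (B := m2_B) (by norm_num [m2_P])
    (GOK.of_rows (eSound_eqB (evl_evL ctx.ok hE) hbase m2_mem) m2_row0 m2_pr0 (by decide +kernel))
    (rels_of_allIn m2_rel0 (by decide +kernel)) m2_lin (by decide +kernel) (by decide +kernel)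

theorem bounds : ∀ x ∈ ([(2, 1)] : List (ℕ × ℕ)), MultBound x.1 x.2 (gen ns ModelL32.G_ss0) :=
  List.forall_mem_cons.2 ⟨m2_bound, fun _ h => absurd h List.not_mem_nil⟩

theorem mult_of : ∀ {A : Type} [CommGroup A], Nat.card A = 2 → MultOnto (gen ModelL32.ns ModelL32.G_ss0) A →
    HasSchurMultiplier (gen ModelL32.ns ModelL32.G_ss0) A :=
  fun ha h => hasMult_of_list ModelL32.G_card ha (geq ▸ bounds) (by decide +kernel) h

end Cfsg.Agent.Spor.MultL32
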