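import Cfsg.Agent.KSG.MultH
import Cfsg.Agent.Spor.ModelM22

set_option autoImplicit false
set_option maxRecDepth 4096

namespace Cfsg.Agent.Spor.MultM22

open Cfsg Cfsg.Agent.Comp Cfsg.Agent.KSG.Pc

noncomputable def ns_2 : Net :=
 (Net.cons (nat_lit 16) 2116
 (Net.cons (nat_lit 8) 524352
 (Net.cons (nat_lit 4) 1284
 (Net.cons (nat_lit 2) (nat_lit 0x222002)
 (Net.cons (nat_lit 1) (nat_lit 0x440040)
 (Net.cons (nat_lit 2) (nat_lit 0x220000)
 (Net.cons (nat_lit 4) 4
 (Net.cons (nat_lit 8) 64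
 (Net.cons (nat_lit 16) 2116
 Net.nil)))))))))

noncomputable def ns_3 : Net :=
 (Net.cons (nat_lit 16) 63746
 (Net.cons (nat_lit 8) (nat_lit 0x39000a)
 (Net.cons (nat_lit 4) (nat_lit 0xf0c000c)
 (Net.cons (nat_lit 2) (nat_lit 0x2300202)
 (Net.cons (nat_lit 1) (nat_lit 0x5400414)
 (Net.cons (nat_lit 4) (nat_lit 0xe0c000c)
 (Net.cons (nat_lit 8) (nat_lit 0x50000c)
 (Net.cons (nat_lit 16) 63794
 Net.nil))))))))

noncomputable def ns_4 : Net :=
 (Net.cons (nat_lit 16) 42392
 (Net.cons (nat_lit 8) (nat_lit 0xa40038)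
 (Net.cons (nat_lit 4) (nat_lit 0xa090008)
 (Net.cons (nat_lit 2) (nat_lit 0x2221010)
 (Net.cons (nat_lit 1) (nat_lit 0x5441040)
 (Net.cons (nat_lit 2) (nat_lit 0x200000)
 (Net.cons (nat_lit 4) (nat_lit 0xa000208)
 (Net.cons (nat_lit 8) (nat_lit 0xa40030)
 (Net.cons (nat_lit 16) 42392
 Net.nil)))))))))

noncomputable def ns_5 : Net :=
 (Net.cons (nat_lit 16) 8196
 (Net.cons (nat_lit 8) (nat_lit 0x2000d4)
 (Net.cons (nat_lit 4) 1288
 (Net.cons (nat_lit 2) (nat_lit 0x120200)
 (Net.cons (nat_lit 1) 262208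
 (Net.cons (nat_lit 2) 131072
 (Net.cons (nat_lit 4) 8
 (Net.cons (nat_lit 8) 84
 (Net.cons (nat_lit 16) 8196
 Net.nil)))))))))

noncomputable def ns_6 : Net :=
 (Net.cons (nat_lit 16) 27088
 (Net.cons (nat_lit 8) (nat_lit 0x640010)
 (Net.cons (nat_lit 4) 525832
 (Net.cons (nat_lit 2) (nat_lit 0x21321020)
 (Net.cons (nat_lit 1) (nat_lit 0x44111040)
 (Net.cons (nat_lit 2) (nat_lit 0x20200000)
 (Net.cons (nat_lit 4) 525832
 (Net.cons (nat_lit 8) (nat_lit 0x440010)
 (Net.cons (nat_lit 16) 27056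
 Net.nil)))))))))

noncomputable def ns_7 : Net :=
 (Net.cons (nat_lit 16) 42392
 (Net.cons (nat_lit 8) (nat_lit 0x2c0078)
 (Net.cons (nat_lit 4) (nat_lit 0x2090a00)
 (Net.cons (nat_lit 2) (nat_lit 0x1202010)
 (Net.cons (nat_lit 1) (nat_lit 0x5445000)
 (Net.cons (nat_lit 2) (nat_lit 0x220000)
 (Net.cons (nat_lit 4) (nat_lit 0xa080800)
 (Net.cons (nat_lit 8) (nat_lit 0xa80020)
 (Net.cons (nat_lit 16) 42392
 Net.nil)))))))))

noncomputable def ns_8 : Net :=
 (Net.cons (nat_lit 16) 9386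
 (Net.cons (nat_lit 8) (nat_lit 0x20003a)
 (Net.cons (nat_lit 4) (nat_lit 0x40d060a)
 (Net.cons (nat_lit 2) (nat_lit 0x20302330)
 (Net.cons (nat_lit 1) (nat_lit 0x40141140)
 (Net.cons (nat_lit 2) (nat_lit 0x20000000)
 (Net.cons (nat_lit 4) (nat_lit 0x400040a)
 (Net.cons (nat_lit 8) 48
 (Net.cons (nat_lit 16) 9442
 Net.nil)))))))))

noncomputable def ns_9 : Net :=
 (Net.cons (nat_lit 16) 3856
 (Net.cons (nat_lit 8) (nat_lit 0x680040)
 (Net.cons (nat_lit 4) (nat_lit 0x4040000)
 (Net.cons (nat_lit 2) (nat_lit 0x23120020)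
 (Net.cons (nat_lit 1) (nat_lit 0x40015010)
 (Net.cons (nat_lit 2) (nat_lit 0x20020020)
 (Net.cons (nat_lit 4) (nat_lit 0x4040000)
 (Net.cons (nat_lit 8) (nat_lit 0x680040)
 (Net.cons (nat_lit 16) 3856
 Net.nil)))))))))

noncomputable def ns_10 : Net :=
 (Net.cons (nat_lit 16) 23084
 (Net.cons (nat_lit 8) (nat_lit 0x400084)
 (Net.cons (nat_lit 4) (nat_lit 0x4070a04)
 (Net.cons (nat_lit 2) (nat_lit 0x2020130)
 (Net.cons (nat_lit 1) (nat_lit 0x4040110)
 (Net.cons (nat_lit 2) 131584
 (Net.cons (nat_lit 4) (nat_lit 0x4040a0c)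
 (Net.cons (nat_lit 8) (nat_lit 0x500020)
 (Net.cons (nat_lit 16) 23084
 Net.nil)))))))))

noncomputable def ns_11 : Net :=
 (Net.cons (nat_lit 16) 41408
 (Net.cons (nat_lit 8) (nat_lit 0xec0000)
 (Net.cons (nat_lit 4) (nat_lit 0x2020800)
 (Net.cons (nat_lit 2) (nat_lit 0x3202210)
 (Net.cons (nat_lit 1) (nat_lit 0x40111400)
 (Net.cons (nat_lit 2) (nat_lit 0x202200)
 (Net.cons (nat_lit 4) (nat_lit 0x2020800)
 (Net.cons (nat_lit 8) (nat_lit 0xec0000)
 (Net.cons (nat_lit 16) 41408
 Net.nil)))))))))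

noncomputable def ns_12 : Net :=
 (Net.cons (nat_lit 16) 1280
 (Net.cons (nat_lit 8) (nat_lit 0x6000b0)
 (Net.cons (nat_lit 4) (nat_lit 0x6010a00)
 (Net.cons (nat_lit 2) 48
 (Net.cons (nat_lit 1) (nat_lit 0x1041000)
 (Net.cons (nat_lit 4) (nat_lit 0x2000200)
 (Net.cons (nat_lit 8) (nat_lit 0x6000b0)
 (Net.cons (nat_lit 16) 1280
 Net.nil))))))))

noncomputable def ns_13 : Net :=
 (Net.cons (nat_lit 16) 36864
 (Net.cons (nat_lit 8) (nat_lit 0xc000d0)
 (Net.cons (nat_lit 4) 659200
 (Net.cons (nat_lit 2) (nat_lit 0x10232000)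
 (Net.cons (nat_lit 1) (nat_lit 0x101100)
 (Net.cons (nat_lit 2) (nat_lit 0x200200)
 (Net.cons (nat_lit 4) 655360
 (Net.cons (nat_lit 8) (nat_lit 0xc000d0)
 (Net.cons (nat_lit 16) 36864
 Net.nil)))))))))

noncomputable def ns : List Net := [ModelM22.ns_0, ModelM22.ns_1, ns_2, ns_3, ns_4, ns_5, ns_6, ns_7, ns_8, ns_9, ns_10, ns_11, ns_12, ns_13]

theorem ctx : Ctx 32 5 ns := ctx_of (by decide +kernel)

theorem lctx : LCtx 32 5 8 31 trN5 ns := lctx_of ctx trOK5 (by decide +kernel)

noncomputable def E : List ℕ → ℕ → ℕ := pfW0 32 5 8 31 trN5 ns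

theorem hE : Evl 32 ns E := evl_pfW0 lctx

theorem geq : gen ModelM22.ns ModelM22.G_ss0 = gen ns [[0], [2]] :=
  gen_eq_of_take (ns := ModelM22.ns) (ns' := ns) (k := 2) rfl (ws := ModelM22.G_ss0) (by decide +kernel)

theorem hn : Nat.card (gen ns [[0], [2]]) = 443520 :=
  geq ▸ ModelM22.G_card

theorem kn_0 : Known ns (gen ns [[0], [2]]) 3 :=
  known_gen (by decide +kernel)

noncomputable def A_S5 : List SD :=
  []

noncomputable def A_d4 : SD :=
  ⟨4, 1, [18, 24, 22, 26], lab 3 7 (nat_lit 0x126406c36d14d80000), 4⟩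

noncomputable def A_S4 : List SD :=
  A_d4 :: A_S5

noncomputable def A_d3 : SD :=
  ⟨5, 2, [20, 18, 24, 22, 26], lab 4 15 (nat_lit 0x100000000000000), 1⟩

noncomputable def A_S3 : List SD :=
  A_d3 :: A_S4

noncomputable def A_d2 : SD :=
  ⟨3, 2, [12, 14, 16, 20, 18, 24, 22, 26], lab 4 15 (nat_lit 0x15522622247348684c0000), 2⟩

noncomputable def A_S2 : List SD :=
  A_d2 :: A_S3

noncomputable def A_d1 : SD :=
  ⟨2, 1, [6, 8, 10, 12, 14, 16, 20, 18, 24, 22, 26], lab 5 31 (nat_lit 0x41c6608061316d504ec051ab08000), 3⟩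

noncomputable def A_S1 : List SD :=
  A_d1 :: A_S2

noncomputable def A_d0 : SD :=
  ⟨1, 2, [0, 2, 4, 6, 8, 10, 12, 14, 16, 20, 18, 24, 22, 26], lab 5 31 (nat_lit 0x1c029a650d4d498d0c89086620800), 3⟩

noncomputable def A_S0 : List SD :=
  A_d0 :: A_S1

theorem kn_1 : Known ns (gen ns [[0], [2]]) 16383 :=
  kn_0.steps ctx (es := [(2, [3, 3, 3, 1, 3]),
 (3, [2, 1, 2, 1, 5, 0, 2, 2, 0, 0, 4, 1, 4]),
 (4, [5, 3, 1, 5, 2, 4, 1, 2, 5, 1, 5, 0, 2]),
 (5, [6, 9]),
 (6, [7, 9, 7, 9, 10, 10, 10, 7, 9, 7, 8, 11]),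
 (7, [6, 9, 11, 9]),
 (8, [12, 14, 14, 13, 15, 13]),
 (9, [13, 15, 17, 15]),
 (10, [15, 13, 14]),
 (11, [13, 15, 16, 15, 15, 13]),
 (12, [21, 21, 23, 18, 21]),
 (13, [21, 18, 22, 19, 22, 22, 20, 19])]) (by decide +kernel)

theorem A_ex : Exact 32 ns A_S0 ∧ gen ns (sTop A_S0) = gen ns [[0], [2]] ∧ gen ns [[0], [2]] = gen ns [[0], [2]] :=
  exact_of_known ctx hn (le_rfl) kn_1 (by decide +kernel)

theorem hbase : IsBase 32 (gen ns [[0], [2]]) [1, 2, 3, 5, 4] :=
  isBase_of_exact A_ex (by decide +kernel)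

noncomputable def m2_P : Pd :=
  ⟨6, 2, 1, nat_lit 0x200000000000101000000000080828000000040c1c3418000202021a2a00010301010f0900,
  nat_lit 0xffffffffffff000000000000000000000000000000000000000000000000ffffffffffffffffffffffffffffffffffff000000000000000000000000000000000000000000000000000000000000ffffffffffffffffffffffff000000000000000000000000ffffffffffff000000000000000000000000ffffffffffffffffffffffff, 41, 8, 62,
  nat_lit 0x600000000000000000000000000000000000000000000000000000000000000050000000000000000000000000000000400000000000000030000000200010000⟩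

noncomputable def m2_aws : List (List ℕ) :=
  [[14, 13, 21, 26, 22, 18], [17, 0, 6, 6, 14, 13, 20, 26, 22], [3, 12, 6, 18, 14, 20, 22], [12, 7, 14, 21, 26, 24], [6, 2, 17, 8, 6, 21, 12, 18], [21, 12, 6, 14, 17, 20, 26, 22, 24], [7, 18, 12, 20, 18], [3, 17, 8, 6, 18, 14, 20, 26, 22, 24], [18, 0, 21, 6, 16, 12, 21, 18], [6, 21, 12, 21, 22]]

theorem m2_mem : ∀ u ∈ m2_aws, wp ns u ∈ gen ns [[0], [2]] :=
  kn_1.words (by decide +kernel)

noncomputable def m2_prs : Prs :=
  [(7, 32, 64), (7, 64, 32), (8, 16, 64), (9, 1, 65), (9, 16, 17), (7, 2, 48), (7, 16, 66), (8, 1, 65), (8, 2, 96), (8, 64, 80), (9, 32, 104), (8, 32, 50), (7, 5, 88)]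

noncomputable def m2_rels : List Rel :=
  [.con 64 0 0 [1538],
  .con 16 1 1 [2818],
  .con 32 1 1 [3074],
  .con 32 4 4 [8450],
  .con 64 5 5 [10498],
  .fus 7 [0, 0] [] [10247, 12289, 12546],
  .fus 7 [1, 1] [] [10241, 12295, 12802],
  .fus 8 [2, 2] [] [8199, 12289, 13058],
  .con 64 2 6 [5126],
  .fus 9 [3, 3] [] [1537, 12289, 13314],
  .fus 9 [4, 4] [] [1, 1025, 13570],
  .fus 7 [5, 5] [] [2055, 8193, 8449, 10241, 13826],
  .fus 7 [6, 6] [] [2049, 3329, 8199, 12289, 14082],
  .fus 8 [7, 7] [] [1537, 12289, 14338],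
  .fus 8 [8, 8] [] [2055, 10241, 10497, 12289, 14594],
  .fus 8 [9, 9] [] [8193, 8705, 14850],
  .fus 9 [10, 10] [] [6145, 6657, 6913, 10497, 12289, 15106],
  .fus 8 [11, 11] [] [2049, 2817, 3073, 8193, 8449, 15362],
  .con 64 2 2 [5122, 6919, 8711],
  .con 2 0 1 [262, 2823, 8199],
  .con 32 0 5 [1286, 10503, 12295],
  .con 32 2 5 [4870, 10503, 12295],
  .con 8 1 3 [2566, 6663, 6919, 10247, 10503, 12295],
  .con 8 2 3 [4358, 6663, 6919, 10247, 10503, 12295],
  .con 16 2 4 [4614, 8455, 8711, 10247, 10503, 12295],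
  .fus 8 [2, 7] [7, 2] [1031, 1537],
  .con 64 0 1 [8711],
  .con 32 3 4 [10497],
  .con 2 0 0 [258, 1025, 8193],
  .con 32 0 0 [1282, 1537, 12289],
  .con 4 2 2 [4353, 4609, 8449, 8705, 10241, 10497, 12289],
  .con 32 2 2 [4866, 5121, 6663, 8455, 12289],
  .con 32 0 1 [3335, 8455, 8711],
  .con 4 1 1 [2306, 2817, 3329, 8193, 8705, 12289],
  .con 8 1 1 [2562, 3073, 3329, 10241, 10497, 12289],
  .con 8 2 2 [4354, 4865, 5121, 6401, 10241, 10497, 12290],
  .fus 8 [8, 7] [7, 8, 2] [263, 1281, 1537, 10503, 13063],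
  .fus 9 [10, 4] [4, 10] [769, 1281, 1537, 6407, 10503],
  .con 4 0 0 [514, 769, 1025, 1281, 6145, 6401, 6657, 8193, 8449, 8705, 10241, 10498, 12289],
  .con 4 1 2 [2310, 2561, 2817, 4615, 5127, 8199, 8705, 12295],
  .con 8 0 1 [1281, 1537, 6401, 8455, 8711, 10497, 12289],
  .fus 8 [11, 7] [7, 11, 9] [257, 1025, 3335, 8455, 8710, 10503, 14855],
  .fus 7 [6, 12] [12, 6, 0, 1] [1031, 2567, 2823, 3335, 4615, 6913, 8455, 10247, 12295, 12551, 12807],
  .fus 7 [5, 12] [12, 5, 0] [263, 2305, 4615, 6401, 6657, 8449, 10497, 12551],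
  .fus 7 [12, 12] [0] [7, 519, 4103, 4359, 4615, 4871, 6913, 8455, 10247, 10502, 12295, 12551, 15618]]

noncomputable def m2_ys : List (List ℕ) :=
  [[13573],
  [14855, 15365],
  [13575, 14853, 15109, 15623],
  [4097, 13574, 13826, 14338, 14598, 14855, 15106, 15622],
  [14849],
  [12801, 13057, 13826, 14338, 14598, 14855],
  [13057, 14849]]

noncomputable def m2_ss : List (List ℕ × ℕ × ℕ) :=
  [([4609, 12801, 13826, 14340, 14596, 15366], 4, (nat_lit 0x4000004000000000004000400060402020002040004060400000004000000000000000400060701000005))]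

noncomputable def m2_cs : List (List ℕ) :=
  [[(nat_lit 0x5000100070000000001000000000000000000070400000000000000000000)],
  [(nat_lit 0x607000600000000000605060405060405070402000601060400000004000400000404040307000000000000), (nat_lit 0x70003000207050002050605030003010001000100000406000400000700000000000002)],
  [(nat_lit 0x7000705030707010507060301000502010402050102060002050702010206020400070403070303070100000502), (nat_lit 0x70306010300000700070705030207000704030701030703000701000002060007000003040501000000000001), (nat_lit 0x600000600000000060606060001000302020304060605000402000307010003000404000603000000000002)],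
  [(nat_lit 0x202070200070200060204020004040503040300060204040402000500040002000404010005000000000002), (nat_lit 0x600000500000000050104050404070405010602010104030303000001030406000007050203000000000003), (nat_lit 0x600000600000000070603060502030401050507030602070401000401070404000004010703070100000501), (nat_lit 0x2000004040005030402000000060000000102030301000600000300020706020406020007060005000000000000)],
  [(nat_lit 0x7000304010000000003000000000400000000000000040000000000000000), (nat_lit 0x7050304050000000003010000000400000000000400000000000000000000), (nat_lit 0x600000600000000070603060602030405050207030602070401000405070400000004050707070100000501), (nat_lit 0x1070000000100060001000401020100030702060005020002000504040402000000050304000000000002), (nat_lit 0x7000000000000000000000700000000000000000000000000000000)],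
  [(nat_lit 0x607000600000700000605060406060001070402000606060400000404000400000404000307000000000000), (nat_lit 0x600000600000000070603060602060402000507030602060400000400040404000004040703070100000500), (nat_lit 0x607010600000707000605070407060307070001000303060500000000000404000001000303070100000500), (nat_lit 0x600000600000000060606060202000705020005060602000302000004040006000007000607000000000002), (nat_lit 0x600000600000000060606060002000707020304060602000402000000040002000004040603000000000002), (nat_lit 0x200000200000000000200020400020401000406000200020400000106060002000004030001070100000500)],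
  [(nat_lit 0x7000304000000000003000000000400000000000000040000000000000000), (nat_lit 0x400000400000000060403040404060706020706060404060002000404000402000000040102070100000502), (nat_lit 0x70206000702000501000306000700000400000000000003040004070100000500), (nat_lit 0x7000000000000000100000000000000000005000000000000000000), (nat_lit 0x1000000000000000000000000000000000000000000000000000000), (nat_lit 0x700000000000000000000000000000000000000000000000000000000), (nat_lit 0x7000000000000000000000700000000000000070000000000000000)]]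

noncomputable def m2_B : List (ℕ × ℕ × List (List ℕ)) :=
  [(2, 1, [[6], [5], [3], [2], [0], [1], [4]]),
  (1, 1, [[4], [1], [0]]),
  (3, 1, [[0]])]

theorem m2_row0 : AllIn (fun j => m2_P.chkRow (eqB (Comp.evL E) [1, 2, 3, 5, 4] m2_aws) j = true) 0 7 :=
  allIn_of_allFrom (a := 0) (n := 7) (by decide +kernel)

theorem m2_pr0 : AllIn (fun j => m2_P.chkPr (eqB (Comp.evL E) [1, 2, 3, 5, 4] m2_aws) (m2_prs.get j) = true) 0 13 :=
  allIn_of_allFrom (a := 0) (n := 13) (by decide +kernel)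

theorem m2_rel0 : AllIn (fun k => m2_P.chkRel m2_prs (getL (Rel.con 0 0 0 []) m2_rels k) = true) 0 45 :=
  allIn_of_allFrom (a := 0) (n := 45) (by decide +kernel)

theorem m2_lin : m2_P.chkLin 2 m2_rels m2_ys m2_ss m2_cs = true :=
  by decide +kernel

theorem m2_bound : MultBound 2 2 (gen ns [[0], [2]]) :=
  multBound_net ctx m2_mem hn (P := m2_P) (B := m2_B) (by norm_num [m2_P])
    (GOK.of_rows (eSound_eqB (evl_evL ctx.ok hE) hbase m2_mem) m2_row0 m2_pr0 (by decide +kernel))
    (rels_of_allIn m2_rel0 (by decide +kernel)) m2_lin (by decide +kernel) (by decide +kernel)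

noncomputable def m3_P : Pd :=
  ⟨1, 3, 2, 64,
  0, 12, 9, 6,
  nat_lit 0x10000000100000000⟩

noncomputable def m3_aws : List (List ℕ) :=
  [[16, 12, 21, 24], [20, 7, 13, 21, 26, 24, 18], [17, 8, 6, 21, 12, 20, 24]]

theorem m3_mem : ∀ u ∈ m3_aws, wp ns u ∈ gen ns [[0], [2]] :=
  kn_1.words (by decide +kernel)

noncomputable def m3_prs : Prs :=
  [(2, 1, 2), (2, 4, 8)]

noncomputable def m3_rels : List Rel :=
  [.con 4 0 0 [259],
  .fus 2 [0, 0, 0] [] [1, 1027],
  .fus 2 [1, 1, 1] [] [769, 1283]]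

noncomputable def m3_ys : List (List ℕ) :=
  [[1031],
  [1287]]

noncomputable def m3_ss : List (List ℕ × ℕ × ℕ) :=
  [([257], 3, 8)]

noncomputable def m3_cs : List (List ℕ) :=
  [[524288],
  [2050, (nat_lit 0x8000000)]]

noncomputable def m3_B : List (ℕ × ℕ × List (List ℕ)) :=
  [(2, 1, [[1], [1], [0]]),
  (3, 1, [[0], [0]])]

theorem m3_row0 : AllIn (fun j => m3_P.chkRow (eqB (Comp.evL E) [1, 2, 3, 5, 4] m3_aws) j = true) 0 2 :=
  allIn_of_allFrom (a := 0) (n := 2) (by decide +kernel)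

theorem m3_pr0 : AllIn (fun j => m3_P.chkPr (eqB (Comp.evL E) [1, 2, 3, 5, 4] m3_aws) (m3_prs.get j) = true) 0 2 :=
  allIn_of_allFrom (a := 0) (n := 2) (by decide +kernel)

theorem m3_rel0 : AllIn (fun k => m3_P.chkRel m3_prs (getL (Rel.con 0 0 0 []) m3_rels k) = true) 0 3 :=
  allIn_of_allFrom (a := 0) (n := 3) (by decide +kernel)

theorem m3_lin : m3_P.chkLin 1 m3_rels m3_ys m3_ss m3_cs = true :=
  by decide +kernel

theorem m3_bound : MultBound 3 1 (gen ns [[0], [2]]) :=
  multBound_net ctx m3_mem hn (P := m3_P) (B := m3_B) (by norm_num [m3_P])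
    (GOK.of_rows (eSound_eqB (evl_evL ctx.ok hE) hbase m3_mem) m3_row0 m3_pr0 (by decide +kernel))
    (rels_of_allIn m3_rel0 (by decide +kernel)) m3_lin (by decide +kernel) (by decide +kernel)

theorem bounds : ∀ x ∈ ([(2, 2), (3, 1)] : List (ℕ × ℕ)), MultBound x.1 x.2 (gen ns [[0], [2]]) :=
  List.forall_mem_cons.2 ⟨m2_bound, List.forall_mem_cons.2 ⟨m3_bound, fun _ h => absurd h List.not_mem_nil⟩⟩

theorem mult_of : ∀ {A : Type} [CommGroup A], Nat.card A = 12 → MultOnto (gen ModelM22.ns ModelM22.G_ss0) A →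
    HasSchurMultiplier (gen ModelM22.ns ModelM22.G_ss0) A :=
  fun ha h => hasMult_of_list ModelM22.G_card ha (geq ▸ bounds) (by decide +kernel) h

end Cfsg.Agent.Spor.MultM22
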