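import Cfsg.Agent.KSG.MultH
import Cfsg.Agent.Spor.ModelM24

set_option autoImplicit false
set_option maxRecDepth 4096

namespace Cfsg.Agent.Spor.MultM24

open Cfsg Cfsg.Agent.Comp Cfsg.Agent.KSG.Pc

noncomputable def ns_2 : Net :=
 (Net.cons (nat_lit 16) 648
 (Net.cons (nat_lit 8) (nat_lit 0x2800dc)
 (Net.cons (nat_lit 4) (nat_lit 0xa020c0f)
 (Net.cons (nat_lit 2) (nat_lit 0x20000031)
 (Net.cons (nat_lit 1) (nat_lit 0x104015)
 (Net.cons (nat_lit 2) (nat_lit 0x200020)
 (Net.cons (nat_lit 4) (nat_lit 0x8020802)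
 (Net.cons (nat_lit 8) (nat_lit 0x28004c)
 (Net.cons (nat_lit 16) 648
 Net.nil)))))))))

noncomputable def ns_3 : Net :=
 (Net.cons (nat_lit 16) 25752
 (Net.cons (nat_lit 8) 262290
 (Net.cons (nat_lit 4) (nat_lit 0x4030008)
 (Net.cons (nat_lit 2) (nat_lit 0x200002)
 (Net.cons (nat_lit 1) (nat_lit 0x110010)
 (Net.cons (nat_lit 2) 131072
 (Net.cons (nat_lit 8) (nat_lit 0x200000)
 (Net.cons (nat_lit 16) 25618
 Net.nil))))))))

noncomputable def ns_4 : Net :=
 (Net.cons (nat_lit 16) 64706
 (Net.cons (nat_lit 8) 655376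
 (Net.cons (nat_lit 4) (nat_lit 0xe0d0202)
 (Net.cons (nat_lit 2) (nat_lit 0x22010022)
 (Net.cons (nat_lit 1) (nat_lit 0x44501004)
 (Net.cons (nat_lit 2) (nat_lit 0x22000000)
 (Net.cons (nat_lit 4) 786944
 (Net.cons (nat_lit 8) (nat_lit 0x960010)
 (Net.cons (nat_lit 16) 64720
 Net.nil)))))))))

noncomputable def ns_5 : Net :=
 (Net.cons (nat_lit 16) 9384
 (Net.cons (nat_lit 8) (nat_lit 0x280010)
 (Net.cons (nat_lit 4) (nat_lit 0xc09010e)
 (Net.cons (nat_lit 2) (nat_lit 0x20133032)
 (Net.cons (nat_lit 1) (nat_lit 0x40141014)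
 (Net.cons (nat_lit 2) 8226
 (Net.cons (nat_lit 4) (nat_lit 0xc08080a)
 (Net.cons (nat_lit 8) (nat_lit 0x280088)
 (Net.cons (nat_lit 16) 9376
 Net.nil)))))))))

noncomputable def ns_6 : Net :=
 (Net.cons (nat_lit 16) 8278
 (Net.cons (nat_lit 8) 194
 (Net.cons (nat_lit 4) 657152
 (Net.cons (nat_lit 2) 8224
 (Net.cons (nat_lit 1) 69700
 (Net.cons (nat_lit 2) 131074
 (Net.cons (nat_lit 4) 133644
 (Net.cons (nat_lit 8) (nat_lit 0x2000d6)
 (Net.cons (nat_lit 16) 8206
 Net.nil)))))))))

noncomputable def ns_7 : Net :=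
 (Net.cons (nat_lit 16) 13460
 (Net.cons (nat_lit 8) (nat_lit 0x38009c)
 (Net.cons (nat_lit 4) (nat_lit 0xc060108)
 (Net.cons (nat_lit 2) (nat_lit 0x10001320)
 (Net.cons (nat_lit 1) (nat_lit 0x10114140)
 (Net.cons (nat_lit 2) (nat_lit 0x20200200)
 (Net.cons (nat_lit 4) (nat_lit 0xc000c00)
 (Net.cons (nat_lit 8) (nat_lit 0x2800dc)
 (Net.cons (nat_lit 16) 13416
 Net.nil)))))))))

noncomputable def ns_8 : Net :=
 (Net.cons (nat_lit 16) 36952
 (Net.cons (nat_lit 8) (nat_lit 0x800026)
 (Net.cons (nat_lit 4) 591368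
 (Net.cons (nat_lit 2) (nat_lit 0x20030110)
 (Net.cons (nat_lit 1) (nat_lit 0x10510140)
 (Net.cons (nat_lit 2) (nat_lit 0x20000220)
 (Net.cons (nat_lit 4) 919054
 (Net.cons (nat_lit 8) 70
 (Net.cons (nat_lit 16) 36920
 Net.nil)))))))))

noncomputable def ns_9 : Net :=
 (Net.cons (nat_lit 16) 20760
 (Net.cons (nat_lit 8) (nat_lit 0x190030)
 (Net.cons (nat_lit 4) (nat_lit 0x1050608)
 (Net.cons (nat_lit 2) (nat_lit 0x12023200)
 (Net.cons (nat_lit 1) (nat_lit 0x1041040)
 (Net.cons (nat_lit 2) (nat_lit 0x2022000)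
 (Net.cons (nat_lit 4) 1536
 (Net.cons (nat_lit 8) 524304
 (Net.cons (nat_lit 16) 20760
 Net.nil)))))))))

noncomputable def ns_10 : Net :=
 (Net.cons (nat_lit 16) 58012
 (Net.cons (nat_lit 8) (nat_lit 0x100084)
 (Net.cons (nat_lit 4) (nat_lit 0x80c0008)
 (Net.cons (nat_lit 2) (nat_lit 0x32012320)
 (Net.cons (nat_lit 1) (nat_lit 0x40041150)
 (Net.cons (nat_lit 2) (nat_lit 0x20022200)
 (Net.cons (nat_lit 4) (nat_lit 0xa0e080c)
 (Net.cons (nat_lit 8) (nat_lit 0x100084)
 (Net.cons (nat_lit 16) 58012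
 Net.nil)))))))))

noncomputable def ns_11 : Net :=
 (Net.cons (nat_lit 16) 65106
 (Net.cons (nat_lit 8) (nat_lit 0x8e00e0)
 (Net.cons (nat_lit 4) (nat_lit 0x4070e02)
 (Net.cons (nat_lit 2) (nat_lit 0x30020300)
 (Net.cons (nat_lit 1) (nat_lit 0x50500110)
 (Net.cons (nat_lit 4) 658946
 (Net.cons (nat_lit 8) (nat_lit 0x2200e0)
 (Net.cons (nat_lit 16) 65058
 Net.nil))))))))

noncomputable def ns_12 : Net :=
 (Net.cons (nat_lit 16) 9840
 (Net.cons (nat_lit 8) (nat_lit 0x4800b0)
 (Net.cons (nat_lit 4) (nat_lit 0xe0f0a00)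
 (Net.cons (nat_lit 2) (nat_lit 0x22120220)
 (Net.cons (nat_lit 1) (nat_lit 0x44000110)
 (Net.cons (nat_lit 2) (nat_lit 0x2000020)
 (Net.cons (nat_lit 4) (nat_lit 0x80c0a00)
 (Net.cons (nat_lit 8) (nat_lit 0x4800a0)
 (Net.cons (nat_lit 16) 9776
 Net.nil)))))))))

noncomputable def ns_13 : Net :=
 (Net.cons (nat_lit 16) 2144
 (Net.cons (nat_lit 8) 524384
 (Net.cons (nat_lit 4) 396288
 (Net.cons (nat_lit 2) (nat_lit 0x310320)
 (Net.cons (nat_lit 1) (nat_lit 0x500040)
 (Net.cons (nat_lit 2) 32
 (Net.cons (nat_lit 4) 396288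
 (Net.cons (nat_lit 8) 96
 (Net.cons (nat_lit 16) 2112
 Net.nil)))))))))

noncomputable def ns_14 : Net :=
 (Net.cons (nat_lit 16) 24496
 (Net.cons (nat_lit 8) (nat_lit 0xc30080)
 (Net.cons (nat_lit 4) (nat_lit 0xc060000)
 (Net.cons (nat_lit 2) (nat_lit 0x11030000)
 (Net.cons (nat_lit 1) (nat_lit 0x45000050)
 (Net.cons (nat_lit 4) 262144
 (Net.cons (nat_lit 8) (nat_lit 0x820020)
 (Net.cons (nat_lit 16) 24496
 Net.nil))))))))

noncomputable def ns_15 : Net :=
 (Net.cons (nat_lit 16) 43872
 (Net.cons (nat_lit 8) (nat_lit 0xb700c0)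
 (Net.cons (nat_lit 4) (nat_lit 0x20e0400)
 (Net.cons (nat_lit 2) (nat_lit 0x22033020)
 (Net.cons (nat_lit 1) (nat_lit 0x14051040)
 (Net.cons (nat_lit 2) (nat_lit 0x22002020)
 (Net.cons (nat_lit 4) (nat_lit 0x80c0400)
 (Net.cons (nat_lit 8) (nat_lit 0x940080)
 (Net.cons (nat_lit 16) 43872
 Net.nil)))))))))

noncomputable def ns_16 : Net :=
 (Net.cons (nat_lit 16) 50016
 (Net.cons (nat_lit 8) (nat_lit 0xb80000)
 (Net.cons (nat_lit 4) (nat_lit 0xb040800)
 (Net.cons (nat_lit 2) 8224
 (Net.cons (nat_lit 1) (nat_lit 0x51010040)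
 (Net.cons (nat_lit 2) 32
 (Net.cons (nat_lit 4) (nat_lit 0x8000800)
 (Net.cons (nat_lit 8) (nat_lit 0x380000)
 (Net.cons (nat_lit 16) 50016
 Net.nil)))))))))

noncomputable def ns_17 : Net :=
 (Net.cons (nat_lit 16) 43264
 (Net.cons (nat_lit 8) (nat_lit 0x3c0060)
 (Net.cons (nat_lit 4) (nat_lit 0x10e0200)
 (Net.cons (nat_lit 2) (nat_lit 0x20200000)
 (Net.cons (nat_lit 1) (nat_lit 0x4050000)
 (Net.cons (nat_lit 4) 917504
 (Net.cons (nat_lit 8) (nat_lit 0x3c0020)
 (Net.cons (nat_lit 16) 43264
 Net.nil))))))))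

noncomputable def ns_18 : Net :=
 (Net.cons (nat_lit 16) 33376
 (Net.cons (nat_lit 8) 131104
 (Net.cons (nat_lit 4) (nat_lit 0x8080c00)
 (Net.cons (nat_lit 2) (nat_lit 0x2332120)
 (Net.cons (nat_lit 1) 327744
 (Net.cons (nat_lit 2) 32
 (Net.cons (nat_lit 4) (nat_lit 0x8080c00)
 (Net.cons (nat_lit 8) 131104
 (Net.cons (nat_lit 16) 33376
 Net.nil)))))))))

noncomputable def ns : List Net := [ModelM24.ns_0, ModelM24.ns_1, ns_2, ns_3, ns_4, ns_5, ns_6, ns_7, ns_8, ns_9, ns_10, ns_11, ns_12, ns_13, ns_14, ns_15, ns_16, ns_17, ns_18]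

theorem ctx : Ctx 32 5 ns := ctx_of (by decide +kernel)

theorem lctx : LCtx 32 5 8 31 trN5 ns := lctx_of ctx trOK5 (by decide +kernel)

noncomputable def E : List ℕ → ℕ → ℕ := pfW0 32 5 8 31 trN5 ns

theorem hE : Evl 32 ns E := evl_pfW0 lctx

theorem geq : gen ModelM24.ns ModelM24.G_ss0 = gen ns [[0], [2]] :=
  gen_eq_of_take (ns := ModelM24.ns) (ns' := ns) (k := 2) rfl (ws := ModelM24.G_ss0) (by decide +kernel)

theorem hn : Nat.card (gen ns [[0], [2]]) = 244823040 :=
  geq ▸ ModelM24.G_card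

theorem kn_0 : Known ns (gen ns [[0], [2]]) 3 :=
  known_gen (by decide +kernel)

noncomputable def A_S7 : List SD :=
  []

noncomputable def A_d6 : SD :=
  ⟨5, 1, [32, 34, 26, 36], lab 3 7 (nat_lit 0x922db69b0c10180000), 4⟩

noncomputable def A_S6 : List SD :=
  A_d6 :: A_S7

noncomputable def A_d5 : SD :=
  ⟨7, 1, [28, 30, 32, 34, 26, 36], lab 4 15 (nat_lit 0x10000000000), 1⟩

noncomputable def A_S5 : List SD :=
  A_d5 :: A_S6

noncomputable def A_d4 : SD :=
  ⟨4, 1, [20, 22, 24, 28, 30, 32, 34, 26, 36], lab 5 31 (nat_lit 0x22123510430800730c300b0e000000), 3⟩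

noncomputable def A_S4 : List SD :=
  A_d4 :: A_S5

noncomputable def A_d3 : SD :=
  ⟨3, 1, [12, 16, 18, 20, 22, 24, 28, 30, 32, 34, 26, 36], lab 5 31 (nat_lit 0xb181608c6010644689252886400000), 2⟩

noncomputable def A_S3 : List SD :=
  A_d3 :: A_S4

noncomputable def A_d2 : SD :=
  ⟨2, 1, [10, 14, 12, 16, 18, 20, 22, 24, 28, 30, 32, 34, 26, 36], lab 5 31 (nat_lit 0x1301162965b4883090ce78f0738000), 2⟩

noncomputable def A_S2 : List SD :=
  A_d2 :: A_S3

noncomputable def A_d1 : SD :=
  ⟨1, 2, [2, 6, 8, 10, 14, 12, 16, 18, 20, 22, 24, 28, 30, 32, 34, 26, 36], lab 6 63 (nat_lit 0x2d535104d14a2c530f4c80c90cc1ce004000), 2⟩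

noncomputable def A_S1 : List SD :=
  A_d1 :: A_S2

noncomputable def A_d0 : SD :=
  ⟨0, 1, [0, 4, 2, 6, 8, 10, 14, 12, 16, 18, 20, 22, 24, 28, 30, 32, 34, 26, 36], lab 6 63 (nat_lit 0x21c8871456123834864cb1c45e008d109000), 2⟩

noncomputable def A_S0 : List SD :=
  A_d0 :: A_S1

theorem kn_1 : Known ns (gen ns [[0], [2]]) 524287 :=
  kn_0.steps ctx (es := [(2, [0, 2, 0]),
 (3, [5, 3, 4, 2, 4]),
 (4, [6, 3, 7, 2, 6, 2]),
 (5, [3, 7, 3, 7]),
 (6, [6, 3, 6, 8]),
 (7, [11, 11]),
 (8, [11, 12, 11, 14, 13, 11]),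
 (9, [12, 17, 13, 16]),
 (10, [13, 16, 13, 13, 18, 12]),
 (11, [13, 13, 13, 19, 17, 18, 12, 19]),
 (12, [20, 22, 22, 21, 21]),
 (13, [22, 25]),
 (14, [23, 21, 21, 23]),
 (15, [22, 20, 22, 21, 24]),
 (16, [29, 27, 31]),
 (17, [28, 31, 29, 30, 28, 31, 31]),
 (18, [27, 28, 30, 26])]) (by decide +kernel)

theorem A_ex : Exact 32 ns A_S0 ∧ gen ns (sTop A_S0) = gen ns [[0], [2]] ∧ gen ns [[0], [2]] = gen ns [[0], [2]] :=
  exact_of_known ctx hn (le_rfl) kn_1 (by decide +kernel)

theorem hbase : IsBase 32 (gen ns [[0], [2]]) [0, 1, 2, 3, 4, 7, 5] :=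
  isBase_of_exact A_ex (by decide +kernel)

noncomputable def m2_P : Pd :=
  ⟨9, 2, 1, nat_lit 0x8000000000000000000000000801000000000000000000000080100202000000000000000008010020240000000000000000801002004008000000000000080100a02c008110080000000080300a03c0e8190b63800000080100a0040481104e3b44000080100a0140081100a2d440800,
  nat_lit 0xffffffffffff000000000000000000000000000000000000000000000000000000000000000000000000000000000000000000000000000000000000000000000000000000000000000000000000000000000000000000000000000000000000000000000000ffffffffffffffffffffffff000000000000ffffffffffff000000000000000000000000000000000000000000000000ffffffffffffffffffffffffffffffffffffffffffffffffffffffffffffffffffffffff000000000000000000000000000000000000000000000000ffffffffffff000000000000ffffffffffffffffffffffffffffffffffffffffffffffff000000000000000000000000000000000000ffffffffffffffffffffffff000000000000ffffffffffffffffffffffffffffffffffffffffffffffff, 130, 2, 127,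
  nat_lit 0x600000700000000000800000000000000000000000900000000000000000000050000000000000000000000000000000400000000000000030000000200010000⟩

noncomputable def m2_aws : List (List ℕ) :=
  [[34, 12, 28, 20, 29], [15, 10, 36, 16, 21, 29, 34, 32], [8, 4, 7, 25, 10, 17, 12, 23, 21, 36, 26, 34, 32], [17, 2, 12, 10, 36, 12, 24, 22, 36, 26, 34], [34, 10, 36, 16, 32, 20, 26], [15, 2, 14, 36, 12, 29, 23, 20, 29, 36, 34, 32], [0, 12, 2, 15, 20, 20, 29, 36, 34], [23, 4, 8, 2, 17, 15, 13, 22, 28, 26, 32], [26, 10, 20, 12, 21, 22, 29, 36, 34, 32], [11, 4, 19, 9, 17, 10, 17, 29, 23, 20, 36, 34], [3, 0, 23, 3, 17, 10, 20, 12, 30, 20, 28, 26, 32], [2, 0, 21, 3, 29, 10, 18, 34, 20, 29, 36, 34, 32], [2, 4, 9, 11, 16, 12, 29, 21, 29, 26, 34], [8, 4, 7, 3, 29, 10, 36, 12, 22, 28]]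

theorem m2_mem : ∀ u ∈ m2_aws, wp ns u ∈ gen ns [[0], [2]] :=
  kn_1.words (by decide +kernel)

noncomputable def m2_prs : Prs :=
  [(10, 256, 48), (11, 16, 384), (10, 9, 32), (11, 32, 160), (12, 64, 713), (12, 16, 256), (11, 2, 641), (11, 256, 512), (13, 2, 65), (13, 256, 768), (13, 128, 368), (13, 32, 113), (13, 12, 95), (13, 512, 512), (11, 64, 579), (11, 512, 768), (13, 16, 611), (12, 512, 384), (13, 64, 994), (10, 2, 811), (10, 64, 541), (10, 128, 944), (10, 512, 512), (10, 4, 589), (12, 32, 441), (12, 10, 650), (12, 256, 16)]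

noncomputable def m2_rels : List Rel :=
  [.con 2 1 1 [4609],
  .con 8 3 3 [8961],
  .con 64 6 6 [17665],
  .fus 10 [0, 0] [] [11265, 11521, 14081, 22529],
  .fus 11 [1, 1] [] [11265, 19713, 19969, 22529],
  .con 64 1 1 [17409],
  .con 512 1 1 [22785],
  .con 256 3 3 [14849],
  .con 512 3 3 [15105],
  .con 128 6 6 [20225],
  .con 64 1 6 [4865],
  .con 64 4 6 [12545],
  .con 16 0 4 [12289, 22529],
  .con 32 1 5 [14849, 22529],
  .con 128 0 7 [20225, 25345],
  .con 16 2 4 [12033, 12289, 19713, 19969, 22529],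
  .con 2 0 0 [2049, 22529],
  .con 8 0 0 [1281, 14081],
  .con 128 0 0 [2305, 25345],
  .con 32 2 5 [14593, 14849, 15105, 19713, 19969, 20225, 22529, 22785, 25345],
  .fus 10 [2, 2] [] [1, 769, 8449, 8961],
  .fus 11 [3, 1] [1, 3] [11521, 14593, 14849, 19969],
  .con 256 3 6 [19969, 22785],
  .con 16 3 3 [9729, 11521, 22529],
  .con 128 3 3 [9985, 14593, 25345],
  .fus 12 [4, 5] [5, 4] [2049, 9729, 11777, 17409, 19969, 22785],
  .con 4 2 2 [6913, 7169, 7425, 22785, 25345],
  .con 128 2 2 [7425, 19969, 20225, 25345],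
  .fus 11 [6, 6] [7] [1, 1793, 2305, 2817, 19713, 25345, 27393],
  .con 64 3 4 [12033, 12545, 17409, 19969, 22785],
  .fus 13 [8, 8] [9] [1, 1537, 2817, 16897, 17409, 22785, 27905],
  .con 64 3 6 [9985, 17153, 17665, 19713, 20225, 25345],
  .fus 13 [10, 10] [] [11265, 11521, 11777, 12289, 14081, 14337, 14849, 16897, 17409, 17665, 19713, 22529, 25345],
  .con 64 3 3 [9473, 9985, 14337, 19713, 20225, 25345],
  .con 8 1 1 [3585, 3841, 4609, 9729, 11265, 11521, 12289, 14081],
  .fus 13 [11, 11] [] [1, 1025, 1281, 1537, 11265, 11521, 11777, 14337, 14849, 16897, 17409, 17665, 22529, 25345],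
  .con 8 1 3 [3841, 8705, 8961, 9729, 11265, 11521, 14081, 14849, 22529],
  .fus 13 [9, 12] [12, 9, 13] [2049, 2305, 4609, 4865, 7425, 9985, 12289, 17409, 28929],
  .con 4 0 0 [1025, 1537, 1793, 2305, 11265, 11777, 12033, 12545, 16897, 17153, 17409, 17665, 19713, 20225, 22529],
  .fus 11 [14, 14] [15] [1, 257, 1537, 2305, 2817, 4097, 4865, 17409, 17665, 22529, 22785, 25345, 29441],
  .con 4 1 1 [3585, 3841, 4353, 4609, 4865, 7169, 11265, 11521, 12033, 12289, 12545, 14081, 14593, 15105, 19713, 19969, 20225],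
  .con 8 0 1 [1025, 1281, 2049, 3841, 9729, 11521, 12289],
  .con 64 1 3 [4353, 4865, 11777, 12033, 12545, 14337, 14593, 15105, 17409, 19969, 20225],
  .fus 13 [16, 16] [] [1, 257, 1281, 1537, 2305, 2817, 3841, 4097, 4865, 11265, 14081, 14337, 15105, 16897, 17409],
  .con 16 0 2 [1793, 2049, 7169, 11777, 17153, 17665, 19969, 22785],
  .con 8 2 3 [6401, 8705, 9217, 9473, 9985, 11265, 11777, 12289, 12545, 16897, 17665, 19713, 19969, 20225, 22785],
  .fus 12 [4, 4] [17] [1, 769, 1537, 1793, 2305, 8449, 8961, 9217, 9473, 9729, 14081, 17409, 19713, 22785, 25345, 29953],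
  .con 4 0 2 [1793, 2049, 2305, 6145, 6657, 6913, 7425, 11265, 11777, 12033, 12545, 16897, 17409, 17665, 19969, 20225, 22529],
  .con 4 1 2 [4353, 4609, 4865, 6145, 6401, 6913, 7169, 7425, 11265, 11521, 12033, 12289, 14081, 20225, 22785],
  .fus 13 [18, 18] [13] [2817, 3841, 4097, 4353, 4609, 4865, 14081, 14337, 14593, 17153, 17409, 17665, 19713, 19969, 22785, 28929],
  .fus 10 [19, 19] [0] [1, 257, 769, 1281, 2049, 2305, 3329, 4865, 8449, 8705, 8961, 9985, 11521, 12289, 14849, 15105, 22529, 22785, 25345, 25601],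
  .fus 10 [20, 2] [2, 20, 21, 0, 22] [1281, 1537, 6401, 8961, 9217, 9473, 9985, 11265, 12545, 14081, 14593, 14849, 19713, 19969, 20225, 22529, 22785, 25601, 30977, 31233],
  .fus 10 [0, 23] [23, 0, 22] [1025, 1281, 6145, 6401, 8705, 8961, 9729, 11777, 12545, 14337, 14593, 14849, 15105, 19713, 19969, 22785, 31233],
  .con 4 0 1 [1025, 1281, 1793, 2049, 2305, 3585, 4097, 4353, 4865, 7169, 11521, 11777, 12289, 14337, 14593, 17153, 17409, 19969, 25345],
  .fus 12 [24, 25] [25, 24, 26] [257, 769, 1793, 2305, 3329, 3585, 4353, 4609, 9729, 9985, 12033, 14593, 15105, 19969, 20225, 22529, 22785, 32257],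
  .fus 10 [23, 2] [2, 23, 21, 0] [513, 1281, 5889, 6401, 8705, 8961, 9217, 9729, 11265, 11521, 12033, 12289, 14081, 14337, 14593, 14849, 15105, 17153, 19713, 19969, 20225, 22529, 22785, 25345, 25601, 30977],
  .fus 10 [20, 20] [22] [1, 513, 769, 1025, 2305, 5633, 5889, 6401, 6657, 7425, 8449, 8961, 9217, 11777, 12033, 14081, 14849, 17665, 19713, 22529, 22785, 31233],
  .fus 13 [12, 8] [8, 12, 10, 9] [257, 513, 769, 1025, 3073, 3329, 4097, 4609, 6657, 8961, 9473, 9985, 11265, 12033, 12289, 12545, 14081, 14337, 14593, 14849, 15105, 17409, 17665, 20225, 22529, 25345, 27905, 28161],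
  .fus 13 [11, 12] [12, 11, 10, 9] [257, 513, 769, 1281, 3585, 3841, 4097, 6145, 6657, 7169, 9473, 9729, 9985, 11265, 11521, 11777, 12289, 14081, 14593, 16897, 17409, 19713, 22529, 25345, 27905, 28161]]

noncomputable def m2_ys : List (List ℕ) :=
  [[],
  [],
  [],
  [],
  [29441, 32257],
  [27905, 30977, 32257],
  [28161, 29441, 29953, 30977],
  [27905, 29441, 29953],
  [29441],
  [27905]]

noncomputable def m2_ss : List (List ℕ × ℕ × ℕ) :=
  []

noncomputable def m2_cs : List (List ℕ) :=
  [[(nat_lit 0x10001000100010000010100000000010000000000010101000101010100010100000001010000000101010000)],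
  [(nat_lit 0x100000000000001010001000100010000010100010001000100000101000100000100000001000000000000000000010000), (nat_lit 0x10000000100000000010100010001000100000100010100010001000100010100000000010101010000010101010100000001010001)],
  [(nat_lit 0x100000001000101010001010001010001000101010001000101010001000000000000010101010101000100010101010101000001010101000100), (nat_lit 0x101000000010101010000000100000001010001000000000000000101010000000001000000000100000101010100010000010000000100010101), (nat_lit 0x10100000001000001010100000000010100000001000100010100000001000100000001000001010101000101010001000100000000000101)],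
  [(nat_lit 0x1010101010101000001010000000000010101010000000001000001010001010001010101010001000100000101000001000101010100), (nat_lit 0x10101010001000001000101010100010001000000000001000000010101000101010100000000010000000000000000000001000100), (nat_lit 0x100000101000000010000010001000001000001000001000000000101000000010001000100010100010000000100010101010101010100000001), (nat_lit 0x1010101010101000001000001000100000101000100000001010001010001000100000000000101010000000100010001000000000000)],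
  [(nat_lit 0x100010001000000000000010000010000000100000100000000000001000001010000010100010000000000), (nat_lit 0x100000001000000000100010000000000000100000000000000010100000000000000010100000100000001), (nat_lit 0x10000000101000101010001010000010101010100000001000001010000000000010100010001000001010100000100000000010100), (nat_lit 0x100000001000001000000010000000000000100000000000000010100000001000000010000000100000100), (nat_lit 0x10000000000000100000000000001000101010000000100010100000000)],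
  [(nat_lit 0x101000100010000010100000000010100000101000000), (nat_lit 0x100000001000000000000010000010000000100010001000100010101010000010000000100010101000000), (nat_lit 0x101000000010000010001000000000100010000000000010000010000010100000100010001000001010001010100), 256, (nat_lit 0x10000000000000001000100000001010101010000010100010000000000), (nat_lit 0x101000100000000010100000000010100000101000000)],
  [(nat_lit 0x10101010101010000000100000000010000000100010001000101000100010001000001000001000101010000), (nat_lit 0x10000000000000000010001010000000000000100000000000000000100010101000101000001010000010001000000010001010001), (nat_lit 0x1010101010001010000010001000000010000010000000001010100010001010101000001010001010000000101010101), (nat_lit 0x100000100010001010000000001000100010000000100010000010000000000000001000001010000000000010000), (nat_lit 0x10000000100010101000100000101010101010000010100000000000000), (nat_lit 0x10000000100000000010000000000000100010100000101010001000100000101000100000001010100010100010001010000000001),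 (nat_lit 0x10000000100000000010000000000000100010100010101010001000000010000000000000101010101010101000100010001010001)],
  [(nat_lit 0x10000000100000000000001000100000100010000000001010001000101010100000100000101010100010101010100000000000001), (nat_lit 0x10000000100000000010001000000000100010100000101000001000000010100000100000101010100010001000101000000000001), (nat_lit 0x10000000100000000010001000100000100010000000101000000010000000101000100000100010001000101010100000000000001), (nat_lit 0x10000000100000000010000000000000100010101000101010001000101000001000000000001000000010101000001010000000001), (nat_lit 0x10000000000000100000000000000000000010000000000010000000000), (nat_lit 0x10000000000000100000100000001010101010000010001010000000000), (nat_lit 0x100000000000001000100000100000000010100000001010000000000010000), (nat_lit 0x10000000000000000000000000001000001010000000001010000000000)],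
  [(nat_lit 0x100000100000000000100000000000000), 1, (nat_lit 0x10000000100000000010001000100000100010000000101000001000000000001000100000100010001000100010100000000000001), (nat_lit 0x10000000000010001000100000001010001010000010000010000000000), (nat_lit 0x101000000000100000000000000), (nat_lit 0x100000000000000), (nat_lit 0x10000000000), (nat_lit 0x100000000000000000000000000000001000000000000), (nat_lit 0x100000000000100000000000000)],
  [(nat_lit 0x1000000010000000001000000000000000000), (nat_lit 0x100000000000000000000), (nat_lit 0x1000000000100000000000000010000000000000001000000000000), (nat_lit 0x10000000001000100000100000001000101010001010001010000000000), (nat_lit 0x10000000000000000000000), (nat_lit 0x10000000000000000), 65536, (nat_lit 0x1000000000000000000), (nat_lit 0x1000000000000), (nat_lit 0x10000000001000000000000000000)]]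

noncomputable def m2_B : List (ℕ × ℕ × List (List ℕ)) :=
  [(0, 1, [[9], [7], [6], [2], [0], [1], [3], [4], [5], [8]]),
  (2, 1, [[8], [4], [1], [0], [3], [5]]),
  (1, 1, [[5], [3], [0]]),
  (3, 1, [[0]])]

theorem m2_row0 : AllIn (fun j => m2_P.chkRow (eqB (Comp.evL E) [0, 1, 2, 3, 4, 7, 5] m2_aws) j = true) 0 10 :=
  allIn_of_allFrom (a := 0) (n := 10) (by decide +kernel)

theorem m2_pr0 : AllIn (fun j => m2_P.chkPr (eqB (Comp.evL E) [0, 1, 2, 3, 4, 7, 5] m2_aws) (m2_prs.get j) = true) 0 27 :=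
  allIn_of_allFrom (a := 0) (n := 27) (by decide +kernel)

theorem m2_rel0 : AllIn (fun k => m2_P.chkRel m2_prs (getL (Rel.con 0 0 0 []) m2_rels k) = true) 0 59 :=
  allIn_of_allFrom (a := 0) (n := 59) (by decide +kernel)

theorem m2_lin : m2_P.chkLin 0 m2_rels m2_ys m2_ss m2_cs = true :=
  by decide +kernel

theorem m2_bound : MultBound 2 0 (gen ns [[0], [2]]) :=
  multBound_net ctx m2_mem hn (P := m2_P) (B := m2_B) (by norm_num [m2_P])
    (GOK.of_rows (eSound_eqB (evl_evL ctx.ok hE) hbase m2_mem) m2_row0 m2_pr0 (by decide +kernel))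
    (rels_of_allIn m2_rel0 (by decide +kernel)) m2_lin (by decide +kernel) (by decide +kernel)

noncomputable def m3_P : Pd :=
  ⟨2, 3, 2, nat_lit 0x400010900,
  nat_lit 0xffffffffffff, 23, 3, 12,
  nat_lit 0x20000000000000000000000000000000200000000000000010000000100000000⟩

noncomputable def m3_aws : List (List ℕ) :=
  [[26, 10, 12, 23, 20, 36, 26, 34], [9, 4, 15, 2, 11, 34, 20, 28, 36, 32], [26, 4, 16, 10, 12, 20, 29, 36, 32], [26, 4, 15, 34, 12, 23, 21, 34]]

theorem m3_mem : ∀ u ∈ m3_aws, wp ns u ∈ gen ns [[0], [2]] :=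
  kn_1.words (by decide +kernel)

noncomputable def m3_prs : Prs :=
  [(3, 1, 2), (3, 16, 16), (3, 4, 40)]

noncomputable def m3_rels : List Rel :=
  [.fus 3 [0, 0, 0] [] [1],
  .fus 3 [1, 0] [0, 1] [513],
  .fus 3 [2, 2, 2] [] [1025, 2050],
  .fus 3 [1, 2] [2, 1] [1281],
  .con 8 0 1 [2049]]

noncomputable def m3_ys : List (List ℕ) :=
  [[],
  [],
  [258]]

noncomputable def m3_ss : List (List ℕ × ℕ × ℕ) :=
  []

noncomputable def m3_cs : List (List ℕ) :=
  [[2],
  [0, (nat_lit 0x200020000)],
  [512, (nat_lit 0x2000000), (nat_lit 0x200000000)]]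

noncomputable def m3_B : List (ℕ × ℕ × List (List ℕ)) :=
  [(0, 1, [[2], [2], [1], [1], [0]]),
  (2, 1, [[0], [0]])]

theorem m3_row0 : AllIn (fun j => m3_P.chkRow (eqB (Comp.evL E) [0, 1, 2, 3, 4, 7, 5] m3_aws) j = true) 0 3 :=
  allIn_of_allFrom (a := 0) (n := 3) (by decide +kernel)

theorem m3_pr0 : AllIn (fun j => m3_P.chkPr (eqB (Comp.evL E) [0, 1, 2, 3, 4, 7, 5] m3_aws) (m3_prs.get j) = true) 0 3 :=
  allIn_of_allFrom (a := 0) (n := 3) (by decide +kernel)

theorem m3_rel0 : AllIn (fun k => m3_P.chkRel m3_prs (getL (Rel.con 0 0 0 []) m3_rels k) = true) 0 5 :=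
  allIn_of_allFrom (a := 0) (n := 5) (by decide +kernel)

theorem m3_lin : m3_P.chkLin 0 m3_rels m3_ys m3_ss m3_cs = true :=
  by decide +kernel

theorem m3_bound : MultBound 3 0 (gen ns [[0], [2]]) :=
  multBound_net ctx m3_mem hn (P := m3_P) (B := m3_B) (by norm_num [m3_P])
    (GOK.of_rows (eSound_eqB (evl_evL ctx.ok hE) hbase m3_mem) m3_row0 m3_pr0 (by decide +kernel))
    (rels_of_allIn m3_rel0 (by decide +kernel)) m3_lin (by decide +kernel) (by decide +kernel)

theorem bounds : ∀ x ∈ ([(2, 0), (3, 0)] : List (ℕ × ℕ)), MultBound x.1 x.2 (gen ns [[0], [2]]) :=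
  List.forall_mem_cons.2 ⟨m2_bound, List.forall_mem_cons.2 ⟨m3_bound, fun _ h => absurd h List.not_mem_nil⟩⟩

theorem mult_of : ∀ {A : Type} [CommGroup A], Nat.card A = 1 → MultOnto (gen ModelM24.ns ModelM24.G_ss0) A →
    HasSchurMultiplier (gen ModelM24.ns ModelM24.G_ss0) A :=
  fun ha h => hasMult_of_list ModelM24.G_card ha (geq ▸ bounds) (by decide +kernel) h

end Cfsg.Agent.Spor.MultM24
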