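import Cfsg.Agent.Comp.Cent
import Cfsg.Agent.Spor.ModelO8p
import Cfsg.Agent.S0287

set_option autoImplicit false
set_option Elab.async false
set_option maxRecDepth 4096

namespace Cfsg.Agent.Spor.O8Cent

open Cfsg.Agent.Comp

noncomputable def ns_14 : Net :=
 (Net.cons (nat_lit 64) (nat_lit 0x221bf648c129c880)
 (Net.cons (nat_lit 32) (nat_lit 0xbe745a200000000010ee866e)
 (Net.cons (nat_lit 16) (nat_lit 0x17490000332000004b640000204c)
 (Net.cons (nat_lit 8) (nat_lit 0x4c0096008000c2007a00a4009c00c2)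
 (Net.cons (nat_lit 4) (nat_lit 0x50d080d0208080001080806020a0104)
 (Net.cons (nat_lit 2) (nat_lit 0x3300012002000000202002003120121)
 (Net.cons (nat_lit 1) (nat_lit 0x5014040501041004144004000410514)
 (Net.cons (nat_lit 2) (nat_lit 0x2000002202000000000022)
 (Net.cons (nat_lit 4) (nat_lit 0xc080e02080200000c000400080204)
 (Net.cons (nat_lit 8) (nat_lit 0x4c00d4008000c2007200240006008a)
 (Net.cons (nat_lit 16) (nat_lit 0x936200007100000043640000b040)
 (Net.cons (nat_lit 32) (nat_lit 0xbe4c5a000000000018f6e96c)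
 (Net.cons (nat_lit 64) (nat_lit 0x223976424339d880)
 Net.nil)))))))))))))

noncomputable def ns_15 : Net :=
 (Net.cons (nat_lit 64) (nat_lit 0x3e9153c1ba3f26fe)
 (Net.cons (nat_lit 32) (nat_lit 0x311509700000000a6cdfcbc)
 (Net.cons (nat_lit 16) (nat_lit 0xd11a000080d60000753c000048b0)
 (Net.cons (nat_lit 8) (nat_lit 0x210008008e005e00a2009600b50098)
 (Net.cons (nat_lit 4) (nat_lit 0x10c05020e00030508070b080f0a0502)
 (Net.cons (nat_lit 2) (nat_lit 0x20032023202002210320302312123232)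
 (Net.cons (nat_lit 1) (nat_lit 0x51444115104414011054110101110410)
 (Net.cons (nat_lit 2) (nat_lit 0x2022000002022020002020200220220)
 (Net.cons (nat_lit 4) (nat_lit 0xa0e04000a08060c080c0a08020a0400)
 (Net.cons (nat_lit 8) (nat_lit 0xe600300038005a009400b600ac004c)
 (Net.cons (nat_lit 16) (nat_lit 0xc66800006290000072000000c1e0)
 (Net.cons (nat_lit 32) (nat_lit 0x3db0ff600000000066a47d74)
 (Net.cons (nat_lit 64) (nat_lit 0x3efedbdc23bd819c)
 Net.nil)))))))))))))

noncomputable def ns_16 : Net :=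
 (Net.cons (nat_lit 64) (nat_lit 0xd7cfe2c9fa122ae3)
 (Net.cons (nat_lit 32) (nat_lit 0xbb5c08a1000000004a58d10b)
 (Net.cons (nat_lit 16) (nat_lit 0xfc29000027cf0000698c00009c7d)
 (Net.cons (nat_lit 8) (nat_lit 0xc5001d002b003d00130000008d0070)
 (Net.cons (nat_lit 4) (nat_lit 0xa0a0e03030c01010502020304070f05)
 (Net.cons (nat_lit 2) (nat_lit 0x21102003202233000102322010221020)
 (Net.cons (nat_lit 1) (nat_lit 0x44114115144441411004400510051541)
 (Net.cons (nat_lit 2) (nat_lit 0x2022200022020000002000020002000)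
 (Net.cons (nat_lit 4) (nat_lit 0x8040e08000802080400000e0c08000a)
 (Net.cons (nat_lit 8) (nat_lit 0x7800b800ba002a003000760008002c)
 (Net.cons (nat_lit 16) (nat_lit 0x5c60000e17c00002b4c0000ac20)
 (Net.cons (nat_lit 32) (nat_lit 0xe80eb226000000006aba87c8)
 (Net.cons (nat_lit 64) (nat_lit 0xd7ba70344427e2f6)
 Net.nil)))))))))))))

noncomputable def ns_17 : Net :=
 (Net.cons (nat_lit 64) (nat_lit 0x5dacd7726ea24229)
 (Net.cons (nat_lit 32) (nat_lit 0xfa0c909b00000000aad0b28d)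
 (Net.cons (nat_lit 16) (nat_lit 0x3a310000cd940000a0c80000aa77)
 (Net.cons (nat_lit 8) (nat_lit 0xa001c0030005900f000ac00af0016)
 (Net.cons (nat_lit 4) (nat_lit 0xe010202050b0d020a04060e09020b0d)
 (Net.cons (nat_lit 2) (nat_lit 0x30303111213011203202302320131330)
 (Net.cons (nat_lit 1) (nat_lit 0x144144445411501041440441440145)
 (Net.cons (nat_lit 2) (nat_lit 0x2020000020002020220022200020)
 (Net.cons (nat_lit 4) (nat_lit 0xc0002080c0a08020a04080006000808)
 (Net.cons (nat_lit 8) (nat_lit 0xec004800700068007200d2003a0032)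
 (Net.cons (nat_lit 16) (nat_lit 0xa314000088d00000aac8000039d0)
 (Net.cons (nat_lit 32) (nat_lit 0xb77ea0fc000000000a718c70)
 (Net.cons (nat_lit 64) (nat_lit 0x5d63a9ef3a3fa90e)
 Net.nil)))))))))))))

noncomputable def ns_18 : Net :=
 (Net.cons (nat_lit 64) (nat_lit 0x81b004f04ff88f87)
 (Net.cons (nat_lit 32) (nat_lit 0x6175ce96000000001f0ad3e3)
 (Net.cons (nat_lit 16) (nat_lit 0x4650000077410000fb320000f95c)
 (Net.cons (nat_lit 8) (nat_lit 0x30000d00f1007800cd009e00a60024)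
 (Net.cons (nat_lit 4) (nat_lit 0x10c090c050a0209090a06010c040809)
 (Net.cons (nat_lit 2) (nat_lit 0x22032003300222211202321221101231)
 (Net.cons (nat_lit 1) (nat_lit 0x14041411445454145115050444404451)
 (Net.cons (nat_lit 2) (nat_lit 0x22002002220202220200000200000202)
 (Net.cons (nat_lit 4) (nat_lit 0x6000e020608080604080000000208)
 (Net.cons (nat_lit 8) (nat_lit 0x9200140002007e004000fe00600066)
 (Net.cons (nat_lit 16) (nat_lit 0x680000065b00000f4bc0000758c)
 (Net.cons (nat_lit 32) (nat_lit 0xe07ce800000000001755be92)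
 (Net.cons (nat_lit 64) (nat_lit 0x816077443cf945e0)
 Net.nil)))))))))))))

noncomputable def ns_19 : Net :=
 (Net.cons (nat_lit 64) (nat_lit 0xaa474c54daea3a3c)
 (Net.cons (nat_lit 32) (nat_lit 0xb3dbefdf00000000600ca83c)
 (Net.cons (nat_lit 16) (nat_lit 0x1e70000376900001d5a00003bab)
 (Net.cons (nat_lit 8) (nat_lit 0x65000e002b000200d4007400ad00f6)
 (Net.cons (nat_lit 4) (nat_lit 0x10905020c030a0f01060b09050a0d0e)
 (Net.cons (nat_lit 2) (nat_lit 0x2203312313222010021200012020121)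
 (Net.cons (nat_lit 1) (nat_lit 0x54111445151540014040414111541104)
 (Net.cons (nat_lit 2) (nat_lit 0x2002200202020022020220222022200)
 (Net.cons (nat_lit 4) (nat_lit 0xe0800040604000608000c020a040002)
 (Net.cons (nat_lit 8) (nat_lit 0xc400080052006000ec00c2002800a8)
 (Net.cons (nat_lit 16) (nat_lit 0x31420000dffa0000098000006d56)
 (Net.cons (nat_lit 32) (nat_lit 0x11946bde0000000065de0b60)
 (Net.cons (nat_lit 64) (nat_lit 0xaa3891f94efaae5a)
 Net.nil)))))))))))))

noncomputable def ns_20 : Net :=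
 (Net.cons (nat_lit 64) (nat_lit 0xbb4437c754ff6d10)
 (Net.cons (nat_lit 32) (nat_lit 0x79cbe6de000000005f8b9f84)
 (Net.cons (nat_lit 16) (nat_lit 0x7114000046fd0000cecd00005840)
 (Net.cons (nat_lit 8) (nat_lit 0xeb00c3002b00730049000e00a00066)
 (Net.cons (nat_lit 4) (nat_lit 0x80f070909050602080802080c040a04)
 (Net.cons (nat_lit 2) (nat_lit 0x100101231132221312332300222313)
 (Net.cons (nat_lit 1) (nat_lit 0x1114014440501100454404014544054)
 (Net.cons (nat_lit 2) (nat_lit 0x200002220002200200200020022002)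
 (Net.cons (nat_lit 4) (nat_lit 0x80c00080a020408040c00020a00)
 (Net.cons (nat_lit 8) (nat_lit 0xc0000600f200d8000e001c00e400a4)
 (Net.cons (nat_lit 16) (nat_lit 0x21b60000e1740000805400007c16)
 (Net.cons (nat_lit 32) (nat_lit 0xc9588958000000001ba94464)
 (Net.cons (nat_lit 64) (nat_lit 0xbb66ad915f4f75a0)
 Net.nil)))))))))))))

noncomputable def ns_21 : Net :=
 (Net.cons (nat_lit 64) (nat_lit 0xde4ebed49e3f191f)
 (Net.cons (nat_lit 32) (nat_lit 0xd10c1ea90000000082eab4a5)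
 (Net.cons (nat_lit 16) (nat_lit 0x9dac00005e4d00000b2700004eab)
 (Net.cons (nat_lit 8) (nat_lit 0xca00fc00a00004004800a600590031)
 (Net.cons (nat_lit 4) (nat_lit 0x20f0e0b0e04090306030409050b090b)
 (Net.cons (nat_lit 2) (nat_lit 0x10112131122103210203302111120002)
 (Net.cons (nat_lit 1) (nat_lit 0x10440114140154150415010115045015)
 (Net.cons (nat_lit 2) (nat_lit 0x20022000202000020000200000000)
 (Net.cons (nat_lit 4) (nat_lit 0x2000e06080c0c0e0c02000000060008)
 (Net.cons (nat_lit 8) (nat_lit 0xcc009c002000400042000000100000)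
 (Net.cons (nat_lit 16) (nat_lit 0x9b7c0000a4460000095200005696)
 (Net.cons (nat_lit 32) (nat_lit 0x134cc60800000000839c33a8)
 (Net.cons (nat_lit 64) (nat_lit 0xde7ddec16fff481a)
 Net.nil)))))))))))))

noncomputable def ns_22 : Net :=
 (Net.cons (nat_lit 64) (nat_lit 0xad4bf373b32f6ea4)
 (Net.cons (nat_lit 32) (nat_lit 0xa1a4db120000000094e49bb2)
 (Net.cons (nat_lit 16) (nat_lit 0x8de80000beb80000f6a90000dead)
 (Net.cons (nat_lit 8) (nat_lit 0xea0011002100e5000a009e0026004d)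
 (Net.cons (nat_lit 4) (nat_lit 0x60b03000c0f03030207020d0f050a0a)
 (Net.cons (nat_lit 2) (nat_lit 0x3001023300032123000320210102112)
 (Net.cons (nat_lit 1) (nat_lit 0x41010114144110045410415404114011)
 (Net.cons (nat_lit 2) (nat_lit 0x22020222222000020200220200200002)
 (Net.cons (nat_lit 4) (nat_lit 0xc0a060a000006000c00020008040c02)
 (Net.cons (nat_lit 8) (nat_lit 0xea00a4001a004000e8009e00260044)
 (Net.cons (nat_lit 16) (nat_lit 0x2d300000ab20000060800000e628)
 (Net.cons (nat_lit 32) (nat_lit 0x8d57ef0000000000c4fc9060)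
 (Net.cons (nat_lit 64) (nat_lit 0xad4e4bdb3125bf20)
 Net.nil)))))))))))))

noncomputable def ns_23 : Net :=
 (Net.cons (nat_lit 64) (nat_lit 0xb026ad10a752c563)
 (Net.cons (nat_lit 32) (nat_lit 0x9fa5d803000000004a0b631b)
 (Net.cons (nat_lit 16) (nat_lit 0x7795000037920000091500007502)
 (Net.cons (nat_lit 8) (nat_lit 0x4000d3006700b8004b00cc00910099)
 (Net.cons (nat_lit 4) (nat_lit 0x203080a030b020400020707060a0c08)
 (Net.cons (nat_lit 2) (nat_lit 0x21103320213212300310110000222302)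
 (Net.cons (nat_lit 1) (nat_lit 0x5144110514040450441104114410440)
 (Net.cons (nat_lit 2) (nat_lit 0x20200002000200222200202020200)
 (Net.cons (nat_lit 4) (nat_lit 0x8040e00040a0a080008020800020e04)
 (Net.cons (nat_lit 8) (nat_lit 0xc0007000b000f8004e00aa00f2002c)
 (Net.cons (nat_lit 16) (nat_lit 0x761c0000f778000048240000d90a)
 (Net.cons (nat_lit 32) (nat_lit 0xf86b0c8000000000b12c078)
 (Net.cons (nat_lit 64) (nat_lit 0xb02b1b56cb590e14)
 Net.nil)))))))))))))

noncomputable def ns_24 : Net :=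
 (Net.cons (nat_lit 64) (nat_lit 0xb99ffcf2e2f77df2)
 (Net.cons (nat_lit 32) (nat_lit 0xa01e249200000000f1f9dcd6)
 (Net.cons (nat_lit 16) (nat_lit 0xef120000680d00009cbf00002077)
 (Net.cons (nat_lit 8) (nat_lit 0x14003c000c009000e1001200280014)
 (Net.cons (nat_lit 4) (nat_lit 0xd0800030d01000d0500000f04060103)
 (Net.cons (nat_lit 2) (nat_lit 0x1200112030112202130211200031331)
 (Net.cons (nat_lit 1) (nat_lit 0x14151041400500154404115004144041)
 (Net.cons (nat_lit 2) (nat_lit 0x2202000000000002000200002000020)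
 (Net.cons (nat_lit 4) (nat_lit 0x4080000080200000400040004080c02)
 (Net.cons (nat_lit 8) (nat_lit 0xa6009c0060003a00e800b000420040)
 (Net.cons (nat_lit 16) (nat_lit 0x4f820000f0400000cdd000006030)
 (Net.cons (nat_lit 32) (nat_lit 0x182dd4c000000000f184a364)
 (Net.cons (nat_lit 64) (nat_lit 0xb91f07c0a6873182)
 Net.nil)))))))))))))

noncomputable def ns_25 : Net :=
 (Net.cons (nat_lit 64) (nat_lit 0x3cbdf99d785e5a62)
 (Net.cons (nat_lit 32) (nat_lit 0xd1ca196c00000000843b8d37)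
 (Net.cons (nat_lit 16) (nat_lit 0x14ff0000b94c0000360300008fe9)
 (Net.cons (nat_lit 8) (nat_lit 0xde00b200be00300020009300900064)
 (Net.cons (nat_lit 4) (nat_lit 0x60d0a090001040b060f0b0e010d0b05)
 (Net.cons (nat_lit 2) (nat_lit 0x23223212033102201120212103002301)
 (Net.cons (nat_lit 1) (nat_lit 0x41015440040414111150540104151404)
 (Net.cons (nat_lit 2) (nat_lit 0x20020020020200022000000000000002)
 (Net.cons (nat_lit 4) (nat_lit 0xa02020000020006020a08080006)
 (Net.cons (nat_lit 8) (nat_lit 0x76008a00280030004600960004001c)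
 (Net.cons (nat_lit 16) (nat_lit 0x65fa000093ec000073a400001fd8)
 (Net.cons (nat_lit 32) (nat_lit 0xf15380600000000005638a70)
 (Net.cons (nat_lit 64) (nat_lit 0x3caee29df8760846)
 Net.nil)))))))))))))

noncomputable def ns_26 : Net :=
 (Net.cons (nat_lit 64) (nat_lit 0x77bb69b7ab5c4362)
 (Net.cons (nat_lit 32) (nat_lit 0x9374367e00000000482fe2ae)
 (Net.cons (nat_lit 16) (nat_lit 0xc30e0000a3480000534b00004978)
 (Net.cons (nat_lit 8) (nat_lit 0xd700ea007500ec002c00840072001b)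
 (Net.cons (nat_lit 4) (nat_lit 0x60c090409030b0a07080c0f01010206)
 (Net.cons (nat_lit 2) (nat_lit 0x3222121320301232022002113002032)
 (Net.cons (nat_lit 1) (nat_lit 0x44145410141115044110005114011404)
 (Net.cons (nat_lit 2) (nat_lit 0x22020000002000020020000000000000)
 (Net.cons (nat_lit 4) (nat_lit 0xa00040a0a080c0000000a0a000008)
 (Net.cons (nat_lit 8) (nat_lit 0xa0004800d400ec00ee00c0003400a4)
 (Net.cons (nat_lit 16) (nat_lit 0x532400008dc40000533800004644)
 (Net.cons (nat_lit 32) (nat_lit 0xa5f5747800000000c02092f8)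
 (Net.cons (nat_lit 64) (nat_lit 0x7781563db4377f56)
 Net.nil)))))))))))))

noncomputable def ns_27 : Net :=
 (Net.cons (nat_lit 64) (nat_lit 0xa84f7f224b001e00)
 (Net.cons (nat_lit 32) (nat_lit 0x481801640000000019bb4200)
 (Net.cons (nat_lit 16) (nat_lit 0xf3300000cac2000005380000e040)
 (Net.cons (nat_lit 8) (nat_lit 0x16004000420059000d00dc005000c6)
 (Net.cons (nat_lit 4) (nat_lit 0x1080204070f0900000a0804040a00)
 (Net.cons (nat_lit 2) (nat_lit 0x1000001102230020203331020201021)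
 (Net.cons (nat_lit 1) (nat_lit 0x404010054454010105500440050400)
 (Net.cons (nat_lit 2) (nat_lit 0x2200020200000020000000)
 (Net.cons (nat_lit 4) (nat_lit 0x8020c00060000000a0804040800)
 (Net.cons (nat_lit 8) (nat_lit 0x140040004200c0000400dc004000c6)
 (Net.cons (nat_lit 16) (nat_lit 0x131000004282000005180000e040)
 (Net.cons (nat_lit 32) (nat_lit 0x481001640000000019bb4200)
 (Net.cons (nat_lit 64) (nat_lit 0xa84f7f224b001e00)
 Net.nil)))))))))))))

noncomputable def ns_28 : Net :=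
 (Net.cons (nat_lit 64) (nat_lit 0x1dc821c781611d80)
 (Net.cons (nat_lit 32) (nat_lit 0xbec0e00000000042dca8d0)
 (Net.cons (nat_lit 16) (nat_lit 0x85220000bd600000491000002ae4)
 (Net.cons (nat_lit 8) (nat_lit 0x880014007800ca0008000000b800e0)
 (Net.cons (nat_lit 4) (nat_lit 0x80e050c0c0c04040208020e08090002)
 (Net.cons (nat_lit 2) (nat_lit 0x20000010302010022230003210132101)
 (Net.cons (nat_lit 1) (nat_lit 0x10100005144005040151105441410040)
 (Net.cons (nat_lit 2) (nat_lit 0x20000000202000020200000200020000)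
 (Net.cons (nat_lit 4) (nat_lit 0x802000c000404040208020808040000)
 (Net.cons (nat_lit 8) (nat_lit 0x8800140078004a0008000000c800e0)
 (Net.cons (nat_lit 16) (nat_lit 0x85020000bd400000091000002ae4)
 (Net.cons (nat_lit 32) (nat_lit 0x9ec0c00000000042dca850)
 (Net.cons (nat_lit 64) (nat_lit 0x1dd0218781610d80)
 Net.nil)))))))))))))

noncomputable def ns_29 : Net :=
 (Net.cons (nat_lit 64) (nat_lit 0xa710872b0cd00800)
 (Net.cons (nat_lit 32) (nat_lit 0x2c3e19800000000034b42024)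
 (Net.cons (nat_lit 16) (nat_lit 0xcf120000af4000005f4800005a00)
 (Net.cons (nat_lit 8) (nat_lit 0x500050007200200090008400340061)
 (Net.cons (nat_lit 4) (nat_lit 0xd04050c0b040d0a07000802080c0d01)
 (Net.cons (nat_lit 2) (nat_lit 0x10202030012213000202300122203201)
 (Net.cons (nat_lit 1) (nat_lit 0x451404000404400000044140400)
 (Net.cons (nat_lit 2) (nat_lit 0x2000002000000022200200)
 (Net.cons (nat_lit 4) (nat_lit 0x400040c0804080808000800000c0c00)
 (Net.cons (nat_lit 8) (nat_lit 0x500050007200200090000400340074)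
 (Net.cons (nat_lit 16) (nat_lit 0xcc020000af4000005f0800005a00)
 (Net.cons (nat_lit 32) (nat_lit 0x2c2e1c000000000034b42024)
 (Net.cons (nat_lit 64) (nat_lit 0xa710862b0cc00800)
 Net.nil)))))))))))))

noncomputable def ns_30 : Net :=
 (Net.cons (nat_lit 64) (nat_lit 0x223976424339d880)
 (Net.cons (nat_lit 32) (nat_lit 0xb64c5a200000000018f6e96c)
 (Net.cons (nat_lit 16) (nat_lit 0x4c1d00006320000043640000dc13)
 (Net.cons (nat_lit 8) (nat_lit 0x76004c00a000d20072002400470003)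
 (Net.cons (nat_lit 4) (nat_lit 0xa0109030c0802020f0c080a08080108)
 (Net.cons (nat_lit 2) (nat_lit 0x2032201202000002202000021212230)
 (Net.cons (nat_lit 1) (nat_lit 0x40011410041041101444000440111011)
 (Net.cons (nat_lit 2) (nat_lit 0x22200002000002002000200222020)
 (Net.cons (nat_lit 4) (nat_lit 0x8000c020c0808020e0800080e020208)
 (Net.cons (nat_lit 8) (nat_lit 0x34004c00a000d2007a00a400980018)
 (Net.cons (nat_lit 16) (nat_lit 0xc8360000210000004b640000ce04)
 (Net.cons (nat_lit 32) (nat_lit 0xb6545a200000000010ee866e)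
 (Net.cons (nat_lit 64) (nat_lit 0x221bf648c129c880)
 Net.nil)))))))))))))

noncomputable def ns_31 : Net :=
 (Net.cons (nat_lit 64) (nat_lit 0xac4001c00043b000)
 (Net.cons (nat_lit 32) (nat_lit 0x2c9d18040000000000bc6200)
 (Net.cons (nat_lit 16) (nat_lit 0xe8d6000072560000c0380000cc04)
 (Net.cons (nat_lit 8) (nat_lit 0x680080000a0020002000d4001800d0)
 (Net.cons (nat_lit 4) (nat_lit 0x40104040505000c020001060802020a)
 (Net.cons (nat_lit 2) (nat_lit 0x20230200133201000000220123021223)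
 (Net.cons (nat_lit 1) (nat_lit 0x40004111000010454100040045500440)
 (Net.cons (nat_lit 2) (nat_lit 0x20000200000000000000020020000220)
 (Net.cons (nat_lit 4) (nat_lit 0x400040000040000020000040802020a)
 (Net.cons (nat_lit 8) (nat_lit 0x28008000000020002000d4001800d0)
 (Net.cons (nat_lit 16) (nat_lit 0x68d6000052560000c0300000cc04)
 (Net.cons (nat_lit 32) (nat_lit 0x2c9c18100000000000bc6200)
 (Net.cons (nat_lit 64) (nat_lit 0xac4001c00043a000)
 Net.nil)))))))))))))

noncomputable def ns_32 : Net :=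
 (Net.cons (nat_lit 64) (nat_lit 0xe1c9d04b65444010)
 (Net.cons (nat_lit 32) (nat_lit 0x306782c80000000035b77340)
 (Net.cons (nat_lit 16) (nat_lit 0x70200000112200001d1800006e04)
 (Net.cons (nat_lit 8) (nat_lit 0x12004000640010001800b700f60020)
 (Net.cons (nat_lit 4) (nat_lit 0xc000d0202090a00040c0e020f0e00)
 (Net.cons (nat_lit 2) (nat_lit 0x20202020110221000310132102001001)
 (Net.cons (nat_lit 1) (nat_lit 0x1141100010154401500545150550400)
 (Net.cons (nat_lit 2) (nat_lit 0x202000000200000000020000000000)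
 (Net.cons (nat_lit 4) (nat_lit 0xc00080200040800040e0c02000c00)
 (Net.cons (nat_lit 8) (nat_lit 0x120040004000340018004800e40020)
 (Net.cons (nat_lit 16) (nat_lit 0x70200000340400001d1800006e04)
 (Net.cons (nat_lit 32) (nat_lit 0x306782480000000035b77340)
 (Net.cons (nat_lit 64) (nat_lit 0xe149d04b65044010)
 Net.nil)))))))))))))

noncomputable def ns_33 : Net :=
 (Net.cons (nat_lit 64) (nat_lit 0xbaec168fcd273747)
 (Net.cons (nat_lit 32) (nat_lit 0xdc0ba64000000006d0284b4)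
 (Net.cons (nat_lit 16) (nat_lit 0x942a0000b8db00002a240000003d)
 (Net.cons (nat_lit 8) (nat_lit 0x2e000200f2008c001b000500e2001e)
 (Net.cons (nat_lit 4) (nat_lit 0xb0807030e040d0a0108060600060a00)
 (Net.cons (nat_lit 2) (nat_lit 0x22331022022120122123301003002303)
 (Net.cons (nat_lit 1) (nat_lit 0x14105144140145104504154114101145)
 (Net.cons (nat_lit 2) (nat_lit 0x20000000000000202002202002202000)
 (Net.cons (nat_lit 4) (nat_lit 0x8020c000606020c040a06000002080c)
 (Net.cons (nat_lit 8) (nat_lit 0x82004800920024001a00b000e20088)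
 (Net.cons (nat_lit 16) (nat_lit 0x9346000060a800004a0c0000853c)
 (Net.cons (nat_lit 32) (nat_lit 0x3528d626000000006c040c66)
 (Net.cons (nat_lit 64) (nat_lit 0xbac7fa8dab265fe0)
 Net.nil)))))))))))))

noncomputable def ns_34 : Net :=
 (Net.cons (nat_lit 64) (nat_lit 0xc4365e4f21c8b3be)
 (Net.cons (nat_lit 32) (nat_lit 0x65be2b96000000003299989c)
 (Net.cons (nat_lit 16) (nat_lit 0x5559000073b3000091d000008f7f)
 (Net.cons (nat_lit 8) (nat_lit 0x4d000400de00ba00e6008500b2002b)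
 (Net.cons (nat_lit 4) (nat_lit 0x50b080f0d0c04080d09030b040b0602)
 (Net.cons (nat_lit 2) (nat_lit 0x21330132312230122102322000122102)
 (Net.cons (nat_lit 1) (nat_lit 0x50414501111140410410044144144550)
 (Net.cons (nat_lit 2) (nat_lit 0x200002020020000200020002220000)
 (Net.cons (nat_lit 4) (nat_lit 0x80e00000a00020c00080a0c08040200)
 (Net.cons (nat_lit 8) (nat_lit 0x38002400c000fa006400d4009800a0)
 (Net.cons (nat_lit 16) (nat_lit 0x15fc0000bb60000080b8000078f4)
 (Net.cons (nat_lit 32) (nat_lit 0x658c80100000000023798524)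
 (Net.cons (nat_lit 64) (nat_lit 0xc40e146a6c22837e)
 Net.nil)))))))))))))

noncomputable def ns_35 : Net :=
 (Net.cons (nat_lit 64) (nat_lit 0x9c14ad6989275afb)
 (Net.cons (nat_lit 32) (nat_lit 0x196df81600000000e24d766d)
 (Net.cons (nat_lit 16) (nat_lit 0x2c9a0000370700004bd00000c1ae)
 (Net.cons (nat_lit 8) (nat_lit 0xd0005400370060001a00af00450096)
 (Net.cons (nat_lit 4) (nat_lit 0x703050b020e040d0d0c08070c0e0c03)
 (Net.cons (nat_lit 2) (nat_lit 0x3230011301230010303131022110130)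
 (Net.cons (nat_lit 1) (nat_lit 0x4044445411014110104151001144544)
 (Net.cons (nat_lit 2) (nat_lit 0x2020220000000020002202002202022)
 (Net.cons (nat_lit 4) (nat_lit 0x6080008080800080c02080608000802)
 (Net.cons (nat_lit 8) (nat_lit 0xec00d00078005600b80008000800d2)
 (Net.cons (nat_lit 16) (nat_lit 0xb51600001b700000085200009e86)
 (Net.cons (nat_lit 32) (nat_lit 0x8d8a73d0000000008165b0b0)
 (Net.cons (nat_lit 64) (nat_lit 0x9c1a5aad9087614c)
 Net.nil)))))))))))))

noncomputable def ns_36 : Net :=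
 (Net.cons (nat_lit 64) (nat_lit 0x928a3b2347caabef)
 (Net.cons (nat_lit 32) (nat_lit 0xbfeb6b5900000000d5625e70)
 (Net.cons (nat_lit 16) (nat_lit 0xa800000076a000070d000004969)
 (Net.cons (nat_lit 8) (nat_lit 0x1c009600eb00b4001f00c900ca0007)
 (Net.cons (nat_lit 4) (nat_lit 0x408040d0707080c0605030602040e03)
 (Net.cons (nat_lit 2) (nat_lit 0x22203102131002013003321103000332)
 (Net.cons (nat_lit 1) (nat_lit 0x41110441404044101541411040141411)
 (Net.cons (nat_lit 2) (nat_lit 0x20200222202002002022222000020002)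
 (Net.cons (nat_lit 4) (nat_lit 0x40a0404040204060408040008000c0c)
 (Net.cons (nat_lit 8) (nat_lit 0x28005c00280064004a00e800ee00c8)
 (Net.cons (nat_lit 16) (nat_lit 0xb0a00000c580000061d600000740)
 (Net.cons (nat_lit 32) (nat_lit 0xad5bb71000000000fdf97858)
 (Net.cons (nat_lit 64) (nat_lit 0x9273802217513384)
 Net.nil)))))))))))))

noncomputable def ns_37 : Net :=
 (Net.cons (nat_lit 64) (nat_lit 0xe98c0add83ece060)
 (Net.cons (nat_lit 32) (nat_lit 0x633a1ed700000000b3dba37a)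
 (Net.cons (nat_lit 16) (nat_lit 0xa319000047aa00002ec20000678d)
 (Net.cons (nat_lit 8) (nat_lit 0x8b009a0084009d005400930096008a)
 (Net.cons (nat_lit 4) (nat_lit 0xb06030a040705030609010c01080c)
 (Net.cons (nat_lit 2) (nat_lit 0x2121010001301301030021023031030)
 (Net.cons (nat_lit 1) (nat_lit 0x1000105101104441540011104044011)
 (Net.cons (nat_lit 2) (nat_lit 0x2000200200202020020022002000002)
 (Net.cons (nat_lit 4) (nat_lit 0x208000802020406080000000802)
 (Net.cons (nat_lit 8) (nat_lit 0x2a00b400240030006c007200e000c0)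
 (Net.cons (nat_lit 16) (nat_lit 0x81c400005be800008cc200007de0)
 (Net.cons (nat_lit 32) (nat_lit 0xad656b000000000b3e37b58)
 (Net.cons (nat_lit 64) (nat_lit 0xe989dc9da0fc1446)
 Net.nil)))))))))))))

noncomputable def ns_38 : Net :=
 (Net.cons (nat_lit 64) (nat_lit 0x49c02e780e23abc8)
 (Net.cons (nat_lit 32) (nat_lit 0xf4993d2e00000000a49152ce)
 (Net.cons (nat_lit 16) (nat_lit 0x7ab100005ea6000082e9000007b0)
 (Net.cons (nat_lit 8) (nat_lit 0xc3007d00b500b700f000d800ab00be)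
 (Net.cons (nat_lit 4) (nat_lit 0x90e000508000b0c08080e010e02050c)
 (Net.cons (nat_lit 2) (nat_lit 0x202101011330031203102300311202)
 (Net.cons (nat_lit 1) (nat_lit 0x44411004110405010411141414511040)
 (Net.cons (nat_lit 2) (nat_lit 0x20220000000200000022002202020000)
 (Net.cons (nat_lit 4) (nat_lit 0x80c0000000008060a0004000400040c)
 (Net.cons (nat_lit 8) (nat_lit 0x80005800a4003600e600fc00640036)
 (Net.cons (nat_lit 16) (nat_lit 0xba9000005ea80000a4a000004686)
 (Net.cons (nat_lit 32) (nat_lit 0xb588f29e0000000030645428)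
 (Net.cons (nat_lit 64) (nat_lit 0x490462fbd501b488)
 Net.nil)))))))))))))

noncomputable def ns_39 : Net :=
 (Net.cons (nat_lit 64) (nat_lit 0x5b1f2c853a140121)
 (Net.cons (nat_lit 32) (nat_lit 0x72032e0400000000f52a1483)
 (Net.cons (nat_lit 16) (nat_lit 0xf3250000d22800007cca0000eee2)
 (Net.cons (nat_lit 8) (nat_lit 0x7f00d900e4004900c9008d00800078)
 (Net.cons (nat_lit 4) (nat_lit 0x90005000b040b000f0b0c0a040b0100)
 (Net.cons (nat_lit 2) (nat_lit 0x33021323021010021321320322021303)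
 (Net.cons (nat_lit 1) (nat_lit 0x15414144010150140510501000115411)
 (Net.cons (nat_lit 2) (nat_lit 0x20220220000000000020000000200202)
 (Net.cons (nat_lit 4) (nat_lit 0x408080202040e0606000c0a00000608)
 (Net.cons (nat_lit 8) (nat_lit 0x9e00f000a400160054008c008000cc)
 (Net.cons (nat_lit 16) (nat_lit 0x890200004b0800003cca0000eee2)
 (Net.cons (nat_lit 32) (nat_lit 0x72032e0400000000f12a1582)
 (Net.cons (nat_lit 64) (nat_lit 0x5b1f2c8532900020)
 Net.nil)))))))))))))

noncomputable def ns_40 : Net :=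
 (Net.cons (nat_lit 64) (nat_lit 0xe4e465045d40bd54)
 (Net.cons (nat_lit 32) (nat_lit 0xb2456694000000004d0d0ed1)
 (Net.cons (nat_lit 16) (nat_lit 0x36c00000a08a000069ca00006f6a)
 (Net.cons (nat_lit 8) (nat_lit 0xf400ad0009005a00d0004100510017)
 (Net.cons (nat_lit 4) (nat_lit 0x60d0d0d080f060f01010401020e0f08)
 (Net.cons (nat_lit 2) (nat_lit 0x10222320013233031010121123031012)
 (Net.cons (nat_lit 1) (nat_lit 0x50415540440441414501404541110040)
 (Net.cons (nat_lit 2) (nat_lit 0x200000000220200000002000020020)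
 (Net.cons (nat_lit 4) (nat_lit 0x20c000c08000e040a000002060a0400)
 (Net.cons (nat_lit 8) (nat_lit 0xc0008400a8009400e800960026009e)
 (Net.cons (nat_lit 16) (nat_lit 0xd0c00000610200002abc00007e5c)
 (Net.cons (nat_lit 32) (nat_lit 0xf6887db6000000005c0e0c96)
 (Net.cons (nat_lit 64) (nat_lit 0xe44a3a847ecb4bc0)
 Net.nil)))))))))))))

noncomputable def ns_41 : Net :=
 (Net.cons (nat_lit 64) (nat_lit 0xff1da17fb9c88c20)
 (Net.cons (nat_lit 32) (nat_lit 0x95b2e6660000000000c80158)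
 (Net.cons (nat_lit 16) (nat_lit 0x9c42000036d1000019270000462b)
 (Net.cons (nat_lit 8) (nat_lit 0x690006006700c2009c0056009b0009)
 (Net.cons (nat_lit 4) (nat_lit 0xf0c000d090a08010d0602040c0f0109)
 (Net.cons (nat_lit 2) (nat_lit 0x23322102310211100201100120321120)
 (Net.cons (nat_lit 1) (nat_lit 0x41040145140440144115504111041011)
 (Net.cons (nat_lit 2) (nat_lit 0x2020220000220220200000002002002)
 (Net.cons (nat_lit 4) (nat_lit 0x60c080008040c060404040002080a02)
 (Net.cons (nat_lit 8) (nat_lit 0x8002200880038008c009000500024)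
 (Net.cons (nat_lit 16) (nat_lit 0x47e40000f98a0000194600008598)
 (Net.cons (nat_lit 32) (nat_lit 0x41ae6d680000000000068598)
 (Net.cons (nat_lit 64) (nat_lit 0xff1e5ee87acb23b6)
 Net.nil)))))))))))))

noncomputable def ns_42 : Net :=
 (Net.cons (nat_lit 64) (nat_lit 0x5eb4e86bd7a12d1a)
 (Net.cons (nat_lit 32) (nat_lit 0x42b0618f000000002953c504)
 (Net.cons (nat_lit 16) (nat_lit 0x86810000aea10000205e0000509c)
 (Net.cons (nat_lit 8) (nat_lit 0x88001200eb004b003a002500d40024)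
 (Net.cons (nat_lit 4) (nat_lit 0xc0d0d0509020c0703080b07050d030c)
 (Net.cons (nat_lit 2) (nat_lit 0x12101303023002032021003222001232)
 (Net.cons (nat_lit 1) (nat_lit 0x40101404444414450140141154510040)
 (Net.cons (nat_lit 2) (nat_lit 0x2202000200000020000202000000)
 (Net.cons (nat_lit 4) (nat_lit 0xc06080600080c080800020402080004)
 (Net.cons (nat_lit 8) (nat_lit 0x1e0010009000f00032002400540024)
 (Net.cons (nat_lit 16) (nat_lit 0xda120000ad660000a1e80000d3a8)
 (Net.cons (nat_lit 32) (nat_lit 0x583d6edc00000000283fcaf2)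
 (Net.cons (nat_lit 64) (nat_lit 0x5e1e6d4406130b88)
 Net.nil)))))))))))))

noncomputable def ns_43 : Net :=
 (Net.cons (nat_lit 64) (nat_lit 0x60fe79d72f59b229)
 (Net.cons (nat_lit 32) (nat_lit 0xa4fa35a000000002e6df9f3)
 (Net.cons (nat_lit 16) (nat_lit 0xf7f400005103000052cb00001af5)
 (Net.cons (nat_lit 8) (nat_lit 0x8002a004900cc009d008a001300c1)
 (Net.cons (nat_lit 4) (nat_lit 0x50a000a00080f050300010906090d0d)
 (Net.cons (nat_lit 2) (nat_lit 0x3220001123230103023033301031013)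
 (Net.cons (nat_lit 1) (nat_lit 0x45110004114044410151110410441041)
 (Net.cons (nat_lit 2) (nat_lit 0x200002222002020002200200022020)
 (Net.cons (nat_lit 4) (nat_lit 0xc080006000c0c040604080006040c06)
 (Net.cons (nat_lit 8) (nat_lit 0x8a0068005800e60040002600400068)
 (Net.cons (nat_lit 16) (nat_lit 0xb7660000c1740000f4c400004c20)
 (Net.cons (nat_lit 32) (nat_lit 0x6ad4a018000000003ea248a2)
 (Net.cons (nat_lit 64) (nat_lit 0x60b84eb6b533e488)
 Net.nil)))))))))))))

noncomputable def ns_44 : Net :=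
 (Net.cons (nat_lit 64) (nat_lit 0x458c1abf9648848)
 (Net.cons (nat_lit 32) (nat_lit 0xaca255c900000000018c3068)
 (Net.cons (nat_lit 16) (nat_lit 0xfc7800000f380000f248000086b4)
 (Net.cons (nat_lit 8) (nat_lit 0xd600050007009400d8004b00bc0033)
 (Net.cons (nat_lit 4) (nat_lit 0x40402090e0b0f0902010503010b0001)
 (Net.cons (nat_lit 2) (nat_lit 0x22112330013320223201330310233003)
 (Net.cons (nat_lit 1) (nat_lit 0x4400414101044445010141114441040)
 (Net.cons (nat_lit 2) (nat_lit 0x200022202020220000020002200000)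
 (Net.cons (nat_lit 4) (nat_lit 0x800000c0a0a0c0002060808000a0a08)
 (Net.cons (nat_lit 8) (nat_lit 0xc20002004c0080009000e600e000d0)
 (Net.cons (nat_lit 16) (nat_lit 0xd89800001fa6000000280000fe04)
 (Net.cons (nat_lit 32) (nat_lit 0xa8a1e5d800000000ca2df084)
 (Net.cons (nat_lit 64) (nat_lit 0x4d191118051d22c)
 Net.nil)))))))))))))

noncomputable def ns_45 : Net :=
 (Net.cons (nat_lit 64) (nat_lit 0xbc196803661b6d91)
 (Net.cons (nat_lit 32) (nat_lit 0x9d026e3d000000005a6c2d11)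
 (Net.cons (nat_lit 16) (nat_lit 0x9cd10000a1b20000fd0600008713)
 (Net.cons (nat_lit 8) (nat_lit 0x8d00330012002e004300c800a6003b)
 (Net.cons (nat_lit 4) (nat_lit 0x3000b01090e0a010e0c0904040d0008)
 (Net.cons (nat_lit 2) (nat_lit 0x312013303222030320200003001131)
 (Net.cons (nat_lit 1) (nat_lit 0x5501105005410544111111104400145)
 (Net.cons (nat_lit 2) (nat_lit 0x2000000020002200200002000020)
 (Net.cons (nat_lit 4) (nat_lit 0x2000a00000200020808000000000006)
 (Net.cons (nat_lit 8) (nat_lit 0x9800300024007000e000c000820028)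
 (Net.cons (nat_lit 16) (nat_lit 0xc400000ef460000a6b800008692)
 (Net.cons (nat_lit 32) (nat_lit 0xbd12181c00000000586f1c02)
 (Net.cons (nat_lit 64) (nat_lit 0xbc06623867037964)
 Net.nil)))))))))))))

noncomputable def ns_46 : Net :=
 (Net.cons (nat_lit 64) (nat_lit 0x9d6d407c0428613)
 (Net.cons (nat_lit 32) (nat_lit 0x1ad8277b0000000002b64527)
 (Net.cons (nat_lit 16) (nat_lit 0x550000a90200002df100007bbe)
 (Net.cons (nat_lit 8) (nat_lit 0xec00ea00d6008400a4000c0014000f)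
 (Net.cons (nat_lit 4) (nat_lit 0xf0b0d0c08080e090a0b0a060d020f00)
 (Net.cons (nat_lit 2) (nat_lit 0x32203030130030212131023130202201)
 (Net.cons (nat_lit 1) (nat_lit 0x45104004144441140114144110000441)
 (Net.cons (nat_lit 2) (nat_lit 0x20002000022000000022222000000222)
 (Net.cons (nat_lit 4) (nat_lit 0xa020c06000c080c0c0a0000000808)
 (Net.cons (nat_lit 8) (nat_lit 0xe400e20032000c001c000c00840090)
 (Net.cons (nat_lit 16) (nat_lit 0x181e00000cee00007b7c00000b0e)
 (Net.cons (nat_lit 32) (nat_lit 0x12d1044400000000d2026400)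
 (Net.cons (nat_lit 64) (nat_lit 0x9a6f7f2016a3fc0)
 Net.nil)))))))))))))

noncomputable def ns_47 : Net :=
 (Net.cons (nat_lit 64) (nat_lit 0x2410c1c3a6c9000)
 (Net.cons (nat_lit 32) (nat_lit 0x6a05061000000000b8497150)
 (Net.cons (nat_lit 16) (nat_lit 0x63d40000410800007c620000244c)
 (Net.cons (nat_lit 8) (nat_lit 0x6a008c00d200e00040007c00340090)
 (Net.cons (nat_lit 4) (nat_lit 0xc040a000a000e0808040002000001)
 (Net.cons (nat_lit 2) (nat_lit 0x20200203002000023000010022211022)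
 (Net.cons (nat_lit 1) (nat_lit 0x41001015014150410050000110000040)
 (Net.cons (nat_lit 2) (nat_lit 0x20000000002000020000000020000020)
 (Net.cons (nat_lit 4) (nat_lit 0x8000a0002000c0808040002000000)
 (Net.cons (nat_lit 8) (nat_lit 0x6a008c00c200e00040004000340010)
 (Net.cons (nat_lit 16) (nat_lit 0x23500000410800007c6200002448)
 (Net.cons (nat_lit 32) (nat_lit 0x6a05040000000000b8497150)
 (Net.cons (nat_lit 64) (nat_lit 0x241081c3a6c9000)
 Net.nil)))))))))))))

noncomputable def ns_48 : Net :=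
 (Net.cons (nat_lit 64) (nat_lit 0x3a56ee520eac2000)
 (Net.cons (nat_lit 32) (nat_lit 0x4853b780000000009e980a48)
 (Net.cons (nat_lit 16) (nat_lit 0x1a410000de9000007a340000ce10)
 (Net.cons (nat_lit 8) (nat_lit 0x5000ca0008002c0018006800e00020)
 (Net.cons (nat_lit 4) (nat_lit 0x4000004060a090d0806060c00040c)
 (Net.cons (nat_lit 2) (nat_lit 0x22003000320221202020000220202130)
 (Net.cons (nat_lit 1) (nat_lit 0x40100410041110405140411101001050)
 (Net.cons (nat_lit 2) (nat_lit 0x20000000020220200220200200002000)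
 (Net.cons (nat_lit 4) (nat_lit 0x4020800000404020800040c)
 (Net.cons (nat_lit 8) (nat_lit 0x5000c80008002c007c006800e00020)
 (Net.cons (nat_lit 16) (nat_lit 0x1a400000de900000ad100000ce10)
 (Net.cons (nat_lit 32) (nat_lit 0x4853b780000000009e980a08)
 (Net.cons (nat_lit 64) (nat_lit 0x3a56ee520eac2000)
 Net.nil)))))))))))))

noncomputable def ns_49 : Net :=
 (Net.cons (nat_lit 64) (nat_lit 0xaeba94160686254)
 (Net.cons (nat_lit 32) (nat_lit 0x4bb00c6200000000fa140604)
 (Net.cons (nat_lit 16) (nat_lit 0x553000000a1e0000eca6000011e4)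
 (Net.cons (nat_lit 8) (nat_lit 0x44001200b400c0005e00c000440043)
 (Net.cons (nat_lit 4) (nat_lit 0x80102000e0c080608020e000a0700)
 (Net.cons (nat_lit 2) (nat_lit 0x311000201202301003320201220320)
 (Net.cons (nat_lit 1) (nat_lit 0x110101040104101401410140100141)
 (Net.cons (nat_lit 2) (nat_lit 0x200000000202200002220200200220)
 (Net.cons (nat_lit 4) (nat_lit 0x800020004040800080208040a0402)
 (Net.cons (nat_lit 8) (nat_lit 0x54001200840000006c00e800d40022)
 (Net.cons (nat_lit 16) (nat_lit 0x55000000083a00000ca000000084)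
 (Net.cons (nat_lit 32) (nat_lit 0x4b800e4000000000fa1c1420)
 (Net.cons (nat_lit 64) (nat_lit 0xad3e90301702056)
 Net.nil)))))))))))))

noncomputable def ns_50 : Net :=
 (Net.cons (nat_lit 64) (nat_lit 0x2257cb4610680ea0)
 (Net.cons (nat_lit 32) (nat_lit 0x3c1c5c14000000009a081c31)
 (Net.cons (nat_lit 16) (nat_lit 0xcb2a0000401c00004a31000029a4)
 (Net.cons (nat_lit 8) (nat_lit 0x38006800480070007a00d600c00014)
 (Net.cons (nat_lit 4) (nat_lit 0x7040c00080006060600040a0d000805)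
 (Net.cons (nat_lit 2) (nat_lit 0x20003003023012002002012321002030)
 (Net.cons (nat_lit 1) (nat_lit 0x44001001001014001401041100004040)
 (Net.cons (nat_lit 2) (nat_lit 0x2002000002000002000002000000020)
 (Net.cons (nat_lit 4) (nat_lit 0x802000004000400040804000c00)
 (Net.cons (nat_lit 8) (nat_lit 0x4400480060002a00c400e00010)
 (Net.cons (nat_lit 16) (nat_lit 0xc5420000601800004a1200000180)
 (Net.cons (nat_lit 32) (nat_lit 0x3c1c5c34000000009a085630)
 (Net.cons (nat_lit 64) (nat_lit 0x22355767106400e4)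
 Net.nil)))))))))))))

noncomputable def ns_51 : Net :=
 (Net.cons (nat_lit 64) (nat_lit 0x62748047a9595491)
 (Net.cons (nat_lit 32) (nat_lit 0x2135135200000000092d5551)
 (Net.cons (nat_lit 16) (nat_lit 0x520400000e8c0000817b00002204)
 (Net.cons (nat_lit 8) (nat_lit 0x600040009400bb00c0007c00b000dc)
 (Net.cons (nat_lit 4) (nat_lit 0x602070408080b040b04040f00070f)
 (Net.cons (nat_lit 2) (nat_lit 0x2020200110100102203203000022)
 (Net.cons (nat_lit 1) (nat_lit 0x1104041400010500001144414000114)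
 (Net.cons (nat_lit 2) (nat_lit 0x2020200020000000202202000020)
 (Net.cons (nat_lit 4) (nat_lit 0x20000040400080408040004000206)
 (Net.cons (nat_lit 8) (nat_lit 0x50002200a400b800c0002c00e000ac)
 (Net.cons (nat_lit 16) (nat_lit 0x322200001ebc0000812800002380)
 (Net.cons (nat_lit 32) (nat_lit 0x43255100000000000969d470)
 (Net.cons (nat_lit 64) (nat_lit 0x6244e175095504f4)
 Net.nil)))))))))))))

noncomputable def ns_52 : Net :=
 (Net.cons (nat_lit 64) (nat_lit 0xb02bd60b1e5d2a7)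
 (Net.cons (nat_lit 32) (nat_lit 0x40ff462300000000c9878102)
 (Net.cons (nat_lit 16) (nat_lit 0x93f2000082e50000f4a100008478)
 (Net.cons (nat_lit 8) (nat_lit 0x1400430035009e0005009d009600cd)
 (Net.cons (nat_lit 4) (nat_lit 0xd080c0b0b08080a0d0d020c0e05010c)
 (Net.cons (nat_lit 2) (nat_lit 0x2002020230120011132012302322321)
 (Net.cons (nat_lit 1) (nat_lit 0x1504051144150445011540110140414)
 (Net.cons (nat_lit 2) (nat_lit 0x2000000200200200022000200220000)
 (Net.cons (nat_lit 4) (nat_lit 0xa080002060e00080008040a06000c)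
 (Net.cons (nat_lit 8) (nat_lit 0x5c004a001000ae00d000260004009e)
 (Net.cons (nat_lit 16) (nat_lit 0x9aa2000096da000095c0000094bc)
 (Net.cons (nat_lit 32) (nat_lit 0x409bf45000000000d97289c6)
 (Net.cons (nat_lit 64) (nat_lit 0xb671b736b451486)
 Net.nil)))))))))))))

noncomputable def ns_53 : Net :=
 (Net.cons (nat_lit 64) (nat_lit 0x10291f08957ba9ee)
 (Net.cons (nat_lit 32) (nat_lit 0x181eca3300000000a2fa7b73)
 (Net.cons (nat_lit 16) (nat_lit 0xadec0000353a00006f4d000098a1)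
 (Net.cons (nat_lit 8) (nat_lit 0xd4003e00160006007f000e001600f8)
 (Net.cons (nat_lit 4) (nat_lit 0x90902000406030a00080e0902010607)
 (Net.cons (nat_lit 2) (nat_lit 0x31210200220302303223231030010013)
 (Net.cons (nat_lit 1) (nat_lit 0x10151400144415511440410440444150)
 (Net.cons (nat_lit 2) (nat_lit 0x200200022200000020000200020000)
 (Net.cons (nat_lit 4) (nat_lit 0x8020000060000080802060c0c0a0808)
 (Net.cons (nat_lit 8) (nat_lit 0xcc003400e400460012008c00000004)
 (Net.cons (nat_lit 16) (nat_lit 0xbd0c0000c7c80000e1d60000e660)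
 (Net.cons (nat_lit 32) (nat_lit 0x8718d1600000000617e7532)
 (Net.cons (nat_lit 64) (nat_lit 0x106c5d3f6dbf9ac8)
 Net.nil)))))))))))))

noncomputable def ns_54 : Net :=
 (Net.cons (nat_lit 64) (nat_lit 0xef3b2519d8caf07a)
 (Net.cons (nat_lit 32) (nat_lit 0xfcd4c62600000000c0007827)
 (Net.cons (nat_lit 16) (nat_lit 0x19b00000c5040000e9270000ac89)
 (Net.cons (nat_lit 8) (nat_lit 0xbf00f0009900b100af00600056005e)
 (Net.cons (nat_lit 4) (nat_lit 0xa070c0f0b080b0a0008000901090204)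
 (Net.cons (nat_lit 2) (nat_lit 0x10313103312113102222021032200203)
 (Net.cons (nat_lit 1) (nat_lit 0x44001015104004041451140541051040)
 (Net.cons (nat_lit 2) (nat_lit 0x22000000200002020002220022000000)
 (Net.cons (nat_lit 4) (nat_lit 0x8000800000a0200060404000000)
 (Net.cons (nat_lit 8) (nat_lit 0x2000aa00f400820016002600da0050)
 (Net.cons (nat_lit 16) (nat_lit 0xa22400006a30000079fa0000b848)
 (Net.cons (nat_lit 32) (nat_lit 0x3cd45c8200000000d06407b4)
 (Net.cons (nat_lit 64) (nat_lit 0xef2680b5bc1d7858)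
 Net.nil)))))))))))))

noncomputable def ns_55 : Net :=
 (Net.cons (nat_lit 64) (nat_lit 0xdafa4fc45a7084b1)
 (Net.cons (nat_lit 32) (nat_lit 0x251e8735000000002e561792)
 (Net.cons (nat_lit 16) (nat_lit 0x3d2e0000958d000080be0000588a)
 (Net.cons (nat_lit 8) (nat_lit 0xd400a9004800d800fc00ff00740089)
 (Net.cons (nat_lit 4) (nat_lit 0x50109030107020003000c0a08010f09)
 (Net.cons (nat_lit 2) (nat_lit 0x303320200300212200111230133230)
 (Net.cons (nat_lit 1) (nat_lit 0x11101111140010044401054444451441)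
 (Net.cons (nat_lit 2) (nat_lit 0x20002222200020000002002220002222)
 (Net.cons (nat_lit 4) (nat_lit 0x8000200080a08000a0a0a04040a08)
 (Net.cons (nat_lit 8) (nat_lit 0xe2002800940088007800a800640078)
 (Net.cons (nat_lit 16) (nat_lit 0xbd0600009f440000a47c000008f0)
 (Net.cons (nat_lit 32) (nat_lit 0xfd3e4390000000002a002fc8)
 (Net.cons (nat_lit 64) (nat_lit 0xda24bfcf283a55a0)
 Net.nil)))))))))))))

noncomputable def ns : List Net := [ModelO8p.ns_0, ModelO8p.ns_1, ModelO8p.ns_2, ModelO8p.ns_3, ModelO8p.ns_4, ModelO8p.ns_5, ModelO8p.ns_6, ModelO8p.ns_7, ModelO8p.ns_8, ModelO8p.ns_9, ModelO8p.ns_10, ModelO8p.ns_11, ModelO8p.ns_12, ModelO8p.ns_13, ns_14, ns_15, ns_16, ns_17, ns_18, ns_19, ns_20, ns_21, ns_22, ns_23, ns_24, ns_25, ns_26, ns_27, ns_28, ns_29, ns_30, ns_31, ns_32, ns_33, ns_34, ns_35, ns_36, ns_37, ns_38, ns_39, ns_40, ns_41, ns_42, ns_43, ns_44, ns_45, ns_46, ns_47, ns_48, ns_49, ns_50, ns_51, ns_52, ns_53, ns_54, ns_55]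

theorem ctx : Ctx 128 7 ns := ctx_of (by decide +kernel)

theorem lctx : LCtx 128 7 8 127 trN7 ns := lctx_of ctx trOK7 (by decide +kernel)

noncomputable def E : List ℕ → ℕ → ℕ := pfW0 128 7 8 127 trN7 ns

theorem hE : Evl 128 ns E := evl_pfW0 lctx

open Cfsg Cfsg.Agent.Comp.Kron Cfsg.Agent.Class
open scoped MatrixGroups

theorem geq : gen ModelO8p.ns ModelO8p.G_ss0 = gen ns ModelO8p.G_ss0 :=
  gen_eq_of_take (ns := ModelO8p.ns) (ns' := ns) (k := 14) rfl (ws := ModelO8p.G_ss0) (by decide +kernel)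

theorem geq0 : gen ModelO8p.ns ModelO8p.G_l0.ws = gen ns ModelO8p.G_l0.ws :=
  gen_eq_of_take (ns := ModelO8p.ns) (ns' := ns) (k := 14) rfl (ws := ModelO8p.G_l0.ws) (by decide +kernel)

theorem hn : Nat.card (gen ns ModelO8p.G_ss0) = 174182400 :=
  geq ▸ ModelO8p.G_card

theorem kn_0 : Known ns (gen ns ModelO8p.G_ss0) 16380 :=
  known_of_mem (ws := ModelO8p.G_l0.ws) (gen_le_iff.1 (geq ▸ geq0 ▸ ModelO8p.G_le0)) (by decide +kernel)

noncomputable def equiv : Omega (ZMod 2) (quadFormPlus 4 (ZMod 2)) ≃* ↥(gen ns ModelO8p.G_ss0) :=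
  ModelO8p.equiv.trans (MulEquiv.subgroupCongr geq)

/-- the matrix with a given code -/
def mat (C : ℕ) : Matrix (Fin 4 ⊕ Fin 4) (Fin 4 ⊕ Fin 4) (ZMod 2) :=
  Matrix.of fun a b => if C.testBit (40 * ModelO8p.qx b + 5 * ModelO8p.qx a) then 1 else 0

theorem he (s : Omega (ZMod 2) (quadFormPlus 4 (ZMod 2))) :
    (equiv s : Equiv.Perm ℕ) = ModelO8p.equiv s := by
  rw [equiv, MulEquiv.trans_apply, MulEquiv.subgroupCongr_apply]

theorem mem_omega {g : isometryGroup (ZMod 2) (quadFormPlus 4 (ZMod 2))} {k : ℕ}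
    (h : g ^ k * g ^ k = g) : g ∈ Omega (ZMod 2) (quadFormPlus 4 (ZMod 2)) := by
  have h1 := (Omega (ZMod 2) (quadFormPlus 4 (ZMod 2))).card_mul_index
  rw [ModelO8p.card, S0287.result (q := 2) (by simp) 4 (by norm_num)] at h1
  rw [← h]
  exact Subgroup.mul_self_mem_of_index_two (by
    simp [Finset.prod_range_succ] at h1; omega) _

noncomputable def C3G_S7 : List SD :=
  []

noncomputable def C3G_d6 : SD :=
  ⟨0, 1, [58], lab 1 1 0, 1⟩

noncomputable def C3G_S6 : List SD :=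
  C3G_d6 :: C3G_S7

noncomputable def C3G_d5 : SD :=
  ⟨1, 1, [56, 28, 58], lab 3 7 (nat_lit 0xc0000000000000000000000000000000000000000000000000000000000000000000000000000000), 1⟩

noncomputable def C3G_S5 : List SD :=
  C3G_d5 :: C3G_S6

noncomputable def C3G_d4 : SD :=
  ⟨16, 2, [50, 52, 54, 56, 28, 58], lab 4 15 (nat_lit 0x200000000040000000000000000000000400000000000000000000000000020000001000000000000000000000000000000000), 2⟩

noncomputable def C3G_S4 : List SD :=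
  C3G_d4 :: C3G_S5

noncomputable def C3G_d3 : SD :=
  ⟨15, 3, [44, 46, 48, 50, 52, 54, 56, 28, 58], lab 5 31 (nat_lit 0x100000008000000000005000000000000000000000000000010006000002000010000102140000030000000000000000000000000000000000e0000000000), 3⟩

noncomputable def C3G_S3 : List SD :=
  C3G_d3 :: C3G_S4

noncomputable def C3G_d2 : SD :=
  ⟨23, 2, [38, 40, 42, 44, 46, 48, 50, 52, 54, 56, 28, 58], lab 5 31 (nat_lit 0xcf0010c00000001c0024000000b10005020a000000000018000000000011a0005c00018000000000000000000080400000000000000000001a404000000000000280000008000000800), 3⟩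

noncomputable def C3G_S2 : List SD :=
  C3G_d2 :: C3G_S3

noncomputable def C3G_d1 : SD :=
  ⟨18, 1, [30, 32, 34, 36, 38, 40, 42, 44, 46, 48, 50, 52, 54, 56, 28, 58], lab 5 31 (nat_lit 0x22457a47912d480000d43740000203b000204640002e001009a00c218020304e073ca0980201800000000000000030060000b00002800000000034ee5100a180000010401c007840705c00), 3⟩

noncomputable def C3G_S1 : List SD :=
  C3G_d1 :: C3G_S2

noncomputable def C3G_d0 : SD :=
  ⟨3, 1, [4, 6, 8, 10, 12, 14, 16, 18, 20, 22, 24, 26, 30, 32, 34, 36, 38, 40, 42, 44, 46, 48, 50, 52, 54, 56, 28, 58], lab 6 63 (nat_lit 0x9db7f0caa4dfa6e9442c411e8816dbb0a051501a889083cb929b5a8ec74f7820dd70932321c9221422482a12273d914f4193681cb95e4479534042c234272a31f859a2409a0858c568a9093060080056123ce0d01222cf00789a), 3⟩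

noncomputable def C3G_S0 : List SD :=
  C3G_d0 :: C3G_S1

theorem kn_1 : Known ns (gen ns ModelO8p.G_ss0) 137438953468 :=
  kn_0.steps ctx (es := [(15, [7, 25, 26, 14, 21]),
 (16, [4, 9, 6, 15, 6, 17, 8, 4, 13, 17]),
 (17, [33, 31]),
 (18, [32, 30]),
 (19, [34, 32, 34, 32, 30, 35, 35]),
 (20, [33, 36, 36]),
 (21, [40, 39, 40, 40, 40, 40]),
 (22, [39, 39, 42]),
 (23, [39, 43, 40, 42, 41]),
 (24, [42, 39, 40, 42, 42, 42]),
 (25, [47, 48, 48, 44, 48, 44, 47]),
 (26, [44, 48, 44, 48, 44, 49, 47]),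
 (27, [50, 50]),
 (28, [53, 51, 55, 52, 54, 52, 50, 50, 54, 54]),
 (14, [53, 51, 51, 55, 53, 51, 51, 53, 55, 53]),
 (29, [57, 28, 28, 57, 28, 56]),
 (30, [29]),
 (31, [54, 52, 56, 58]),
 (32, [44, 44, 44, 54, 52, 56, 58]),
 (33, [47, 44, 44, 50]),
 (34, [47, 38, 52, 44, 54, 56, 58]),
 (35, [39, 32, 39, 41, 48, 54, 52, 29]),
 (36, [32, 4, 39, 32, 47, 38, 54, 44, 52, 50, 29, 58])]) (by decide +kernel)

theorem C3G_ex : Exact 128 ns C3G_S0 ∧ gen ns (sTop C3G_S0) = gen ns ModelO8p.G_ss0 ∧ gen ns ModelO8p.G_ss0 = gen ns ModelO8p.G_ss0 :=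
  exact_of_known ctx hn (le_rfl) kn_1 (by decide +kernel)

noncomputable def C3_as : List (List ℕ) :=
  [[28]]

noncomputable def C3_p : List (List ℕ × List ℕ) :=
  derAs (dg C3_as) [[0]]

noncomputable def C3_s : List (ℕ × ℕ) :=
  derSs 128 7 ns (dg C3_as) [[0]]

noncomputable def C3_k0 : List (List ℕ) :=
  [[72], [70], [68], [64], [66], [62], [60]]

noncomputable def C3_k1 : List (List ℕ) :=
  [[70], [68], [64], [66], [62], [60]]

noncomputable def C3_k2 : List (List ℕ) :=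
  [[68], [64], [66], [62], [60]]

noncomputable def C3_k3 : List (List ℕ) :=
  [[64], [66], [62], [60]]

noncomputable def C3_k4 : List (List ℕ) :=
  [[62], [60]]

noncomputable def C3_k5 : List (List ℕ) :=
  [[60]]

noncomputable def C3_k6 : List (List ℕ) :=
  []

noncomputable def C3_k7 : List (List ℕ) :=
  []

theorem C3_cm : commB 128 7 ns (dg C3_as) C3_k0 = true :=
  by decide +kernel

theorem C3_g0 : Good 128 ns C3_p C3_s (gen ns (sTop C3G_S0)) C3_k0 :=
  good_der ctx kn_1 (C3G_ex.2.1.trans C3G_ex.2.2.symm) _ _ ((and'_eq_true _ _).2 ⟨by decide +kernel, C3_cm⟩)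

theorem C3_g1 : Good 128 ns C3_p C3_s (gen ns (sTop C3G_S1)) C3_k1 :=
  C3_g0.tail ctx C3G_ex.1 (by decide +kernel)

theorem C3_g2 : Good 128 ns C3_p C3_s (gen ns (sTop C3G_S2)) C3_k2 :=
  C3_g1.tail ctx C3G_ex.1.tail (by decide +kernel)

theorem C3_g3 : Good 128 ns C3_p C3_s (gen ns (sTop C3G_S3)) C3_k3 :=
  C3_g2.tail ctx C3G_ex.1.tail.tail (by decide +kernel)

theorem C3_g4 : Good 128 ns C3_p C3_s (gen ns (sTop C3G_S4)) C3_k4 :=
  C3_g3.tail ctx C3G_ex.1.tail.tail.tail (by decide +kernel)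

theorem C3_g5 : Good 128 ns C3_p C3_s (gen ns (sTop C3G_S5)) C3_k5 :=
  C3_g4.tail ctx C3G_ex.1.tail.tail.tail.tail (by decide +kernel)

theorem C3_g6 : Good 128 ns C3_p C3_s (gen ns (sTop C3G_S6)) C3_k6 :=
  C3_g5.tail ctx C3G_ex.1.tail.tail.tail.tail.tail (by decide +kernel)

theorem C3_l7 : LevX 128 ns C3_p C3_s (gen ns (sTop C3G_S7)) C3_k7 1 :=
  levX_nil _ _ _ _

theorem C3_l6 : LevX 128 ns C3_p C3_s (gen ns (sTop C3G_S6)) C3_k6 1 :=
  C3_l7.step ctx C3G_ex.1.tail.tail.tail.tail.tail.tail C3_g6 (br_zero _ _ _ _ _ _ _) [(0, 78, 1)] 0 0 (by decide +kernel)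

theorem C3_l5 : LevX 128 ns C3_p C3_s (gen ns (sTop C3G_S5)) C3_k5 3 :=
  C3_l6.step ctx C3G_ex.1.tail.tail.tail.tail.tail C3_g5 (br_zero _ _ _ _ _ _ _) [] 2 2 (by decide +kernel)

theorem C3_l4 : LevX 128 ns C3_p C3_s (gen ns (sTop C3G_S4)) C3_k4 6 :=
  C3_l5.step ctx C3G_ex.1.tail.tail.tail.tail C3_g4 (br_zero _ _ _ _ _ _ _) [] 1 1 (by decide +kernel)

theorem C3_l3 : LevX 128 ns C3_p C3_s (gen ns (sTop C3G_S3)) C3_k3 24 :=
  C3_l4.step ctx C3G_ex.1.tail.tail.tail C3_g3 (br_zero _ _ _ _ _ _ _) [] 1 1 (by decide +kernel)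

theorem C3_l2 : LevX 128 ns C3_p C3_s (gen ns (sTop C3G_S2)) C3_k2 144 :=
  C3_l3.step ctx C3G_ex.1.tail.tail C3_g2 (br_zero _ _ _ _ _ _ _) [] 2 2 (by decide +kernel)

theorem C3_l1 : LevX 128 ns C3_p C3_s (gen ns (sTop C3G_S1)) C3_k1 2160 :=
  C3_l2.step ctx C3G_ex.1.tail C3_g1 (br_zero _ _ _ _ _ _ _) [] 2 2 (by decide +kernel)

theorem C3_l0 : LevX 128 ns C3_p C3_s (gen ns (sTop C3G_S0)) C3_k0 77760 :=
  C3_l1.step ctx C3G_ex.1 C3_g0 (br_zero _ _ _ _ _ _ _) [] 2 2 (by decide +kernel)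

theorem C3 : CentEq ns (gen ns ModelO8p.G_ss0) C3_as C3_k0 77760 :=
  centEq_of ctx C3G_ex.2.1 C3_l0 C3_g0 C3_cm

noncomputable def M3 : ℕ :=
  nat_lit 0x80010040000000000200000000000000010800000001000000040000000000200800108001

theorem me3 : matS ModelO8p.qx (1 : ZMod 2) 5 8 1 8 M3 = mat M3 :=
  by decide +kernel

theorem pw3 : mat M3 ^ 2 * mat M3 ^ 2 =
    mat M3 :=
  by
  simp only [pow_succ, pow_zero, one_mul]; decide +kernel

theorem cent3 : ∃ g : Omega (ZMod 2) (quadFormPlus 4 (ZMod 2)), ((omGL _ g : GL _ _) : Matrix _ _ _) = mat M3 ∧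
    Nat.card (Subgroup.centralizer ({g} : Set (Omega (ZMod 2) (quadFormPlus 4 (ZMod 2))))) = 77760 :=
  by
  obtain ⟨g, hg⟩ := ModelO8p.X.exists_repE' ModelO8p.ho (C := M3) (nat_lit 0x1080000040000000000200000008001080010800100000000000040000000000200000100000) (by decide +kernel)
  have hm := (ModelO8p.X.coe_eq_matS ModelO8p.hq hg).trans me3
  have h1 := mem_isometry_of (Orth.plusQF 4 (ZMod 2)) (Orth.plusQF_apply 4 (ZMod 2)) hm
    (by decide +kernel) (by decide +kernel)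
  have h2 : RepBy 120 ModelO8p.pt g (wp ns [28]) :=
    ModelO8p.X.repBy_of_chkLine ctx ModelO8p.hS ModelO8p.hZ hg (t := 1) (by decide +kernel)
  have h3 := mem_omega (g := ⟨g, h1⟩) (k := 2) (Subtype.ext (Units.ext (by
    rw [Subgroup.coe_mul, Subgroup.coe_pow, Units.val_mul, Units.val_pow_eq_pow_val]
    change g.val ^ 2 * g.val ^ 2 = g.val
    rw [hm]; exact pw3)))
  obtain ⟨f, -⟩ := C3.equiv equiv (t := ⟨⟨g, h1⟩, h3⟩)
    ((he _).trans ((ModelO8p.equiv_rep ⟨⟨g, h1⟩, h3⟩).unique ModelO8p.inj h2))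
  exact ⟨⟨⟨g, h1⟩, h3⟩, hm, (Nat.card_congr f.toEquiv).trans C3.card⟩

noncomputable def C5G_S7 : List SD :=
  []

noncomputable def C5G_d6 : SD :=
  ⟨2, 2, [102], lab 1 1 (nat_lit 0x400000000000000000000), 1⟩

noncomputable def C5G_S6 : List SD :=
  C5G_d6 :: C5G_S7

noncomputable def C5G_d5 : SD :=
  ⟨13, 2, [100, 96, 102], lab 3 7 (nat_lit 0x200000000000000000000000000000000000400000000000000000), 2⟩

noncomputable def C5G_S5 : List SD :=
  C5G_d5 :: C5G_S6

noncomputable def C5G_d4 : SD :=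
  ⟨1, 1, [98, 100, 96, 102], lab 3 7 (nat_lit 0xc0000000000000000000000000000000000000000000000000008000000000000000800000000000), 2⟩

noncomputable def C5G_S4 : List SD :=
  C5G_d4 :: C5G_S5

noncomputable def C5G_d3 : SD :=
  ⟨58, 1, [90, 92, 94, 98, 100, 96, 102], lab 4 15 (nat_lit 0xc000000000000000000000000000000000000000000020000000000037000000002000000000000300000000000002000000000000010), 2⟩

noncomputable def C5G_S3 : List SD :=
  C5G_d3 :: C5G_S4

noncomputable def C5G_d2 : SD :=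
  ⟨16, 2, [84, 86, 88, 90, 92, 94, 98, 100, 96, 102], lab 5 31 (nat_lit 0xd00000035200000134800100000100000000000000000001807001c518000020001b0080006200000031a000c0a00000000000006002000202700000000006), 4⟩

noncomputable def C5G_S2 : List SD :=
  C5G_d2 :: C5G_S3

noncomputable def C5G_d1 : SD :=
  ⟨26, 1, [76, 78, 80, 82, 84, 86, 88, 90, 92, 94, 98, 100, 96, 102], lab 5 31 (nat_lit 0x71544586509412038305010000016208008001400020002818900e6081202218076ce08022020000018000000000140600001200028000a00002812782c025900000041000000874401800), 3⟩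

noncomputable def C5G_S1 : List SD :=
  C5G_d1 :: C5G_S2

noncomputable def C5G_d0 : SD :=
  ⟨3, 1, [4, 6, 8, 10, 12, 14, 16, 18, 20, 22, 24, 26, 76, 78, 80, 82, 84, 86, 88, 90, 92, 94, 98, 100, 96, 102], lab 6 63 (nat_lit 0x723a5da0b4e312269d2e8b4518188080a05150186391c95e89d01e46e68fa020c36893182258da1428d92a3223b5d1584199681cb61c4581934042e4342921326a19744c120856accca70930601a024b923ce0df1222cf0078e7), 3⟩

noncomputable def C5G_S0 : List SD :=
  C5G_d0 :: C5G_S1

theorem kn_2 : Known ns (gen ns ModelO8p.G_ss0) 72057594037927932 :=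
  kn_1.steps ctx (es := [(38, [4, 23, 18, 17, 4]),
 (39, [9, 18, 27, 9, 6, 6, 19, 4, 9]),
 (40, [79, 76, 76, 78, 76]),
 (41, [76, 78]),
 (42, [79, 76, 76, 82, 82, 76, 80, 78, 81, 79]),
 (43, [81, 77, 81, 82]),
 (44, [87, 84, 87]),
 (45, [86, 86, 84, 84, 88, 88, 88, 86]),
 (46, [86, 84, 89, 85, 88, 88, 87]),
 (47, [91, 91, 91]),
 (48, [93, 90, 93, 94, 93, 90, 95]),
 (49, [93, 93, 90, 90, 93, 94, 93, 95]),
 (50, [97, 99, 99, 97, 99, 96, 98, 98]),
 (51, [101, 97, 97, 100, 97, 97, 100, 97]),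
 (52, [98, 100, 102]),
 (53, [87, 90, 87, 84, 90, 101, 103]),
 (54, [76, 87, 92, 90, 103]),
 (55, [14, 85, 80, 90, 84, 92, 90, 99]),
 (37, [96, 98, 101, 103])]) (by decide +kernel)

theorem C5G_ex : Exact 128 ns C5G_S0 ∧ gen ns (sTop C5G_S0) = gen ns ModelO8p.G_ss0 ∧ gen ns ModelO8p.G_ss0 = gen ns ModelO8p.G_ss0 :=
  exact_of_known ctx hn (le_rfl) kn_2 (by decide +kernel)

noncomputable def C5_as : List (List ℕ) :=
  [[74]]

noncomputable def C5_p : List (List ℕ × List ℕ) :=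
  derAs (dg C5_as) [[0]]

noncomputable def C5_s : List (ℕ × ℕ) :=
  derSs 128 7 ns (dg C5_as) [[0]]

noncomputable def C5_k0 : List (List ℕ) :=
  [[110], [108], [106], [104]]

noncomputable def C5_k1 : List (List ℕ) :=
  [[108], [106], [104]]

noncomputable def C5_k2 : List (List ℕ) :=
  [[106], [104]]

noncomputable def C5_k3 : List (List ℕ) :=
  [[104]]

noncomputable def C5_k4 : List (List ℕ) :=
  [[104]]

noncomputable def C5_k5 : List (List ℕ) :=
  []

noncomputable def C5_k6 : List (List ℕ) :=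
  []

noncomputable def C5_k7 : List (List ℕ) :=
  []

theorem C5_cm : commB 128 7 ns (dg C5_as) C5_k0 = true :=
  by decide +kernel

theorem C5_g0 : Good 128 ns C5_p C5_s (gen ns (sTop C5G_S0)) C5_k0 :=
  good_der ctx kn_2 (C5G_ex.2.1.trans C5G_ex.2.2.symm) _ _ ((and'_eq_true _ _).2 ⟨by decide +kernel, C5_cm⟩)

theorem C5_g1 : Good 128 ns C5_p C5_s (gen ns (sTop C5G_S1)) C5_k1 :=
  C5_g0.tail ctx C5G_ex.1 (by decide +kernel)

theorem C5_g2 : Good 128 ns C5_p C5_s (gen ns (sTop C5G_S2)) C5_k2 :=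
  C5_g1.tail ctx C5G_ex.1.tail (by decide +kernel)

theorem C5_g3 : Good 128 ns C5_p C5_s (gen ns (sTop C5G_S3)) C5_k3 :=
  C5_g2.tail ctx C5G_ex.1.tail.tail (by decide +kernel)

theorem C5_g4 : Good 128 ns C5_p C5_s (gen ns (sTop C5G_S4)) C5_k4 :=
  C5_g3.tail ctx C5G_ex.1.tail.tail.tail (by decide +kernel)

theorem C5_g5 : Good 128 ns C5_p C5_s (gen ns (sTop C5G_S5)) C5_k5 :=
  C5_g4.tail ctx C5G_ex.1.tail.tail.tail.tail (by decide +kernel)

theorem C5_g6 : Good 128 ns C5_p C5_s (gen ns (sTop C5G_S6)) C5_k6 :=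
  C5_g5.tail ctx C5G_ex.1.tail.tail.tail.tail.tail (by decide +kernel)

theorem C5_l7 : LevX 128 ns C5_p C5_s (gen ns (sTop C5G_S7)) C5_k7 1 :=
  levX_nil _ _ _ _

theorem C5_l6 : LevX 128 ns C5_p C5_s (gen ns (sTop C5G_S6)) C5_k6 1 :=
  C5_l7.step ctx C5G_ex.1.tail.tail.tail.tail.tail.tail C5_g6 (br_zero _ _ _ _ _ _ _) [(0, 43, 0)] 0 0 (by decide +kernel)

theorem C5_l5 : LevX 128 ns C5_p C5_s (gen ns (sTop C5G_S5)) C5_k5 1 :=
  C5_l6.step ctx C5G_ex.1.tail.tail.tail.tail.tail C5_g5 (br_zero _ _ _ _ _ _ _) [(0, 79, 0)] 0 0 (by decide +kernel)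

theorem C5_l4 : LevX 128 ns C5_p C5_s (gen ns (sTop C5G_S4)) C5_k4 5 :=
  C5_l5.step ctx C5G_ex.1.tail.tail.tail.tail C5_g4 (br_zero _ _ _ _ _ _ _) [] 4 4 (by decide +kernel)

noncomputable def C5_B3_cs : List (List ℕ) :=
  []

noncomputable def C5_B3_pl : List Pl :=
  [⟨.lst 0, []⟩, ⟨.free, []⟩, ⟨.free, []⟩, ⟨.free, []⟩]

noncomputable def C5_B3_M0 : ℕ :=
  nat_lit 0x4000000000000000000000000

theorem C5_B3_b0 : Br 128 ns C5_p C5_s (gen ns (sTop C5G_S3)) C5G_d3.p C5_B3_M0 (InCs ns C5G_S3 C5_B3_cs) :=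
  br_of_brB ctx hE C5G_ex.1.tail.tail.tail (pl := C5_B3_pl) (bs := [16, 26, 3]) (tps := [28, 11]) (by decide +kernel)

theorem C5_l3 : LevX 128 ns C5_p C5_s (gen ns (sTop C5G_S3)) C5_k3 5 :=
  C5_l4.step ctx C5G_ex.1.tail.tail.tail C5_g3 ((br_zero _ _ _ _ _ _ _).lor C5_B3_b0) [] 0 0 (by decide +kernel)

theorem C5_l2 : LevX 128 ns C5_p C5_s (gen ns (sTop C5G_S2)) C5_k2 10 :=
  C5_l3.step ctx C5G_ex.1.tail.tail C5_g2 (br_zero _ _ _ _ _ _ _) [] 1 1 (by decide +kernel)

theorem C5_l1 : LevX 128 ns C5_p C5_s (gen ns (sTop C5G_S1)) C5_k1 30 :=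
  C5_l2.step ctx C5G_ex.1.tail C5_g1 (br_zero _ _ _ _ _ _ _) [] 1 1 (by decide +kernel)

theorem C5_l0 : LevX 128 ns C5_p C5_s (gen ns (sTop C5G_S0)) C5_k0 300 :=
  C5_l1.step ctx C5G_ex.1 C5_g0 (br_zero _ _ _ _ _ _ _) [] 2 2 (by decide +kernel)

theorem C5 : CentEq ns (gen ns ModelO8p.G_ss0) C5_as C5_k0 300 :=
  centEq_of ctx C5G_ex.2.1 C5_l0 C5_g0 C5_cm

noncomputable def M5 : ℕ :=
  nat_lit 0x8400084000000008401000200000000000000010000008001004000800100000000200800108001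

theorem me5 : matS ModelO8p.qx (1 : ZMod 2) 5 8 1 8 M5 = mat M5 :=
  by decide +kernel

theorem pw5 : mat M5 ^ 3 * mat M5 ^ 3 =
    mat M5 :=
  by
  simp only [pow_succ, pow_zero, one_mul]; decide +kernel

theorem cent5 : ∃ g : Omega (ZMod 2) (quadFormPlus 4 (ZMod 2)), ((omGL _ g : GL _ _) : Matrix _ _ _) = mat M5 ∧
    Nat.card (Subgroup.centralizer ({g} : Set (Omega (ZMod 2) (quadFormPlus 4 (ZMod 2))))) = 300 :=
  by
  obtain ⟨g, hg⟩ := ModelO8p.X.exists_repE' ModelO8p.ho (C := M5) (nat_lit 0x8401084000000008400000200000008401004010000108000004000800000000000200000100000) (by decide +kernel)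
  have hm := (ModelO8p.X.coe_eq_matS ModelO8p.hq hg).trans me5
  have h1 := mem_isometry_of (Orth.plusQF 4 (ZMod 2)) (Orth.plusQF_apply 4 (ZMod 2)) hm
    (by decide +kernel) (by decide +kernel)
  have h2 : RepBy 120 ModelO8p.pt g (wp ns [74]) :=
    ModelO8p.X.repBy_of_chkLine ctx ModelO8p.hS ModelO8p.hZ hg (t := 1) (by decide +kernel)
  have h3 := mem_omega (g := ⟨g, h1⟩) (k := 3) (Subtype.ext (Units.ext (by
    rw [Subgroup.coe_mul, Subgroup.coe_pow, Units.val_mul, Units.val_pow_eq_pow_val]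
    change g.val ^ 3 * g.val ^ 3 = g.val
    rw [hm]; exact pw5)))
  obtain ⟨f, -⟩ := C5.equiv equiv (t := ⟨⟨g, h1⟩, h3⟩)
    ((he _).trans ((ModelO8p.equiv_rep ⟨⟨g, h1⟩, h3⟩).unique ModelO8p.inj h2))
  exact ⟨⟨⟨g, h1⟩, h3⟩, hm, (Nat.card_congr f.toEquiv).trans C5.card⟩

end Cfsg.Agent.Spor.O8Cent
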