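import Cfsg.Agent.Fus.SylCert
import Cfsg.Agent.Spor.ModelM12

set_option autoImplicit false
set_option maxRecDepth 4096

namespace Cfsg.Agent.Spor.Syl2M12

open Cfsg.Agent.Comp

noncomputable def ns_2 : Net :=
 (Net.cons (nat_lit 16) 51884
 (Net.cons (nat_lit 8) (nat_lit 0xba005c)
 (Net.cons (nat_lit 4) 527627
 (Net.cons (nat_lit 2) (nat_lit 0x2032100)
 (Net.cons (nat_lit 1) (nat_lit 0x10440004)
 (Net.cons (nat_lit 2) (nat_lit 0x20020002)
 (Net.cons (nat_lit 4) (nat_lit 0x8080808)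
 (Net.cons (nat_lit 8) (nat_lit 0x70006c)
 (Net.cons (nat_lit 16) 51846
 Net.nil)))))))))

noncomputable def ns_3 : Net :=
 (Net.cons (nat_lit 16) 47710
 (Net.cons (nat_lit 8) (nat_lit 0x6c0008)
 (Net.cons (nat_lit 4) (nat_lit 0x2010002)
 (Net.cons (nat_lit 2) (nat_lit 0x32000030)
 (Net.cons (nat_lit 1) (nat_lit 0x40100450)
 (Net.cons (nat_lit 2) (nat_lit 0x20200000)
 (Net.cons (nat_lit 4) (nat_lit 0x6080000)
 (Net.cons (nat_lit 8) (nat_lit 0xc40048)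
 (Net.cons (nat_lit 16) 47710
 Net.nil)))))))))

noncomputable def ns_4 : Net :=
 (Net.cons (nat_lit 16) 19944
 (Net.cons (nat_lit 8) (nat_lit 0xc10080)
 (Net.cons (nat_lit 4) (nat_lit 0xc0e0204)
 (Net.cons (nat_lit 2) (nat_lit 0x320002)
 (Net.cons (nat_lit 1) (nat_lit 0x40141014)
 (Net.cons (nat_lit 2) (nat_lit 0x220002)
 (Net.cons (nat_lit 4) 786438
 (Net.cons (nat_lit 8) (nat_lit 0xc40000)
 (Net.cons (nat_lit 16) 19900
 Net.nil)))))))))

noncomputable def ns_5 : Net :=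
 (Net.cons (nat_lit 16) 51436
 (Net.cons (nat_lit 8) 786460
 (Net.cons (nat_lit 4) (nat_lit 0x40a0f02)
 (Net.cons (nat_lit 2) (nat_lit 0x303000)
 (Net.cons (nat_lit 1) (nat_lit 0x4405010)
 (Net.cons (nat_lit 4) 3074
 (Net.cons (nat_lit 8) (nat_lit 0xc4001e)
 (Net.cons (nat_lit 16) 51284
 Net.nil))))))))

noncomputable def ns_6 : Net :=
 (Net.cons (nat_lit 16) 35880
 (Net.cons (nat_lit 8) (nat_lit 0xa000e8)
 (Net.cons (nat_lit 4) 196608
 (Net.cons (nat_lit 2) (nat_lit 0x20211010)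
 (Net.cons (nat_lit 1) (nat_lit 0x4544110)
 (Net.cons (nat_lit 2) 8704
 (Net.cons (nat_lit 4) (nat_lit 0x8020202)
 (Net.cons (nat_lit 8) (nat_lit 0xa000b8)
 (Net.cons (nat_lit 16) 35874
 Net.nil)))))))))

noncomputable def ns_7 : Net :=
 (Net.cons (nat_lit 16) 18974
 (Net.cons (nat_lit 8) (nat_lit 0x120088)
 (Net.cons (nat_lit 4) (nat_lit 0xa000b00)
 (Net.cons (nat_lit 2) (nat_lit 0x200100)
 (Net.cons (nat_lit 1) (nat_lit 0x50410140)
 (Net.cons (nat_lit 2) 131616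
 (Net.cons (nat_lit 4) (nat_lit 0xa000204)
 (Net.cons (nat_lit 8) (nat_lit 0x5000ac)
 (Net.cons (nat_lit 16) 18974
 Net.nil)))))))))

noncomputable def ns_8 : Net :=
 (Net.cons (nat_lit 16) 17444
 (Net.cons (nat_lit 8) (nat_lit 0x640090)
 (Net.cons (nat_lit 4) 395526
 (Net.cons (nat_lit 2) (nat_lit 0x20100012)
 (Net.cons (nat_lit 1) (nat_lit 0x40141010)
 (Net.cons (nat_lit 2) (nat_lit 0x20200020)
 (Net.cons (nat_lit 4) 393740
 (Net.cons (nat_lit 8) (nat_lit 0x640010)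
 (Net.cons (nat_lit 16) 17444
 Net.nil)))))))))

noncomputable def ns_9 : Net :=
 (Net.cons (nat_lit 16) 3700
 (Net.cons (nat_lit 8) (nat_lit 0x2a00a6)
 (Net.cons (nat_lit 4) (nat_lit 0x20d0200)
 (Net.cons (nat_lit 2) 201488
 (Net.cons (nat_lit 1) (nat_lit 0x4041400)
 (Net.cons (nat_lit 2) (nat_lit 0x2020200)
 (Net.cons (nat_lit 4) 263168
 (Net.cons (nat_lit 8) (nat_lit 0x2a0066)
 (Net.cons (nat_lit 16) 3700
 Net.nil)))))))))

noncomputable def ns_10 : Net :=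
 (Net.cons (nat_lit 16) 54794
 (Net.cons (nat_lit 8) (nat_lit 0x5400b2)
 (Net.cons (nat_lit 4) (nat_lit 0x4030300)
 (Net.cons (nat_lit 2) (nat_lit 0x10222200)
 (Net.cons (nat_lit 1) (nat_lit 0x40411000)
 (Net.cons (nat_lit 2) (nat_lit 0x202000)
 (Net.cons (nat_lit 4) 264192
 (Net.cons (nat_lit 8) (nat_lit 0x8200ba)
 (Net.cons (nat_lit 16) 54962
 Net.nil)))))))))

noncomputable def ns_11 : Net :=
 (Net.cons (nat_lit 16) 16900
 (Net.cons (nat_lit 8) (nat_lit 0x4a0020)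
 (Net.cons (nat_lit 4) 1280
 (Net.cons (nat_lit 2) (nat_lit 0x2002012)
 (Net.cons (nat_lit 1) (nat_lit 0x114004)
 (Net.cons (nat_lit 2) 8194
 (Net.cons (nat_lit 4) 1024
 (Net.cons (nat_lit 8) 655392
 (Net.cons (nat_lit 16) 16900
 Net.nil)))))))))

noncomputable def ns_12 : Net :=
 (Net.cons (nat_lit 16) 1656
 (Net.cons (nat_lit 8) (nat_lit 0xea00ba)
 (Net.cons (nat_lit 4) (nat_lit 0x6010c00)
 (Net.cons (nat_lit 2) (nat_lit 0x2012100)
 (Net.cons (nat_lit 1) (nat_lit 0x44011140)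
 (Net.cons (nat_lit 2) 8192
 (Net.cons (nat_lit 4) (nat_lit 0x4000600)
 (Net.cons (nat_lit 8) (nat_lit 0xea00f2)
 (Net.cons (nat_lit 16) 1562
 Net.nil)))))))))

noncomputable def ns_13 : Net :=
 (Net.cons (nat_lit 16) 858
 (Net.cons (nat_lit 8) (nat_lit 0x180044)
 (Net.cons (nat_lit 4) (nat_lit 0xb000800)
 (Net.cons (nat_lit 2) (nat_lit 0x20210032)
 (Net.cons (nat_lit 1) (nat_lit 0x10014004)
 (Net.cons (nat_lit 2) 2
 (Net.cons (nat_lit 4) (nat_lit 0xa040808)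
 (Net.cons (nat_lit 8) (nat_lit 0x180084)
 (Net.cons (nat_lit 16) 858
 Net.nil)))))))))

noncomputable def ns_14 : Net :=
 (Net.cons (nat_lit 16) 18560
 (Net.cons (nat_lit 8) (nat_lit 0x500098)
 (Net.cons (nat_lit 4) (nat_lit 0x8080204)
 (Net.cons (nat_lit 2) (nat_lit 0x20010222)
 (Net.cons (nat_lit 1) (nat_lit 0x10001104)
 (Net.cons (nat_lit 2) (nat_lit 0x20000202)
 (Net.cons (nat_lit 4) (nat_lit 0x8000204)
 (Net.cons (nat_lit 8) (nat_lit 0x100098)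
 (Net.cons (nat_lit 16) 18560
 Net.nil)))))))))

noncomputable def ns_15 : Net :=
 (Net.cons (nat_lit 16) 33932
 (Net.cons (nat_lit 8) (nat_lit 0xc00020)
 (Net.cons (nat_lit 4) (nat_lit 0x40c020a)
 (Net.cons (nat_lit 2) 131073
 (Net.cons (nat_lit 1) (nat_lit 0x501000)
 (Net.cons (nat_lit 4) 786944
 (Net.cons (nat_lit 8) (nat_lit 0xc00020)
 (Net.cons (nat_lit 16) 33932
 Net.nil))))))))

noncomputable def ns_16 : Net :=
 (Net.cons (nat_lit 16) 1926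
 (Net.cons (nat_lit 8) 458992
 (Net.cons (nat_lit 4) 917518
 (Net.cons (nat_lit 2) (nat_lit 0x2321030)
 (Net.cons (nat_lit 1) (nat_lit 0x4040011)
 (Net.cons (nat_lit 2) (nat_lit 0x2020000)
 (Net.cons (nat_lit 4) 655364
 (Net.cons (nat_lit 8) 262256
 (Net.cons (nat_lit 16) 1928
 Net.nil)))))))))

noncomputable def ns_17 : Net :=
 (Net.cons (nat_lit 16) 15347
 (Net.cons (nat_lit 8) (nat_lit 0x3b00a8)
 (Net.cons (nat_lit 4) (nat_lit 0xb0c0001)
 (Net.cons (nat_lit 2) (nat_lit 0x20312003)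
 (Net.cons (nat_lit 1) (nat_lit 0x10400444)
 (Net.cons (nat_lit 2) (nat_lit 0x200002)
 (Net.cons (nat_lit 4) (nat_lit 0xa040004)
 (Net.cons (nat_lit 8) (nat_lit 0x38002c)
 (Net.cons (nat_lit 16) 15342
 Net.nil)))))))))

noncomputable def ns_18 : Net :=
 (Net.cons (nat_lit 16) 33028
 (Net.cons (nat_lit 8) (nat_lit 0x8900a0)
 (Net.cons (nat_lit 4) (nat_lit 0x8080802)
 (Net.cons (nat_lit 2) 139281
 (Net.cons (nat_lit 1) 16384
 (Net.cons (nat_lit 2) 8192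
 (Net.cons (nat_lit 4) 524288
 (Net.cons (nat_lit 8) (nat_lit 0x8800a0)
 (Net.cons (nat_lit 16) 33028
 Net.nil)))))))))

noncomputable def ns_19 : Net :=
 (Net.cons (nat_lit 16) 33941
 (Net.cons (nat_lit 8) (nat_lit 0x400070)
 (Net.cons (nat_lit 4) (nat_lit 0x409070e)
 (Net.cons (nat_lit 2) 131361
 (Net.cons (nat_lit 1) (nat_lit 0x100441)
 (Net.cons (nat_lit 2) 546
 (Net.cons (nat_lit 4) 132620
 (Net.cons (nat_lit 8) (nat_lit 0xc00030)
 (Net.cons (nat_lit 16) 33830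
 Net.nil)))))))))

noncomputable def ns_20 : Net :=
 (Net.cons (nat_lit 16) 42320
 (Net.cons (nat_lit 8) (nat_lit 0xe40058)
 (Net.cons (nat_lit 4) (nat_lit 0x405000c)
 (Net.cons (nat_lit 2) (nat_lit 0x21221230)
 (Net.cons (nat_lit 1) (nat_lit 0x40400005)
 (Net.cons (nat_lit 2) (nat_lit 0x20200000)
 (Net.cons (nat_lit 4) (nat_lit 0x404000c)
 (Net.cons (nat_lit 8) (nat_lit 0x400058)
 (Net.cons (nat_lit 16) 42320
 Net.nil)))))))))

noncomputable def ns_21 : Net :=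
 (Net.cons (nat_lit 16) 33792
 (Net.cons (nat_lit 8) (nat_lit 0xc80002)
 (Net.cons (nat_lit 4) (nat_lit 0x4020a00)
 (Net.cons (nat_lit 2) 33
 (Net.cons (nat_lit 1) (nat_lit 0x44105004)
 (Net.cons (nat_lit 2) (nat_lit 0x200000)
 (Net.cons (nat_lit 4) 2048
 (Net.cons (nat_lit 8) (nat_lit 0xc80000)
 (Net.cons (nat_lit 16) 33796
 Net.nil)))))))))

noncomputable def ns_22 : Net :=
 (Net.cons (nat_lit 16) 26878
 (Net.cons (nat_lit 8) (nat_lit 0xa000ee)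
 (Net.cons (nat_lit 4) (nat_lit 0xc060c09)
 (Net.cons (nat_lit 2) (nat_lit 0x20223201)
 (Net.cons (nat_lit 1) (nat_lit 0x4401405)
 (Net.cons (nat_lit 2) (nat_lit 0x200000)
 (Net.cons (nat_lit 4) (nat_lit 0xc040e08)
 (Net.cons (nat_lit 8) (nat_lit 0xa0007c)
 (Net.cons (nat_lit 16) 26878
 Net.nil)))))))))

noncomputable def ns_23 : Net :=
 (Net.cons (nat_lit 16) 24018
 (Net.cons (nat_lit 8) (nat_lit 0x5d00c2)
 (Net.cons (nat_lit 4) 655877
 (Net.cons (nat_lit 2) (nat_lit 0x100030)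
 (Net.cons (nat_lit 1) (nat_lit 0x4144011)
 (Net.cons (nat_lit 2) (nat_lit 0x220002)
 (Net.cons (nat_lit 4) 786438
 (Net.cons (nat_lit 8) (nat_lit 0x580060)
 (Net.cons (nat_lit 16) 23928
 Net.nil)))))))))

noncomputable def ns_24 : Net :=
 (Net.cons (nat_lit 16) 9440
 (Net.cons (nat_lit 8) (nat_lit 0xb00094)
 (Net.cons (nat_lit 4) (nat_lit 0x4040908)
 (Net.cons (nat_lit 2) (nat_lit 0x30230230)
 (Net.cons (nat_lit 1) (nat_lit 0x404451)
 (Net.cons (nat_lit 2) (nat_lit 0x200200)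
 (Net.cons (nat_lit 4) (nat_lit 0x4040808)
 (Net.cons (nat_lit 8) (nat_lit 0xb00014)
 (Net.cons (nat_lit 16) 9440
 Net.nil)))))))))

noncomputable def ns_25 : Net :=
 (Net.cons (nat_lit 16) 34052
 (Net.cons (nat_lit 8) (nat_lit 0xc10020)
 (Net.cons (nat_lit 4) (nat_lit 0x4000606)
 (Net.cons (nat_lit 2) 131616
 (Net.cons (nat_lit 1) 5185
 (Net.cons (nat_lit 2) 544
 (Net.cons (nat_lit 4) 1542
 (Net.cons (nat_lit 8) (nat_lit 0x400020)
 (Net.cons (nat_lit 16) 34052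
 Net.nil)))))))))

noncomputable def ns_26 : Net :=
 (Net.cons (nat_lit 16) 37892
 (Net.cons (nat_lit 8) (nat_lit 0x940028)
 (Net.cons (nat_lit 4) (nat_lit 0x4060000)
 (Net.cons (nat_lit 2) (nat_lit 0x10322211)
 (Net.cons (nat_lit 1) 278528
 (Net.cons (nat_lit 2) 139264
 (Net.cons (nat_lit 4) (nat_lit 0x4060000)
 (Net.cons (nat_lit 8) (nat_lit 0x800028)
 (Net.cons (nat_lit 16) 37892
 Net.nil)))))))))

noncomputable def ns_27 : Net :=
 (Net.cons (nat_lit 16) 41984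
 (Net.cons (nat_lit 8) (nat_lit 0x680080)
 (Net.cons (nat_lit 4) (nat_lit 0xc0c0a00)
 (Net.cons (nat_lit 2) (nat_lit 0x220010)
 (Net.cons (nat_lit 1) (nat_lit 0x401001)
 (Net.cons (nat_lit 2) (nat_lit 0x200000)
 (Net.cons (nat_lit 4) 786944
 (Net.cons (nat_lit 8) (nat_lit 0x680080)
 (Net.cons (nat_lit 16) 41984
 Net.nil)))))))))

noncomputable def ns_28 : Net :=
 (Net.cons (nat_lit 16) 68
 (Net.cons (nat_lit 8) 178
 (Net.cons (nat_lit 4) 789762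
 (Net.cons (nat_lit 2) 73729
 (Net.cons (nat_lit 1) (nat_lit 0x100410)
 (Net.cons (nat_lit 4) 265218
 (Net.cons (nat_lit 8) 178
 (Net.cons (nat_lit 16) 68
 Net.nil))))))))

noncomputable def ns_29 : Net :=
 (Net.cons (nat_lit 16) 1368
 (Net.cons (nat_lit 8) (nat_lit 0x81002a)
 (Net.cons (nat_lit 4) (nat_lit 0x8020409)
 (Net.cons (nat_lit 2) (nat_lit 0x102011)
 (Net.cons (nat_lit 1) (nat_lit 0x4041414)
 (Net.cons (nat_lit 2) 32
 (Net.cons (nat_lit 4) (nat_lit 0x8000c0c)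
 (Net.cons (nat_lit 8) (nat_lit 0x8000d0)
 (Net.cons (nat_lit 16) 1368
 Net.nil)))))))))

noncomputable def ns : List Net := [ModelM12.ns_0, ModelM12.ns_1, ns_2, ns_3, ns_4, ns_5, ns_6, ns_7, ns_8, ns_9, ns_10, ns_11, ns_12, ns_13, ns_14, ns_15, ns_16, ns_17, ns_18, ns_19, ns_20, ns_21, ns_22, ns_23, ns_24, ns_25, ns_26, ns_27, ns_28, ns_29]

theorem ctx : Ctx 32 5 ns := ctx_of (by decide +kernel)

theorem lctx : LCtx 32 5 8 31 trN5 ns := lctx_of ctx trOK5 (by decide +kernel)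

noncomputable def E : List ℕ → ℕ → ℕ := pfW0 32 5 8 31 trN5 ns

theorem hE : Evl 32 ns E := evl_pfW0 lctx

open Cfsg.Agent.Fus

theorem geq : gen ModelM12.ns ModelM12.G_ss0 = gen ns [[0], [2]] :=
  gen_eq_of_take (ns := ModelM12.ns) (ns' := ns) (k := 2) rfl (ws := ModelM12.G_ss0) (by decide +kernel)

theorem hn : Nat.card (gen ns [[0], [2]]) = 95040 :=
  geq ▸ ModelM12.G_card

theorem kn_0 : Known ns (gen ns [[0], [2]]) 3 :=
  known_gen (by decide +kernel)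

noncomputable def ss : List ℕ :=
  [40, 38, 36, 34, 32, 30]

theorem pc : IsPc ns ss :=
  isPc_of_pcB ctx (hs := [([], [[0, 2], [2], [2, 4, 8], [6, 8], [8]]), ([0], [[0], [0, 2, 4, 6], [4], [6]]), ([], [[0, 4], [2], [4]]), ([0], [[0], [2]]), ([0], [[0]]), ([], [])]) (by decide +kernel)

theorem kS_0 : Known ns (gen ns (ltrs ss)) 2064384 :=
  known_gen (by decide +kernel)

noncomputable def A_S5 : List SD :=
  []

noncomputable def A_d4 : SD :=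
  ⟨18, 1, [24, 26, 28], lab 3 7 (nat_lit 0x400000b080418), 2⟩

noncomputable def A_S4 : List SD :=
  A_d4 :: A_S5

noncomputable def A_d3 : SD :=
  ⟨12, 1, [18, 20, 22, 24, 26, 28], lab 4 15 (nat_lit 0x109000000340a066000), 2⟩

noncomputable def A_S3 : List SD :=
  A_d3 :: A_S4

noncomputable def A_d2 : SD :=
  ⟨13, 1, [12, 14, 16, 18, 20, 22, 24, 26, 28], lab 5 31 (nat_lit 0x240000001000830080510000), 2⟩

noncomputable def A_S2 : List SD :=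
  A_d2 :: A_S3

noncomputable def A_d1 : SD :=
  ⟨2, 1, [6, 8, 10, 12, 14, 16, 18, 20, 22, 24, 26, 28], lab 5 31 (nat_lit 0xc09000400000700408201e0), 2⟩

noncomputable def A_S1 : List SD :=
  A_d1 :: A_S2

noncomputable def A_d0 : SD :=
  ⟨0, 1, [0, 2, 4, 6, 8, 10, 12, 14, 16, 18, 20, 22, 24, 26, 28], lab 5 31 (nat_lit 0x4808001c4000620100559660), 2⟩

noncomputable def A_S0 : List SD :=
  A_d0 :: A_S1

theorem kn_1 : Known ns (gen ns [[0], [2]]) 2097151 :=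
  kn_0.steps ctx (es := [(2, [2, 0, 3, 0, 3, 1]),
 (3, [5, 5, 2, 5, 1, 3]),
 (4, [2, 5, 0, 5, 1, 5, 5, 3, 3]),
 (5, [9, 7, 9]),
 (6, [6, 10, 8, 6, 11, 11, 11, 6]),
 (7, [6, 10, 9, 6, 9, 9, 11, 7, 8]),
 (8, [12, 15, 13, 14, 12, 14]),
 (9, [14, 12, 14, 12]),
 (10, [15, 13, 16, 14, 13]),
 (11, [19, 19]),
 (12, [20, 20, 20, 23, 21, 21, 23, 23]),
 (13, [20, 18, 23, 20, 23]),
 (14, [24, 24]),
 (15, [18, 2, 12, 12, 22, 26, 24]),
 (16, [14, 2, 14, 6, 21, 12, 27, 18, 28]),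
 (17, [5, 3, 14, 6, 14, 12, 27, 18]),
 (18, [18, 2, 8, 6, 15, 24, 18, 27, 24]),
 (19, [14, 2, 8, 6, 17, 24, 18, 27]),
 (20, [19, 2, 9, 15, 22, 27, 24])]) (by decide +kernel)

theorem A_ex : Exact 32 ns A_S0 ∧ gen ns (sTop A_S0) = gen ns [[0], [2]] ∧ gen ns [[0], [2]] = gen ns [[0], [2]] :=
  exact_of_known ctx hn (le_rfl) kn_1 (by decide +kernel)

noncomputable def B_S4 : List SD :=
  []

noncomputable def B_d3 : SD :=
  ⟨0, 1, [30], lab 1 1 0, 1⟩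

noncomputable def B_S3 : List SD :=
  B_d3 :: B_S4

noncomputable def B_d2 : SD :=
  ⟨5, 1, [42, 44, 30], lab 3 7 (nat_lit 0x80400000000), 2⟩

noncomputable def B_S2 : List SD :=
  B_d2 :: B_S3

noncomputable def B_d1 : SD :=
  ⟨8, 1, [46, 42, 44, 30], lab 3 7 0, 1⟩

noncomputable def B_S1 : List SD :=
  B_d1 :: B_S2

noncomputable def B_d0 : SD :=
  ⟨4, 2, [48, 46, 42, 44, 30], lab 4 15 (nat_lit 0x20000000000000000), 3⟩

noncomputable def B_S0 : List SD :=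
  B_d0 :: B_S1

theorem kS_1 : Known ns (gen ns (ltrs ss)) 1073709056 :=
  kS_0.steps ctx (es := [(21, [38, 34]),
 (22, [38, 36, 34, 32, 30]),
 (23, [40, 34, 30]),
 (24, [40, 36, 30]),
 (25, [40, 38, 32]),
 (26, [40, 38]),
 (27, [40, 38, 36, 32]),
 (28, [40, 32]),
 (29, [38, 36, 34])]) (by decide +kernel)

theorem syl : gen ns (ltrs ss) ≤ gen ns [[0], [2]] ∧ SylIn 2 (gen ns (ltrs ss)) (gen ns [[0], [2]]) :=
  pc.sylIn ctx hn (k := 6) kn_1 kS_1 (C := B_S0) (by decide +kernel)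

noncomputable def CA_as : List (List ℕ × List ℕ) :=
  [([34], [34])]

noncomputable def CA_cs : List (List ℕ) :=
  [[]]

noncomputable def CA_pl : List Pl :=
  [⟨.lst 0, []⟩, ⟨.forced 0 0, []⟩, ⟨.forced 0 0, []⟩, ⟨.forced 0 0, []⟩, ⟨.forced 0 0, []⟩]

noncomputable def CA_M0 : ℕ :=
  257

theorem CA_b0 : Br 32 ns (derAs CA_as [[0]]) (derSs 32 5 ns CA_as [[0]]) (gen ns (sTop A_S0)) A_d0.p CA_M0 (InCs ns A_S0 CA_cs) :=
  br_of_brB ctx hE A_ex.1 (pl := CA_pl) (bs := []) (tps := []) (by decide +kernel)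

theorem CA : SolList ns (gen ns [[0], [2]]) CA_as [[34]] CA_cs :=
  solList_of_br ctx A_ex.1 A_ex.2.1 kn_1 CA_b0 (cons := []) (r := 7) (by decide +kernel)

theorem nrm : gen ns (ltrs ss) ≠ ⊥ ∧ Cfsg.FusionSystem.normalizerIn (gen ns [[0], [2]]) (gen ns (ltrs ss)) ≤ gen ns (ltrs ss) :=
  pc.normalizerIn_le ctx syl kS_1 (a := [34]) (a' := [40, 34]) (gs := [[], [32], [34], [36], [38], [40], [34, 32], [38, 32], [38, 34], [38, 36], [40, 36], [40, 38], [40, 38, 36]]) CA (by decide +kernel)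

instance fin : Finite (gen ns [[0], [2]]) := finite_gen ctx.ok _

theorem simple : (Cfsg.fusionSystemOfSubgroup (gen ns [[0], [2]]) _ syl.1).IsSimple 2 :=
  pc.isSimple ctx syl nrm kn_1 kS_1 (j := 15) (es := [(25, [3, 21, 6, 21, 12, 24, 19, 28], [30]),
 (26, [34], [50]),
 (27, [38], [50]),
 (28, [5, 6, 13, 18, 26, 24], [50]),
 (29, [18, 2, 7, 16, 24, 19, 26, 24], [50, 52, 56]),
 (20, [], [52, 50, 56]),
 (19, [], [54, 56]),
 (18, [], [50, 54]),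
 (17, [], [54, 56, 58]),
 (16, [], [52, 50])]) (by decide +kernel)

theorem isSimple : ∀ S : Sylow 2 Cfsg.Spor.M12, (Cfsg.groupFusionSystem (S : Subgroup Cfsg.Spor.M12)).IsSimple 2 :=
  isSimple_of_equiv (ModelM12.equiv.trans (MulEquiv.subgroupCongr geq)) syl simple

theorem normalizer_eq : ∀ S : Sylow 2 Cfsg.Spor.M12, Subgroup.normalizer ((S : Subgroup Cfsg.Spor.M12) : Set Cfsg.Spor.M12) = S :=
  normalizer_eq_of_equiv (ModelM12.equiv.trans (MulEquiv.subgroupCongr geq)) syl nrm.2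

end Cfsg.Agent.Spor.Syl2M12
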