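import Cfsg.Agent.Fus.SylCert
import Cfsg.Agent.Spor.ModelM22

set_option autoImplicit false
set_option maxRecDepth 4096

namespace Cfsg.Agent.Spor.Syl2M22

open Cfsg.Agent.Comp

noncomputable def ns_2 : Net :=
 (Net.cons (nat_lit 16) 24392
 (Net.cons (nat_lit 8) (nat_lit 0x4b0084)
 (Net.cons (nat_lit 4) 984074
 (Net.cons (nat_lit 2) (nat_lit 0x12232032)
 (Net.cons (nat_lit 1) (nat_lit 0x4044010)
 (Net.cons (nat_lit 2) (nat_lit 0x2022020)
 (Net.cons (nat_lit 4) (nat_lit 0x40e0400)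
 (Net.cons (nat_lit 8) (nat_lit 0x1c0004)
 (Net.cons (nat_lit 16) 24420
 Net.nil)))))))))

noncomputable def ns_3 : Net :=
 (Net.cons (nat_lit 16) 52544
 (Net.cons (nat_lit 8) (nat_lit 0x860030)
 (Net.cons (nat_lit 4) (nat_lit 0x4000204)
 (Net.cons (nat_lit 2) (nat_lit 0x3300000)
 (Net.cons (nat_lit 1) (nat_lit 0x4441010)
 (Net.cons (nat_lit 2) 32
 (Net.cons (nat_lit 4) (nat_lit 0x4000000)
 (Net.cons (nat_lit 8) (nat_lit 0x820000)
 (Net.cons (nat_lit 16) 52552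
 Net.nil)))))))))

noncomputable def ns_4 : Net :=
 (Net.cons (nat_lit 16) 124
 (Net.cons (nat_lit 8) 8
 (Net.cons (nat_lit 4) 723976
 (Net.cons (nat_lit 2) 70400
 (Net.cons (nat_lit 1) (nat_lit 0x114440)
 (Net.cons (nat_lit 2) (nat_lit 0x202020)
 (Net.cons (nat_lit 4) 525320
 (Net.cons (nat_lit 8) 104
 Net.nil))))))))

noncomputable def ns_5 : Net :=
 (Net.cons (nat_lit 16) 7276
 (Net.cons (nat_lit 8) (nat_lit 0x180068)
 (Net.cons (nat_lit 4) (nat_lit 0xc050404)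
 (Net.cons (nat_lit 2) (nat_lit 0x10120230)
 (Net.cons (nat_lit 1) (nat_lit 0x40150440)
 (Net.cons (nat_lit 4) (nat_lit 0xc000404)
 (Net.cons (nat_lit 8) 786504
 (Net.cons (nat_lit 16) 7256
 Net.nil))))))))

noncomputable def ns_6 : Net :=
 (Net.cons (nat_lit 16) 46096
 (Net.cons (nat_lit 8) (nat_lit 0xb000d0)
 (Net.cons (nat_lit 4) (nat_lit 0x405090c)
 (Net.cons (nat_lit 2) (nat_lit 0x10213200)
 (Net.cons (nat_lit 1) (nat_lit 0x10001140)
 (Net.cons (nat_lit 2) 8224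
 (Net.cons (nat_lit 4) (nat_lit 0x40c000c)
 (Net.cons (nat_lit 8) (nat_lit 0xb000d0)
 (Net.cons (nat_lit 16) 46096
 Net.nil)))))))))

noncomputable def ns_7 : Net :=
 (Net.cons (nat_lit 16) 57560
 (Net.cons (nat_lit 8) (nat_lit 0xd00006)
 (Net.cons (nat_lit 4) 918784
 (Net.cons (nat_lit 2) (nat_lit 0x20231032)
 (Net.cons (nat_lit 1) (nat_lit 0x10010044)
 (Net.cons (nat_lit 2) 131104
 (Net.cons (nat_lit 4) 787456
 (Net.cons (nat_lit 8) (nat_lit 0xd00006)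
 (Net.cons (nat_lit 16) 57560
 Net.nil)))))))))

noncomputable def ns_8 : Net :=
 (Net.cons (nat_lit 16) 62954
 (Net.cons (nat_lit 8) (nat_lit 0xb5007e)
 (Net.cons (nat_lit 4) (nat_lit 0x6040a00)
 (Net.cons (nat_lit 2) (nat_lit 0x3103200)
 (Net.cons (nat_lit 1) (nat_lit 0x4405400)
 (Net.cons (nat_lit 2) (nat_lit 0x2000200)
 (Net.cons (nat_lit 4) (nat_lit 0x6000800)
 (Net.cons (nat_lit 8) (nat_lit 0x140074)
 (Net.cons (nat_lit 16) 62962
 Net.nil)))))))))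

noncomputable def ns_9 : Net :=
 (Net.cons (nat_lit 16) 39588
 (Net.cons (nat_lit 8) (nat_lit 0x580048)
 (Net.cons (nat_lit 4) (nat_lit 0x2030400)
 (Net.cons (nat_lit 2) (nat_lit 0x30220110)
 (Net.cons (nat_lit 1) (nat_lit 0x40050410)
 (Net.cons (nat_lit 4) (nat_lit 0xa080400)
 (Net.cons (nat_lit 8) (nat_lit 0x420048)
 (Net.cons (nat_lit 16) 39588
 Net.nil))))))))

noncomputable def ns_10 : Net :=
 (Net.cons (nat_lit 16) 4960
 (Net.cons (nat_lit 8) (nat_lit 0x520038)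
 (Net.cons (nat_lit 4) 591876
 (Net.cons (nat_lit 2) (nat_lit 0x10203020)
 (Net.cons (nat_lit 1) (nat_lit 0x1104040)
 (Net.cons (nat_lit 2) (nat_lit 0x202000)
 (Net.cons (nat_lit 4) 524292
 (Net.cons (nat_lit 8) (nat_lit 0x500030)
 (Net.cons (nat_lit 16) 4896
 Net.nil)))))))))

noncomputable def ns_11 : Net :=
 (Net.cons (nat_lit 16) 24848
 (Net.cons (nat_lit 8) (nat_lit 0x31001c)
 (Net.cons (nat_lit 4) 919042
 (Net.cons (nat_lit 2) (nat_lit 0x30213032)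
 (Net.cons (nat_lit 1) (nat_lit 0x40004010)
 (Net.cons (nat_lit 2) (nat_lit 0x20002020)
 (Net.cons (nat_lit 4) 787970
 (Net.cons (nat_lit 8) (nat_lit 0x300014)
 (Net.cons (nat_lit 16) 24848
 Net.nil)))))))))

noncomputable def ns_12 : Net :=
 (Net.cons (nat_lit 16) 25088
 (Net.cons (nat_lit 8) (nat_lit 0x400004)
 (Net.cons (nat_lit 4) (nat_lit 0x201000c)
 (Net.cons (nat_lit 2) (nat_lit 0x20320320)
 (Net.cons (nat_lit 1) (nat_lit 0x40410114)
 (Net.cons (nat_lit 2) (nat_lit 0x20200200)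
 (Net.cons (nat_lit 4) 12
 (Net.cons (nat_lit 8) (nat_lit 0x400084)
 (Net.cons (nat_lit 16) 25144
 Net.nil)))))))))

noncomputable def ns_13 : Net :=
 (Net.cons (nat_lit 16) 6672
 (Net.cons (nat_lit 8) (nat_lit 0x180082)
 (Net.cons (nat_lit 4) 590852
 (Net.cons (nat_lit 2) (nat_lit 0x2222030)
 (Net.cons (nat_lit 1) 278784
 (Net.cons (nat_lit 2) 139264
 (Net.cons (nat_lit 4) 525316
 (Net.cons (nat_lit 8) (nat_lit 0x180082)
 (Net.cons (nat_lit 16) 6672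
 Net.nil)))))))))

noncomputable def ns_14 : Net :=
 (Net.cons (nat_lit 16) 53808
 (Net.cons (nat_lit 8) (nat_lit 0x780014)
 (Net.cons (nat_lit 4) (nat_lit 0xa030f0a)
 (Net.cons (nat_lit 2) (nat_lit 0x2013002)
 (Net.cons (nat_lit 1) (nat_lit 0x101144)
 (Net.cons (nat_lit 2) 8194
 (Net.cons (nat_lit 4) 134664
 (Net.cons (nat_lit 8) (nat_lit 0x380030)
 (Net.cons (nat_lit 16) 53808
 Net.nil)))))))))

noncomputable def ns_15 : Net :=
 (Net.cons (nat_lit 16) 25310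
 (Net.cons (nat_lit 8) (nat_lit 0x640086)
 (Net.cons (nat_lit 4) (nat_lit 0x604010a)
 (Net.cons (nat_lit 2) (nat_lit 0x20200122)
 (Net.cons (nat_lit 1) (nat_lit 0x40150110)
 (Net.cons (nat_lit 2) (nat_lit 0x20200020)
 (Net.cons (nat_lit 4) (nat_lit 0x4060002)
 (Net.cons (nat_lit 8) (nat_lit 0x24008a)
 (Net.cons (nat_lit 16) 25276
 Net.nil)))))))))

noncomputable def ns_16 : Net :=
 (Net.cons (nat_lit 16) 37616
 (Net.cons (nat_lit 8) (nat_lit 0x920014)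
 (Net.cons (nat_lit 4) 197382
 (Net.cons (nat_lit 2) (nat_lit 0x20020320)
 (Net.cons (nat_lit 1) (nat_lit 0x10150144)
 (Net.cons (nat_lit 2) (nat_lit 0x20200020)
 (Net.cons (nat_lit 4) 131588
 (Net.cons (nat_lit 8) (nat_lit 0x900050)
 (Net.cons (nat_lit 16) 37552
 Net.nil)))))))))

noncomputable def ns_17 : Net :=
 (Net.cons (nat_lit 16) 35902
 (Net.cons (nat_lit 8) (nat_lit 0xcc0072)
 (Net.cons (nat_lit 4) (nat_lit 0x8000302)
 (Net.cons (nat_lit 1) (nat_lit 0x40010114)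
 (Net.cons (nat_lit 2) 131072
 (Net.cons (nat_lit 4) (nat_lit 0x8080200)
 (Net.cons (nat_lit 8) (nat_lit 0xc80000)
 (Net.cons (nat_lit 16) 35866
 Net.nil))))))))

noncomputable def ns_18 : Net :=
 (Net.cons (nat_lit 16) 22536
 (Net.cons (nat_lit 8) (nat_lit 0x5e002a)
 (Net.cons (nat_lit 4) (nat_lit 0x60b0200)
 (Net.cons (nat_lit 2) (nat_lit 0x30202220)
 (Net.cons (nat_lit 1) (nat_lit 0x40110510)
 (Net.cons (nat_lit 2) (nat_lit 0x20200020)
 (Net.cons (nat_lit 4) (nat_lit 0x60a0800)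
 (Net.cons (nat_lit 8) (nat_lit 0x1e0008)
 (Net.cons (nat_lit 16) 22540
 Net.nil)))))))))

noncomputable def ns_19 : Net :=
 (Net.cons (nat_lit 16) 22600
 (Net.cons (nat_lit 8) (nat_lit 0x1800b0)
 (Net.cons (nat_lit 4) (nat_lit 0x8010202)
 (Net.cons (nat_lit 2) 205600
 (Net.cons (nat_lit 1) (nat_lit 0x40151400)
 (Net.cons (nat_lit 2) 8704
 (Net.cons (nat_lit 4) (nat_lit 0x8000008)
 (Net.cons (nat_lit 8) (nat_lit 0x5800b0)
 (Net.cons (nat_lit 16) 22536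
 Net.nil)))))))))

noncomputable def ns_20 : Net :=
 (Net.cons (nat_lit 16) 34816
 (Net.cons (nat_lit 8) 524306
 (Net.cons (nat_lit 4) (nat_lit 0x8050606)
 (Net.cons (nat_lit 2) (nat_lit 0x222010)
 (Net.cons (nat_lit 1) (nat_lit 0x404100)
 (Net.cons (nat_lit 2) (nat_lit 0x202000)
 (Net.cons (nat_lit 4) 263684
 (Net.cons (nat_lit 8) 524306
 (Net.cons (nat_lit 16) 34816
 Net.nil)))))))))

noncomputable def ns_21 : Net :=
 (Net.cons (nat_lit 16) 41218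
 (Net.cons (nat_lit 8) (nat_lit 0xa40000)
 (Net.cons (nat_lit 4) 516
 (Net.cons (nat_lit 2) (nat_lit 0x1220020)
 (Net.cons (nat_lit 1) (nat_lit 0x111440)
 (Net.cons (nat_lit 2) (nat_lit 0x220020)
 (Net.cons (nat_lit 4) 516
 (Net.cons (nat_lit 8) (nat_lit 0x840000)
 (Net.cons (nat_lit 16) 41216
 Net.nil)))))))))

noncomputable def ns_22 : Net :=
 (Net.cons (nat_lit 16) 7172
 (Net.cons (nat_lit 8) (nat_lit 0x280022)
 (Net.cons (nat_lit 4) 131586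
 (Net.cons (nat_lit 2) 139264
 (Net.cons (nat_lit 1) (nat_lit 0x14110100)
 (Net.cons (nat_lit 2) 131072
 (Net.cons (nat_lit 4) 131584
 (Net.cons (nat_lit 8) (nat_lit 0x280022)
 (Net.cons (nat_lit 16) 7168
 Net.nil)))))))))

noncomputable def ns_23 : Net :=
 (Net.cons (nat_lit 16) 4108
 (Net.cons (nat_lit 8) (nat_lit 0x100028)
 (Net.cons (nat_lit 4) 133634
 (Net.cons (nat_lit 2) 74496
 (Net.cons (nat_lit 1) 4
 (Net.cons (nat_lit 8) 40
 (Net.cons (nat_lit 16) 4108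
 Net.nil)))))))

noncomputable def ns_24 : Net :=
 (Net.cons (nat_lit 16) 7524
 (Net.cons (nat_lit 8) 230
 (Net.cons (nat_lit 4) (nat_lit 0x9050406)
 (Net.cons (nat_lit 2) (nat_lit 0x21322020)
 (Net.cons (nat_lit 1) (nat_lit 0x10404004)
 (Net.cons (nat_lit 2) (nat_lit 0x20202000)
 (Net.cons (nat_lit 4) (nat_lit 0x8060404)
 (Net.cons (nat_lit 8) (nat_lit 0x1c00e4)
 (Net.cons (nat_lit 16) 7456
 Net.nil)))))))))

noncomputable def ns_25 : Net :=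
 (Net.cons (nat_lit 16) 12328
 (Net.cons (nat_lit 8) (nat_lit 0x1200ea)
 (Net.cons (nat_lit 4) (nat_lit 0x2090a04)
 (Net.cons (nat_lit 2) 74498
 (Net.cons (nat_lit 1) (nat_lit 0x10400440)
 (Net.cons (nat_lit 2) 512
 (Net.cons (nat_lit 4) 526348
 (Net.cons (nat_lit 8) (nat_lit 0x2200ac)
 (Net.cons (nat_lit 16) 12302
 Net.nil)))))))))

noncomputable def ns_26 : Net :=
 (Net.cons (nat_lit 16) 22564
 (Net.cons (nat_lit 8) (nat_lit 0x580002)
 (Net.cons (nat_lit 4) 1028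
 (Net.cons (nat_lit 2) 204848
 (Net.cons (nat_lit 1) 16720
 (Net.cons (nat_lit 2) 8192
 (Net.cons (nat_lit 4) 1028
 (Net.cons (nat_lit 8) 524290
 (Net.cons (nat_lit 16) 22564
 Net.nil)))))))))

noncomputable def ns_27 : Net :=
 (Net.cons (nat_lit 16) 4352
 (Net.cons (nat_lit 8) (nat_lit 0x180022)
 (Net.cons (nat_lit 4) 67588
 (Net.cons (nat_lit 2) (nat_lit 0x2020020)
 (Net.cons (nat_lit 1) (nat_lit 0x1040414)
 (Net.cons (nat_lit 2) (nat_lit 0x2020020)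
 (Net.cons (nat_lit 4) 2052
 (Net.cons (nat_lit 8) (nat_lit 0x180000)
 (Net.cons (nat_lit 16) 4352
 Net.nil)))))))))

noncomputable def ns_28 : Net :=
 (Net.cons (nat_lit 16) 16416
 (Net.cons (nat_lit 8) (nat_lit 0x40000c)
 (Net.cons (nat_lit 4) 524806
 (Net.cons (nat_lit 2) (nat_lit 0x222032)
 (Net.cons (nat_lit 1) 262480
 (Net.cons (nat_lit 2) 131072
 (Net.cons (nat_lit 4) 524806
 (Net.cons (nat_lit 8) 12
 (Net.cons (nat_lit 16) 16416
 Net.nil)))))))))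

noncomputable def ns_29 : Net :=
 (Net.cons (nat_lit 16) 4096
 (Net.cons (nat_lit 8) (nat_lit 0x3000d8)
 (Net.cons (nat_lit 4) 263168
 (Net.cons (nat_lit 2) (nat_lit 0x103020)
 (Net.cons (nat_lit 1) (nat_lit 0x10015404)
 (Net.cons (nat_lit 4) 263168
 (Net.cons (nat_lit 8) (nat_lit 0x3000d8)
 (Net.cons (nat_lit 16) 4096
 Net.nil))))))))

noncomputable def ns_30 : Net :=
 (Net.cons (nat_lit 16) 30800
 (Net.cons (nat_lit 8) (nat_lit 0x580000)
 (Net.cons (nat_lit 4) (nat_lit 0x8000004)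
 (Net.cons (nat_lit 2) (nat_lit 0x20030210)
 (Net.cons (nat_lit 1) (nat_lit 0x150404)
 (Net.cons (nat_lit 2) 512
 (Net.cons (nat_lit 4) (nat_lit 0x8000004)
 (Net.cons (nat_lit 8) (nat_lit 0x180000)
 (Net.cons (nat_lit 16) 30800
 Net.nil)))))))))

noncomputable def ns : List Net := [ModelM22.ns_0, ModelM22.ns_1, ns_2, ns_3, ns_4, ns_5, ns_6, ns_7, ns_8, ns_9, ns_10, ns_11, ns_12, ns_13, ns_14, ns_15, ns_16, ns_17, ns_18, ns_19, ns_20, ns_21, ns_22, ns_23, ns_24, ns_25, ns_26, ns_27, ns_28, ns_29, ns_30]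

theorem ctx : Ctx 32 5 ns := ctx_of (by decide +kernel)

theorem lctx : LCtx 32 5 8 31 trN5 ns := lctx_of ctx trOK5 (by decide +kernel)

noncomputable def E : List ℕ → ℕ → ℕ := pfW0 32 5 8 31 trN5 ns

theorem hE : Evl 32 ns E := evl_pfW0 lctx

open Cfsg.Agent.Fus

theorem geq : gen ModelM22.ns ModelM22.G_ss0 = gen ns [[0], [2]] :=
  gen_eq_of_take (ns := ModelM22.ns) (ns' := ns) (k := 2) rfl (ws := ModelM22.G_ss0) (by decide +kernel)

theorem hn : Nat.card (gen ns [[0], [2]]) = 443520 :=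
  geq ▸ ModelM22.G_card

theorem kn_0 : Known ns (gen ns [[0], [2]]) 3 :=
  known_gen (by decide +kernel)

noncomputable def ss : List ℕ :=
  [38, 36, 34, 32, 30, 28, 26]

theorem pc : IsPc ns ss :=
  isPc_of_pcB ctx (hs := [([0, 2, 6, 10], [[2, 6, 10], [2, 4, 6, 8], [0, 2, 8], [0, 2, 10], [4, 6, 8], [10]]), ([8], [[0, 6], [2, 6, 8], [4, 6, 8], [6, 8], [8]]), ([0, 2, 6], [[2], [0, 6], [4], [6]]), ([2], [[0, 4], [2], [4]]), ([0], [[0], [2]]), ([0], [[0]]), ([], [])]) (by decide +kernel)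

theorem kS_0 : Known ns (gen ns (ltrs ss)) 1040384 :=
  known_gen (by decide +kernel)

noncomputable def A_S5 : List SD :=
  []

noncomputable def A_d4 : SD :=
  ⟨8, 2, [24], lab 1 1 4, 1⟩

noncomputable def A_S4 : List SD :=
  A_d4 :: A_S5

noncomputable def A_d3 : SD :=
  ⟨12, 2, [18, 20, 22, 24], lab 3 7 (nat_lit 0x241b23800c970140), 2⟩

noncomputable def A_S3 : List SD :=
  A_d3 :: A_S4

noncomputable def A_d2 : SD :=
  ⟨10, 1, [12, 14, 16, 18, 20, 22, 24], lab 4 15 (nat_lit 0x41430381735502824c02500), 2⟩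

noncomputable def A_S2 : List SD :=
  A_d2 :: A_S3

noncomputable def A_d1 : SD :=
  ⟨18, 1, [6, 8, 10, 12, 14, 16, 18, 20, 22, 24], lab 5 31 (nat_lit 0x10e5001823b4cf584a82aa4220c00), 2⟩

noncomputable def A_S1 : List SD :=
  A_d1 :: A_S2

noncomputable def A_d0 : SD :=
  ⟨1, 1, [0, 2, 4, 6, 8, 10, 12, 14, 16, 18, 20, 22, 24], lab 5 31 (nat_lit 0x4002cadea249764b10c6886d42800), 3⟩

noncomputable def A_S0 : List SD :=
  A_d0 :: A_S1

theorem kn_1 : Known ns (gen ns [[0], [2]]) 1048575 :=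
  kn_0.steps ctx (es := [(2, [3, 0, 0, 2, 0, 3]),
 (3, [1, 3, 1]),
 (4, [1, 2, 4, 3, 1, 5, 5, 3, 4, 2]),
 (5, [8, 6, 8, 6, 9]),
 (6, [9, 7, 9, 6, 9]),
 (7, [7, 11, 7, 9]),
 (8, [14, 12, 14, 12]),
 (9, [13, 16, 12, 16, 12]),
 (10, [13, 17, 17, 14, 14]),
 (11, [16, 13, 15, 12, 16, 12, 14, 13]),
 (12, [19, 22, 21]),
 (13, [12, 2, 21, 6, 17, 12, 18, 25]),
 (14, [12, 0, 12, 6, 24, 15, 22]),
 (15, [11, 8, 0, 11, 16, 20, 18, 24]),
 (16, [0, 13, 6, 15, 13, 25, 18, 25]),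
 (17, [9, 0, 6, 15, 12, 18, 25]),
 (18, [8, 2, 21, 6, 16, 22]),
 (19, [11, 0, 17, 8, 17, 12, 20, 25])]) (by decide +kernel)

theorem A_ex : Exact 32 ns A_S0 ∧ gen ns (sTop A_S0) = gen ns [[0], [2]] ∧ gen ns [[0], [2]] = gen ns [[0], [2]] :=
  exact_of_known ctx hn (le_rfl) kn_1 (by decide +kernel)

noncomputable def B_S3 : List SD :=
  []

noncomputable def B_d2 : SD :=
  ⟨1, 1, [40, 42, 44, 46], lab 3 7 (nat_lit 0x34994836436030180), 4⟩

noncomputable def B_S2 : List SD :=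
  B_d2 :: B_S3

noncomputable def B_d1 : SD :=
  ⟨3, 1, [48, 50, 40, 42, 44, 46], lab 4 15 (nat_lit 0x20000000000000002000000), 2⟩

noncomputable def B_S1 : List SD :=
  B_d1 :: B_S2

noncomputable def B_d0 : SD :=
  ⟨4, 1, [52, 48, 50, 40, 42, 44, 46], lab 4 15 0, 1⟩

noncomputable def B_S0 : List SD :=
  B_d0 :: B_S1

theorem kS_1 : Known ns (gen ns (ltrs ss)) 2147475456 :=
  kS_0.steps ctx (es := [(20, [36, 34, 32, 26]),
 (21, [38, 36, 34, 28, 26]),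
 (22, [32, 30, 26]),
 (23, [36, 34, 32]),
 (24, [38, 34, 30, 28, 26]),
 (25, [38, 36, 32, 30, 28, 26]),
 (26, [34, 30, 28]),
 (27, [34, 32, 28]),
 (28, [36, 32, 30, 26]),
 (29, [36, 32, 30, 28, 26]),
 (30, [38, 34, 32, 28, 26])]) (by decide +kernel)

theorem syl : gen ns (ltrs ss) ≤ gen ns [[0], [2]] ∧ SylIn 2 (gen ns (ltrs ss)) (gen ns [[0], [2]]) :=
  pc.sylIn ctx hn (k := 7) kn_1 kS_1 (C := B_S0) (by decide +kernel)

noncomputable def CA_as : List (List ℕ × List ℕ) :=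
  [([30], [30])]

noncomputable def CA_cs : List (List ℕ) :=
  [[]]

noncomputable def CA_pl : List Pl :=
  [⟨.lst 0, []⟩, ⟨.forced 0 0, []⟩, ⟨.forced 0 0, []⟩, ⟨.forced 0 0, []⟩, ⟨.forced 0 0, []⟩]

noncomputable def CA_M0 : ℕ :=
  nat_lit 0x200052

theorem CA_b0 : Br 32 ns (derAs CA_as [[0]]) (derSs 32 5 ns CA_as [[0]]) (gen ns (sTop A_S0)) A_d0.p CA_M0 (InCs ns A_S0 CA_cs) :=
  br_of_brB ctx hE A_ex.1 (pl := CA_pl) (bs := []) (tps := [3]) (by decide +kernel)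

theorem CA : SolList ns (gen ns [[0], [2]]) CA_as [[30]] CA_cs :=
  solList_of_br ctx A_ex.1 A_ex.2.1 kn_1 CA_b0 (cons := []) (r := 7) (by decide +kernel)

theorem nrm : gen ns (ltrs ss) ≠ ⊥ ∧ Cfsg.FusionSystem.normalizerIn (gen ns [[0], [2]]) (gen ns (ltrs ss)) ≤ gen ns (ltrs ss) :=
  pc.normalizerIn_le ctx syl kS_1 (a := [30]) (a' := [30]) (gs := [[], [32], [34], [36], [38], [34, 32], [36, 32], [36, 34], [38, 32], [38, 34], [38, 36], [36, 34, 32], [38, 34, 32], [38, 36, 32], [38, 36, 34], [38, 36, 34, 32]]) CA (by decide +kernel)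

instance fin : Finite (gen ns [[0], [2]]) := finite_gen ctx.ok _

theorem simple : (Cfsg.fusionSystemOfSubgroup (gen ns [[0], [2]]) _ syl.1).IsSimple 2 :=
  pc.isSimple ctx syl nrm kn_1 kS_1 (j := 13) (es := [(27, [8, 0, 11, 6, 14, 18], [26]),
 (26, [30], [54]),
 (28, [38], [54]),
 (29, [30], [56]),
 (30, [8, 2, 8, 14, 13, 23, 19], [54, 52, 56, 58]),
 (21, [10, 2, 11, 6, 15, 22], [26, 60]),
 (19, [], [26, 56, 60]),
 (18, [], [52, 54, 58]),
 (17, [], [52, 56, 60, 42]),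
 (16, [], [54, 52, 56, 42, 60]),
 (15, [], [56, 42, 60]),
 (14, [], [56, 58])]) (by decide +kernel)

theorem isSimple : ∀ S : Sylow 2 Cfsg.Spor.M22, (Cfsg.groupFusionSystem (S : Subgroup Cfsg.Spor.M22)).IsSimple 2 :=
  isSimple_of_equiv (ModelM22.equiv.trans (MulEquiv.subgroupCongr geq)) syl simple

theorem normalizer_eq : ∀ S : Sylow 2 Cfsg.Spor.M22, Subgroup.normalizer ((S : Subgroup Cfsg.Spor.M22) : Set Cfsg.Spor.M22) = S :=
  normalizer_eq_of_equiv (ModelM22.equiv.trans (MulEquiv.subgroupCongr geq)) syl nrm.2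

end Cfsg.Agent.Spor.Syl2M22
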