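import Cfsg.Agent.Spor.Co3Orbits
import Cfsg.Agent.Spor.ModelU35
import Cfsg.Agent.Class.FieldTransport

set_option autoImplicit false
set_option Elab.async false
set_option maxRecDepth 4096

namespace Cfsg.Agent.Spor.U35Leech

open Cfsg.Agent.Comp

open Cfsg Cfsg.Spor Cfsg.Agent.Spor.Leech MulAction
open scoped Pointwise

theorem card_H : Nat.card ↥(stabilizer Co0 u5 ⊓ stabilizer Co0 leechU' ⊓ stabilizer Co0 (ModelCo3B.v 3)) = 126000 := by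
  have := card_eq_of_orbit (stabilizer Co0 u5 ⊓ stabilizer Co0 leechU') (ModelCo3B.v 3)
    (orbit ↥(stabilizer Co0 u5 ⊓ stabilizer Co0 leechU') (ModelCo3B.v 3))
    (fun y => ⟨fun ⟨g, b⟩ => ⟨g, g.2, b⟩, fun ⟨g, a, b⟩ => ⟨⟨g, a⟩, b⟩⟩)
  rw [card_stab_hs sqNorm_u5 sqNorm_leechU' dot_u5_leechU', ModelCo3B.orb_hs_24_8.2] at this
  omega

noncomputable def P : ℕ :=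
  nat_lit 0xd2dbe68339e8c225affcf919fb5f395073ffe71ef562ef14ec5e376532f7dae169ff27c7ac43e360778ae1cd7dd3b330691fa0e7a9f09f75757c5551fb4e3b7277becc57edc78f7a178c3181d57f34503ef3d6afa5736324dbe85387b25e03321b6fb5c5f673475647bf9d78f59f93e1fdc0e547f77d245176ef3c8fff7f33835abdc7f8c057255427b837cc5b276250aaf75657d1e3c0c4a0a6556475df3151703627e72d57e7d27582f0ecd247f150b25e6287e2f9e4160eaf2d61daeb521000000000000000000000000000000002b1789d38dcdf1ff3517803b400808ab31c0a1aab6eb638ab030fe33538706c3224b33a905a411e2a2453a732d7a3ddb34704ab080589baad607bb0af4cacacf33f8468e49a9825fbd2d3047a0c31ce105404011e7e9dfcb1005126f360225f9118231a7c998b292960565e9484e8cc324c451c7b5bdcd87965c0460e0de134d33d2411415eae106f1c538056178428f26c19fc882e983b885391d638058604b1c3fbe7f7a166c7d6bfacf9cbfb5ff34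

noncomputable def cA : List ℤ :=
  [2, 0, 0, 0, 0, 0, 0, 0, 0, 0, 0, 1, -1, 0, -1, 0, -1, -1, -1, 0, 0, 0, -1, 3]

noncomputable def C0 : List (List ℤ) :=
  [[0, 0, 0, 0, -2, 0, 0, 0, 0, 0, 0, 1, 1, 1, 0, 0, 1, 1, 0, 1, 1, 0, 0, -2],
  [0, 1, 0, 0, -1, 0, -1, -1, 0, 0, 0, 1, 0, 0, 0, 0, 0, 1, 1, 1, 1, 0, 0, -1],
  [0, 1, 0, 0, 0, 1, 0, 0, 1, 0, 0, 0, 0, -1, -1, -1, -1, 0, -1, -1, -1, -1, 0, 4],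
  [0, -1, 0, 0, -1, 0, -1, -1, 0, 0, 0, 1, 2, 1, 1, 1, 1, 1, 1, 2, 1, 0, 1, -5],
  [0, 0, 0, 0, -1, 0, 0, -1, 0, 0, 0, 1, 1, 0, 0, 0, 0, 1, 0, 1, 1, 0, 0, -1],
  [0, 0, 1, 0, 0, 1, 1, 0, 0, 0, 0, 0, 0, -1, -1, -1, 0, 0, -1, 0, -1, -1, -1, 3],
  [0, 0, 0, 0, 0, 1, 0, 0, 0, 1, 0, 0, 0, 0, -1, 0, 0, -1, 0, 0, -1, -1, 0, 2],
  [0, 0, 0, 0, -1, 1, 0, -1, 0, 0, 0, 1, 1, 0, 0, 0, 0, 0, 0, 1, 0, -1, 0, 0],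
  [0, 0, 0, -1, 0, 0, 0, -1, 0, 0, 0, 1, 1, 0, 0, 0, 0, 1, 1, 1, 0, 0, 1, -2],
  [0, 0, 0, 0, -1, 0, 0, 0, 0, 0, -1, 1, 1, 0, 0, 0, 1, 0, 0, 1, 1, 0, 0, -1],
  [-1, 0, 0, -1, -1, 0, -1, -1, -1, -1, -1, 2, 2, 1, 2, 2, 2, 2, 2, 3, 2, 2, 2, -9],
  [1, 0, 0, 0, 0, 0, 0, -1, 0, -1, 0, 1, 0, 0, 0, 0, 0, 0, 0, 1, 1, 0, 0, -1],
  [-1, 0, 0, 0, -1, 0, -1, 0, -1, 0, 0, 1, 1, 1, 1, 1, 1, 1, 1, 1, 1, 1, 1, -4],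
  [0, 0, 0, 0, 0, 0, 0, 0, 0, 0, 0, 0, 0, 0, 0, 0, 0, 1, 0, 0, 0, 0, 0, 0],
  [-1, 0, 0, 0, -1, 0, 0, 0, -1, 0, -1, 1, 1, 1, 1, 1, 2, 1, 1, 1, 1, 1, 0, -4],
  [-1, 0, -1, -1, 0, 0, -1, 0, 0, 0, 0, 1, 1, 1, 1, 1, 0, 1, 2, 1, 0, 1, 2, -4],
  [-1, 0, 0, -1, -1, -1, 0, 0, 0, 0, 0, 1, 1, 1, 1, 0, 1, 2, 1, 1, 1, 1, 1, -4],
  [-1, -1, -1, 0, -1, 0, 0, 0, 0, 0, 0, 1, 2, 1, 1, 1, 1, 1, 1, 1, 1, 0, 1, -4],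
  [0, 0, 1, 0, 0, 1, 1, 1, 1, 1, 1, -1, -1, -1, -2, -2, -1, -1, -2, -2, -3, -2, -1, 8],
  [0, 0, 0, 0, 0, 0, 0, 0, 0, 2, 0, 0, 0, 0, -1, 0, -1, -1, 0, -1, -1, -1, -1, 4],
  [0, 1, 1, 1, 1, 1, 1, 1, 1, 1, 0, -1, -2, -3, -2, -2, -2, -2, -3, -3, -3, -2, -2, 12],
  [-1, -1, 0, -1, 0, 0, -1, 0, -1, 0, -1, 1, 2, 1, 2, 2, 2, 1, 2, 2, 1, 2, 2, -8],
  [0, 1, 0, 1, 0, 0, 0, 1, 1, 1, 0, -1, -1, -1, -1, -1, -1, -1, -1, -2, -1, -1, -1, 6],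
  [-1, 0, 0, 0, 0, 0, 0, 1, 0, 1, 0, 0, 0, 0, 0, 0, 0, 0, 0, -1, -1, 0, 0, 2]]

noncomputable def W0 : List (List ℤ) :=
  [[2, 2, 2, 2, 1, 2, 2, 2, 2, 2, 2, 2, 1, 1, 1, 1, 1, 1, 1, 1, 1, 1, 1, 1],
  [1, 1, 1, 1, 1, 1, 0, 0, 1, 1, 0, 1, 0, 1, 0, 0, 1, 1, 1, 1, 1, 0, 1, 1],
  [2, 2, 2, 2, 2, 2, 1, 1, 1, 1, 1, 1, 2, 2, 1, 1, 1, 2, 1, 1, 1, 1, 2, 2],
  [2, 1, 2, 2, 2, 1, 0, 1, 1, 1, 1, 1, 2, 1, 0, 0, 1, 1, 1, 1, 1, 0, 1, 1],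
  [1, 0, 1, 1, 1, 1, 1, 0, 0, 1, 1, 0, 2, 1, 1, 1, 1, 2, 1, 2, 2, 2, 2, 3],
  [2, 1, 2, 2, 2, 2, 2, 2, 1, 1, 1, 1, 2, 1, 1, 1, 1, 2, 2, 2, 1, 1, 1, 2],
  [2, 2, 2, 2, 2, 2, 2, 1, 2, 2, 1, 1, 1, 2, 1, 1, 2, 1, 2, 2, 1, 1, 2, 2],
  [1, 1, 1, 1, 0, 1, 1, 0, 0, 0, 0, 1, 1, 1, 1, 0, 0, 0, 1, 1, 0, 0, 1, 1],
  [2, 1, 1, 1, 1, 0, 1, 0, 0, 1, 0, 1, 1, 0, 0, 0, 1, 1, 1, 1, 0, 0, 2, 1],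
  [1, 1, 1, 1, 1, 0, 1, 1, 1, 1, 0, 1, 1, 0, 0, 0, 1, 0, 1, 2, 1, 0, 1, 1],
  [1, 2, 2, 1, 1, 1, 2, 1, 1, 1, 1, 1, 1, 1, 1, 2, 1, 1, 1, 2, 1, 1, 2, 2],
  [1, 1, 1, 1, 1, 0, 0, 0, 1, 0, 0, 2, 0, 0, -1, -1, 0, -1, 0, 0, 0, -1, 0, -1],
  [1, 1, 2, 1, 1, 2, 1, 1, 0, 1, 2, 0, 2, 2, 2, 2, 1, 2, 1, 1, 2, 2, 2, 3],
  [2, 0, 1, 1, 2, 2, 1, 1, 0, 1, 1, -1, 2, 2, 2, 2, 2, 4, 2, 2, 2, 2, 2, 4],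
  [1, 1, 1, 1, 1, 2, 2, 1, 1, 1, 1, 0, 1, 2, 2, 2, 2, 2, 2, 2, 1, 2, 1, 3],
  [1, 1, 1, 1, 1, 2, 2, 1, 1, 1, 1, 0, 1, 2, 2, 2, 1, 2, 2, 2, 1, 2, 2, 3],
  [1, 1, 1, 0, 1, 1, 2, 1, 1, 2, 2, 0, 1, 1, 2, 2, 2, 2, 1, 2, 2, 2, 2, 3],
  [1, 0, 1, 1, 1, 2, 2, 2, 1, 1, 2, 0, 2, 1, 2, 2, 1, 2, 2, 2, 2, 2, 1, 3],
  [2, 1, 2, 1, 1, 2, 2, 1, 1, 1, 2, 0, 2, 2, 2, 2, 2, 2, 2, 1, 1, 2, 2, 3],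
  [1, 0, 1, 0, 1, 1, 1, 0, 0, 1, 1, -1, 2, 2, 2, 2, 2, 2, 2, 2, 2, 2, 2, 4],
  [1, 1, 1, 1, 1, 1, 2, 1, 0, 1, 1, 0, 2, 1, 2, 2, 1, 2, 1, 2, 1, 2, 2, 3],
  [2, 1, 2, 1, 2, 2, 2, 2, 1, 2, 2, 0, 2, 1, 2, 2, 2, 2, 2, 2, 2, 2, 2, 3],
  [2, 2, 2, 2, 2, 2, 2, 2, 2, 2, 2, 0, 2, 2, 2, 2, 2, 2, 2, 2, 2, 2, 2, 3],
  [2, 1, 2, 1, 2, 3, 3, 2, 1, 2, 3, -1, 3, 3, 4, 4, 3, 4, 3, 3, 3, 4, 3, 6]]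

theorem iso0 : chkIso C0 W0 = true :=
  by decide +kernel

noncomputable def g0 : Co0 :=
  elt C0 W0 iso0

theorem rep0 : RepBy 126 (lpt 128 P cA) g0 (wp ModelU35.ns [2, 2, 2, 0, 3, 1, 3, 3]) :=
  repBy_of_chkRep ModelU35.ctx iso0 (l0 := 11) (by decide +kernel)

noncomputable def C1 : List (List ℤ) :=
  [[1, 0, 0, 0, 0, 0, 0, 0, 1, 1, 0, 0, 0, 0, -1, 0, -1, -1, -1, -1, -1, -1, -1, 4],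
  [1, 1, 0, 0, 0, 1, 1, 1, 1, 2, 0, -1, -1, -1, -3, -2, -2, -2, -2, -3, -2, -2, -2, 10],
  [1, 1, 1, 0, 1, 1, 0, 1, 1, 1, 0, -1, -2, -2, -2, -2, -2, -2, -2, -2, -3, -1, -2, 10],
  [1, 0, -1, -1, 1, 0, 0, 0, 1, 1, 0, 0, 0, 0, -1, 0, -2, -1, 0, -1, -1, 0, 0, 3],
  [1, 1, 1, 0, 1, 0, 1, 1, 1, 1, 0, -1, -2, -2, -2, -2, -2, -2, -2, -3, -2, -1, -2, 10],
  [1, 0, 1, 0, 1, 1, 1, 1, 1, 1, 1, -1, -2, -2, -3, -2, -2, -2, -3, -2, -3, -2, -2, 11],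
  [0, 0, 0, 0, 0, 0, 1, 0, 1, 1, 0, 0, 0, 0, -1, -1, -1, 0, -1, -1, -1, -1, -1, 4],
  [1, 0, 1, 0, 1, 1, 1, 0, 1, 2, 0, -1, -1, -2, -2, -1, -2, -2, -2, -2, -3, -2, -2, 9],
  [1, 1, 1, 0, 1, 0, 1, 1, 1, 2, 1, -1, -3, -2, -3, -3, -3, -2, -2, -3, -3, -2, -3, 13],
  [2, 1, 1, 1, 1, 1, 2, 0, 2, 2, 1, -2, -3, -3, -4, -3, -4, -3, -4, -4, -3, -4, -4, 17],
  [0, 1, 1, 0, 0, 1, 1, 0, 1, 1, 0, 0, -1, -2, -2, -2, -1, -1, -2, -2, -2, -2, -2, 9],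
  [2, 1, 0, 0, 1, 1, 1, 0, 1, 1, 1, -1, -2, -2, -3, -2, -3, -2, -2, -2, -2, -2, -2, 10],
  [-1, 0, 0, 0, 0, 0, -1, 0, 0, 0, -1, 1, 1, 0, 1, 1, 1, 0, 1, 0, 0, 1, 1, -2],
  [0, 0, 0, 0, 0, 0, 0, 2, 0, 0, 0, 0, -1, 0, -1, -1, 0, -1, -1, -1, -1, 0, 0, 4],
  [-1, -1, 0, 0, -1, 0, 0, 0, 0, 0, -1, 1, 2, 1, 1, 1, 2, 1, 0, 1, 1, 0, 1, -4],
  [-1, 0, 0, 0, -1, 0, 0, 0, -1, 0, -1, 1, 1, 1, 1, 1, 2, 1, 1, 1, 1, 1, 0, -4],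
  [-1, 0, 0, 0, -1, -1, 0, 0, 0, 0, 0, 1, 1, 1, 1, 0, 1, 1, 1, 0, 1, 0, 0, -2],
  [0, 0, 0, 0, 0, 0, 0, 0, 0, 0, 0, 0, 0, 0, 0, 1, 0, 0, 0, 0, 0, 0, 0, 0],
  [-1, -1, 0, 0, 0, -1, -1, 0, 0, 0, 0, 1, 1, 1, 2, 1, 1, 1, 1, 1, 0, 1, 1, -4],
  [-1, -1, 0, 0, 0, -1, 0, 0, 0, 0, -1, 1, 1, 1, 2, 1, 1, 1, 1, 0, 1, 1, 1, -4],
  [0, 0, 2, 0, 0, 0, 0, 0, 0, 0, 0, 0, -1, -1, 0, -1, 0, 0, -1, 0, -1, 0, -1, 3],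
  [-1, 0, 0, 0, 0, 0, 0, 0, 0, 0, 0, 1, 0, 0, 0, 0, 0, 0, 0, 0, 0, 0, 0, 1],
  [0, 0, 0, 0, 0, 0, 0, 0, 0, 0, 0, 0, 0, 1, 0, 0, 0, 0, 0, 0, 0, 0, 0, 0],
  [-2, -1, 0, 0, -1, -1, -1, 0, -1, -1, -1, 2, 2, 2, 3, 2, 3, 2, 2, 2, 2, 2, 2, -9]]

noncomputable def W1 : List (List ℤ) :=
  [[2, 2, 2, 1, 2, 1, 1, 1, 2, 1, 2, 1, 2, 2, 1, 2, 2, 1, 1, 1, 1, 1, 1, 2],
  [2, 1, 1, 1, 1, 2, 1, 1, 1, 2, 1, 1, 1, 1, 1, 0, 1, 1, 1, 0, 1, 1, 1, 1],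
  [2, 1, 1, 1, 2, 2, 1, 1, 1, 1, 1, 0, 2, 2, 2, 1, 2, 2, 2, 2, 1, 2, 1, 3],
  [1, 0, 0, 0, 1, 1, 1, 0, 1, 1, 1, 0, 1, 1, 1, 1, 1, 1, 1, 1, 1, 2, 1, 2],
  [2, 1, 2, 0, 1, 1, 2, 1, 1, 1, 2, 0, 2, 1, 2, 2, 2, 1, 2, 1, 2, 2, 2, 3],
  [1, 0, 1, 0, 2, 1, 1, 1, 1, 1, 2, 0, 2, 1, 1, 2, 2, 2, 1, 2, 2, 2, 1, 3],
  [1, 1, 1, 2, 2, 2, 2, 1, 2, 2, 1, 1, 1, 2, 1, 1, 1, 2, 1, 2, 1, 2, 1, 2],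
  [2, 1, 1, 1, 1, 1, 2, 1, 1, 2, 1, 1, 1, 0, 1, 1, 1, 1, 1, 1, 0, 1, 1, 1],
  [1, 0, 0, 0, 1, 1, 1, 1, 1, 2, 1, 1, 0, 0, 1, 0, 1, 1, 1, 1, 1, 1, 0, 1],
  [1, 0, 1, 0, 1, 1, 1, 0, 1, 1, 1, 0, 1, 1, 1, 1, 1, 1, 1, 1, 2, 1, 1, 2],
  [1, 1, 1, 0, 1, 1, 1, 0, 1, 1, 1, 1, 1, 1, 1, 1, 2, 1, 1, 1, 1, 1, 1, 2],
  [2, 1, 0, 1, 1, 1, 1, 1, 1, 2, 1, 2, 0, -1, 0, -1, 0, 0, 0, 0, 0, 0, 0, -1],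
  [1, 1, 2, 1, 1, 1, 1, 0, 1, 0, 1, 0, 2, 2, 1, 2, 2, 1, 2, 1, 1, 2, 2, 3],
  [1, 0, 1, 0, 1, 1, 1, 1, 0, 0, 1, -1, 2, 2, 2, 2, 2, 2, 2, 2, 2, 2, 2, 4],
  [1, 1, 2, 1, 2, 1, 1, 1, 1, 1, 1, 0, 2, 2, 1, 2, 2, 2, 1, 2, 2, 1, 2, 3],
  [1, 1, 1, 1, 1, 2, 2, 1, 1, 1, 1, 0, 1, 2, 2, 2, 2, 2, 2, 2, 1, 2, 1, 3],
  [1, 1, 2, 0, 1, 1, 1, 1, 1, 0, 2, 0, 2, 2, 2, 2, 2, 1, 2, 1, 2, 1, 1, 3],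
  [1, 1, 2, 0, 1, 1, 2, 1, 1, 0, 2, -1, 2, 2, 2, 4, 2, 2, 2, 2, 2, 2, 2, 4],
  [1, 1, 1, 1, 2, 1, 1, 1, 1, 1, 2, 0, 2, 2, 2, 2, 2, 2, 1, 2, 1, 2, 1, 3],
  [1, 0, 2, 1, 1, 2, 2, 1, 1, 1, 1, 0, 1, 2, 2, 2, 1, 2, 2, 1, 2, 2, 2, 3],
  [1, 0, 2, 0, 1, 1, 1, 0, 0, 0, 1, -1, 2, 2, 2, 2, 2, 2, 2, 2, 2, 2, 2, 4],
  [-1, 0, 1, 0, 1, 1, 1, 0, 1, 0, 1, 0, 1, 2, 1, 2, 1, 1, 1, 2, 2, 2, 1, 3],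
  [1, 1, 2, 1, 2, 2, 1, 0, 1, 0, 1, -1, 2, 4, 2, 2, 2, 2, 2, 2, 2, 2, 2, 4],
  [1, 1, 3, 1, 2, 2, 2, 1, 1, 0, 2, -1, 3, 4, 3, 4, 3, 3, 3, 3, 3, 3, 3, 6]]

theorem iso1 : chkIso C1 W1 = true :=
  by decide +kernel

noncomputable def g1 : Co0 :=
  elt C1 W1 iso1

theorem rep1 : RepBy 126 (lpt 128 P cA) g1 (wp ModelU35.ns [2, 0, 3, 1]) :=
  repBy_of_chkRep ModelU35.ctx iso1 (l0 := 11) (by decide +kernel)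

noncomputable def gs : List Co0 :=
  [g0, g1]

theorem reps : List.Forall₂ (fun g u => RepBy 126 (lpt 128 P cA) g (wp ModelU35.ns u)) gs ModelU35.G_ss0 :=
  List.Forall₂.cons rep0 (List.Forall₂.cons rep1 (List.Forall₂.nil))

theorem inj : ∀ i < 126, ∀ j < 126, lpt 128 P cA i = lpt 128 P cA j → i = j :=
  inj_of_chkInj ModelU35.ctx reps (ps := [0]) (r := 7) (by decide +kernel)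

theorem gs_mem : ∀ g ∈ gs, g ∈ (stabilizer Co0 u5 ⊓ stabilizer Co0 leechU' ⊓ stabilizer Co0 (ModelCo3B.v 3) : Subgroup Co0) :=
  List.forall_mem_cons.2 ⟨⟨⟨elt_fix_u5 iso0 (by decide +kernel), elt_fix_U' iso0 (by decide +kernel)⟩, (ModelCo3B.v_p3 ▸ elt_map iso0 (by decide +kernel) : g0 • ModelCo3B.v 3 = ModelCo3B.v 3)⟩, List.forall_mem_cons.2 ⟨⟨⟨elt_fix_u5 iso1 (by decide +kernel), elt_fix_U' iso1 (by decide +kernel)⟩, (ModelCo3B.v_p3 ▸ elt_map iso1 (by decide +kernel) : g1 • ModelCo3B.v 3 = ModelCo3B.v 3)⟩, fun _ h => absurd h List.not_mem_nil⟩⟩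

theorem model : ∃ e : ↥(stabilizer Co0 u5 ⊓ stabilizer Co0 leechU' ⊓ stabilizer Co0 (ModelCo3B.v 3)) ≃* gen ModelU35.ns ModelU35.G_ss0,
    ∀ g : ↥(stabilizer Co0 u5 ⊓ stabilizer Co0 leechU' ⊓ stabilizer Co0 (ModelCo3B.v 3)), RepBy 126 (lpt 128 P cA) (g : Co0) (e g : Equiv.Perm ℕ) :=
  exists_model _ inj reps gs_mem ((card_H).trans_le ModelU35.G_lb)

theorem iso (F : Type) [Field F] [Fintype F] (hF : Fintype.card F = 25) :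
    Nonempty (↥(stabilizer Co0 u5 ⊓ stabilizer Co0 leechU' ⊓ stabilizer Co0 (ModelCo3B.v 3)) ≃* PSU 3 F 5) := by
  obtain ⟨e, -⟩ := model
  exact ⟨(e.trans ModelU35.equiv.symm).trans (Class.psuCongr 3 5 (Class.ringEquivGF25 hF)).symm⟩

end Cfsg.Agent.Spor.U35Leech
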