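import Cfsg.Agent.Spor.Co3Orbits
import Cfsg.Agent.Spor.ModelU43
import Cfsg.Agent.Class.FieldTransport

set_option autoImplicit false
set_option Elab.async false
set_option maxRecDepth 4096

namespace Cfsg.Agent.Spor.U43Leech

open Cfsg.Agent.Comp

open Cfsg Cfsg.Spor Cfsg.Agent.Spor.Leech MulAction
open scoped Pointwise

theorem card_H : Nat.card ↥(stabilizer Co0 u5 ⊓ stabilizer Co0 leechU ⊓ stabilizer Co0 (ModelCo3B.v 1)) = 3265920 := by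
  have := card_eq_of_orbit (stabilizer Co0 u5 ⊓ stabilizer Co0 leechU) (ModelCo3B.v 1)
    (orbit ↥(stabilizer Co0 u5 ⊓ stabilizer Co0 leechU) (ModelCo3B.v 1))
    (fun y => ⟨fun ⟨g, b⟩ => ⟨g, g.2, b⟩, fun ⟨g, a, b⟩ => ⟨⟨g, a⟩, b⟩⟩)
  rw [card_stab_mcl sqNorm_u5 sqNorm_leechU dot_u5_leechU, ModelCo3B.orb_mcl_24_16.2] at this
  omega

noncomputable def P : ℕ :=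
  nat_lit 0xc9f8feb7df677d9fc7fe6f9dffd500006face8f856d5dd6b91efbb2f6bbf0000da8c9ad152f79d0e9f5e7ba2e5b90000737cdbb7da921caec3eed1078d5700002aa477d6ffc3cf2a576ade0aacfd00007e731bf10eb6fd8e33b3d92763ec000078648be1c63e686ab7d7f7832b6b000072eeddf5d3f97e6a9b6afb37f9180000f6acfba89660233b4f6e4936e1f70000b86cfb31d0e2dccab6c6da36fdf400000aedda7efff51e2b0efc0a0389ec00006ad4cbdf97ee542977a7c117cad500007e137028e3ff92b78a26093288fe00000711028324d7abb64118069cf73a0000c5834c1e6e2e03d45b14d4801e32000081179b4a3c0eb0acc0663fa88622000041bf0daaaa173382e818a228144f0000521b248c38bb70bc4d506c8a568100002fd2941f4e0b26b400ca20aa364b0000b578063aa913cd9c4814252b2e2200009c1f0c6628622e36de0b05a835820000b1b3c402188ba295ceb066a5312c00007f007c22cbfcb003c2362d9abedc000080ff83dd34034ffc3dc9d2654123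

noncomputable def C0 : List (List ℤ) :=
  [[1, 0, 0, 0, 0, 1, 1, 0, 1, 0, 0, 0, 0, -1, -1, -1, -1, -1, -2, -1, -1, -1, -1, 5],
  [-1, 0, -1, 0, 0, 1, 0, -1, 0, 0, -1, 1, 2, 0, 1, 1, 1, 0, 1, 0, 1, 0, 1, -3],
  [0, 0, 0, 0, 1, 1, 1, 1, 0, 1, 0, 0, -1, -1, -2, -1, -1, -2, -1, -2, -2, -1, -1, 7],
  [-1, -1, 0, 0, -1, 1, 0, 0, 0, 0, -1, 1, 2, 0, 1, 1, 2, 0, 0, 1, 0, 0, 1, -3],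
  [-1, -1, -1, -1, -1, -1, -1, -1, 0, 0, -1, 2, 3, 2, 3, 2, 2, 2, 3, 2, 2, 2, 2, -10],
  [0, 0, 0, 0, 0, 0, 0, 0, 0, 0, 0, 1, 0, 0, 0, 0, 0, 0, 0, 0, -1, 0, 0, 1],
  [0, 0, 1, 1, 0, 1, 1, 0, 0, 0, 0, 0, -1, -1, -1, -1, 0, -1, -2, -1, -1, -1, -1, 5],
  [-1, -1, 0, -1, 0, 0, 1, -1, 0, 0, 0, 1, 2, 1, 1, 0, 1, 1, 1, 1, 0, 0, 1, -4],
  [-1, -1, 0, -1, 0, 0, -1, -1, -1, 0, -1, 2, 2, 1, 2, 2, 2, 1, 2, 2, 1, 2, 2, -8],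
  [-1, -1, 0, 0, 0, 0, 0, -1, 1, 0, -1, 1, 2, 0, 2, 1, 1, 1, 0, 0, 0, 0, 1, -3],
  [0, 0, 0, 0, 1, 1, 0, 0, 1, 0, 1, 0, -1, -1, -1, -1, -1, -1, -1, -1, -2, -1, 0, 5],
  [-2, -2, -1, -1, 0, 0, -1, -1, -1, -1, -1, 2, 4, 2, 4, 3, 3, 2, 3, 3, 2, 2, 4, -14],
  [1, 1, 0, 0, 0, 1, 1, 1, 1, 1, 1, -1, -2, -1, -3, -2, -2, -2, -2, -2, -2, -2, -2, 10],
  [1, 1, 0, 1, 0, 0, 0, 1, 0, 1, 0, 0, -2, -1, -2, -1, -1, -2, -1, -2, -1, -1, -2, 8],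
  [1, 1, 0, 1, 0, 0, 1, 0, 1, 0, 1, 0, -2, -1, -2, -2, -2, -1, -2, -2, -1, -2, -2, 9],
  [1, 1, 1, 1, 1, 1, 1, 0, 0, 1, 1, -1, -3, -2, -3, -2, -2, -2, -2, -2, -2, -2, -3, 11],
  [1, 1, 0, 0, 0, 0, 0, 0, 1, 0, 0, 0, -1, -1, -1, -1, -1, 0, -1, -1, 0, 0, -1, 4],
  [1, 1, 1, 1, 0, 0, 1, 0, 1, 1, 1, -1, -2, -2, -2, -2, -2, -1, -2, -2, -2, -2, -3, 10],
  [1, 1, 1, 0, 0, 0, 1, 1, 0, 0, 0, 0, -2, -1, -2, -2, -1, -1, -2, -1, -1, 0, -2, 7],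
  [0, 0, 0, 0, -1, -1, 0, -1, 0, 0, -1, 1, 1, 1, 1, 1, 1, 1, 1, 1, 2, 1, 0, -4],
  [0, 0, 0, -1, 0, -1, 0, 0, 0, 0, 0, 1, 0, 1, 0, 0, 0, 1, 1, 0, 0, 1, 0, -1],
  [1, 1, 1, 1, 0, 1, 0, 1, 1, 1, 1, -1, -3, -2, -3, -2, -2, -2, -3, -2, -3, -2, -2, 12],
  [1, 1, 1, 1, 0, 1, 1, 1, 1, 1, 0, -1, -2, -2, -3, -2, -2, -2, -3, -3, -2, -2, -3, 12],
  [2, 2, 1, 1, 0, 0, 1, 1, 1, 1, 1, -1, -4, -2, -4, -3, -3, -2, -3, -3, -2, -2, -4, 15]]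

noncomputable def W0 : List (List ℤ) :=
  [[2, 1, 1, 1, 1, 2, 2, 1, 1, 1, 2, 1, 2, 1, 2, 1, 1, 1, 1, 1, 1, 2, 1, 2],
  [1, 1, 1, 1, 1, 2, 1, 0, 1, 1, 1, 1, 1, 1, 1, 0, 1, 0, 1, 0, 1, 1, 1, 1],
  [1, 0, 1, 1, 1, 2, 2, 1, 1, 1, 1, 1, 1, 1, 1, 1, 1, 1, 2, 1, 1, 2, 1, 2],
  [1, 1, 1, 1, 0, 1, 2, 1, 1, 1, 1, 1, 1, 0, 1, 1, 1, 0, 1, 1, 0, 1, 1, 1],
  [2, 1, 1, 1, 1, 2, 2, 1, 2, 2, 2, 1, 1, 1, 2, 1, 2, 1, 2, 1, 1, 2, 1, 2],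
  [2, 2, 1, 2, 1, 1, 2, 1, 1, 1, 1, 2, 1, 1, 1, 1, 1, 1, 1, 1, -1, 1, 1, 1],
  [1, 1, 2, 2, 1, 2, 2, 0, 1, 1, 1, 1, 1, 2, 1, 1, 1, 1, 1, 1, 1, 2, 2, 2],
  [1, 1, 1, 1, 1, 1, 2, 0, 1, 1, 1, 1, 1, 1, 1, 0, 1, 0, 1, 1, 0, 1, 1, 1],
  [1, 1, 1, 1, 1, 1, 1, 0, 1, 2, 1, 2, 0, 0, 0, 0, 1, 0, 0, 0, 0, 1, 1, 0],
  [1, 1, 1, 1, 1, 1, 1, 0, 1, 1, 1, 1, 1, 1, 1, 1, 1, 1, 0, 0, 0, 1, 1, 1],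
  [1, 1, 1, 1, 2, 2, 1, 0, 2, 1, 2, 1, 1, 2, 1, 1, 2, 1, 1, 1, 1, 2, 1, 2],
  [1, 1, 1, 1, 1, 1, 1, 1, 0, 1, 1, 1, 1, 0, 1, 0, 0, 0, 0, 0, 0, 0, 1, 0],
  [1, 1, 1, 0, 1, 2, 2, 1, 2, 1, 2, 0, 1, 2, 2, 2, 2, 1, 2, 2, 2, 2, 1, 3],
  [2, 1, 1, 1, 1, 1, 1, 1, 1, 1, 1, 1, 1, 1, 1, 1, 2, 1, 2, 1, 1, 1, 1, 2],
  [1, 1, 1, 1, 1, 1, 1, 0, 1, 0, 1, 1, 1, 2, 1, 1, 1, 1, 1, 1, 1, 1, 1, 2],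
  [1, 0, 1, 1, 2, 2, 1, 0, 1, 1, 1, 0, 1, 2, 1, 1, 2, 2, 2, 2, 2, 2, 1, 3],
  [2, 1, 1, 1, 2, 2, 1, 1, 2, 2, 2, 1, 1, 1, 1, 1, 2, 2, 1, 1, 2, 2, 1, 2],
  [2, 1, 1, 1, 1, 1, 2, 1, 1, 1, 2, 0, 2, 1, 2, 2, 2, 2, 2, 2, 1, 2, 1, 3],
  [1, 1, 1, 1, 1, 1, 2, 1, 1, 1, 1, 1, 1, 1, 1, 1, 1, 1, 1, 2, 1, 2, 1, 2],
  [1, 1, 2, 1, 1, 1, 2, 0, 2, 1, 1, 0, 1, 2, 1, 2, 2, 1, 2, 2, 2, 2, 2, 3],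
  [1, 0, 1, 0, 1, 1, 1, 0, 1, 0, 1, 0, 1, 2, 1, 2, 2, 2, 2, 1, 1, 2, 1, 3],
  [1, 1, 1, 1, 1, 1, 1, 0, 1, 1, 1, 0, 1, 2, 1, 2, 2, 2, 1, 2, 1, 2, 2, 3],
  [1, 0, 2, 1, 1, 2, 1, 1, 1, 0, 1, 0, 2, 2, 1, 2, 1, 2, 2, 1, 2, 2, 1, 3],
  [2, 1, 2, 1, 2, 2, 2, 1, 2, 1, 2, 0, 2, 3, 2, 3, 3, 3, 3, 3, 3, 3, 2, 5]]

theorem iso0 : chkIso C0 W0 = true :=
  by decide +kernel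

noncomputable def g0 : Co0 :=
  elt C0 W0 iso0

theorem rep0 : RepBy 112 (lpt 128 P []) g0 (wp ModelU43.ns [0, 3, 0, 3, 3, 3, 1, 2, 1, 2, 2, 2]) :=
  repBy_of_chkRep ModelU43.ctx iso0 (l0 := 0) (by decide +kernel)

noncomputable def C1 : List (List ℤ) :=
  [[1, 0, 0, 0, 0, 0, 0, 1, 1, 0, 0, 0, -1, 0, -1, -1, -1, -1, -1, -1, -1, 0, 0, 4],
  [0, 1, 1, 0, 1, 0, 0, 1, 1, 1, 1, -1, -2, -1, -2, -2, -2, -1, -1, -2, -3, -1, -1, 8],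
  [0, 0, 0, 1, 1, 0, 0, 0, 1, 0, 0, 0, -1, -1, 0, 0, -1, -1, -1, -1, -1, -1, 0, 4],
  [0, 0, 0, 0, 0, 0, 1, 0, 1, 0, 1, 0, 0, 0, -1, -1, -1, 0, -1, -1, -1, -1, 0, 3],
  [0, 0, 0, 1, 0, 0, 0, 1, 0, 0, 1, 0, -1, 0, -1, -1, 0, -1, -1, -1, -1, -1, 0, 4],
  [0, 0, 0, 1, 0, 0, 0, 0, 1, 0, 1, 0, -1, -1, 0, -1, -1, 0, -1, -1, -1, -1, 0, 4],
  [0, 0, 0, 0, 0, 0, 1, 0, 1, 1, 0, 0, 0, 0, -1, -1, -1, 0, -1, -1, -1, -1, -1, 4],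
  [0, 0, 0, 1, 1, 0, 1, 2, 1, 1, 1, -1, -2, -1, -2, -2, -2, -2, -2, -3, -3, -2, -1, 10],
  [0, 0, 1, 1, 1, 1, 1, 1, 1, 0, 1, -1, -2, -2, -2, -2, -1, -1, -3, -2, -3, -2, -1, 9],
  [-1, -1, 0, 0, 0, -1, 0, 0, 0, 0, 0, 1, 1, 1, 1, 0, 1, 1, 1, 0, 0, 1, 1, -3],
  [0, 0, 1, 1, 1, 1, 0, 1, 1, 1, 1, -1, -2, -2, -2, -2, -2, -2, -2, -2, -3, -2, -1, 10],
  [0, 0, 1, 0, 2, 1, 1, 1, 1, 1, 1, -1, -2, -2, -2, -2, -2, -2, -2, -3, -4, -2, -1, 10],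
  [0, 0, -1, 0, -1, 0, -1, 0, 0, 0, 0, 1, 1, 1, 0, 1, 0, 0, 1, 1, 1, 0, 1, -2],
  [0, 0, 0, 0, -1, -1, -1, -1, 0, -1, 0, 1, 1, 1, 2, 1, 1, 2, 1, 2, 2, 1, 1, -6],
  [0, 0, 0, 0, -1, -1, -1, 0, 0, 0, 0, 1, 0, 1, 1, 0, 0, 1, 1, 1, 1, 1, 0, -2],
  [0, 0, 0, 0, 0, 0, 0, 0, 0, 0, 0, 0, 0, 0, 0, 0, 0, 0, 0, 1, 0, 0, 0, 0],
  [0, 0, 0, 0, -1, 0, -1, 0, -1, -1, -1, 1, 1, 1, 1, 1, 2, 1, 1, 2, 2, 2, 1, -6],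
  [0, 0, -1, 0, -1, -1, 0, 0, 0, -1, 0, 1, 1, 1, 1, 0, 1, 1, 1, 1, 2, 1, 1, -4],
  [0, 0, -1, 0, -1, 0, 0, 0, 0, -1, -1, 1, 1, 1, 1, 1, 1, 1, 0, 1, 2, 1, 1, -4],
  [0, 0, -1, 0, -1, -1, 0, 0, -1, 0, 0, 1, 1, 2, 0, 1, 1, 1, 1, 1, 2, 1, 0, -4],
  [0, 0, 0, 2, 0, 0, 0, 0, 0, 0, 0, 0, -1, -1, 0, 0, 0, -1, -1, -1, 0, -1, -1, 4],
  [0, 0, 0, 0, -1, 0, 0, -1, 0, 0, 0, 1, 1, 0, 0, 0, 0, 1, 0, 1, 1, 0, 0, -1],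
  [0, 0, 0, 0, -1, -1, 0, -1, 0, 0, -1, 1, 1, 1, 1, 1, 1, 1, 1, 1, 2, 1, 0, -4],
  [0, 0, -1, 0, -2, -1, -1, -1, -1, -1, -1, 2, 2, 2, 2, 2, 2, 2, 2, 3, 4, 2, 1, -9]]

noncomputable def W1 : List (List ℤ) :=
  [[2, 1, 2, 2, 1, 2, 2, 1, 2, 1, 1, 1, 1, 2, 1, 1, 1, 1, 2, 1, 1, 2, 2, 2],
  [1, 2, 2, 2, 2, 1, 1, 1, 2, 1, 1, 1, 1, 2, 0, 1, 1, 1, 1, 1, 0, 1, 1, 1],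
  [1, 2, 2, 2, 2, 1, 2, 1, 2, 1, 1, 1, 1, 2, 1, 2, 1, 1, 1, 2, 1, 1, 2, 2],
  [1, 2, 2, 2, 1, 1, 2, 1, 2, 1, 2, 2, 1, 1, 0, 1, 0, 0, 0, 0, 0, 1, 1, 0],
  [2, 2, 2, 2, 2, 1, 1, 1, 1, 1, 2, 1, 2, 2, 1, 1, 2, 1, 1, 1, 1, 1, 2, 2],
  [2, 1, 1, 2, 1, 2, 2, 1, 1, 2, 2, 1, 1, 1, 2, 1, 1, 2, 1, 1, 1, 2, 2, 2],
  [1, 1, 1, 2, 2, 2, 2, 1, 2, 2, 1, 1, 1, 2, 1, 1, 1, 2, 1, 2, 1, 2, 1, 2],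
  [1, 1, 1, 2, 1, 1, 2, 2, 1, 1, 1, 1, 1, 1, 1, 1, 0, 1, 1, 1, 0, 1, 1, 1],
  [1, 1, 1, 2, 2, 1, 1, 1, 1, 1, 1, 1, 1, 1, 0, 1, 1, 2, 0, 1, 0, 1, 1, 1],
  [1, 0, 1, 2, 1, 1, 1, 0, 1, 1, 1, 1, 1, 1, 0, 0, 1, 1, 1, 0, 0, 2, 1, 1],
  [1, 0, 2, 2, 2, 2, 1, 1, 1, 1, 1, 0, 2, 2, 1, 1, 1, 2, 2, 2, 2, 2, 2, 3],
  [1, 1, 1, 1, 1, 1, 1, 1, 1, 1, 1, 2, 0, 0, 0, 0, 0, 0, 0, -1, -1, 0, 0, -1],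
  [1, 1, 2, 1, 1, 1, 1, 1, 1, 0, 1, 0, 2, 2, 1, 2, 1, 1, 2, 2, 2, 1, 2, 3],
  [2, 2, 2, 1, 2, 1, 1, 1, 1, 1, 2, 0, 2, 2, 2, 2, 2, 2, 1, 2, 2, 1, 2, 3],
  [1, 0, 1, 1, 1, 2, 1, 1, 1, 1, 1, 0, 1, 2, 2, 1, 1, 2, 2, 2, 2, 2, 1, 3],
  [1, 1, 1, 1, 2, 1, 2, 1, 1, 1, 1, -1, 2, 2, 2, 2, 2, 2, 2, 4, 2, 2, 2, 4],
  [2, 1, 2, 2, 2, 2, 1, 1, 1, 1, 1, 0, 2, 2, 1, 1, 2, 2, 2, 2, 2, 2, 2, 3],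
  [2, 1, 1, 1, 1, 1, 2, 1, 1, 1, 2, 0, 2, 1, 2, 1, 2, 1, 2, 2, 2, 2, 2, 3],
  [1, 1, 1, 1, 1, 2, 2, 1, 1, 1, 1, 0, 1, 2, 2, 2, 1, 2, 1, 2, 2, 2, 2, 3],
  [1, 1, 1, 1, 2, 1, 1, 1, 1, 1, 2, 0, 2, 2, 1, 2, 2, 2, 1, 2, 2, 2, 1, 3],
  [1, 0, 1, 1, 1, 1, 1, 0, 0, 0, 1, -1, 2, 2, 2, 2, 2, 2, 2, 2, 2, 2, 2, 4],
  [1, 0, 1, 1, 1, 1, 1, 0, 0, 1, 1, 0, 2, 1, 1, 1, 1, 2, 1, 2, 2, 2, 2, 3],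
  [1, 1, 2, 1, 1, 1, 2, 0, 2, 1, 1, 0, 1, 2, 1, 2, 2, 1, 2, 2, 2, 2, 2, 3],
  [2, 1, 2, 1, 2, 2, 2, 1, 1, 1, 2, -1, 3, 3, 3, 3, 3, 3, 3, 4, 4, 3, 3, 6]]

theorem iso1 : chkIso C1 W1 = true :=
  by decide +kernel

noncomputable def g1 : Co0 :=
  elt C1 W1 iso1

theorem rep1 : RepBy 112 (lpt 128 P []) g1 (wp ModelU43.ns [0, 3, 3, 3, 1, 2, 1, 0, 2, 2]) :=
  repBy_of_chkRep ModelU43.ctx iso1 (l0 := 0) (by decide +kernel)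

noncomputable def gs : List Co0 :=
  [g0, g1]

theorem reps : List.Forall₂ (fun g u => RepBy 112 (lpt 128 P []) g (wp ModelU43.ns u)) gs ModelU43.G_ss0 :=
  List.Forall₂.cons rep0 (List.Forall₂.cons rep1 (List.Forall₂.nil))

theorem inj : ∀ i < 112, ∀ j < 112, lpt 128 P [] i = lpt 128 P [] j → i = j :=
  inj_of_chkInj ModelU43.ctx reps (ps := [0]) (r := 6) (by decide +kernel)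

theorem gs_mem : ∀ g ∈ gs, g ∈ (stabilizer Co0 u5 ⊓ stabilizer Co0 leechU ⊓ stabilizer Co0 (ModelCo3B.v 1) : Subgroup Co0) :=
  List.forall_mem_cons.2 ⟨⟨⟨elt_fix_u5 iso0 (by decide +kernel), elt_fix_U iso0 (by decide +kernel)⟩, (ModelCo3B.v_X ▸ elt_map iso0 (by decide +kernel) : g0 • ModelCo3B.v 1 = ModelCo3B.v 1)⟩, List.forall_mem_cons.2 ⟨⟨⟨elt_fix_u5 iso1 (by decide +kernel), elt_fix_U iso1 (by decide +kernel)⟩, (ModelCo3B.v_X ▸ elt_map iso1 (by decide +kernel) : g1 • ModelCo3B.v 1 = ModelCo3B.v 1)⟩, fun _ h => absurd h List.not_mem_nil⟩⟩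

theorem model : ∃ e : ↥(stabilizer Co0 u5 ⊓ stabilizer Co0 leechU ⊓ stabilizer Co0 (ModelCo3B.v 1)) ≃* gen ModelU43.ns ModelU43.G_ss0,
    ∀ g : ↥(stabilizer Co0 u5 ⊓ stabilizer Co0 leechU ⊓ stabilizer Co0 (ModelCo3B.v 1)), RepBy 112 (lpt 128 P []) (g : Co0) (e g : Equiv.Perm ℕ) :=
  exists_model _ inj reps gs_mem ((card_H).trans_le ModelU43.G_lb)

theorem iso (F : Type) [Field F] [Fintype F] (hF : Fintype.card F = 9) :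
    Nonempty (↥(stabilizer Co0 u5 ⊓ stabilizer Co0 leechU ⊓ stabilizer Co0 (ModelCo3B.v 1)) ≃* PSU 4 F 3) := by
  obtain ⟨e, -⟩ := model
  exact ⟨(e.trans ModelU43.equiv.symm).trans (Class.psuCongr 4 3 (Class.ringEquivGF9 hF)).symm⟩

end Cfsg.Agent.Spor.U43Leech
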